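import Cfsg.Agent.Lib.Lie.PermCover
import Cfsg.Agent.Lib.Lie.GTwoThreeMult.Gens

/-!
A table on a larger subgroup with a Sylow three-subgroup of the group of type G2 over three elements (generated).
-/

set_option autoImplicit false
set_option maxRecDepth 100000
set_option maxHeartbeats 0
set_option Elab.async false

namespace Cfsg.Agent.Lie.GTwoThreeMult

open Cfsg.Agent.Lie PermCover

/-- generators of the subgroup -/
def bigGens : List Elem := [(0x42d8cb055b5a25d407732d4c12185b803c355550590689644db02316a5e6d07093481d06683b1da0229236bcc1939b6883753928f55658c7ccb3917a50eb2e5e9c57f3505ba5ced78a09ea47e23ab68e336fc242d5a4713d353c14530074b07da26531b3045fea81722cc91924b8984f44a8e4f66f88951b4afa752410565e335805a660b1f2ae8e092c07d861a468ee4dc9039584845cbc0aa453ce103431cd1101558a9f8d5282deb2189326064f16e9218f611346e0b645f0ec0a3f5ddaa052b6f1f26eac79884c44e91b4d1f3f4e3ec326a21a2a5ace1d0f4093343b2c364535bc27aa98aadab8202698df1454cc3593513c050b80020908ee5d0ad518710533da74d990232beb08c259fd42724a0f24b94c3c61437a99abadb8d14e3cfd1c4edc66eaaa0974104fa7402b941835b95333d19e42b5a244445f6a56c6d3e7d07588818216668a304a8a5e57803142e80778a6812228c5926b212ce1ee31874a88c7467da418a5501cacaca851124b57363858c1a3fc76244c6b588c2925987c7ce8a801948a11e529ca845c04e61082db46ce7675d34809e,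 0xb3b085d1602c4c52c8b506998f140d14e29d29481aae8124f0ce8a2e4a52813713fc051a8c039fce39296931413a1f2b43d5a141431c3521670365ed46604954456280922cd15b57600c8ee7aa1b4c4aea5b8f2c0839d1b43cf3651be187f730e93f2bab07606883b0cd2cefaf89e4408a8531924b70305b843889f4d8d95913dea991aa18e7085d965a0a21fbb2934a01d965c1496d8c1a7b34c28455e91afd9e5d3840509559606db0535b5380d4b17ab1f4f7530a12b5966884844d44c2688f998b1e66fb61994c00b6b27ac4570b8e27680803d24cbc6dd6d41109fa1c581124118202b31800c4b375c752ed2a91fa0f361c860ace75ac7e8c82872baccdd53b7ed60c2f99898400fca1e0be82cf4f293468126a306f0aa64e1821a2842351ac1dd582d9ca730d4d2e433612a395189103be09569223f2d1023751c76d78f2e1361c3c4fa16ce938c5482657a391e0162055540f632ae0c6ba0146b8ed9234468759bc3ea6f62c3687d1b9532c6ef2aa155749c0b5749ce95288162d420c8516920553e24648bd34bc2d97b908efdb20498aa98cd20c290, [1, 0, 2, 2, 0, 1, 0, 1, 0, 2, 1]),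
  (0x7a019e295a50c873504c142cc7f6a84614b7989b0b7584834439175c490bcf57982d8878909d1931f3f14ed42d51d09a5160da30ab531d29e70d38483404f07789e0ae311b9209653d13652bf314f95441aa244b133591b67e9d144069e76440290873a4420793266ba2d0565083d782c92b69f3572a2b834af6f8c64089418106edc91ab1621d2e39ed30d3050d44bb09145fd528d1ae6c254d30c028543889829c9e9ba27642cbb250296bd04c70fab139f53521329c34963b1a9cdd220209064098ba33305422eceff348607d0c93290fb5972c092f224b41e3c452382572d9a219c7a167ba3ed6b567cdcca300a3a50351100d8e221390d4004b2549e209f9e32d69637da4e691454d01b0beaabb4f2b61dc61fa57404b01d47872e8568e7314a752d0c9dd32de06576b67570252721e973e0ba7c5297db72aa30411aea27b394c6a19c199005ae57c70c580330deab7e168f711153013cd630a49d64c59c4880268e52c0761b0092991b1fc55601797cecd0ad682f45f0ba285656d433281e4822356abc07453d8869b711c206c21a4769a1f772189362, 0x4ed15e30d5cd8658d842000582b23044c4473084961588233cf7239e3a129648cb140a291759d91133814c36a377509a47e8ec99b687111a4bb394d395988190442b6bc1196cd0720c95252d5452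ce0f527bab296fda42a40c2f1439d7a76aa5004c806c8c87889681bde0b40e5766f125512a632d04aba34435c3a4ea3f41b360a5a4f83aa16ba7856d3349980cf4d61a9412d0e791ad5f2e9802d925f7f99188f82ac19487d698e2be189c506ac1f4d93a1e424332a924963b18894d71021ba3a941f03d09761b94b53ae1e1388519c7dea258040840f620494febb9d134aeb2a1bb61616440e638dc0638ccb6356aaed05e410da45574f1b0a33e5d03df9176f809c1157d8512a73b051d62581ecacf34c33460c14a8a23d220a20b6a3d5a731316e215105d32c068c9c6eef2b544b2f3ac8f9af213a4327b03a31a9d56227b3a54344622c02c15384d50c306b2e483113ad543113bceeca457ca491c0725d99fc980eafa8908368eda91b990c1c82a97b79209302171e9559fc04ceb61228034975fbaebc52851c66c63a74594cc2085a890fa16cd5c28d, [2, 1, 0, 1, 0, 2, 1, 0, 0, 2, 1]),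
  (0x4caccf8403b9768b2bb153e6b695531120303212a28f76eb71f313088081ad584bbc845c3b23956c508038073eac486af3d918bc92663ea5d68cb81394dc372a0002614379487133a85a9dd0b6a2c8fc986323d532ca3581cf0165366482b0d2c55b0539532185fa134a5c3e12b09388903a12aafc26941fb514d8898645aebc60f4a3a8d9c91c4122008e119c7cab677544680625605d5e679d45cd5199c029068a582b83b31678edeb5c243aec65860a683f276b0a2c87368112530e462d4487b6485ab4636d15e61049cbec64a50327c68fe9b5999c710c9e98f41163d8a31a8ec58991e4f28c122745ada903f7657db05e06275486b71548d354703cc55445b8851b2f2cc224a4687ba4754b64070f256a6b3524184abd24c61a98d631568a8c40ab95f88d4c81969d1db436b90c10b86038e6e4f6f93a76f2304a04ca83fc1aca3d16c42b732741c1261b4a169a34914d7a1a2053a01221e4b4fc8edb818f2d068903e816ba5f1b1ff1b07a1942bd5d8050e125034c974732ca9e161850ba9ccc2db98f13420dae01121cd64a73c6f489f06d0aa1544bc, 0x74aac031762b89ac968d8c311e4b0f9f6d424af41543a09b20a8c37a3a012bb1054ef123e3e080990e47eca883043d50e91b51280082ab8d6edf2cabec21096121b0b942434c720b20698a52661c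503199f81a842f7728146f414291c06d71288d759aa031d44a3fb107b119405e9e827c93a28b819cde380d14ac203045b0baaa05ac299aa7245151f419a74a4c297693acfc478e84a6cf52d23de08b2b81eaf561a2ee34952fb2ea1270f43882c76bab4ec149c46d7e7b54c8e915e7ec299e5b338ac4800118b0d05c43a698539b549a2cdb72b6a2ae7a4d7e42501d99568914f0044a1f5927d25097fb3ad7249d0dce643229d4735d915290ac34db7210f21089805066ebccc83a27c967769602a8f211b3d2dee626444d584697cd4082a483851a30724f0375b5e3a0e05388252cd4c0990906d05d1e1db3304cb94b022c15a06a10ed6a7ad31aa01f8c62f5341f684c43098326b1f4172d9a3d8dcb177ad4d55c9f05896a78c2247eca4e14616c1333f90c3c668e1b27a2245d5674732f8073098882a74713d1aa29316b793a5d83accd2f1a2d484532, [3, 3, 1, 0, 1, 0, 1, 3, 1, 1])]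

def bigElt0 : Janko.Tree (ℕ) :=
  (.node (.node (.node (.node (.node (.node (.node (.leaf 721033475327525376) (.leaf 3641280353988946606)) (.leaf 728633335855985176)) (.node (.node (.leaf 722957384732414594) (.leaf 3645071882398340782)) (.leaf 5100444117606247029))) (.node (.node (.node (.leaf 3649834085238886579) (.leaf 5108994283109535794)) (.leaf 5098538711736710455)) (.node (.node (.leaf 3650780957847158867) (.leaf 3639390327768703539)) (.leaf 5100450993564725948)))) (.node (.node (.node (.node (.leaf 5101383120024567990) (.leaf 723889612617812781)) (.leaf 5106132165350404637)) (.node (.node (.leaf 722942504860685038) (.leaf 726751761799340722)) (.leaf 3647924863269684245))) (.node (.node (.node (.leaf 3650775418681513158) (.leaf 5109955449137456852)) (.leaf 722955180897796703)) (.node (.leaf 3649836758082120375) (.leaf 5109935671221186098))))) (.node (.node (.node (.node (.node (.leaf 5101402519255284262) (.leaf 726754443088154356)) (.leaf 5109935223873582724)) (.node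 (.node (.leaf 722948698626710281) (.leaf 3641272402673206078)) (.leaf 722938410124971588))) (.node (.node (.node (.leaf 3645072182756400293) (.leaf 5104237570971703380)) (.leaf 3647926159130934898)) (.node (.node (.leaf 3647933540290291906) (.leaf 3647930519885986050)) (.leaf 3644129302030497334)))) (.node (.node (.node (.node (.leaf 3639370608591828198) (.leaf 3644140124429672603)) (.leaf 723900606526918355)) (.node (.node (.leaf 3647933570016130863) (.leaf 5101401421792985744)) (.leaf 3646990629060821707))) (.node (.node (.node (.leaf 3650769698508934811) (.leaf 723902485305803403)) (.leaf 3641268695402871502)) (.node (.leaf 3639389674333088882) (.leaf 723885347913992951)))))) (.node (.node (.node (.node (.node (.node (.leaf 5103305572422156324) (.leaf 732440222644724402)) (.leaf 3649832730610815047)) (.node (.node (.leaf 3650766022935080502) (.leaf 3650783929357209189)) (.leaf 3645090654121911057))) (.node (.node (.node (.leaf 5098548064967522131) (.leaf 3644126533474888473))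 (.leaf 3646966153060319292)) (.node (.node (.leaf 3639379338794901671) (.leaf 728650909880238899)) (.leaf 721050406007942463)))) (.node (.node (.node (.node (.leaf 732443113126257196) (.leaf 5104246519804584215)) (.leaf 3644126172249617660)) (.node (.node (.leaf 5103288915867871564) (.leaf 725801928439741672)) (.leaf 732454464198115551))) (.node (.node (.node (.leaf 5103283756306147574) (.leaf 721053573545536274)) (.leaf 3639368750972073163)) (.node (.leaf 722954538419661631) (.leaf 3646975704095887889))))) (.node (.node (.node (.node (.node (.leaf 726737757006107299) (.leaf 3645077077800962254)) (.leaf 732452415117225812)) (.node (.node (.leaf 3646978114286131763) (.leaf 722933912590880256)) (.leaf 3649828441414739258))) (.node (.node (.node (.leaf 5101392180463584077) (.leaf 3645088100721497734)) (.leaf 5100444475451832984)) (.node (.node (.leaf 725796240200692334) (.leaf 3641290203949208198)) (.leaf 3645081985859851802)))) (.node (.node (.node (.node (.leaf 728657122480005153)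 (.leaf 726739609189506307)) (.leaf 728636808090719069)) (.node (.node (.leaf 3650767053469876361) (.leaf 732439001108720935)) (.leaf 5100448783288275594))) (.node (.node (.node (.leaf 3649829094475847275) (.leaf 5100456551520701695)) (.leaf 3645074036427245774)) (.node (.leaf 3649821231030248456) (.leaf 3639377346961350850)))))))

def bigElt1 : Janko.Tree (ℕ) :=
  (.node (.node (.node (.node (.node (.node (.node (.leaf 5101404675633365648) (.leaf 721041121990224604)) (.leaf 5107082146355099675)) (.node (.node (.leaf 729605378895089744) (.leaf 5109006543469431607)) (.leaf 3650789029417873177))) (.node (.node (.node (.leaf 5107095941253271875) (.leaf 3644120898612147955)) (.leaf 3647931024255139442)) (.node (.node (.leaf 729592766670202924) (.leaf 726751986614821557)) (.leaf 3639374875260364473)))) (.node (.node (.node (.node (.leaf 5108986837875478776) (.leaf 722949968326333274)) (.leaf 5109932279673417266)) (.node (.node (.leaf 3645066132531995193) (.leaf 728657443889727642))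 (.leaf 729590375882057909))) (.node (.node (.node (.leaf 5103289646966764323) (.leaf 3642215845491905548)) (.leaf 3647933263151905025)) (.node (.leaf 5109954912535063693) (.leaf 3644123841495097356))))) (.node (.node (.node (.node (.node (.leaf 3641279429497182827) (.leaf 725788191411532646)) (.leaf 732442504367276195)) (.node (.node (.leaf 3645075062037523244) (.leaf 3644119025929570953)) (.leaf 3641280628174533236))) (.node (.node (.node (.leaf 5103292459681346883) (.leaf 723893947201290254)) (.leaf 5106138209406294818)) (.node (.node (.leaf 5101392633661291700) (.leaf 5101402184976332650)) (.leaf 5098543686162063555)))) (.node (.node (.node (.node (.leaf 5109941948316017373) (.leaf 5107099731309115607)) (.leaf 729585027058251799)) (.node (.node (.leaf 729587652914398542) (.leaf 732442150382450224)) (.leaf 5104244382345501005))) (.node (.node (.node (.leaf 5108983596038613779) (.leaf 3639375456278683815)) (.leaf 5100453987864871688)) (.node (.leaf 5101385029631933728)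 (.leaf 5109943134913658900)))))) (.node (.node (.node (.node (.node (.node (.leaf 5103297003643859716) (.leaf 725790060215937169)) (.leaf 731492965482059460)) (.node (.node (.leaf 726749441959007967) (.leaf 3645076996352021058)) (.leaf 722945618018892303))) (.node (.node (.node (.leaf 3642227134421928540) (.leaf 5107095353719286114)) (.leaf 3649826264448653082)) (.node (.node (.leaf 5101395741881011765) (.leaf 5107094457449605366)) (.leaf 5104235351858326151)))) (.node (.node (.node (.node (.leaf 3646976117641990231) (.leaf 3642218695605420241)) (.leaf 729608105930867832)) (.node (.node (.leaf 3647925823339335697) (.leaf 5108997502816003258)) (.leaf 3646967716483969538))) (.node (.node (.node (.leaf 5103285780062320392) (.leaf 3646984181948363495)) (.leaf 5109955495597993747)) (.node (.leaf 725797615776989265) (.leaf 725788944083303740))))) (.node (.node (.node (.node (.node (.leaf 3649837396869544690) (.leaf 5109001313654560342)) (.leaf 728635187255325208)) (.node (.node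 (.leaf 5109955590157821608) (.leaf 731488430801069137)) (.leaf 5107085278707298442))) (.node (.node (.node (.leaf 5106141047187460314) (.leaf 3645088723275913399)) (.leaf 5100447279131513371)) (.node (.node (.leaf 3644126396453516614) (.leaf 721034529774240270)) (.leaf 5103292590656643296)))) (.node (.node (.node (.node (.leaf 726742488262486576) (.leaf 731495690058722099)) (.leaf 732438818705998047)) (.node (.node (.leaf 5109937416341458627) (.leaf 5101400808841857348)) (.leaf 722935793571769151))) (.node (.node (.node (.leaf 5109945544519013394) (.leaf 3639367150730215957)) (.leaf 3650777459783165782)) (.node (.leaf 723893337202148114) (.leaf 731504554066594602)))))))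

def bigElt2 : Janko.Tree (ℕ) :=
  (.node (.node (.node (.node (.node (.node (.node (.leaf 5109003177578578573) (.leaf 3641276608685605559)) (.leaf 3649823426863809374)) (.node (.node (.leaf 3647925223697002790) (.leaf 3647930416528111873)) (.leaf 5109934596476912643))) (.node (.node (.node (.leaf 3646988651924586654) (.leaf 729592145160617716)) (.leaf 5101392767460638902)) (.node (.node (.leaf 3647921835080726103) (.leaf 3646978596075029013)) (.leaf 728635808126226748)))) (.node (.node (.node (.node (.leaf 5101393549654915646) (.leaf 731502476531750554)) (.leaf 5104254420552390246)) (.node (.node (.leaf 5103298782297241162) (.leaf 3650782077501713617)) (.leaf 728648772929991436))) (.node (.node (.node (.leaf 5109938724534889613) (.leaf 3642216601137714188)) (.leaf 5106138023401771287)) (.node (.leaf 732455495795492144) (.leaf 5104241269496747622))))) (.node (.node (.node (.node (.node (.leaf 731484498851102344) (.leaf 721033544181219840)) (.leaf 3646981290640290534)) (.node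 (.node (.leaf 721038668625174739) (.leaf 725793919378186466)) (.leaf 731495065698990905))) (.node (.node (.node (.leaf 5103289027981377674) (.leaf 3649836153904319335)) (.leaf 728634637924254395)) (.node (.node (.leaf 3641267720911704849) (.leaf 3646971500283676857)) (.leaf 732434495863881891)))) (.node (.node (.node (.node (.leaf 5106142383598883095) (.leaf 3649815906676656675)) (.leaf 3647919571117303859)) (.node (.node (.leaf 728653989227382829) (.leaf 5104251459188200034)) (.leaf 5109003031915391592))) (.node (.node (.node (.leaf 729594016784234288) (.leaf 3644116241045812287)) (.leaf 5100441689902583147)) (.node (.leaf 3642216832303169691) (.leaf 5109943735285245652)))))) (.node (.node (.node (.node (.node (.node (.leaf 3647939089388169537) (.leaf 726733994636660335)) (.leaf 3647920179349636326)) (.node (.node (.leaf 3645080484155005107) (.leaf 3641281249040521754)) (.leaf 3641280987797246737))) (.node (.node (.node (.leaf 5104244025481107232) (.leaf 729588520052699314))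 (.leaf 5109938074997839132)) (.node (.node (.leaf 5109952196328434774) (.leaf 3650785236245381372)) (.leaf 5109949947842552479)))) (.node (.node (.node (.node (.leaf 5104252962963508916) (.leaf 5106147827443053326)) (.leaf 5100436891747487304)) (.node (.node (.leaf 721044292750550658) (.leaf 5107099814042823010)) (.leaf 5104253896503511078))) (.node (.node (.node (.leaf 3647923781093404839) (.leaf 3646990358298368563)) (.leaf 5106139871538170209)) (.node (.leaf 3639381098357140594) (.leaf 3650782442606122047))))) (.node (.node (.node (.node (.node (.leaf 723897502730877994) (.leaf 3642227740838884927)) (.leaf 732437406375302388)) (.node (.node (.leaf 5106134301388742944) (.leaf 5107099373887305943)) (.leaf 723892696715938111))) (.node (.node (.node (.leaf 728653113396435546) (.leaf 721055411142470391)) (.leaf 3639384134227943781)) (.node (.leaf 5107088105037411849) (.leaf 3647916078369368115)))) (.node (.node (.node (.node (.leaf 725805631910212762) (.leaf 731494473644211848))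 (.leaf 5104252320384731174)) (.node (.node (.leaf 5106152224345347308) (.leaf 726753019060164185)) (.leaf 3641283724238453562))) (.node (.node (.node (.leaf 3644117457428949199) (.leaf 3649818781175366453)) (.leaf 5103282498996827201)) (.node (.leaf 722950227437851266) (.leaf 725793675950467861)))))))

def bigElt3 : Janko.Tree (ℕ) :=
  (.node (.node (.node (.node (.node (.node (.node (.leaf 3650788873648489778) (.leaf 721037471177059647)) (.leaf 5109954329874548051)) (.node (.node (.leaf 5106146026149483332) (.leaf 731496541691467496)) (.leaf 3645067387683594450))) (.node (.node (.node (.leaf 732452612460598361) (.leaf 5101382123683845131)) (.leaf 5109002423259122488)) (.node (.node (.leaf 5106156629908134580) (.leaf 725785920291359545)) (.leaf 3650779080554090191)))) (.node (.node (.node (.node (.leaf 3641276671849519682) (.leaf 3646989993699297394)) (.leaf 5100448524609033058)) (.node (.node (.leaf 5103285305489640151) (.leaf 3649826065584341854)) (.leaf 3645080781478729911)))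 (.node (.node (.node (.leaf 5106141388664085094) (.leaf 3639367293548102161)) (.leaf 3641273911672220334)) (.node (.leaf 3647932627249686633) (.leaf 722944034250490382))))) (.node (.node (.node (.node (.node (.leaf 3642234430921427081) (.leaf 5098549934760195896)) (.leaf 5104249455811938448)) (.node (.node (.leaf 723890246817682527) (.leaf 3647928177529350249)) (.leaf 3644134835693071145))) (.node (.node (.node (.leaf 3647940681195406540) (.leaf 5109949748873639672)) (.leaf 3650778079435011919)) (.node (.node (.leaf 5107102263671099500) (.leaf 5100451547502520888)) (.leaf 3646984288795898598)))) (.node (.node (.node (.node (.leaf 728636687407782758) (.leaf 722947730842911274)) (.leaf 723896300150356700)) (.node (.node (.leaf 3642236555969563228) (.leaf 723892560639609097)) (.leaf 5101384216288299738))) (.node (.node (.node (.leaf 3647923977128068300) (.leaf 721048528725028186)) (.leaf 5098544833165534852)) (.node (.leaf 731507794350983978) (.leaf 5106137366293029046))))))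 (.node (.node (.node (.node (.node (.node (.leaf 5108992340731740785) (.leaf 3639389200555505383)) (.leaf 729585622828869972)) (.node (.node (.leaf 5103301405985254044) (.leaf 3649821856682825489)) (.leaf 5100441106431382262))) (.node (.node (.node (.leaf 5098533225184363026) (.leaf 3642238101941963024)) (.leaf 725807573213438178)) (.node (.node (.leaf 732449792905601714) (.leaf 721046778730520715)) (.leaf 3644128641308830040)))) (.node (.node (.node (.node (.leaf 3641282846793436519) (.leaf 728644477248372968)) (.leaf 5100434550056465219)) (.node (.node (.leaf 3645068383890098494) (.leaf 5108985866288987987)) (.leaf 5103287633990549701))) (.node (.node (.node (.leaf 721056595974091844) (.leaf 3644118902449225010)) (.leaf 3645085574888298158)) (.node (.leaf 726752410227302423) (.leaf 3645078219923153681))))) (.node (.node (.node (.node (.node (.leaf 3649824743684958795) (.leaf 5100453716234926852)) (.leaf 3646986824303067906)) (.node (.node (.leaf 3645069074316241708) (.leaf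 3649817962758031907)) (.leaf 5109949341157199419))) (.node (.node (.node (.leaf 3650787014556352595) (.leaf 3650788954270876998)) (.leaf 5098550410180649010)) (.node (.leaf 3649831224419329338) (.leaf 3644132738922588367)))) (.node (.node (.node (.node (.leaf 3644121400477384913) (.leaf 3642237761534347401)) (.leaf 3641287807894465333)) (.node (.node (.leaf 3645088075396832291) (.leaf 5101396504845025570)) (.leaf 5098554254439295547))) (.node (.node (.node (.leaf 725786981170329284) (.leaf 5109954282903848274)) (.leaf 3645083776671394555)) (.node (.leaf 5108997883655509699) (.leaf 729607096458045702)))))))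

def bigElt4 : Janko.Tree (ℕ) :=
  (.node (.node (.node (.node (.node (.node (.node (.leaf 3646981328345248487) (.leaf 725798624981999965)) (.leaf 3642217841641787132)) (.node (.node (.leaf 5106155938762891552) (.leaf 728639899238048021)) (.leaf 722937156439026360))) (.node (.node (.node (.leaf 3646975015280263701) (.leaf 3641290291624840335)) (.leaf 3650783434149312030)) (.node (.node (.leaf 3649838883087668852) (.leaf 3645078171257720562)) (.leaf 5103295673214061164)))) (.node (.node (.node (.node (.leaf 731500369086611054) (.leaf 5106146960310444214)) (.leaf 722945268361374419)) (.node (.node (.leaf 3647932479363006083) (.leaf 721051032916915295)) (.leaf 3649831803614249498))) (.node (.node (.node (.leaf 3645078017335124839) (.leaf 5101398849778776638)) (.leaf 5100432693374488073)) (.node (.leaf 729601311115097904) (.leaf 3645085699979252574))))) (.node (.node (.node (.node (.node (.leaf 5100437028407873098) (.leaf 5101384808209741674)) (.leaf 3644118062627731279)) (.node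 (.node (.leaf 5104244314446258958) (.leaf 728658059969512055)) (.leaf 5104241227557888353))) (.node (.node (.node (.leaf 5108993290816552468) (.leaf 3647935714804547402)) (.leaf 5103300484806639754)) (.node (.node (.leaf 3646981676403294538) (.leaf 5100452748461462124)) (.leaf 5106147960882233508)))) (.node (.node (.node (.node (.leaf 3650773269795406076) (.leaf 5106143508859067170)) (.leaf 3649838996141473337)) (.node (.node (.leaf 731499738758413116) (.leaf 5108996373432160415)) (.leaf 3641268338136623925))) (.node (.node (.node (.leaf 5106142626759690593) (.leaf 721051102039832160)) (.leaf 3649821596758726426)) (.node (.leaf 732450128986748675) (.leaf 5109944374048699981)))))) (.node (.node (.node (.node (.node (.node (.leaf 5101389086823552098) (.leaf 5101388434085907108)) (.leaf 728649007478092514)) (.node (.node (.leaf 5103285194625760403) (.leaf 3647933721124039004)) (.leaf 3639370682401355495))) (.node (.node (.node (.leaf 3642230966203873981) (.leaf 732447325066268240))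 (.leaf 728649058142663436)) (.node (.node (.leaf 3646968963579662467) (.leaf 721052253338283300)) (.leaf 5098546241315075869)))) (.node (.node (.node (.node (.leaf 722937844955470493) (.leaf 3650777217933829976)) (.leaf 3639375014938551966)) (.node (.node (.leaf 5108989321503987395) (.leaf 5107089855010750104)) (.leaf 5103292146948633160))) (.node (.node (.node (.leaf 3645077654142036596) (.leaf 3641284705885794873)) (.leaf 3650787095263663167)) (.node (.leaf 729586987925792773) (.leaf 3642222883643593827))))) (.node (.node (.node (.node (.node (.leaf 723894571694426925) (.leaf 5100442958197283660)) (.leaf 5104255011351992538)) (.node (.node (.leaf 731500178970693777) (.leaf 723896922715852634)) (.leaf 732446710574175374))) (.node (.node (.node (.leaf 5103305109520168735) (.leaf 728655470372688465)) (.leaf 3649833937676124698)) (.node (.leaf 723902585899369288) (.leaf 3644135786212881085)))) (.node (.node (.node (.node (.leaf 5107091150443201724) (.leaf 5100436836208086602))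 (.leaf 721037416840112887)) (.node (.node (.leaf 5103297634114527586) (.leaf 5107104951170843713)) (.leaf 3646971913395640999))) (.node (.node (.node (.leaf 729591188973007191) (.leaf 3647917557091416066)) (.leaf 721057893230141705)) (.node (.leaf 3647917910554492746) (.leaf 5103306685815583304)))))))

def bigElt5 : Janko.Tree (ℕ) :=
  (.node (.node (.node (.node (.node (.node (.node (.leaf 732451980789444439) (.leaf 729583314305824791)) (.leaf 731486543721976076)) (.node (.node (.leaf 5109941689114776594) (.leaf 721057292407876316)) (.leaf 732439881505713486))) (.node (.node (.node (.leaf 5104232634980538452) (.leaf 725785731291578675)) (.leaf 5106153538702657620)) (.node (.node (.leaf 723895197058103022) (.leaf 721052928308213290)) (.leaf 5106154679553261732)))) (.node (.node (.node (.node (.leaf 3642234068222658886) (.leaf 5109936271019038008)) (.leaf 3641266896793565875)) (.node (.node (.leaf 3645081088748557850) (.leaf 5108994815551120605)) (.leaf 723884096661492736)))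 (.node (.node (.node (.leaf 5103298037904423963) (.leaf 731494675797277500)) (.leaf 3639384199789896243)) (.node (.leaf 3642220510540004694) (.leaf 723893213878076232))))) (.node (.node (.node (.node (.node (.leaf 3641285618110888654) (.leaf 3642222234959220530)) (.leaf 729603181101104672)) (.node (.node (.leaf 5098541211526112954) (.leaf 728652997700788257)) (.leaf 5098539400590090991))) (.node (.node (.node (.leaf 3641270543654850119) (.leaf 5109951256004423354)) (.leaf 3645075549582955290)) (.node (.node (.leaf 723899982209776294) (.leaf 5106156532655869990)) (.leaf 3642222446228018275)))) (.node (.node (.node (.node (.leaf 5103295562789861128) (.leaf 3644137337419876903)) (.leaf 723905565603448962)) (.node (.node (.leaf 732452692051722351) (.leaf 5101406509414119974)) (.leaf 5100446310568360735))) (.node (.node (.node (.leaf 728655848308506856) (.leaf 5107091609489139936)) (.leaf 3649819131370721459)) (.node (.leaf 723887025882008257) (.leaf 3641285948854884971))))))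 (.node (.node (.node (.node (.node (.node (.leaf 3641290817635126523) (.leaf 723885980150036260)) (.leaf 729591014870662879)) (.node (.node (.leaf 3647938052619893820) (.leaf 3644125901903740210)) (.leaf 5103291443271874122))) (.node (.node (.node (.leaf 726745785663265102) (.leaf 3639381032488479580)) (.leaf 3650789221116964541)) (.node (.node (.leaf 5104248859643399862) (.leaf 732435177400284931)) (.leaf 3642240122547472950)))) (.node (.node (.node (.node (.leaf 721034732308791822) (.leaf 5109948624934429288)) (.leaf 728642169343201327)) (.node (.node (.leaf 3647938514130939982) (.leaf 5106145360703444202)) (.leaf 5101388749652890726))) (.node (.node (.node (.leaf 5109003545700771002) (.leaf 721034804248707599)) (.leaf 3645071547627771912)) (.node (.leaf 3647935428383866041) (.leaf 5100456814645644435))))) (.node (.node (.node (.node (.node (.leaf 722952706233903800) (.leaf 3645089143984859764)) (.leaf 5108987130915187332)) (.node (.node (.leaf 3642220117885614835) (.leaf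 5106141657115304034)) (.leaf 3644138001260639484))) (.node (.node (.node (.leaf 3645075693553240135) (.leaf 726738399464644741)) (.leaf 5103286426341766209)) (.node (.leaf 722957657236869870) (.leaf 725800775241725082)))) (.node (.node (.node (.node (.leaf 5100443548968202967) (.leaf 5100454692529230401)) (.leaf 722950832801484131)) (.node (.node (.leaf 731495418869240076) (.leaf 3646968858755582255)) (.leaf 3644125169688688371))) (.node (.node (.node (.leaf 3639389137349178598) (.leaf 3642226642937843506)) (.leaf 723884028076233728)) (.node (.leaf 726748810320174124) (.leaf 5103299396321965379)))))))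

def bigElt6 : Janko.Tree (ℕ) :=
  (.node (.node (.node (.node (.node (.node (.node (.leaf 725793785627599197) (.leaf 3639382297243377967)) (.leaf 725796843065068267)) (.node (.node (.leaf 3644123363154195133) (.leaf 729600818805225686)) (.leaf 3646975092568496961))) (.node (.node (.node (.leaf 5106135244955078874) (.leaf 5107104041498732580)) (.leaf 3644117648350231824)) (.node (.node (.leaf 722954906423327328) (.leaf 5104243248268743402)) (.leaf 3645072531160470298)))) (.node (.node (.node (.node (.leaf 5100432142679150089) (.leaf 3644133653322789406)) (.leaf 5098547323865213553)) (.node (.node (.leaf 3647933091497654530) (.leaf 3641270818098646603)) (.leaf 723889063264680668))) (.node (.node (.node (.leaf 5103305742249240632) (.leaf 732450416255926383)) (.leaf 5104238193586607904)) (.node (.leaf 731491084646569689) (.leaf 5109952947303236946))))) (.node (.node (.node (.node (.node (.leaf 722940725938213569) (.leaf 3646969403771294465)) (.leaf 731497670162667055)) (.node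 (.node (.leaf 3642228348586885275) (.leaf 5101395416587307873)) (.leaf 3642231439702783571))) (.node (.node (.node (.leaf 723890047907009631) (.leaf 3646976304564783218)) (.leaf 721047293176902697)) (.node (.node (.leaf 3649818886938973830) (.leaf 5107099984401295557)) (.leaf 731499554476686137)))) (.node (.node (.node (.node (.leaf 3645086058754263358) (.leaf 729584320019796140)) (.leaf 722938492936523333)) (.node (.node (.leaf 728634359358001809) (.leaf 722951202819340896)) (.leaf 3641270971004096071))) (.node (.node (.node (.leaf 5098540012735900893) (.leaf 3644136296875076377)) (.leaf 5109932757241357937)) (.node (.leaf 5109947244386550071) (.leaf 3639379192529035404)))))) (.node (.node (.node (.node (.node (.node (.leaf 725783869084183130) (.leaf 726744496615901304)) (.leaf 3647917282750380034)) (.node (.node (.leaf 3644119675027728728) (.leaf 3644136890587840854)) (.leaf 3647927941397852238))) (.node (.node (.node (.leaf 3639382896059165505) (.leaf 5106147569073926926))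 (.leaf 5103306090275725536)) (.node (.node (.leaf 5103303106652650643) (.leaf 725800546802365591)) (.leaf 5108982389399910971)))) (.node (.node (.node (.node (.leaf 3641282764136551262) (.leaf 3645082566119182133)) (.leaf 3650783058675797659)) (.node (.node (.leaf 729588261704875764) (.leaf 3650767261072501969)) (.leaf 5107094247631073612))) (.node (.node (.node (.leaf 3647916356984157783) (.leaf 725799965485086344)) (.leaf 721039250366475026)) (.node (.leaf 723901851975600447) (.leaf 5098543076121257604))))) (.node (.node (.node (.node (.node (.leaf 722942781101216602) (.leaf 721054162359509230)) (.leaf 5101402812294236836)) (.node (.node (.leaf 5100436713985923916) (.leaf 3644140410963358354)) (.leaf 725792722757517580))) (.node (.node (.node (.leaf 721043062708773030) (.leaf 726737123311378949)) (.leaf 3647938690390246630)) (.node (.leaf 729599042970554663) (.leaf 729589154274653785)))) (.node (.node (.node (.node (.leaf 722950571839753355) (.leaf 5098546699076198477))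 (.leaf 721039344545639716)) (.node (.node (.leaf 3647926452181662780) (.leaf 3650776593242153564)) (.leaf 725792647520864815))) (.node (.node (.node (.leaf 726745103257938772) (.leaf 731488004349022353)) (.leaf 3641286577160368675)) (.node (.leaf 5100449404200717675) (.leaf 721051632622986083)))))))

def bigElt7 : Janko.Tree (ℕ) :=
  (.node (.node (.node (.node (.node (.node (.node (.leaf 3650786550699803974) (.leaf 3647936616973514398)) (.leaf 3644123979202486284)) (.node (.node (.leaf 723898885515933368) (.leaf 5108993900744309487)) (.leaf 725793281618867046))) (.node (.node (.node (.leaf 5109942583563030075) (.leaf 726749333553582755)) (.leaf 729602895351512175)) (.node (.node (.leaf 3649837165793016494) (.leaf 725789585283000922)) (.leaf 3647918755744737420)))) (.node (.node (.node (.node (.leaf 3641272488469789498) (.leaf 5100454053037386276)) (.leaf 726738099416779005)) (.node (.node (.leaf 729596513255188739) (.leaf 5109000741469378333)) (.leaf 3641266481481387528)))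 (.node (.node (.node (.leaf 3647937927047647435) (.leaf 3650780821647680146)) (.leaf 5107087384944423244)) (.node (.leaf 732445864889446228) (.leaf 728645547254225766))))) (.node (.node (.node (.node (.node (.leaf 721056032506863827) (.leaf 5108984343552608771)) (.leaf 5100440126818792151)) (.node (.node (.leaf 726753178242421280) (.leaf 726755087425915175)) (.leaf 3646972158063493890))) (.node (.node (.node (.leaf 3649835191214112507) (.leaf 3644130701606515230)) (.leaf 5104246202245499044)) (.node (.node (.leaf 5109948690453845304) (.leaf 3646985691516508839)) (.leaf 731502026385910296)))) (.node (.node (.node (.node (.leaf 723886917992189786) (.leaf 3642221605188434621)) (.leaf 722943758969141775)) (.node (.node (.leaf 3650777902231479027) (.leaf 5109005930389695108)) (.leaf 722948104043016870))) (.node (.node (.node (.leaf 5104233631413035287) (.leaf 725804261246614573)) (.leaf 5107104326527089820)) (.node (.leaf 3642238402366587673) (.leaf 722937806993085256)))))) (.node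 (.node (.node (.node (.node (.node (.leaf 3644128715735940179) (.leaf 3639377450248708236)) (.leaf 5106153719586508838)) (.node (.node (.leaf 5098543002661693114) (.leaf 5101392899348762205)) (.leaf 729598949617911118))) (.node (.node (.node (.leaf 5101404069753309454) (.leaf 5101403148885560925)) (.leaf 5106137586136093508)) (.node (.node (.leaf 3647927537568157713) (.leaf 3644134239530287205)) (.leaf 5101405640954019050)))) (.node (.node (.node (.node (.leaf 722951477293810271) (.leaf 3641275372854088434)) (.leaf 5109954961545737805)) (.node (.node (.leaf 728638539167342809) (.leaf 731487044735434517)) (.leaf 5107090997901442634))) (.node (.node (.node (.leaf 729596087227729029) (.leaf 729605956546179250)) (.leaf 723902002659641474)) (.node (.leaf 722938218462056004) (.leaf 5104240308208191652))))) (.node (.node (.node (.node (.node (.leaf 3641285875808928466) (.leaf 5104249320407411229)) (.leaf 3641278523615390490)) (.node (.node (.leaf 722938272282578501) (.leaf 728655259743427208))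 (.leaf 729597206511830136))) (.node (.node (.node (.leaf 723904315676298909) (.leaf 5101386859614634220)) (.leaf 729587273728130373)) (.node (.leaf 3647939277469626535) (.leaf 3650784533025943229)))) (.node (.node (.node (.node (.leaf 3641284062780971546) (.leaf 3650771550321912985)) (.leaf 721046167143589533)) (.node (.node (.leaf 729593277039874220) (.leaf 726740583653363311)) (.leaf 3642229139779226166))) (.node (.node (.node (.leaf 731504714053362914) (.leaf 732447677945013932)) (.leaf 5100441996681841919)) (.node (.leaf 5100450383700548320) (.leaf 3645066559860035179)))))))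

def bigElt8 : Janko.Tree (ℕ) :=
  (.node (.node (.node (.node (.node (.node (.node (.leaf 728647206318740049) (.leaf 5103295089495634723)) (.leaf 3650780225742104406)) (.node (.node (.leaf 3649834595894815438) (.leaf 5101383168895548596)) (.leaf 5107102896678811400))) (.node (.node (.node (.leaf 3644130607443102345) (.leaf 3641279126454784812)) (.leaf 728653407983817924)) (.node (.node (.leaf 723893809358896143) (.leaf 5108982512230376525)) (.leaf 3649837122822097767)))) (.node (.node (.node (.node (.leaf 722944636393739080) (.leaf 722940675028015908)) (.leaf 3644135539520747343)) (.node (.node (.leaf 728639582440866611) (.leaf 725806748177170739)) (.leaf 5098535718257517322))) (.node (.node (.node (.leaf 722953022108400169) (.leaf 728652358245044375)) (.leaf 5107098777160957514)) (.node (.leaf 5103303581230844779) (.leaf 5109946283972504815))))) (.node (.node (.node (.node (.node (.leaf 5101398502938932909) (.leaf 5101405921087721013)) (.leaf 5100453370540239396)) (.node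 (.node (.leaf 3639387309025064193) (.leaf 5108999226688110364)) (.leaf 5104244664507341018))) (.node (.node (.node (.leaf 732440860200855160) (.leaf 5101399098618415834)) (.leaf 5098545474141429928)) (.node (.node (.leaf 732436785431342597) (.leaf 725797489209649176)) (.leaf 728649390176130244)))) (.node (.node (.node (.node (.leaf 3639388446901756494) (.leaf 732451801517085785)) (.leaf 5098556756665917490)) (.node (.node (.leaf 5103292067702778188) (.leaf 3641289656036266738)) (.leaf 721042355628549789))) (.node (.node (.node (.leaf 3645072798826763910) (.leaf 5103296446995005637)) (.leaf 5107083158909456531)) (.node (.leaf 731504335683437101) (.leaf 5098547988066268498)))))) (.node (.node (.node (.node (.node (.node (.leaf 5107094713784204575) (.leaf 5101399454987718173)) (.leaf 3649825356099207989)) (.node (.node (.leaf 5104236924842199184) (.leaf 731488293786872669)) (.leaf 3639366105406374402))) (.node (.node (.node (.leaf 3642224788080216336) (.leaf 3642240745897096743))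 (.leaf 3645074950492381259)) (.node (.node (.leaf 725805447762703511) (.leaf 5107090230557361515)) (.leaf 3641270346425422501)))) (.node (.node (.node (.node (.leaf 721044843310882955) (.leaf 3639369978408151873)) (.leaf 5106148195990012237)) (.node (.node (.leaf 3639384730218343206) (.leaf 729607702831824014)) (.leaf 3646978228163092558))) (.node (.node (.node (.leaf 728645887474125113) (.leaf 729601054399051427)) (.leaf 723897639632961577)) (.node (.leaf 3649831628103898731) (.leaf 3646972464256688268))))) (.node (.node (.node (.node (.node (.leaf 5098541834827735208) (.leaf 3649830849786193214)) (.leaf 3642235938218079783)) (.node (.node (.leaf 3642225390799340367) (.leaf 3650766912364565702)) (.leaf 5103294961210239032))) (.node (.node (.node (.leaf 3639382343795696233) (.leaf 3645083610322197669)) (.leaf 728649259808249130)) (.node (.leaf 5106156017478111797) (.leaf 3645090040457322571)))) (.node (.node (.node (.node (.leaf 5098532180128956931) (.leaf 725793335655119917))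 (.leaf 5108991177439991508)) (.node (.node (.leaf 728637284757307398) (.leaf 3650767873571570727)) (.leaf 732444657849001686))) (.node (.node (.node (.leaf 5098552254347947283) (.leaf 5103284368720443167)) (.leaf 5100452199660903109)) (.node (.leaf 3639365899784815106) (.leaf 5108991786901394962)))))))

def bigElt9 : Janko.Tree (ℕ) :=
  (.node (.node (.node (.node (.node (.node (.node (.leaf 726757491802235013) (.leaf 3647931100957141132)) (.leaf 728645708138848473)) (.node (.node (.leaf 5109942426888449110) (.leaf 723899520323223621)) (.leaf 3639380408923152714))) (.node (.node (.node (.leaf 732433946511468152) (.leaf 725801380182406852)) (.leaf 3642222394967856229)) (.node (.node (.leaf 722935168208065244) (.leaf 726747673817899031)) (.leaf 723889710371573405)))) (.node (.node (.node (.node (.leaf 721040521274941678) (.leaf 5098552877794812655)) (.leaf 725790695222037227)) (.node (.node (.leaf 726735211277953798) (.leaf 3650785155580515600)) (.leaf 732440054449475205)))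 (.node (.node (.node (.leaf 3641273294426067756) (.leaf 726749855081090864)) (.leaf 731483346788960801)) (.node (.leaf 3650778441383964441) (.leaf 3646984933196582999))))) (.node (.node (.node (.node (.node (.leaf 5108994523719395944) (.leaf 3641268781168001746)) (.leaf 5100438754447915780)) (.node (.node (.leaf 5101405175599907607) (.leaf 725785306493219545)) (.leaf 5109938890788212490))) (.node (.node (.node (.leaf 3650785938328136857) (.leaf 3645083168943818823)) (.leaf 728651734916543202)) (.node (.node (.leaf 725791289558491255) (.leaf 5100437333726465608)) (.leaf 3650765878022390823)))) (.node (.node (.node (.node (.leaf 5104234456465169732) (.leaf 722953296717873706)) (.leaf 731490458004510440)) (.node (.node (.leaf 729600884097956093) (.leaf 5106139573058327563)) (.leaf 732451381486194309))) (.node (.node (.node (.leaf 5103290288414449781) (.leaf 5108998602724768424)) (.leaf 3646970014504353852)) (.node (.leaf 732456326914131269) (.leaf 731483671440434257)))))) (.node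 (.node (.node (.node (.node (.node (.leaf 5098549192283466299) (.leaf 5098553011546185832)) (.leaf 723890323188356192)) (.node (.node (.leaf 3649830248201213574) (.leaf 729586645133715461)) (.leaf 5104246796788209997))) (.node (.node (.node (.leaf 731504981747999931) (.leaf 731492171068599133)) (.leaf 5103301108532030104)) (.node (.node (.leaf 3644125286939394149) (.leaf 5101391063158409540)) (.leaf 3649829167645677199)))) (.node (.node (.node (.node (.leaf 721047952663339848) (.leaf 3649823221542911739)) (.leaf 3645067997734671198)) (.node (.node (.leaf 726757304229597728) (.leaf 728633951533978734)) (.leaf 5109946171498073795))) (.node (.node (.node (.leaf 3639376829873137337) (.leaf 5106152823853533328)) (.leaf 722946215845999378)) (.node (.leaf 723906956522225733) (.leaf 5104235986573877813))))) (.node (.node (.node (.node (.node (.leaf 728645090870661777) (.leaf 5107099677026957567)) (.leaf 5100433169889950360)) (.node (.node (.leaf 731484891593425643) (.leaf 729593603662200543))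 (.leaf 721054751016416351))) (.node (.node (.node (.leaf 5101387828135360227) (.leaf 723899383287708740)) (.leaf 3639371206418850122)) (.node (.leaf 5101404543879530631) (.leaf 721041216140553562)))) (.node (.node (.node (.node (.leaf 3639372500122269442) (.leaf 3644138645216176227)) (.leaf 5106140186738770794)) (.node (.node (.leaf 732444013088367366) (.leaf 5108996109560048403)) (.leaf 3646985521462681948))) (.node (.node (.node (.leaf 5104237235385786721) (.leaf 3642228475370042963)) (.leaf 3639366951953760789)) (.node (.leaf 5104243393578556509) (.leaf 3647923128774004967)))))))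

def bigElt10 : Janko.Tree (ℕ) :=
  (.node (.node (.node (.node (.node (.node (.node (.leaf 725803669131406101) (.leaf 5098537570638848724)) (.leaf 726741208125254484)) (.node (.node (.leaf 729603977661167267) (.leaf 5101395139066755668)) (.leaf 726745524546869462))) (.node (.node (.node (.leaf 3646984789336432780) (.leaf 5107097853142339692)) (.leaf 732448266281706028)) (.node (.node (.leaf 722957978575342839) (.leaf 5107087492784165187)) (.leaf 5104255634546253124)))) (.node (.node (.node (.node (.leaf 3642219515128712902) (.leaf 5106153097502212701)) (.leaf 729605863979269664)) (.node (.node (.leaf 3644131963268123334) (.leaf 726733781611878480)) (.leaf 725808207413529401))) (.node (.node (.node (.leaf 5098554881391550541) (.leaf 722941373497125587)) (.leaf 5100446598465389347)) (.node (.leaf 728643063635888173) (.leaf 5104248683833904820))))) (.node (.node (.node (.node (.node (.leaf 3650775366120909923) (.leaf 5100433108444971676)) (.leaf 5107102203025928330)) (.node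 (.node (.leaf 3642225752748376857) (.leaf 3650774734202582825)) (.leaf 3644140770709359143))) (.node (.node (.node (.leaf 728644673383045722) (.leaf 721046680816066726)) (.leaf 5109934115709010947)) (.node (.node (.leaf 3639372436492842241) (.leaf 5101391668733068055)) (.leaf 723903068605840426)))) (.node (.node (.node (.node (.leaf 5098555983437573341) (.leaf 3641283388672871567)) (.leaf 3642220576317702488)) (.node (.node (.leaf 3642235033672008527) (.leaf 3645069452139061817)) (.leaf 3646966500126151785))) (.node (.node (.node (.leaf 5103302518489262744) (.leaf 721046089925928578)) (.leaf 5109938242580275871)) (.node (.leaf 729588127847283854) (.leaf 3644137502433721427)))))) (.node (.node (.node (.node (.node (.node (.leaf 5104236608517739242) (.leaf 5101382947780695051)) (.leaf 723903702971612003)) (.node (.node (.leaf 5107093482894635125) (.leaf 3647923372008012985)) (.leaf 5098556110428777073))) (.node (.node (.node (.leaf 732446516941327952) (.leaf 732447473376832535))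 (.leaf 5103300788428323867)) (.node (.node (.leaf 5098554135485426936) (.leaf 726758083857769141)) (.leaf 5107097814680028225)))) (.node (.node (.node (.node (.leaf 3645078283365699381) (.leaf 729592628560113712)) (.leaf 5103303162542850084)) (.node (.node (.leaf 731506394771062549) (.leaf 5107089641025174815)) (.leaf 5106145477220160748))) (.node (.node (.node (.leaf 5104241821281587810) (.leaf 3649825637472325703)) (.leaf 722937243122447122)) (.node (.leaf 722955520044872493) (.leaf 5098541140314695327))))) (.node (.node (.node (.node (.node (.leaf 726754795565211820) (.leaf 3644131356925026459)) (.leaf 3641270640260157003)) (.node (.node (.leaf 3647940052534454466) (.leaf 725788341424535176)) (.leaf 3645067777515563771))) (.node (.node (.node (.leaf 5104235087986318563) (.leaf 721056664290129477)) (.leaf 5104247376553318124)) (.node (.leaf 5108987524054557773) (.leaf 5109003685147474600)))) (.node (.node (.node (.node (.leaf 726744586251296003) (.leaf 3649835252954257169))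 (.leaf 728657707359162684)) (.node (.node (.leaf 3646968353640829285) (.leaf 3650787990227404082)) (.leaf 5104252691312388743))) (.node (.node (.node (.leaf 3649832097865824942) (.leaf 5100434984336947999)) (.leaf 3650772806521217779)) (.node (.leaf 723890109782168672) (.leaf 728650866592420701)))))))

def bigElt11 : Janko.Tree (ℕ) :=
  (.node (.node (.node (.node (.node (.node (.node (.leaf 3644131753559702800) (.leaf 5103284769810959211)) (.leaf 722943420246822135)) (.node (.node (.leaf 3642235669047737551) (.leaf 5108992528835827286)) (.leaf 731490884951065239))) (.node (.node (.node (.leaf 5104250083300977181) (.leaf 5107105593762885749)) (.leaf 728644028425076971)) (.node (.node (.leaf 5098533159154745876) (.leaf 725806294987617825)) (.leaf 3649839684131351115)))) (.node (.node (.node (.node (.leaf 731494044055031927) (.leaf 5109933998423258872)) (.leaf 3642230811011975710)) (.node (.node (.leaf 725784099783237751) (.leaf 725806083128305809)) (.leaf 3639387837885393980)))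 (.node (.node (.node (.leaf 5100441384225903458) (.leaf 3641276338339642035)) (.leaf 5108985074559861389)) (.node (.leaf 3644126262267259689) (.leaf 5100455910786503306))))) (.node (.node (.node (.node (.node (.leaf 729583780465260121) (.leaf 3639382971955883068)) (.leaf 5107084199033224995)) (.node (.node (.leaf 731492791616651821) (.leaf 5101394774573872867)) (.leaf 5098544896934684319))) (.node (.node (.node (.leaf 726736847628165637) (.leaf 3647920820137410179)) (.leaf 5106149686562099765)) (.node (.node (.leaf 726750496529689350) (.leaf 726739020800890960)) (.leaf 3649816904574523023)))) (.node (.node (.node (.node (.leaf 3642218738286656719) (.leaf 3646981897283207326)) (.leaf 5100452833463808835)) (.node (.node (.leaf 731501421177717483) (.leaf 3650788603881204835)) (.leaf 5104241885443153123))) (.node (.node (.node (.leaf 3647929246036552028) (.leaf 5107083587719280667)) (.leaf 3645073422815121003)) (.node (.leaf 728640401903768686) (.leaf 5109952364685407876))))))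 (.node (.node (.node (.node (.node (.node (.leaf 3649817056466534053) (.leaf 5109000998129860435)) (.leaf 722946849311939364)) (.node (.node (.leaf 5107097309866016408) (.leaf 721038701706437448)) (.leaf 3642225133080070470))) (.node (.node (.node (.leaf 5098552379777821270) (.leaf 721036863841067875)) (.leaf 3647920668149415269)) (.node (.node (.leaf 5104253663000780862) (.leaf 3646975620510501167)) (.leaf 5107105342471170084)))) (.node (.node (.node (.node (.leaf 5108989912556328786) (.leaf 5108989540060462876)) (.leaf 5103284134042792708)) (.node (.node (.leaf 725802994842121761) (.leaf 3646977009384456522)) (.leaf 3645089375563963427))) (.node (.node (.node (.leaf 5098546169642808604) (.leaf 725787556776539142)) (.leaf 3641274820057666398)) (.node (.leaf 722941276789846694) (.leaf 726752614731911822))))) (.node (.node (.node (.node (.node (.leaf 3646987275295901881) (.leaf 725802565953432362)) (.leaf 722935717561283373)) (.node (.node (.leaf 729593885830282565) (.leaf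 3642232807098026526)) (.leaf 5109003790019503325))) (.node (.node (.node (.leaf 5098538173431885075) (.leaf 723887568009460390)) (.leaf 3642218472154233641)) (.node (.leaf 3650774808725720677) (.leaf 729595877911821423)))) (.node (.node (.node (.node (.leaf 731490272494349107) (.leaf 722947455428131369)) (.leaf 3650771152044461775)) (.node (.node (.leaf 5104239410270227979) (.leaf 726748232855099726)) (.leaf 729584622752056453))) (.node (.node (.node (.leaf 725801134118793945) (.leaf 726753827378801200)) (.leaf 5106133474671149703)) (.node (.leaf 3649825048058494629) (.leaf 731495896619721954)))))))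

def bigElt12 : Janko.Tree (ℕ) :=
  (.node (.node (.node (.node (.node (.node (.node (.leaf 5107091754594204744) (.leaf 721044893013909697)) (.leaf 3641288711716592194)) (.node (.node (.leaf 731484343469430468) (.leaf 3650771772999292176)) (.leaf 729605229757229396))) (.node (.node (.node (.leaf 5106133203347935917) (.leaf 3646989715611161345)) (.leaf 3650773894246753804)) (.node (.node (.leaf 3650768679372481170) (.leaf 726745198730024537)) (.leaf 731497574518149239)))) (.node (.node (.node (.node (.leaf 732456731538941654) (.leaf 3644118284789514582)) (.leaf 5109952831602050387)) (.node (.node (.leaf 729600702304237782) (.leaf 5108998105850823434)) (.leaf 3641288094491783715))) (.node (.node (.node (.leaf 3639387383257691906) (.leaf 5107092839073363720)) (.leaf 5101388930175734886)) (.node (.leaf 3644123250792745670) (.leaf 3639368814591276748))))) (.node (.node (.node (.node (.node (.leaf 3647928635458929685) (.leaf 3644116438995741276)) (.leaf 5109941074510647050)) (.node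 (.node (.leaf 732454112858490181) (.leaf 3645070029967712570)) (.leaf 3642232088440668504))) (.node (.node (.node (.leaf 732438367085377205) (.leaf 729597939092568317)) (.leaf 3645084963360858322)) (.node (.node (.leaf 731498297705145531) (.leaf 3646988023089435340)) (.leaf 3646980737695633539)))) (.node (.node (.node (.node (.leaf 5109006633937685304) (.leaf 3650769102963502646)) (.leaf 3642222582067369061)) (.node (.node (.leaf 732435800750572576) (.leaf 5108991936806965496)) (.leaf 5109944919375245075))) (.node (.node (.node (.leaf 5108986489483065915) (.leaf 5106142002259530413)) (.leaf 5100446676467231349)) (.node (.leaf 732442809733885262) (.leaf 3644129344958922961)))))) (.node (.node (.node (.node (.node (.node (.leaf 5107096020710147435) (.leaf 3650783678327579228)) (.leaf 728647159342514807)) (.node (.node (.leaf 3646968006317613404) (.leaf 5108996883154032466)) (.leaf 3646971319022097100))) (.node (.node (.node (.leaf 5104234267583877922) (.leaf 723908166072039204))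 (.leaf 5109934966712459997)) (.node (.node (.leaf 3649819753716939330) (.leaf 5107106558943820872)) (.leaf 5100439503469140677)))) (.node (.node (.node (.node (.leaf 728640199709039240) (.leaf 3639375612868305090)) (.leaf 3647918200277854529)) (.node (.node (.leaf 729603349201137712) (.leaf 5103288399949769225)) (.leaf 731501891786724954))) (.node (.node (.node (.leaf 3642238715811381906) (.leaf 5101384951919870242)) (.leaf 5098536945968281427)) (.node (.leaf 5098538783414482744) (.leaf 5101400985817629517))))) (.node (.node (.node (.node (.node (.leaf 732443616990604583) (.leaf 729607479112001795)) (.leaf 721042423026296504)) (.node (.node (.leaf 728646521498162474) (.leaf 721049188766118980)) (.leaf 3647933888327104158))) (.node (.node (.node (.leaf 3642228207535062169) (.leaf 726743038689434668)) (.leaf 729596690289158406)) (.node (.leaf 5106151054503747682) (.leaf 5106142895329280333)))) (.node (.node (.node (.node (.leaf 3644122012252678748) (.leaf 722952094539961052))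 (.leaf 5103298228316949100)) (.node (.node (.leaf 3641282209941328518) (.leaf 5101391546299762958)) (.leaf 5103288261571291657))) (.node (.node (.node (.leaf 3644120275228062783) (.leaf 5101388657326822498)) (.leaf 3647926945700165423)) (.node (.leaf 729590578797973799) (.leaf 5100444737337361052)))))))

def bigElt13 : Janko.Tree (ℕ) :=
  (.node (.node (.node (.node (.node (.node (.node (.leaf 721040571831771949) (.leaf 5109002582435842871)) (.leaf 5098533361823515156)) (.node (.node (.leaf 732446093328805719) (.leaf 726755479765540183)) (.leaf 722943142125669731))) (.node (.node (.node (.leaf 5109944145149321832) (.leaf 726737501745176748)) (.leaf 5103292673045067007)) (.node (.node (.leaf 728639142228021399) (.leaf 5101397257559374420)) (.leaf 731485547422829089)))) (.node (.node (.node (.node (.leaf 3647925484149931365) (.leaf 732439438411326214)) (.leaf 732456587988887212)) (.node (.node (.leaf 731503732696566630) (.leaf 726745749269040884)) (.leaf 721047362433250858)))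 (.node (.node (.node (.leaf 5098532317299474947) (.leaf 3639380465376125518)) (.leaf 3641275981690867047)) (.node (.leaf 5107104691127500579) (.leaf 728642453690991291))))) (.node (.node (.node (.node (.node (.leaf 5106144754420795476) (.leaf 725796181908503868)) (.leaf 5106139228924072971)) (.node (.node (.leaf 723907540256426689) (.leaf 5108985167304349396)) (.leaf 3644133962606884406))) (.node (.node (.node (.leaf 725790190471643404) (.leaf 3641284002306130750)) (.leaf 722935103176170249)) (.node (.node (.leaf 5098536323450744056) (.leaf 5107093204977628932)) (.leaf 732437152993545981)))) (.node (.node (.node (.node (.leaf 3646981980159268134) (.leaf 728638968818682169)) (.leaf 731502646090366574)) (.node (.node (.leaf 5107096708399249663) (.leaf 5101400329845524615)) (.leaf 3644131187284828313))) (.node (.node (.node (.leaf 5101386785779154154) (.leaf 3645077623335674170)) (.leaf 3639373671182969692)) (.node (.leaf 3646972757716900673) (.leaf 723906819486710852))))))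 (.node (.node (.node (.node (.node (.node (.leaf 5107085043021015264) (.leaf 5103282919190093941)) (.leaf 726756128284252374)) (.node (.node (.leaf 731487150848113158) (.leaf 3647921233449291979)) (.leaf 725800165242710040))) (.node (.node (.node (.leaf 3649834714461732409) (.leaf 731504483644754790)) (.leaf 725806900176103611)) (.node (.node (.leaf 3646973320400000105) (.leaf 5101396359084571936)) (.leaf 3639386621448905321)))) (.node (.node (.node (.node (.leaf 3646973935462466251) (.leaf 726740240839350085)) (.leaf 5098549868988003639)) (.node (.node (.leaf 731489029928670874) (.leaf 3639378568218683038)) (.leaf 732436509748129285))) (.node (.node (.node (.leaf 726742424830220101) (.leaf 3639373047360217391)) (.leaf 5108991301441388052)) (.node (.leaf 5098554718966866644) (.leaf 3642234682434437778))))) (.node (.node (.node (.node (.node (.leaf 725785128540945640) (.leaf 5106136164346396734)) (.leaf 732443740131200765)) (.node (.node (.leaf 732449529726643223) (.leaf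 725787694886581254)) (.leaf 728640997520427162))) (.node (.node (.node (.leaf 5101405770087203052) (.leaf 5109000374849556530)) (.leaf 723906322322211467)) (.node (.leaf 5109950647843509532) (.leaf 5109940188474304113)))) (.node (.node (.node (.node (.leaf 5107082366450952248) (.leaf 3641278817082978873)) (.leaf 3645068832053288079)) (.node (.node (.leaf 722945893300240910) (.leaf 3645088688750500019)) (.leaf 5103287807920946364))) (.node (.node (.node (.leaf 5107102806645454596) (.leaf 5106149740582617693)) (.leaf 725787090713192635)) (.node (.leaf 3642227275180178163) (.leaf 5100449141820787859)))))))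

def bigElt14 : Janko.Tree (ℕ) :=
  (.node (.node (.node (.node (.node (.node (.node (.leaf 3645086682003853042) (.leaf 728642814312882453)) (.leaf 3639385518658614988)) (.node (.node (.leaf 728648148340330543) (.leaf 722933843737185792)) (.leaf 5109933510337113327))) (.node (.node (.node (.leaf 3644125769575311459) (.leaf 731487631213361670)) (.leaf 5107086131166575772)) (.node (.node (.leaf 726745604539862832) (.leaf 5109946653807273640)) (.leaf 3642239635037228742)))) (.node (.node (.node (.node (.leaf 729597116049100880) (.leaf 3646987463292506469)) (.leaf 3646980643411107918)) (.node (.node (.leaf 3642230339325529852) (.leaf 5106147888849760995)) (.leaf 3645084346372088679))) (.node (.node (.node (.leaf 5104232421885239861) (.leaf 5101386474211931821)) (.leaf 5100450923008610843)) (.node (.leaf 3649822837690460855) (.leaf 3650770954755356495))))) (.node (.node (.node (.node (.node (.leaf 3650782675013842462) (.leaf 5103303813921881276)) (.leaf 3645081376713235599))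 (.node (.node (.leaf 5109937648355868983) (.leaf 5100433929143966432)) (.leaf 5098536885441590610))) (.node (.node (.node (.leaf 726739980414521998) (.leaf 722958279695436939)) (.leaf 3641265862335008264)) (.node (.node (.leaf 5104243896110932030) (.leaf 5098545516328263821)) (.leaf 3650773412941981196)))) (.node (.node (.node (.node (.leaf 732433324030837792) (.leaf 726735033417471711)) (.leaf 3647936015420723431)) (.node (.node (.leaf 5107105911187728581) (.leaf 5109006006378152561)) (.leaf 5104233851432867564))) (.node (.node (.node (.leaf 3641288439780463269) (.leaf 3639385982716947543)) (.leaf 5109949276406776093)) (.node (.leaf 5104256736162767630) (.leaf 3649830581721192052)))))) (.node (.node (.node (.node (.node (.node (.leaf 3646967373423456770) (.leaf 721036785344930057)) (.leaf 3639384833947413591)) (.node (.node (.leaf 3642231935153012054) (.leaf 3649817329589414606)) (.leaf 725803258848342638))) (.node (.node (.node (.leaf 5107089201349159158) (.leaf 732456115500857013))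 (.leaf 3639378714301048451)) (.node (.node (.leaf 5103292761474130274) (.leaf 5107083459498951868)) (.leaf 5098548531761078376)))) (.node (.node (.node (.node (.leaf 732453489498764848) (.leaf 5098535039906149660)) (.leaf 3649828527282627902)) (.node (.node (.leaf 3642235779777364177) (.leaf 726747409811687544)) (.leaf 729600046537795765))) (.node (.node (.node (.leaf 3639366877473145361) (.leaf 721044228925826744)) (.leaf 3647919002034221350)) (.node (.leaf 3642232227871749695) (.leaf 731507149589562007))))) (.node (.node (.node (.node (.node (.leaf 726757896086381234) (.leaf 3649827236855970546)) (.leaf 3646986242303513794)) (.node (.node (.leaf 5104250822706357098) (.leaf 5100456191296049910)) (.leaf 3642216894456986777))) (.node (.node (.node (.leaf 5108984206382090755) (.leaf 5109941344717602836)) (.leaf 3649837046897330988)) (.node (.leaf 3644120736120828562) (.leaf 3646981828150875330)))) (.node (.node (.node (.node (.leaf 5098533644614763026) (.leaf 721049257082156613))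 (.leaf 723895661160889359)) (.node (.node (.leaf 5101385858137590625) (.leaf 721052859857171497)) (.leaf 3641266820857791159))) (.node (.node (.node (.leaf 3649820956823430152) (.leaf 729598538300942380)) (.leaf 723903206313230377)) (.node (.leaf 731492309640828463) (.leaf 721049791515943725)))))))

def bigElt15 : Janko.Tree (ℕ) :=
  (.node (.node (.node (.node (.node (.node (.node (.leaf 5108988162986563357) (.leaf 3646977631999332881)) (.leaf 731497288768547352)) (.node (.node (.leaf 5103291504066972375) (.leaf 5098535105941272349)) (.leaf 5106135514506730164))) (.node (.node (.node (.leaf 5104239685685005835) (.leaf 5098541734233645251)) (.leaf 5107093834184888467)) (.node (.node (.leaf 726735834295486759) (.leaf 5101396644468493853)) (.leaf 5100435039903089443)))) (.node (.node (.node (.node (.leaf 728656091243380971) (.leaf 5106154076131695206)) (.leaf 5104255446464703149)) (.node (.node (.leaf 5100438687983403784) (.leaf 3644139802855006361)) (.leaf 5106144859958362759)))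 (.node (.node (.node (.leaf 3649823874985414866) (.leaf 3645071272078776328)) (.leaf 5100444820912646712)) (.node (.leaf 723898277376166647) (.leaf 5104253284399238838))))) (.node (.node (.node (.node (.node (.leaf 728637422867349510) (.leaf 5103296298550175990)) (.leaf 731506362516330201)) (.node (.node (.leaf 5107087968537982473) (.leaf 723905697065519369)) (.leaf 5104240050483341997))) (.node (.node (.node (.leaf 3639385444570428619) (.leaf 5106135118253508752)) (.leaf 5098556593677624074)) (.node (.node (.leaf 3649816097626028610) (.leaf 722956156280101533)) (.leaf 5103304506485273855)))) (.node (.node (.node (.node (.leaf 3650780343059408728) (.leaf 5107085519628036152)) (.leaf 729594647361204567)) (.node (.node (.leaf 3649826607255703762) (.leaf 3641275411990088955)) (.leaf 3642240239719578409))) (.node (.node (.node (.leaf 723885898721557347) (.leaf 5106152481490785514)) (.leaf 5106150437241762531)) (.node (.leaf 723895799003283470) (.leaf 5109955314882735802))))))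 (.node (.node (.node (.node (.node (.node (.leaf 5108990142911008927) (.leaf 5108983758781006602)) (.leaf 5106145968435839850)) (.node (.node (.leaf 5100443501589287489) (.leaf 3641269732756859674)) (.leaf 3644133335510054214))) (.node (.node (.node (.leaf 721054820139333216) (.leaf 3639369353903300965)) (.leaf 726743125870692605)) (.node (.node (.leaf 5103302558915537564) (.leaf 3639371847866592038)) (.leaf 5109939584141984029)))) (.node (.node (.node (.node (.leaf 725796808860008529) (.leaf 725798008042703407)) (.leaf 3649840267585932076)) (.node (.node (.leaf 5100436087075418812) (.leaf 725793965549857578)) (.leaf 732434351134692494))) (.node (.node (.node (.leaf 5098551016662575702) (.leaf 3645081889393513026)) (.leaf 3650776843713609865)) (.node (.leaf 726735642251124055) (.leaf 732456399215019312))))) (.node (.node (.node (.node (.node (.leaf 3639376698350773891) (.leaf 722953952826872513)) (.leaf 5104249842874604637)) (.node (.node (.leaf 3641277274610381428) (.leaf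 5108995421920122386)) (.leaf 731502703938197082))) (.node (.node (.node (.leaf 3650768945257756457) (.leaf 5106132444770500670)) (.leaf 723885304229531347)) (.node (.leaf 723887603824359150) (.leaf 5106133684158214685)))) (.node (.node (.node (.node (.leaf 5104244491253474154) (.leaf 721034594466398735)) (.leaf 5104256128430543650)) (.node (.node (.leaf 5109003460938857199) (.leaf 3646979194470323494)) (.leaf 5098543631106056333))) (.node (.node (.node (.leaf 723906158216397586) (.leaf 721043001617686721)) (.leaf 5100445407959700076)) (.node (.leaf 732454551079441652) (.leaf 723889009104418488)))))))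

def bigElt : Janko.Tree (ℕ) := (.node (.node (.node (.node bigElt0 bigElt8) (.node bigElt4 bigElt12)) (.node (.node bigElt2 bigElt10) (.node bigElt6 bigElt14))) (.node (.node (.node bigElt1 bigElt9) (.node bigElt5 bigElt13)) (.node (.node bigElt3 bigElt11) (.node bigElt7 bigElt15))))

def bigNext0 : Janko.Tree (ℕ) :=
  (.node (.node (.node (.node (.node (.node (.node (.leaf 1) (.leaf 1354)) (.leaf 695)) (.node (.leaf 736) (.leaf 1357))) (.node (.node (.leaf 412) (.leaf 317)) (.node (.leaf 477) (.leaf 1296)))) (.node (.node (.node (.node (.leaf 19) (.leaf 1314)) (.leaf 1110)) (.node (.leaf 445) (.leaf 1419))) (.node (.node (.leaf 578) (.leaf 1313)) (.node (.leaf 1079) (.leaf 342))))) (.node (.node (.node (.node (.node (.leaf 116) (.leaf 1180)) (.leaf 416)) (.node (.leaf 798) (.leaf 1327))) (.node (.node (.leaf 491) (.leaf 826)) (.node (.leaf 1025) (.leaf 1055)))) (.node (.node (.node (.leaf 317) (.leaf 1066)) (.node (.leaf 238) (.leaf 1366))) (.node (.node (.leaf 662) (.leaf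 1258)) (.node (.leaf 1127) (.leaf 1446)))))) (.node (.node (.node (.node (.node (.node (.leaf 63) (.leaf 1385)) (.leaf 1184)) (.node (.leaf 372) (.leaf 966))) (.node (.node (.leaf 347) (.leaf 715)) (.node (.leaf 759) (.leaf 1002)))) (.node (.node (.node (.leaf 269) (.leaf 1248)) (.node (.leaf 888) (.leaf 1244))) (.node (.node (.leaf 418) (.leaf 115)) (.node (.leaf 1013) (.leaf 152))))) (.node (.node (.node (.node (.node (.leaf 130) (.leaf 1372)) (.leaf 1239)) (.node (.leaf 593) (.leaf 1260))) (.node (.node (.leaf 539) (.leaf 396)) (.node (.leaf 104) (.leaf 762)))) (.node (.node (.node (.leaf 366) (.leaf 1198)) (.node (.leaf 777) (.leaf 528))) (.node (.node (.leaf 698) (.leaf 708)) (.node (.leaf 1094) (.leaf 1135)))))))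

def bigNext1 : Janko.Tree (ℕ) :=
  (.node (.node (.node (.node (.node (.node (.node (.leaf 2) (.leaf 363)) (.leaf 1173)) (.node (.leaf 223) (.leaf 204))) (.node (.node (.leaf 366) (.leaf 977)) (.node (.leaf 975) (.leaf 704)))) (.node (.node (.node (.node (.leaf 7) (.leaf 1121)) (.leaf 1252)) (.node (.leaf 854) (.leaf 1114))) (.node (.node (.leaf 525) (.leaf 1182)) (.node (.leaf 1080) (.leaf 1440))))) (.node (.node (.node (.node (.node (.leaf 36) (.leaf 51)) (.leaf 1098)) (.node (.leaf 799) (.leaf 392))) (.node (.node (.leaf 501) (.leaf 1054)) (.node (.leaf 1026) (.leaf 937)))) (.node (.node (.node (.leaf 304) (.leaf 933)) (.node (.leaf 926) (.leaf 99))) (.node (.node (.leaf 515) (.leaf 1289)) (.node (.leaf 349) (.leaf 874)))))) (.node (.node (.node (.node (.node (.node (.leaf 64) (.leaf 949)) (.leaf 155)) (.node (.leaf 770) (.leaf 1168))) (.node (.node (.leaf 460) (.leaf 1315)) (.node (.leaf 542) (.leaf 1448)))) (.node (.node (.node (.leaf 270) (.leaf 1089)) (.node (.leaf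 889) (.leaf 1058))) (.node (.node (.leaf 616) (.leaf 775)) (.node (.leaf 212) (.leaf 594))))) (.node (.node (.node (.node (.node (.leaf 168) (.leaf 610)) (.leaf 1240)) (.node (.leaf 829) (.leaf 1109))) (.node (.node (.leaf 84) (.leaf 208)) (.node (.leaf 1056) (.leaf 920)))) (.node (.node (.node (.leaf 132) (.leaf 1298)) (.node (.leaf 926) (.leaf 1216))) (.node (.node (.leaf 205) (.leaf 519)) (.node (.leaf 1158) (.leaf 1370)))))))

def bigNext2 : Janko.Tree (ℕ) :=
  (.node (.node (.node (.node (.node (.node (.node (.leaf 3) (.leaf 1341)) (.leaf 987)) (.node (.leaf 737) (.leaf 867))) (.node (.node (.leaf 12) (.leaf 1311)) (.node (.leaf 388) (.leaf 1391)))) (.node (.node (.node (.node (.leaf 221) (.leaf 1362)) (.leaf 463)) (.node (.leaf 855) (.leaf 452))) (.node (.node (.leaf 309) (.leaf 1131)) (.node (.leaf 585) (.leaf 177))))) (.node (.node (.node (.node (.node (.leaf 117) (.leaf 968)) (.leaf 1048)) (.node (.leaf 303) (.leaf 1299))) (.node (.node (.leaf 471) (.leaf 837))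 (.node (.leaf 523) (.leaf 1349)))) (.node (.node (.node (.leaf 318) (.leaf 1138)) (.node (.leaf 783) (.leaf 1434))) (.node (.node (.leaf 663) (.leaf 1217)) (.node (.leaf 1128) (.leaf 991)))))) (.node (.node (.node (.node (.node (.node (.leaf 65) (.leaf 1004)) (.leaf 1171)) (.node (.leaf 440) (.leaf 744))) (.node (.node (.leaf 461) (.leaf 226)) (.node (.leaf 999) (.leaf 508)))) (.node (.node (.node (.leaf 224) (.leaf 772)) (.node (.leaf 890) (.leaf 1386))) (.node (.node (.leaf 617) (.leaf 862)) (.node (.leaf 73) (.leaf 1221))))) (.node (.node (.node (.node (.node (.leaf 114) (.leaf 1308)) (.leaf 530)) (.node (.leaf 157) (.leaf 1145))) (.node (.node (.leaf 165) (.leaf 1336)) (.node (.leaf 559) (.leaf 881)))) (.node (.node (.node (.leaf 103) (.leaf 205)) (.node (.leaf 808) (.leaf 709))) (.node (.node (.leaf 699) (.leaf 10)) (.node (.leaf 514) (.leaf 1407)))))))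

def bigNext3 : Janko.Tree (ℕ) :=
  (.node (.node (.node (.node (.node (.node (.node (.leaf 4) (.leaf 1100)) (.leaf 621)) (.node (.leaf 738) (.leaf 1175))) (.node (.node (.leaf 413) (.leaf 200)) (.node (.leaf 238) (.leaf 106)))) (.node (.node (.node (.node (.leaf 222) (.leaf 563)) (.leaf 822)) (.node (.leaf 856) (.leaf 163))) (.node (.node (.leaf 551) (.leaf 156)) (.node (.leaf 961) (.leaf 951))))) (.node (.node (.node (.node (.node (.leaf 63) (.leaf 1362)) (.leaf 1213)) (.node (.leaf 787) (.leaf 577))) (.node (.node (.leaf 319) (.leaf 537)) (.node (.leaf 1027) (.leaf 297)))) (.node (.node (.node (.leaf 319) (.leaf 1040)) (.node (.leaf 927) (.leaf 153))) (.node (.node (.leaf 664) (.leaf 1367)) (.node (.leaf 1129) (.leaf 1415)))))) (.node (.node (.node (.node (.node (.node (.leaf 66) (.leaf 1438)) (.leaf 1148)) (.node (.leaf 771) (.leaf 854))) (.node (.node (.leaf 462) (.leaf 178)) (.node (.leaf 868) (.leaf 458)))) (.node (.node (.node (.leaf 271) (.leaf 37)) (.node (.leaf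 799) (.leaf 1380))) (.node (.node (.leaf 618) (.leaf 488)) (.node (.leaf 506) (.leaf 267))))) (.node (.node (.node (.node (.node (.leaf 169) (.leaf 1230)) (.leaf 1241)) (.node (.leaf 727) (.leaf 710))) (.node (.node (.leaf 477) (.leaf 1316)) (.node (.leaf 1004) (.leaf 1340)))) (.node (.node (.node (.leaf 367) (.leaf 579)) (.node (.leaf 536) (.leaf 1042))) (.node (.node (.leaf 700) (.leaf 700)) (.node (.leaf 166) (.leaf 916)))))))

def bigNext4 : Janko.Tree (ℕ) :=
  (.node (.node (.node (.node (.node (.node (.node (.leaf 5) (.leaf 922)) (.leaf 791)) (.node (.leaf 480) (.leaf 1388))) (.node (.node (.leaf 414) (.leaf 1232)) (.node (.leaf 464) (.leaf 1444)))) (.node (.node (.node (.node (.leaf 66) (.leaf 1202)) (.leaf 948)) (.node (.leaf 857) (.leaf 722))) (.node (.node (.leaf 579) (.leaf 1348)) (.node (.leaf 1081) (.leaf 1345))))) (.node (.node (.node (.node (.node (.leaf 118) (.leaf 654)) (.leaf 652)) (.node (.leaf 737) (.leaf 1270))) (.node (.node (.leaf 279) (.leaf 27))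 (.node (.leaf 810) (.leaf 1111)))) (.node (.node (.node (.leaf 320) (.leaf 229)) (.node (.leaf 928) (.leaf 312))) (.node (.node (.leaf 665) (.leaf 377)) (.node (.leaf 1130) (.leaf 891)))))) (.node (.node (.node (.node (.node (.node (.leaf 67) (.leaf 1143)) (.leaf 567)) (.node (.leaf 415) (.leaf 976))) (.node (.node (.leaf 463) (.leaf 1302)) (.node (.leaf 1000) (.leaf 42)))) (.node (.node (.node (.leaf 272) (.leaf 155)) (.node (.leaf 95) (.leaf 465))) (.node (.node (.leaf 619) (.leaf 933)) (.node (.leaf 216) (.leaf 1444))))) (.node (.node (.node (.node (.node (.leaf 170) (.leaf 882)) (.leaf 90)) (.node (.leaf 311) (.leaf 126))) (.node (.node (.leaf 192) (.leaf 778)) (.node (.leaf 1057) (.leaf 1439)))) (.node (.node (.node (.leaf 305) (.leaf 1020)) (.node (.leaf 943) (.leaf 529))) (.node (.node (.leaf 667) (.leaf 1166)) (.node (.leaf 118) (.leaf 186)))))))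

def bigNext5 : Janko.Tree (ℕ) :=
  (.node (.node (.node (.node (.node (.node (.node (.leaf 6) (.leaf 914)) (.leaf 18)) (.node (.leaf 739) (.leaf 753))) (.node (.node (.leaf 415) (.leaf 1312)) (.node (.leaf 211) (.leaf 748)))) (.node (.node (.node (.node (.leaf 133) (.leaf 1297)) (.leaf 1253)) (.node (.leaf 858) (.leaf 1420))) (.node (.node (.leaf 121) (.leaf 755)) (.node (.leaf 1082) (.leaf 1420))))) (.node (.node (.node (.node (.node (.leaf 119) (.leaf 958)) (.leaf 195)) (.node (.leaf 400) (.leaf 509))) (.node (.node (.leaf 502) (.leaf 1109)) (.node (.leaf 1028) (.leaf 1443)))) (.node (.node (.node (.leaf 159) (.leaf 111)) (.node (.leaf 626) (.leaf 971))) (.node (.node (.leaf 666) (.leaf 337)) (.node (.leaf 187) (.leaf 1315)))))) (.node (.node (.node (.node (.node (.node (.leaf 68) (.leaf 178)) (.leaf 1118)) (.node (.leaf 406) (.leaf 727))) (.node (.node (.leaf 464) (.leaf 1321)) (.node (.leaf 175) (.leaf 406)))) (.node (.node (.node (.leaf 216) (.leaf 1264)) (.node (.leaf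 891) (.leaf 1334))) (.node (.node (.leaf 620) (.leaf 1021)) (.node (.leaf 169) (.leaf 984))))) (.node (.node (.node (.node (.node (.leaf 171) (.leaf 934)) (.leaf 159)) (.node (.leaf 729) (.leaf 1127))) (.node (.node (.leaf 540) (.leaf 1102)) (.node (.leaf 833) (.leaf 295)))) (.node (.node (.node (.leaf 304) (.leaf 1116)) (.node (.leaf 851) (.leaf 138))) (.node (.node (.leaf 557) (.leaf 453)) (.node (.leaf 1112) (.leaf 1310)))))))

def bigNext6 : Janko.Tree (ℕ) :=
  (.node (.node (.node (.node (.node (.node (.node (.leaf 7) (.leaf 1445)) (.leaf 1174)) (.node (.leaf 679) (.leaf 778))) (.node (.node (.leaf 416) (.leaf 118)) (.node (.leaf 300) (.leaf 426)))) (.node (.node (.node (.node (.leaf 223) (.leaf 733)) (.leaf 1254)) (.node (.leaf 859) (.leaf 761))) (.node (.node (.leaf 580) (.leaf 1349)) (.node (.leaf 1083) (.leaf 393))))) (.node (.node (.node (.node (.node (.leaf 120) (.leaf 1427)) (.leaf 1214)) (.node (.leaf 800) (.leaf 1076))) (.node (.node (.leaf 503) (.leaf 219))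 (.node (.leaf 1029) (.leaf 1274)))) (.node (.node (.node (.leaf 0) (.leaf 161)) (.node (.leaf 929) (.leaf 335))) (.node (.node (.leaf 667) (.leaf 1239)) (.node (.leaf 1131) (.leaf 751)))))) (.node (.node (.node (.node (.node (.node (.leaf 69) (.leaf 1206)) (.leaf 96)) (.node (.leaf 374) (.leaf 606))) (.node (.node (.leaf 433) (.leaf 531)) (.node (.leaf 113) (.leaf 354)))) (.node (.node (.node (.leaf 273) (.leaf 924)) (.node (.leaf 892) (.leaf 1425))) (.node (.node (.leaf 621) (.leaf 641)) (.node (.leaf 197) (.leaf 131))))) (.node (.node (.node (.node (.node (.leaf 132) (.leaf 188)) (.leaf 992)) (.node (.leaf 86) (.leaf 927))) (.node (.node (.leaf 541) (.leaf 1172)) (.node (.leaf 672) (.leaf 1367)))) (.node (.node (.node (.leaf 357) (.leaf 805)) (.node (.leaf 832) (.leaf 1128))) (.node (.node (.leaf 606) (.leaf 1141)) (.node (.leaf 1159) (.leaf 1243)))))))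

def bigNext7 : Janko.Tree (ℕ) :=
  (.node (.node (.node (.node (.node (.node (.node (.leaf 8) (.leaf 1015)) (.leaf 156)) (.node (.leaf 740) (.leaf 1173))) (.node (.node (.leaf 383) (.leaf 1251)) (.node (.leaf 976) (.leaf 1354)))) (.node (.node (.node (.node (.leaf 152) (.leaf 1350)) (.leaf 1255)) (.node (.leaf 830) (.leaf 1421))) (.node (.node (.leaf 581) (.leaf 900)) (.node (.leaf 1084) (.leaf 1311))))) (.node (.node (.node (.node (.node (.leaf 121) (.leaf 944)) (.leaf 1153)) (.node (.leaf 801) (.leaf 1320))) (.node (.node (.leaf 504) (.leaf 913)) (.node (.leaf 1030) (.leaf 344)))) (.node (.node (.node (.leaf 321) (.leaf 1001)) (.node (.leaf 74) (.leaf 502))) (.node (.node (.leaf 259) (.leaf 358)) (.node (.leaf 137) (.leaf 179)))))) (.node (.node (.node (.node (.node (.node (.leaf 70) (.leaf 1447)) (.leaf 522)) (.node (.leaf 418) (.leaf 369))) (.node (.node (.leaf 465) (.leaf 990)) (.node (.leaf 1001) (.leaf 1387)))) (.node (.node (.node (.leaf 39) (.leaf 1265)) (.node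 (.leaf 893) (.leaf 1059))) (.node (.node (.leaf 80) (.leaf 1029)) (.node (.leaf 1109) (.leaf 775))))) (.node (.node (.node (.node (.node (.leaf 172) (.leaf 718)) (.leaf 183)) (.node (.leaf 144) (.leaf 1358))) (.node (.node (.leaf 378) (.leaf 585)) (.node (.leaf 609) (.leaf 215)))) (.node (.node (.node (.leaf 243) (.leaf 82)) (.node (.leaf 953) (.leaf 1057))) (.node (.node (.leaf 701) (.leaf 535)) (.node (.leaf 1138) (.leaf 1302)))))))

def bigNext8 : Janko.Tree (ℕ) :=
  (.node (.node (.node (.node (.node (.node (.node (.leaf 9) (.leaf 1274)) (.leaf 605)) (.node (.leaf 703) (.leaf 1389))) (.node (.node (.leaf 417) (.leaf 1246)) (.node (.leaf 430) (.leaf 344)))) (.node (.node (.node (.node (.leaf 151) (.leaf 474)) (.leaf 315)) (.node (.leaf 860) (.leaf 1332))) (.node (.node (.leaf 582) (.leaf 233)) (.node (.leaf 792) (.leaf 219))))) (.node (.node (.node (.node (.node (.leaf 122) (.leaf 1063)) (.leaf 1215)) (.node (.leaf 293) (.leaf 1389))) (.node (.node (.leaf 476) (.leaf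 496)) (.node (.leaf 149) (.leaf 1449)))) (.node (.node (.node (.leaf 31) (.leaf 989)) (.node (.leaf 930) (.leaf 466))) (.node (.node (.leaf 668) (.leaf 1258)) (.node (.leaf 949) (.leaf 561)))))) (.node (.node (.node (.node (.node (.node (.leaf 71) (.leaf 848)) (.leaf 1019)) (.node (.leaf 772) (.leaf 590))) (.node (.node (.leaf 215) (.leaf 649)) (.node (.leaf 450) (.leaf 276)))) (.node (.node (.node (.leaf 274) (.leaf 436)) (.node (.leaf 469) (.leaf 575))) (.node (.node (.leaf 622) (.leaf 898)) (.node (.leaf 134) (.leaf 957))))) (.node (.node (.node (.node (.node (.leaf 173) (.leaf 717)) (.leaf 1242)) (.node (.leaf 91) (.leaf 1072))) (.node (.node (.leaf 154) (.leaf 1212)) (.node (.leaf 634) (.leaf 451)))) (.node (.node (.node (.leaf 92) (.leaf 1299)) (.node (.leaf 771) (.leaf 316))) (.node (.node (.leaf 54) (.leaf 857)) (.node (.leaf 593) (.leaf 1396)))))))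

def bigNext9 : Janko.Tree (ℕ) :=
  (.node (.node (.node (.node (.node (.node (.node (.leaf 10) (.leaf 1444)) (.leaf 362)) (.node (.leaf 741) (.leaf 1288))) (.node (.node (.leaf 418) (.leaf 752)) (.node (.leaf 124) (.leaf 1433)))) (.node (.node (.node (.node (.leaf 213) (.leaf 1246)) (.leaf 353)) (.node (.leaf 861) (.leaf 207))) (.node (.node (.leaf 150) (.leaf 1282)) (.node (.leaf 171) (.leaf 1214))))) (.node (.node (.node (.node (.node (.leaf 123) (.leaf 643)) (.leaf 1216)) (.node (.leaf 542) (.leaf 686))) (.node (.node (.leaf 505) (.leaf 886)) (.node (.leaf 299) (.leaf 619)))) (.node (.node (.node (.leaf 322) (.leaf 787)) (.node (.leaf 931) (.leaf 1435))) (.node (.node (.leaf 242) (.leaf 102)) (.node (.leaf 1132) (.leaf 1319)))))) (.node (.node (.node (.node (.node (.node (.leaf 72) (.leaf 1419)) (.leaf 1056)) (.node (.leaf 678) (.leaf 562))) (.node (.node (.leaf 466) (.leaf 738)) (.node (.leaf 796) (.leaf 497)))) (.node (.node (.node (.leaf 19) (.leaf 1266)) (.node (.leaf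 320) (.leaf 448))) (.node (.node (.leaf 623) (.leaf 865)) (.node (.leaf 1110) (.leaf 1333))))) (.node (.node (.node (.node (.node (.leaf 174) (.leaf 1455)) (.leaf 994)) (.node (.leaf 40) (.leaf 845))) (.node (.node (.leaf 518) (.leaf 1262)) (.node (.leaf 944) (.leaf 1358)))) (.node (.node (.node (.leaf 368) (.leaf 1286)) (.node (.leaf 954) (.leaf 1402))) (.node (.node (.leaf 702) (.leaf 460)) (.node (.leaf 1033) (.leaf 489)))))))

def bigNext10 : Janko.Tree (ℕ) :=
  (.node (.node (.node (.node (.node (.node (.node (.leaf 11) (.leaf 697)) (.leaf 671)) (.node (.leaf 742) (.leaf 1351))) (.node (.node (.leaf 24) (.leaf 1291)) (.node (.leaf 977) (.leaf 494)))) (.node (.node (.node (.node (.leaf 224) (.leaf 69)) (.leaf 604)) (.node (.leaf 44) (.leaf 1422))) (.node (.node (.leaf 48) (.leaf 1255)) (.node (.leaf 908) (.leaf 1174))))) (.node (.node (.node (.node (.node (.leaf 6) (.leaf 1175)) (.leaf 252)) (.node (.leaf 9) (.leaf 167))) (.node (.node (.leaf 462) (.leaf 1082)) (.node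 (.leaf 833) (.leaf 1373)))) (.node (.node (.node (.leaf 323) (.leaf 699)) (.node (.leaf 280) (.leaf 492))) (.node (.node (.leaf 262) (.leaf 499)) (.node (.leaf 1133) (.leaf 601)))))) (.node (.node (.node (.node (.node (.node (.leaf 73) (.leaf 1402)) (.leaf 121)) (.node (.leaf 67) (.leaf 251))) (.node (.node (.leaf 467) (.leaf 500)) (.node (.leaf 804) (.leaf 1347)))) (.node (.node (.node (.leaf 275) (.leaf 1267)) (.node (.leaf 894) (.leaf 555))) (.node (.node (.leaf 624) (.leaf 582)) (.node (.leaf 474) (.leaf 826))))) (.node (.node (.node (.node (.node (.leaf 175) (.leaf 1457)) (.leaf 1191)) (.node (.leaf 71) (.leaf 637))) (.node (.node (.leaf 501) (.leaf 1288)) (.node (.leaf 1058) (.leaf 1209)))) (.node (.node (.node (.leaf 322) (.leaf 1300)) (.node (.leaf 946) (.leaf 415))) (.node (.node (.leaf 703) (.leaf 1377)) (.node (.leaf 576) (.leaf 1039)))))))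

def bigNext11 : Janko.Tree (ℕ) :=
  (.node (.node (.node (.node (.node (.node (.node (.leaf 12) (.leaf 1049)) (.leaf 1116)) (.node (.leaf 743) (.leaf 1132))) (.node (.node (.leaf 419) (.leaf 1313)) (.node (.leaf 647) (.leaf 279)))) (.node (.node (.node (.node (.leaf 185) (.leaf 1001)) (.leaf 1106)) (.node (.leaf 862) (.leaf 1040))) (.node (.node (.leaf 34) (.leaf 142)) (.node (.leaf 315) (.leaf 1193))))) (.node (.node (.node (.node (.node (.leaf 124) (.leaf 1026)) (.leaf 1079)) (.node (.leaf 802) (.leaf 1379))) (.node (.node (.leaf 506) (.leaf 1330)) (.node (.leaf 1031) (.leaf 788)))) (.node (.node (.node (.leaf 324) (.leaf 1283)) (.node (.leaf 932) (.leaf 1255))) (.node (.node (.leaf 114) (.leaf 1300)) (.node (.leaf 1134) (.leaf 1348)))))) (.node (.node (.node (.node (.node (.node (.leaf 74) (.leaf 358)) (.leaf 1192)) (.node (.leaf 471) (.leaf 618))) (.node (.node (.leaf 356) (.leaf 1286)) (.node (.leaf 722) (.leaf 588)))) (.node (.node (.node (.leaf 276) (.leaf 1268))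 (.node (.leaf 895) (.leaf 1081))) (.node (.node (.leaf 625) (.leaf 69)) (.node (.leaf 1111) (.leaf 760))))) (.node (.node (.node (.node (.node (.leaf 176) (.leaf 493)) (.leaf 1243)) (.node (.leaf 802) (.leaf 225))) (.node (.node (.leaf 542) (.leaf 172)) (.node (.leaf 538) (.leaf 388)))) (.node (.node (.node (.leaf 369) (.leaf 847)) (.node (.leaf 955) (.leaf 742))) (.node (.node (.leaf 704) (.leaf 1371)) (.node (.leaf 367) (.leaf 411)))))))

def bigNext12 : Janko.Tree (ℕ) :=
  (.node (.node (.node (.node (.node (.node (.node (.leaf 13) (.leaf 564)) (.leaf 1175)) (.node (.leaf 744) (.leaf 1390))) (.node (.node (.leaf 420) (.leaf 1314)) (.node (.leaf 343) (.leaf 482)))) (.node (.node (.node (.node (.leaf 225) (.leaf 873)) (.leaf 379)) (.node (.leaf 660) (.leaf 940))) (.node (.node (.leaf 63) (.leaf 655)) (.node (.leaf 337) (.leaf 811))))) (.node (.node (.node (.node (.node (.leaf 125) (.leaf 950)) (.leaf 691)) (.node (.leaf 94) (.leaf 1294))) (.node (.node (.leaf 507) (.leaf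 1331)) (.node (.leaf 673) (.leaf 479)))) (.node (.node (.node (.leaf 88) (.leaf 820)) (.node (.leaf 305) (.leaf 1434))) (.node (.node (.leaf 43) (.leaf 1368)) (.node (.leaf 1028) (.leaf 1248)))))) (.node (.node (.node (.node (.node (.node (.leaf 75) (.leaf 1165)) (.leaf 1193)) (.node (.leaf 89) (.leaf 909))) (.node (.node (.leaf 468) (.leaf 1224)) (.node (.leaf 782) (.leaf 1410)))) (.node (.node (.node (.leaf 277) (.leaf 468)) (.node (.leaf 708) (.leaf 969))) (.node (.node (.leaf 30) (.leaf 695)) (.node (.leaf 916) (.leaf 1449))))) (.node (.node (.node (.node (.node (.leaf 141) (.leaf 930)) (.leaf 1240)) (.node (.leaf 830) (.leaf 596))) (.node (.node (.leaf 417) (.leaf 130)) (.node (.leaf 405) (.leaf 1189)))) (.node (.node (.node (.leaf 370) (.leaf 110)) (.node (.leaf 936) (.leaf 444))) (.node (.node (.leaf 87) (.leaf 1378)) (.node (.leaf 239) (.leaf 1421)))))))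

def bigNext13 : Janko.Tree (ℕ) :=
  (.node (.node (.node (.node (.node (.node (.node (.leaf 14) (.leaf 1266)) (.leaf 1176)) (.node (.leaf 745) (.leaf 1276))) (.node (.node (.leaf 421) (.leaf 1196)) (.node (.leaf 978) (.leaf 1043)))) (.node (.node (.node (.node (.leaf 169) (.leaf 1378)) (.leaf 732)) (.node (.leaf 863) (.leaf 975))) (.node (.node (.leaf 583) (.leaf 1299)) (.node (.leaf 1085) (.leaf 626))))) (.node (.node (.node (.node (.node (.leaf 126) (.leaf 832)) (.leaf 1217)) (.node (.leaf 420) (.leaf 422))) (.node (.node (.leaf 141) (.leaf 1332)) (.node (.leaf 1003) (.leaf 1177)))) (.node (.node (.node (.leaf 325) (.leaf 734)) (.node (.leaf 821) (.leaf 596))) (.node (.node (.leaf 165) (.leaf 1369)) (.node (.leaf 1068) (.leaf 673)))))) (.node (.node (.node (.node (.node (.node (.leaf 76) (.leaf 1344)) (.leaf 1194)) (.node (.leaf 773) (.leaf 1377))) (.node (.node (.leaf 469) (.leaf 1316)) (.node (.leaf 1002) (.leaf 1182)))) (.node (.node (.node (.leaf 61) (.leaf 540))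 (.node (.leaf 896) (.leaf 997))) (.node (.node (.leaf 626) (.leaf 407)) (.node (.leaf 1095) (.leaf 184))))) (.node (.node (.node (.node (.node (.leaf 177) (.leaf 1238)) (.leaf 184)) (.node (.leaf 689) (.leaf 1046))) (.node (.node (.leaf 543) (.leaf 639)) (.node (.leaf 1059) (.leaf 1183)))) (.node (.node (.node (.leaf 371) (.leaf 1062)) (.node (.leaf 956) (.leaf 755))) (.node (.node (.leaf 21) (.leaf 409)) (.node (.leaf 1096) (.leaf 1073)))))))

def bigNext14 : Janko.Tree (ℕ) :=
  (.node (.node (.node (.node (.node (.node (.node (.leaf 15) (.leaf 882)) (.leaf 1177)) (.node (.leaf 746) (.leaf 1391))) (.node (.node (.leaf 422) (.leaf 697)) (.node (.leaf 17) (.leaf 1293)))) (.node (.node (.node (.node (.leaf 226) (.leaf 1118)) (.leaf 355)) (.node (.leaf 864) (.leaf 768))) (.node (.node (.leaf 550) (.leaf 1023)) (.node (.leaf 1086) (.leaf 472))))) (.node (.node (.node (.node (.node (.leaf 127) (.leaf 645)) (.leaf 139)) (.node (.leaf 218) (.leaf 1185))) (.node (.node (.leaf 469)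 (.leaf 1129)) (.node (.leaf 932) (.leaf 1392)))) (.node (.node (.node (.leaf 190) (.leaf 586)) (.node (.leaf 815) (.leaf 1395))) (.node (.node (.leaf 475) (.leaf 980)) (.node (.leaf 1135) (.leaf 302)))))) (.node (.node (.node (.node (.node (.node (.leaf 77) (.leaf 670)) (.leaf 905)) (.node (.leaf 774) (.leaf 1397))) (.node (.node (.leaf 370) (.leaf 1322)) (.node (.leaf 633) (.leaf 822)))) (.node (.node (.node (.leaf 278) (.leaf 1269)) (.node (.leaf 897) (.leaf 614))) (.node (.node (.leaf 627) (.leaf 1215)) (.node (.leaf 1075) (.leaf 1382))))) (.node (.node (.node (.node (.node (.leaf 90) (.leaf 1169)) (.leaf 398)) (.node (.leaf 188) (.leaf 1090))) (.node (.node (.leaf 544) (.leaf 1156)) (.node (.leaf 587) (.leaf 1451)))) (.node (.node (.node (.leaf 271) (.leaf 1104)) (.node (.leaf 957) (.leaf 754))) (.node (.node (.leaf 230) (.leaf 798)) (.node (.leaf 507) (.leaf 1353)))))))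

def bigNext15 : Janko.Tree (ℕ) :=
  (.node (.node (.node (.node (.node (.node (.node (.leaf 16) (.leaf 999)) (.leaf 1178)) (.node (.leaf 535) (.leaf 1141))) (.node (.node (.leaf 423) (.leaf 541)) (.node (.leaf 968) (.leaf 1304)))) (.node (.node (.node (.node (.leaf 227) (.leaf 989)) (.leaf 653)) (.node (.leaf 865) (.leaf 569))) (.node (.node (.leaf 584) (.leaf 200)) (.node (.leaf 938) (.leaf 1303))))) (.node (.node (.node (.node (.node (.leaf 128) (.leaf 867)) (.leaf 616)) (.node (.leaf 370) (.leaf 871))) (.node (.node (.leaf 508) (.leaf 222)) (.node (.leaf 677) (.leaf 1447)))) (.node (.node (.node (.leaf 326) (.leaf 1284)) (.node (.leaf 926) (.leaf 1257))) (.node (.node (.leaf 631) (.leaf 34)) (.node (.leaf 204) (.leaf 584)))))) (.node (.node (.node (.node (.node (.node (.leaf 78) (.leaf 642)) (.leaf 1045)) (.node (.leaf 292) (.leaf 773))) (.node (.node (.leaf 27) (.leaf 1256)) (.node (.leaf 1003) (.leaf 445)))) (.node (.node (.node (.leaf 129) (.leaf 1270)) (.node (.leaf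 898) (.leaf 1022))) (.node (.node (.leaf 390) (.leaf 1358)) (.node (.leaf 1112) (.leaf 920))))) (.node (.node (.node (.node (.node (.leaf 178) (.leaf 743)) (.leaf 860)) (.node (.leaf 831) (.leaf 928))) (.node (.node (.leaf 115) (.leaf 1096)) (.node (.leaf 467) (.leaf 313)))) (.node (.node (.node (.leaf 372) (.leaf 1199)) (.node (.leaf 433) (.leaf 16))) (.node (.node (.leaf 549) (.leaf 385)) (.node (.leaf 818) (.leaf 899)))))))

def bigNext16 : Janko.Tree (ℕ) :=
  (.node (.node (.node (.node (.node (.node (.node (.leaf 17) (.leaf 1078)) (.leaf 771)) (.node (.leaf 747) (.leaf 552))) (.node (.node (.leaf 30) (.leaf 990)) (.node (.leaf 387) (.leaf 1337)))) (.node (.node (.node (.node (.leaf 228) (.leaf 1134)) (.leaf 1256)) (.node (.leaf 866) (.leaf 1173))) (.node (.node (.leaf 585) (.leaf 586)) (.node (.leaf 1087) (.leaf 65))))) (.node (.node (.node (.node (.node (.leaf 12) (.leaf 918)) (.leaf 1218)) (.node (.leaf 682) (.leaf 1126))) (.node (.node (.leaf 229) (.leaf 62)) (.node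 (.leaf 676) (.leaf 985)))) (.node (.node (.node (.leaf 327) (.leaf 841)) (.node (.leaf 933) (.leaf 481))) (.node (.node (.leaf 630) (.leaf 403)) (.node (.leaf 1136) (.leaf 280)))))) (.node (.node (.node (.node (.node (.node (.leaf 79) (.leaf 1013)) (.leaf 907)) (.node (.leaf 775) (.leaf 1144))) (.node (.node (.leaf 470) (.leaf 1280)) (.node (.leaf 1004) (.leaf 847)))) (.node (.node (.node (.leaf 279) (.leaf 1271)) (.node (.leaf 899) (.leaf 1253))) (.node (.node (.leaf 628) (.leaf 721)) (.node (.leaf 794) (.leaf 1049))))) (.node (.node (.node (.node (.node (.leaf 179) (.leaf 574)) (.leaf 375)) (.node (.leaf 424) (.leaf 1411))) (.node (.node (.leaf 545) (.leaf 1151)) (.node (.leaf 709) (.leaf 784)))) (.node (.node (.node (.leaf 326) (.leaf 194)) (.node (.leaf 941) (.leaf 530))) (.node (.node (.leaf 705) (.leaf 1379)) (.node (.leaf 800) (.leaf 936)))))))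

def bigNext17 : Janko.Tree (ℕ) :=
  (.node (.node (.node (.node (.node (.node (.node (.leaf 18) (.leaf 1457)) (.leaf 1179)) (.node (.leaf 213) (.leaf 245))) (.node (.node (.leaf 424) (.leaf 531)) (.node (.leaf 979) (.leaf 1268)))) (.node (.node (.node (.node (.leaf 191) (.leaf 504)) (.leaf 44)) (.node (.leaf 867) (.leaf 762))) (.node (.node (.leaf 586) (.leaf 1282)) (.node (.leaf 907) (.leaf 520))))) (.node (.node (.node (.node (.node (.leaf 129) (.leaf 735)) (.leaf 1117)) (.node (.leaf 803) (.leaf 790))) (.node (.node (.leaf 509) (.leaf 308)) (.node (.leaf 1032) (.leaf 1343)))) (.node (.node (.node (.leaf 328) (.leaf 413)) (.node (.leaf 913) (.leaf 1160))) (.node (.node (.leaf 664) (.leaf 1370)) (.node (.leaf 1137) (.leaf 895)))))) (.node (.node (.node (.node (.node (.node (.leaf 80) (.leaf 676)) (.leaf 782)) (.node (.leaf 592) (.leaf 1398))) (.node (.node (.leaf 471) (.leaf 1237)) (.node (.leaf 26) (.leaf 1231)))) (.node (.node (.node (.leaf 280) (.leaf 170)) (.node (.leaf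 900) (.leaf 434))) (.node (.node (.leaf 55) (.leaf 1359)) (.node (.leaf 218) (.leaf 1323))))) (.node (.node (.node (.node (.node (.leaf 180) (.leaf 1150)) (.leaf 341)) (.node (.leaf 832) (.leaf 1337))) (.node (.node (.leaf 546) (.leaf 1111)) (.node (.leaf 1060) (.leaf 572)))) (.node (.node (.node (.leaf 334) (.leaf 1301)) (.node (.leaf 958) (.leaf 1441))) (.node (.node (.leaf 706) (.leaf 254)) (.node (.leaf 1147) (.leaf 479)))))))

def bigNext18 : Janko.Tree (ℕ) :=
  (.node (.node (.node (.node (.node (.node (.node (.leaf 19) (.leaf 196)) (.leaf 1180)) (.node (.leaf 1) (.leaf 1289))) (.node (.node (.leaf 425) (.leaf 352)) (.node (.leaf 190) (.leaf 1445)))) (.node (.node (.node (.node (.leaf 229) (.leaf 1381)) (.leaf 1251)) (.node (.leaf 868) (.leaf 270))) (.node (.node (.leaf 123) (.leaf 98)) (.node (.leaf 1088) (.leaf 689))))) (.node (.node (.node (.node (.node (.leaf 130) (.leaf 667)) (.leaf 1219)) (.node (.leaf 804) (.leaf 1260))) (.node (.node (.leaf 510) (.leaf 955))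 (.node (.leaf 1033) (.leaf 1060)))) (.node (.node (.node (.leaf 296) (.leaf 186)) (.node (.leaf 202) (.leaf 1384))) (.node (.node (.leaf 383) (.leaf 1162)) (.node (.leaf 1138) (.leaf 1269)))))) (.node (.node (.node (.node (.node (.node (.leaf 81) (.leaf 227)) (.leaf 1195)) (.node (.leaf 776) (.leaf 898))) (.node (.node (.leaf 472) (.leaf 838)) (.node (.leaf 814) (.leaf 17)))) (.node (.node (.node (.leaf 281) (.leaf 384)) (.node (.leaf 544) (.leaf 1234))) (.node (.node (.leaf 629) (.leaf 803)) (.node (.leaf 1113) (.leaf 1401))))) (.node (.node (.node (.node (.node (.leaf 181) (.leaf 859)) (.leaf 140)) (.node (.leaf 833) (.leaf 1304))) (.node (.node (.leaf 547) (.leaf 1129)) (.node (.leaf 1061) (.leaf 728)))) (.node (.node (.node (.leaf 373) (.leaf 1277)) (.node (.leaf 505) (.leaf 565))) (.node (.node (.leaf 38) (.leaf 809)) (.node (.leaf 1160) (.leaf 1374)))))))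

def bigNext19 : Janko.Tree (ℕ) :=
  (.node (.node (.node (.node (.node (.node (.node (.leaf 20) (.leaf 1388)) (.leaf 160)) (.node (.leaf 380) (.leaf 1122))) (.node (.node (.leaf 426) (.leaf 1103)) (.node (.leaf 401) (.leaf 332)))) (.node (.node (.node (.node (.leaf 174) (.leaf 988)) (.leaf 684)) (.node (.leaf 831) (.leaf 1056))) (.node (.node (.leaf 587) (.leaf 1347)) (.node (.leaf 772) (.leaf 1443))))) (.node (.node (.node (.node (.node (.leaf 131) (.leaf 257)) (.leaf 1220)) (.node (.leaf 805) (.leaf 100))) (.node (.node (.leaf 511) (.leaf 622)) (.node (.leaf 1034) (.leaf 1227)))) (.node (.node (.node (.leaf 329) (.leaf 707)) (.node (.leaf 620) (.leaf 1123))) (.node (.node (.leaf 11) (.leaf 1371)) (.node (.leaf 1139) (.leaf 135)))))) (.node (.node (.node (.node (.node (.node (.leaf 82) (.leaf 774)) (.leaf 1196)) (.node (.leaf 136) (.leaf 1399))) (.node (.node (.leaf 473) (.leaf 970)) (.node (.leaf 487) (.leaf 693)))) (.node (.node (.node (.leaf 282) (.leaf 1272)) (.node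 (.leaf 901) (.leaf 1422))) (.node (.node (.leaf 630) (.leaf 1360)) (.node (.leaf 193) (.leaf 1143))))) (.node (.node (.node (.node (.node (.leaf 182) (.leaf 1383)) (.leaf 1069)) (.node (.leaf 834) (.leaf 355))) (.node (.node (.leaf 548) (.leaf 1279)) (.node (.leaf 308) (.leaf 701)))) (.node (.node (.node (.leaf 168) (.leaf 1187)) (.node (.leaf 959) (.leaf 1346))) (.node (.node (.leaf 707) (.leaf 960)) (.node (.leaf 1142) (.leaf 998)))))))

def bigNext20 : Janko.Tree (ℕ) :=
  (.node (.node (.node (.node (.node (.node (.node (.leaf 21) (.leaf 1242)) (.leaf 912)) (.node (.leaf 748) (.leaf 1003))) (.node (.node (.leaf 427) (.leaf 1187)) (.node (.leaf 55) (.leaf 235)))) (.node (.node (.node (.node (.leaf 230) (.leaf 1390)) (.leaf 1257)) (.node (.leaf 806) (.leaf 1327))) (.node (.node (.leaf 552) (.leaf 291)) (.node (.leaf 1089) (.leaf 175))))) (.node (.node (.node (.node (.node (.leaf 132) (.leaf 651)) (.leaf 145)) (.node (.leaf 806) (.leaf 660))) (.node (.node (.leaf 512) (.leaf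 932)) (.node (.leaf 405) (.leaf 745)))) (.node (.node (.node (.leaf 153) (.leaf 615)) (.node (.leaf 917) (.leaf 1036))) (.node (.node (.leaf 669) (.leaf 849)) (.node (.leaf 1140) (.leaf 1263)))))) (.node (.node (.node (.node (.node (.node (.leaf 83) (.leaf 545)) (.leaf 597)) (.node (.leaf 659) (.leaf 1355))) (.node (.node (.leaf 474) (.leaf 1295)) (.node (.leaf 895) (.leaf 352)))) (.node (.node (.node (.leaf 283) (.leaf 628)) (.node (.leaf 902) (.leaf 260))) (.node (.node (.leaf 631) (.leaf 490)) (.node (.leaf 943) (.leaf 1322))))) (.node (.node (.node (.node (.node (.leaf 183) (.leaf 736)) (.leaf 947)) (.node (.leaf 820) (.leaf 719))) (.node (.node (.leaf 518) (.leaf 1297)) (.node (.leaf 589) (.leaf 836)))) (.node (.node (.node (.leaf 374) (.leaf 1302)) (.node (.leaf 960) (.leaf 1365))) (.node (.node (.leaf 605) (.leaf 645)) (.node (.leaf 947) (.leaf 1423)))))))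

def bigNext21 : Janko.Tree (ℕ) :=
  (.node (.node (.node (.node (.node (.node (.node (.leaf 22) (.leaf 421)) (.leaf 1005)) (.node (.leaf 688) (.leaf 1328))) (.node (.node (.leaf 428) (.leaf 1085)) (.node (.leaf 299) (.leaf 763)))) (.node (.node (.node (.node (.leaf 231) (.leaf 1203)) (.leaf 225)) (.node (.leaf 869) (.leaf 496))) (.node (.node (.leaf 557) (.leaf 1198)) (.node (.leaf 1065) (.leaf 978))))) (.node (.node (.node (.node (.node (.leaf 133) (.leaf 1388)) (.leaf 1221)) (.node (.leaf 511) (.leaf 1046))) (.node (.node (.leaf 272) (.leaf 498)) (.node (.leaf 1006) (.leaf 1271)))) (.node (.node (.node (.leaf 330) (.leaf 1285)) (.node (.leaf 934) (.leaf 1436))) (.node (.node (.leaf 257) (.leaf 861)) (.node (.leaf 1075) (.leaf 1208)))))) (.node (.node (.node (.node (.node (.node (.leaf 84) (.leaf 1338)) (.leaf 567)) (.node (.leaf 361) (.leaf 1153))) (.node (.node (.leaf 475) (.leaf 887)) (.node (.leaf 962) (.leaf 1448)))) (.node (.node (.node (.leaf 284) (.leaf 1247))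 (.node (.leaf 162) (.leaf 289))) (.node (.node (.leaf 181) (.leaf 187)) (.node (.leaf 214) (.leaf 1107))))) (.node (.node (.node (.node (.node (.leaf 9) (.leaf 1087)) (.leaf 1162)) (.node (.leaf 93) (.leaf 1412))) (.node (.node (.leaf 549) (.leaf 1340)) (.node (.leaf 419) (.leaf 682)))) (.node (.node (.node (.leaf 375) (.leaf 583)) (.node (.leaf 961) (.leaf 1267))) (.node (.node (.leaf 503) (.leaf 325)) (.node (.leaf 1161) (.leaf 644)))))))

def bigNext22 : Janko.Tree (ℕ) :=
  (.node (.node (.node (.node (.node (.node (.node (.leaf 23) (.leaf 1455)) (.leaf 766)) (.node (.leaf 749) (.leaf 1149))) (.node (.node (.leaf 429) (.leaf 1247)) (.node (.leaf 980) (.leaf 1064)))) (.node (.node (.node (.leaf 49) (.leaf 382)) (.node (.leaf 870) (.leaf 556))) (.node (.node (.leaf 588) (.leaf 539)) (.node (.leaf 680) (.leaf 1424))))) (.node (.node (.node (.node (.node (.leaf 134) (.leaf 1220)) (.leaf 1222)) (.node (.leaf 807) (.leaf 648))) (.node (.node (.leaf 233) (.leaf 1197)) (.node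 (.leaf 101) (.leaf 1243)))) (.node (.node (.node (.leaf 331) (.leaf 387)) (.node (.leaf 625) (.leaf 1418))) (.node (.node (.leaf 670) (.leaf 331)) (.node (.leaf 1141) (.leaf 201)))))) (.node (.node (.node (.node (.node (.node (.leaf 85) (.leaf 855)) (.leaf 1147)) (.node (.leaf 777) (.leaf 711))) (.node (.node (.leaf 380) (.leaf 1205)) (.node (.leaf 904) (.leaf 928)))) (.node (.node (.node (.leaf 15) (.leaf 164)) (.node (.leaf 193) (.leaf 668))) (.node (.node (.leaf 632) (.leaf 804)) (.node (.leaf 199) (.leaf 987))))) (.node (.node (.node (.node (.node (.leaf 184) (.leaf 290)) (.leaf 939)) (.node (.leaf 793) (.leaf 1413))) (.node (.node (.leaf 550) (.leaf 965)) (.node (.leaf 282) (.leaf 991)))) (.node (.node (.node (.leaf 376) (.leaf 1008)) (.node (.leaf 962) (.leaf 1254))) (.node (.node (.leaf 708) (.leaf 1380)) (.node (.leaf 623) (.leaf 376)))))))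

def bigNext23 : Janko.Tree (ℕ) :=
  (.node (.node (.node (.node (.node (.node (.node (.leaf 24) (.leaf 757)) (.leaf 702)) (.node (.leaf 750) (.leaf 811))) (.node (.node (.leaf 430) (.leaf 1256)) (.node (.leaf 981) (.leaf 1380)))) (.node (.node (.node (.leaf 182) (.leaf 707)) (.node (.leaf 871) (.leaf 1364))) (.node (.node (.leaf 124) (.leaf 1350)) (.node (.leaf 148) (.leaf 1403))))) (.node (.node (.node (.node (.node (.leaf 135) (.leaf 524)) (.leaf 1223)) (.node (.leaf 808) (.leaf 1400))) (.node (.node (.leaf 283) (.leaf 929)) (.node (.leaf 1035) (.leaf 473)))) (.node (.node (.node (.leaf 332) (.leaf 750)) (.node (.leaf 806) (.leaf 1131))) (.node (.node (.leaf 671) (.leaf 561)) (.node (.leaf 1030) (.leaf 1226)))))) (.node (.node (.node (.node (.node (.node (.leaf 86) (.leaf 1330)) (.leaf 726)) (.node (.leaf 778) (.leaf 1266))) (.node (.node (.leaf 476) (.leaf 925)) (.node (.leaf 513) (.leaf 1163)))) (.node (.node (.node (.leaf 185) (.leaf 632)) (.node (.leaf 903) (.leaf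 706))) (.node (.node (.leaf 241) (.leaf 391)) (.node (.leaf 1114) (.leaf 871))))) (.node (.node (.node (.node (.node (.leaf 185) (.leaf 404)) (.leaf 1180)) (.node (.leaf 73) (.leaf 485))) (.node (.node (.leaf 294) (.leaf 389)) (.node (.leaf 1062) (.leaf 1452)))) (.node (.node (.node (.leaf 377) (.leaf 1303)) (.node (.leaf 395) (.leaf 876))) (.node (.node (.leaf 709) (.leaf 1381)) (.node (.leaf 499) (.leaf 1159)))))))

def bigNext24 : Janko.Tree (ℕ) :=
  (.node (.node (.node (.node (.node (.node (.node (.leaf 25) (.leaf 612)) (.leaf 599)) (.node (.leaf 751) (.leaf 448))) (.node (.node (.leaf 431) (.leaf 1012)) (.node (.leaf 977) (.leaf 1108)))) (.node (.node (.node (.leaf 232) (.leaf 839)) (.node (.leaf 872) (.leaf 1259))) (.node (.node (.leaf 589) (.leaf 805)) (.node (.leaf 1090) (.leaf 969))))) (.node (.node (.node (.node (.node (.leaf 136) (.leaf 598)) (.leaf 1224)) (.node (.leaf 98) (.leaf 665))) (.node (.node (.leaf 513) (.leaf 424)) (.node (.leaf 672) (.leaf 1331))))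 (.node (.node (.node (.leaf 333) (.leaf 813)) (.node (.leaf 935) (.leaf 1293))) (.node (.node (.leaf 510) (.leaf 1132)) (.node (.leaf 1142) (.leaf 1348)))))) (.node (.node (.node (.node (.node (.node (.leaf 87) (.leaf 404)) (.leaf 1197)) (.node (.leaf 779) (.leaf 506))) (.node (.node (.leaf 411) (.leaf 1323)) (.node (.leaf 125) (.leaf 1000)))) (.node (.node (.node (.leaf 37) (.leaf 64)) (.node (.leaf 904) (.leaf 1412))) (.node (.node (.leaf 633) (.leaf 1250)) (.node (.leaf 8) (.leaf 1456))))) (.node (.node (.node (.node (.node (.leaf 186) (.leaf 573)) (.leaf 785)) (.node (.leaf 835) (.leaf 1414))) (.node (.node (.leaf 551) (.leaf 462)) (.node (.leaf 247) (.leaf 249)))) (.node (.node (.node (.leaf 378) (.leaf 568)) (.node (.leaf 509) (.leaf 228))) (.node (.node (.leaf 56) (.leaf 997)) (.node (.leaf 189) (.leaf 954)))))))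

def bigNext25 : Janko.Tree (ℕ) :=
  (.node (.node (.node (.node (.node (.node (.node (.leaf 26) (.leaf 746)) (.leaf 350)) (.node (.leaf 752) (.leaf 992))) (.node (.node (.leaf 432) (.leaf 1315)) (.node (.leaf 242) (.leaf 1415)))) (.node (.node (.node (.leaf 108) (.leaf 729)) (.node (.leaf 873) (.leaf 1102))) (.node (.node (.leaf 590) (.leaf 510)) (.node (.leaf 131) (.leaf 873))))) (.node (.node (.node (.node (.node (.leaf 137) (.leaf 316)) (.leaf 1225)) (.node (.leaf 809) (.leaf 664))) (.node (.node (.leaf 378) (.leaf 59)) (.node (.leaf 1036) (.leaf 544)))) (.node (.node (.node (.leaf 334) (.leaf 460)) (.node (.leaf 60) (.leaf 466))) (.node (.node (.leaf 244) (.leaf 1053)) (.node (.leaf 865) (.leaf 455)))))) (.node (.node (.node (.node (.node (.node (.leaf 88) (.leaf 656)) (.leaf 1198)) (.node (.leaf 780) (.leaf 523))) (.node (.node (.leaf 477) (.leaf 910)) (.node (.leaf 93) (.leaf 591)))) (.node (.node (.node (.leaf 285) (.leaf 319)) (.node (.leaf 905) (.leaf 967))) (.node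 (.node (.leaf 274) (.leaf 1352)) (.node (.leaf 398) (.leaf 1059))))) (.node (.node (.node (.node (.node (.leaf 187) (.leaf 1119)) (.leaf 1239)) (.node (.leaf 2) (.leaf 1000))) (.node (.node (.leaf 442) (.leaf 194)) (.node (.leaf 487) (.leaf 459)))) (.node (.node (.node (.leaf 379) (.leaf 1304)) (.node (.leaf 368) (.leaf 1280))) (.node (.node (.leaf 710) (.leaf 1076)) (.node (.leaf 844) (.leaf 1437)))))))

def bigNext26 : Janko.Tree (ℕ) :=
  (.node (.node (.node (.node (.node (.node (.node (.leaf 27) (.leaf 655)) (.leaf 1181)) (.node (.leaf 376) (.leaf 881))) (.node (.node (.leaf 433) (.leaf 203)) (.node (.leaf 419) (.leaf 1002)))) (.node (.node (.node (.leaf 233) (.leaf 1258)) (.node (.leaf 874) (.leaf 309))) (.node (.node (.leaf 591) (.leaf 482)) (.node (.leaf 154) (.leaf 1411))))) (.node (.node (.node (.node (.node (.leaf 138) (.leaf 1136)) (.leaf 1226)) (.node (.leaf 810) (.leaf 13))) (.node (.node (.leaf 255) (.leaf 698)) (.node (.leaf 723) (.leaf 1155)))) (.node (.node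 (.node (.leaf 335) (.leaf 425)) (.node (.leaf 936) (.leaf 1437))) (.node (.node (.leaf 672) (.leaf 1267)) (.node (.leaf 514) (.leaf 1435)))))) (.node (.node (.node (.node (.node (.node (.leaf 89) (.leaf 589)) (.leaf 953)) (.node (.leaf 764) (.leaf 1395))) (.node (.node (.leaf 478) (.leaf 908)) (.node (.leaf 1005) (.leaf 435)))) (.node (.node (.node (.leaf 286) (.leaf 41)) (.node (.leaf 381) (.leaf 1426))) (.node (.node (.leaf 634) (.leaf 353)) (.node (.leaf 526) (.leaf 1271))))) (.node (.node (.node (.node (.node (.leaf 188) (.leaf 1391)) (.leaf 1195)) (.node (.leaf 836) (.leaf 298))) (.node (.node (.leaf 176) (.leaf 812)) (.node (.leaf 579) (.leaf 61)))) (.node (.node (.node (.leaf 380) (.leaf 317)) (.node (.leaf 681) (.leaf 372))) (.node (.node (.leaf 607) (.leaf 36)) (.node (.leaf 291) (.leaf 201)))))))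

def bigNext27 : Janko.Tree (ℕ) :=
  (.node (.node (.node (.node (.node (.node (.node (.leaf 28) (.leaf 711)) (.leaf 1182)) (.node (.leaf 753) (.leaf 256))) (.node (.node (.leaf 434) (.leaf 1066)) (.node (.leaf 982) (.leaf 1370)))) (.node (.node (.node (.leaf 234) (.leaf 495)) (.node (.leaf 875) (.leaf 550))) (.node (.node (.leaf 592) (.leaf 117)) (.node (.leaf 109) (.leaf 901))))) (.node (.node (.node (.node (.node (.leaf 139) (.leaf 1396)) (.leaf 1227)) (.node (.leaf 505) (.leaf 263))) (.node (.node (.leaf 514) (.leaf 1333)) (.node (.leaf 1037) (.leaf 1363)))) (.node (.node (.node (.leaf 276) (.leaf 1286)) (.node (.leaf 937) (.leaf 1416))) (.node (.node (.leaf 260) (.leaf 140)) (.node (.leaf 1133) (.leaf 962)))))) (.node (.node (.node (.node (.node (.node (.leaf 90) (.leaf 1341)) (.leaf 1189)) (.node (.leaf 195) (.leaf 1281))) (.node (.node (.leaf 479) (.leaf 888)) (.node (.leaf 1006) (.leaf 434)))) (.node (.node (.node (.leaf 287) (.leaf 1192)) (.node (.leaf 173) (.leaf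 209))) (.node (.node (.leaf 635) (.leaf 1340)) (.node (.leaf 382) (.leaf 856))))) (.node (.node (.node (.node (.node (.leaf 189) (.leaf 685)) (.leaf 995)) (.node (.leaf 837) (.leaf 1074))) (.node (.node (.leaf 86) (.leaf 713)) (.node (.leaf 1063) (.leaf 1368)))) (.node (.node (.node (.leaf 381) (.leaf 456)) (.node (.leaf 583) (.leaf 275))) (.node (.node (.leaf 711) (.leaf 1229)) (.node (.leaf 1113) (.leaf 1238)))))))

def bigNext28 : Janko.Tree (ℕ) :=
  (.node (.node (.node (.node (.node (.node (.node (.leaf 29) (.leaf 1039)) (.leaf 364)) (.node (.leaf 754) (.leaf 1312))) (.node (.node (.leaf 435) (.leaf 1008)) (.node (.leaf 983) (.leaf 883)))) (.node (.node (.node (.leaf 235) (.leaf 904)) (.node (.leaf 751) (.leaf 562))) (.node (.node (.leaf 173) (.leaf 1137)) (.node (.leaf 105) (.leaf 1422))))) (.node (.node (.node (.node (.node (.leaf 140) (.leaf 1158)) (.leaf 794)) (.node (.leaf 410) (.leaf 902))) (.node (.node (.leaf 515) (.leaf 658)) (.node (.leaf 705) (.leaf 1398))))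 (.node (.node (.node (.leaf 336) (.leaf 1272)) (.node (.leaf 234) (.leaf 988))) (.node (.node (.leaf 265) (.leaf 1324)) (.node (.leaf 1143) (.leaf 306)))))) (.node (.node (.node (.node (.node (.node (.leaf 91) (.leaf 1130)) (.leaf 1199)) (.node (.leaf 692) (.leaf 675))) (.node (.node (.leaf 480) (.leaf 912)) (.node (.leaf 1007) (.leaf 1438)))) (.node (.node (.node (.leaf 21) (.leaf 627)) (.node (.leaf 262) (.leaf 339))) (.node (.node (.leaf 636) (.leaf 1077)) (.node (.leaf 401) (.leaf 815))))) (.node (.node (.node (.node (.node (.leaf 190) (.leaf 1058)) (.leaf 1244)) (.node (.leaf 629) (.leaf 123))) (.node (.node (.leaf 552) (.leaf 94)) (.node (.leaf 1064) (.leaf 72)))) (.node (.node (.node (.leaf 182) (.leaf 945)) (.node (.leaf 963) (.leaf 314))) (.node (.node (.leaf 712) (.leaf 264)) (.node (.leaf 668) (.leaf 1313)))))))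

def bigNext29 : Janko.Tree (ℕ) :=
  (.node (.node (.node (.node (.node (.node (.node (.leaf 30) (.leaf 1152)) (.leaf 1164)) (.node (.leaf 755) (.leaf 1167))) (.node (.node (.leaf 436) (.leaf 180)) (.node (.leaf 657) (.leaf 1414)))) (.node (.node (.node (.leaf 236) (.leaf 1099)) (.node (.leaf 876) (.leaf 1037))) (.node (.node (.leaf 593) (.leaf 1339)) (.node (.leaf 5) (.leaf 592))))) (.node (.node (.node (.node (.node (.leaf 141) (.leaf 931)) (.leaf 1057)) (.node (.leaf 453) (.leaf 1406))) (.node (.node (.leaf 516) (.leaf 1334)) (.node (.leaf 700) (.leaf 1368)))) (.node (.node (.node (.leaf 337) (.leaf 900)) (.node (.leaf 923) (.leaf 731))) (.node (.node (.leaf 673) (.leaf 1372)) (.node (.leaf 666) (.leaf 241)))))) (.node (.node (.node (.node (.node (.node (.leaf 42) (.leaf 539)) (.leaf 1200)) (.node (.leaf 757) (.leaf 1400))) (.node (.node (.leaf 481) (.leaf 1324)) (.node (.leaf 1008) (.leaf 1442)))) (.node (.node (.node (.leaf 288) (.leaf 860)) (.node (.leaf 29) (.leaf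 1427))) (.node (.node (.leaf 637) (.leaf 1361)) (.node (.leaf 31) (.leaf 1399))))) (.node (.node (.node (.node (.node (.leaf 191) (.leaf 608)) (.leaf 1037)) (.node (.leaf 741) (.leaf 773))) (.node (.node (.leaf 553) (.leaf 1094)) (.node (.leaf 1065) (.leaf 627)))) (.node (.node (.node (.leaf 382) (.leaf 1268)) (.node (.leaf 717) (.leaf 728))) (.node (.node (.leaf 590) (.leaf 301)) (.node (.leaf 1162) (.leaf 712)))))))

def bigNext30 : Janko.Tree (ℕ) :=
  (.node (.node (.node (.node (.node (.node (.node (.leaf 31) (.leaf 1421)) (.leaf 231)) (.node (.leaf 756) (.leaf 1273))) (.node (.node (.leaf 437) (.leaf 636)) (.node (.leaf 817) (.leaf 507)))) (.node (.node (.node (.leaf 237) (.leaf 1259)) (.node (.leaf 877) (.leaf 1423))) (.node (.node (.leaf 594) (.leaf 1095)) (.node (.leaf 1091) (.leaf 563))))) (.node (.node (.node (.node (.node (.leaf 142) (.leaf 801)) (.leaf 821)) (.node (.leaf 206) (.leaf 497))) (.node (.node (.leaf 517) (.leaf 604)) (.node (.leaf 674) (.leaf 1309))))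 (.node (.node (.node (.leaf 338) (.leaf 1188)) (.node (.leaf 253) (.leaf 758))) (.node (.node (.leaf 321) (.leaf 1070)) (.node (.leaf 1071) (.leaf 948)))))) (.node (.node (.node (.node (.node (.node (.leaf 92) (.leaf 1237)) (.leaf 1201)) (.node (.leaf 781) (.leaf 1018))) (.node (.node (.leaf 482) (.leaf 236)) (.node (.leaf 221) (.leaf 975)))) (.node (.node (.node (.leaf 0) (.leaf 1273)) (.node (.leaf 144) (.leaf 1332))) (.node (.node (.leaf 630) (.leaf 386)) (.node (.leaf 111) (.leaf 788))))) (.node (.node (.node (.node (.node (.leaf 112) (.leaf 128)) (.leaf 974)) (.node (.leaf 838) (.leaf 1047))) (.node (.node (.leaf 150) (.leaf 1341)) (.node (.leaf 1066) (.leaf 814)))) (.node (.node (.node (.leaf 383) (.leaf 108)) (.node (.leaf 429) (.leaf 607))) (.node (.node (.leaf 713) (.leaf 580)) (.node (.leaf 1163) (.leaf 1330)))))))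

def bigNext31 : Janko.Tree (ℕ) :=
  (.node (.node (.node (.node (.node (.node (.node (.leaf 32) (.leaf 119)) (.leaf 921)) (.node (.leaf 757) (.leaf 527))) (.node (.node (.leaf 438) (.leaf 500)) (.node (.leaf 461) (.leaf 1432)))) (.node (.node (.node (.leaf 238) (.leaf 1135)) (.node (.leaf 878) (.leaf 1312))) (.node (.node (.leaf 595) (.leaf 1351)) (.node (.leaf 146) (.leaf 1429))))) (.node (.node (.node (.node (.node (.leaf 143) (.leaf 437)) (.leaf 1228)) (.node (.leaf 811) (.leaf 1114))) (.node (.node (.leaf 137) (.leaf 1240)) (.node (.leaf 652) (.leaf 600)))) (.node (.node (.node (.leaf 339) (.leaf 454)) (.node (.leaf 493) (.leaf 1089))) (.node (.node (.leaf 674) (.leaf 1306)) (.node (.leaf 101) (.leaf 897)))))) (.node (.node (.node (.node (.node (.node (.leaf 62) (.leaf 1210)) (.leaf 1202)) (.node (.leaf 782) (.leaf 467))) (.node (.node (.leaf 483) (.leaf 428)) (.node (.leaf 1009) (.leaf 476)))) (.node (.node (.node (.leaf 289) (.leaf 1274)) (.node (.leaf 906) (.leaf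 558))) (.node (.node (.leaf 638) (.leaf 891)) (.node (.leaf 318) (.leaf 566))))) (.node (.node (.node (.node (.node (.leaf 192) (.leaf 957)) (.leaf 1241)) (.node (.leaf 685) (.leaf 1394))) (.node (.node (.leaf 538) (.leaf 266)) (.node (.leaf 981) (.leaf 1284)))) (.node (.node (.node (.leaf 384) (.leaf 1303)) (.node (.leaf 158) (.leaf 996))) (.node (.node (.leaf 74) (.leaf 1006)) (.node (.leaf 1164) (.leaf 1169)))))))

def bigNext32 : Janko.Tree (ℕ) :=
  (.node (.node (.node (.node (.node (.node (.node (.leaf 33) (.leaf 1233)) (.leaf 1045)) (.node (.leaf 614) (.leaf 1392))) (.node (.node (.leaf 439) (.leaf 1194)) (.node (.leaf 984) (.leaf 1253)))) (.node (.node (.node (.leaf 239) (.leaf 864)) (.node (.leaf 120) (.leaf 313))) (.node (.node (.leaf 596) (.leaf 1323)) (.node (.leaf 1092) (.leaf 1157))))) (.node (.node (.node (.node (.node (.leaf 144) (.leaf 1252)) (.leaf 1165)) (.node (.leaf 812) (.leaf 1188))) (.node (.node (.leaf 518) (.leaf 1335)) (.node (.leaf 1038) (.leaf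 1106)))) (.node (.node (.node (.leaf 340) (.leaf 478)) (.node (.leaf 938) (.leaf 1413))) (.node (.node (.leaf 675) (.leaf 440)) (.node (.leaf 439) (.leaf 1319)))))) (.node (.node (.node (.node (.node (.node (.leaf 93) (.leaf 371)) (.leaf 470)) (.node (.leaf 783) (.leaf 776))) (.node (.node (.leaf 484) (.leaf 362)) (.node (.leaf 961) (.leaf 1339)))) (.node (.node (.node (.leaf 290) (.leaf 850)) (.node (.leaf 907) (.leaf 1428))) (.node (.node (.leaf 639) (.leaf 1133)) (.node (.leaf 739) (.leaf 1451))))) (.node (.node (.node (.node (.node (.leaf 193) (.leaf 1087)) (.leaf 449)) (.node (.leaf 288) (.leaf 333))) (.node (.node (.leaf 472) (.leaf 1329)) (.node (.leaf 1067) (.leaf 1353)))) (.node (.node (.node (.leaf 385) (.leaf 894)) (.node (.leaf 776) (.leaf 1440))) (.node (.node (.leaf 714) (.leaf 447)) (.node (.leaf 1123) (.leaf 807)))))))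

def bigNext33 : Janko.Tree (ℕ) :=
  (.node (.node (.node (.node (.node (.node (.node (.leaf 34) (.leaf 269)) (.leaf 615)) (.node (.leaf 758) (.leaf 1186))) (.node (.node (.leaf 440) (.leaf 1200)) (.node (.leaf 985) (.leaf 849)))) (.node (.node (.node (.leaf 240) (.leaf 966)) (.node (.leaf 879) (.leaf 1217))) (.node (.node (.leaf 597) (.leaf 736)) (.node (.leaf 1093) (.leaf 1426))))) (.node (.node (.node (.node (.node (.leaf 145) (.leaf 1361)) (.leaf 1229)) (.node (.leaf 220) (.leaf 1333))) (.node (.node (.leaf 519) (.leaf 168)) (.node (.leaf 329) (.leaf 1007)))) (.node (.node (.node (.leaf 341) (.leaf 553)) (.node (.leaf 939) (.leaf 868))) (.node (.node (.leaf 676) (.leaf 746)) (.node (.leaf 120) (.leaf 1283)))))) (.node (.node (.node (.node (.node (.node (.leaf 94) (.leaf 565)) (.leaf 1203)) (.node (.leaf 784) (.leaf 28))) (.node (.node (.leaf 325) (.leaf 880)) (.node (.leaf 1010) (.leaf 1417)))) (.node (.node (.node (.leaf 291) (.leaf 1167)) (.node (.leaf 908) (.leaf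 392))) (.node (.node (.leaf 640) (.leaf 723)) (.node (.leaf 1105) (.leaf 1439))))) (.node (.node (.node (.node (.node (.leaf 194) (.leaf 1024)) (.leaf 1235)) (.node (.leaf 839) (.leaf 1359))) (.node (.node (.leaf 261) (.leaf 220)) (.node (.leaf 1018) (.leaf 852)))) (.node (.node (.node (.leaf 386) (.leaf 638)) (.node (.leaf 884) (.leaf 1084))) (.node (.node (.leaf 715) (.leaf 1382)) (.node (.leaf 1156) (.leaf 1073)))))))

def bigNext34 : Janko.Tree (ℕ) :=
  (.node (.node (.node (.node (.node (.node (.node (.leaf 35) (.leaf 1028)) (.leaf 629)) (.node (.leaf 739) (.leaf 183))) (.node (.node (.leaf 441) (.leaf 643)) (.node (.leaf 986) (.leaf 1446)))) (.node (.node (.node (.leaf 241) (.leaf 1260)) (.node (.leaf 619) (.leaf 1264))) (.node (.node (.leaf 598) (.leaf 1140)) (.node (.leaf 1094) (.leaf 834))))) (.node (.node (.node (.node (.node (.leaf 146) (.leaf 1376)) (.leaf 1230)) (.node (.leaf 779) (.leaf 1207))) (.node (.node (.leaf 365) (.leaf 984)) (.node (.leaf 1039) (.leaf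 1082)))) (.node (.node (.node (.leaf 342) (.leaf 1287)) (.node (.leaf 876) (.leaf 1382))) (.node (.node (.leaf 677) (.leaf 278)) (.node (.leaf 985) (.leaf 935)))))) (.node (.node (.node (.node (.node (.node (.leaf 95) (.leaf 1041)) (.leaf 1204)) (.node (.leaf 785) (.leaf 1091))) (.node (.node (.leaf 0) (.leaf 1281)) (.node (.leaf 1011) (.leaf 1408)))) (.node (.node (.node (.leaf 292) (.leaf 910)) (.node (.leaf 879) (.leaf 294))) (.node (.node (.leaf 312) (.leaf 1151)) (.node (.leaf 237) (.leaf 1393))))) (.node (.node (.node (.node (.node (.leaf 195) (.leaf 640)) (.leaf 246)) (.node (.leaf 840) (.leaf 1415))) (.node (.node (.leaf 554) (.leaf 1342)) (.node (.leaf 1052) (.leaf 402)))) (.node (.node (.node (.leaf 387) (.leaf 1146)) (.node (.leaf 196) (.leaf 1424))) (.node (.node (.leaf 716) (.leaf 1060)) (.node (.leaf 248) (.leaf 1244)))))))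

def bigNext35 : Janko.Tree (ℕ) :=
  (.node (.node (.node (.node (.node (.node (.node (.leaf 36) (.leaf 1053)) (.leaf 33)) (.node (.leaf 759) (.leaf 963))) (.node (.node (.leaf 442) (.leaf 534)) (.node (.leaf 618) (.leaf 1436)))) (.node (.node (.node (.leaf 242) (.leaf 1261)) (.node (.leaf 880) (.leaf 1160))) (.node (.node (.leaf 323) (.leaf 551)) (.node (.leaf 287) (.leaf 1374))))) (.node (.node (.node (.node (.node (.leaf 147) (.leaf 1456)) (.leaf 1231)) (.node (.leaf 450) (.leaf 1063))) (.node (.node (.leaf 520) (.leaf 1079)) (.node (.leaf 1040) (.leaf 470)))) (.node (.node (.node (.leaf 343) (.leaf 1288)) (.node (.leaf 940) (.leaf 1202))) (.node (.node (.leaf 678) (.leaf 446)) (.node (.leaf 367) (.leaf 917)))))) (.node (.node (.node (.node (.node (.node (.leaf 48) (.leaf 885)) (.leaf 1205)) (.node (.leaf 786) (.leaf 1401))) (.node (.node (.leaf 239) (.leaf 1048)) (.node (.leaf 1012) (.leaf 1441)))) (.node (.node (.node (.leaf 293) (.leaf 1275)) (.node (.leaf 760) (.leaf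 1009))) (.node (.node (.leaf 623) (.leaf 611)) (.node (.leaf 91) (.leaf 1181))))) (.node (.node (.node (.node (.node (.leaf 196) (.leaf 958)) (.leaf 1245)) (.node (.leaf 81) (.leaf 468))) (.node (.node (.leaf 555) (.leaf 1139)) (.node (.leaf 824) (.leaf 1124)))) (.node (.node (.node (.leaf 388) (.leaf 960)) (.node (.leaf 872) (.leaf 600))) (.node (.node (.leaf 717) (.leaf 1383)) (.node (.leaf 1067) (.leaf 1236)))))))

def bigNext36 : Janko.Tree (ℕ) :=
  (.node (.node (.node (.node (.node (.node (.node (.leaf 37) (.leaf 665)) (.leaf 126)) (.node (.leaf 760) (.leaf 1393))) (.node (.node (.leaf 443) (.leaf 1305)) (.node (.leaf 987) (.leaf 874)))) (.node (.node (.node (.leaf 243) (.leaf 971)) (.node (.leaf 526) (.leaf 580))) (.node (.node (.leaf 599) (.leaf 670)) (.node (.leaf 1095) (.leaf 1338))))) (.node (.node (.node (.node (.node (.leaf 148) (.leaf 712)) (.leaf 1232)) (.node (.leaf 797) (.leaf 1322))) (.node (.node (.leaf 521) (.leaf 449)) (.node (.leaf 1041) (.leaf 816))))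 (.node (.node (.node (.leaf 344) (.leaf 786)) (.node (.leaf 941) (.leaf 1025))) (.node (.node (.leaf 255) (.leaf 408)) (.node (.leaf 1144) (.leaf 768)))))) (.node (.node (.node (.node (.node (.node (.leaf 96) (.leaf 854)) (.leaf 1190)) (.node (.leaf 691) (.leaf 1318))) (.node (.node (.leaf 485) (.leaf 1197)) (.node (.leaf 1013) (.leaf 686)))) (.node (.node (.node (.leaf 294) (.leaf 777)) (.node (.leaf 909) (.leaf 1429))) (.node (.node (.leaf 641) (.leaf 463)) (.node (.leaf 457) (.leaf 516))))) (.node (.node (.node (.node (.node (.leaf 197) (.leaf 489)) (.leaf 716)) (.node (.leaf 841) (.leaf 356))) (.node (.node (.leaf 138) (.leaf 247)) (.node (.leaf 1068) (.leaf 1386)))) (.node (.node (.node (.leaf 389) (.leaf 522)) (.node (.leaf 495) (.leaf 742))) (.node (.node (.leaf 718) (.leaf 1366)) (.node (.leaf 1165) (.leaf 937)))))))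

def bigNext37 : Janko.Tree (ℕ) :=
  (.node (.node (.node (.node (.node (.node (.node (.leaf 38) (.leaf 1300)) (.leaf 569)) (.node (.leaf 761) (.leaf 1349))) (.node (.node (.leaf 444) (.leaf 1316)) (.node (.leaf 720) (.leaf 1371)))) (.node (.node (.node (.leaf 244) (.leaf 714)) (.node (.leaf 881) (.leaf 825))) (.node (.node (.leaf 600) (.leaf 1352)) (.node (.leaf 96) (.leaf 136))))) (.node (.node (.node (.node (.node (.leaf 149) (.leaf 1121)) (.leaf 613)) (.node (.leaf 813) (.leaf 790))) (.node (.node (.leaf 522) (.leaf 1103)) (.node (.leaf 1042) (.leaf 135)))) (.node (.node (.node (.leaf 345) (.leaf 1021)) (.node (.leaf 886) (.leaf 902))) (.node (.node (.leaf 679) (.leaf 226)) (.node (.leaf 1145) (.leaf 106)))))) (.node (.node (.node (.node (.node (.node (.leaf 1) (.leaf 1453)) (.leaf 1178)) (.node (.leaf 351) (.leaf 1024))) (.node (.node (.leaf 391) (.leaf 1204)) (.node (.leaf 828) (.leaf 730)))) (.node (.node (.node (.leaf 295) (.leaf 1276)) (.node (.leaf 910) (.leaf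 1430))) (.node (.node (.leaf 306) (.leaf 412)) (.node (.leaf 20) (.leaf 737))))) (.node (.node (.node (.node (.node (.leaf 198) (.leaf 1083)) (.leaf 979)) (.node (.leaf 842) (.leaf 107))) (.node (.node (.leaf 556) (.leaf 941)) (.node (.leaf 1069) (.leaf 893)))) (.node (.node (.node (.leaf 390) (.leaf 1030)) (.node (.leaf 964) (.leaf 799))) (.node (.node (.leaf 719) (.leaf 266)) (.node (.leaf 1166) (.leaf 624)))))))

def bigNext38 : Janko.Tree (ℕ) :=
  (.node (.node (.node (.node (.node (.node (.node (.leaf 39) (.leaf 1306)) (.leaf 718)) (.node (.leaf 732) (.leaf 635))) (.node (.node (.leaf 445) (.leaf 1108)) (.node (.leaf 988) (.leaf 888)))) (.node (.node (.node (.leaf 245) (.leaf 1047)) (.node (.leaf 882) (.leaf 560))) (.node (.node (.leaf 601) (.leaf 1191)) (.node (.leaf 1096) (.leaf 855))))) (.node (.node (.node (.node (.node (.leaf 150) (.leaf 940)) (.leaf 846)) (.node (.leaf 282) (.leaf 1154))) (.node (.node (.leaf 70) (.leaf 846)) (.node (.leaf 1043) (.leaf 268))))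 (.node (.node (.node (.leaf 346) (.leaf 310)) (.node (.leaf 79) (.leaf 1320))) (.node (.node (.leaf 680) (.leaf 23)) (.node (.leaf 744) (.leaf 1104)))))) (.node (.node (.node (.node (.node (.node (.leaf 97) (.leaf 922)) (.leaf 1069)) (.node (.leaf 787) (.leaf 1376))) (.node (.node (.leaf 486) (.leaf 1223)) (.node (.leaf 1014) (.leaf 338)))) (.node (.node (.node (.leaf 296) (.leaf 423)) (.node (.leaf 911) (.leaf 1431))) (.node (.node (.leaf 642) (.leaf 1214)) (.node (.leaf 1115) (.leaf 1356))))) (.node (.node (.node (.node (.node (.leaf 199) (.leaf 1252)) (.leaf 1246)) (.node (.leaf 122) (.leaf 767))) (.node (.node (.leaf 557) (.leaf 852)) (.node (.leaf 955) (.leaf 208)))) (.node (.node (.node (.leaf 391) (.leaf 853)) (.node (.leaf 825) (.leaf 861))) (.node (.node (.leaf 720) (.leaf 694)) (.node (.leaf 1167) (.leaf 1417)))))))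

def bigNext39 : Janko.Tree (ℕ) :=
  (.node (.node (.node (.node (.node (.node (.node (.leaf 40) (.leaf 438)) (.leaf 1183)) (.node (.leaf 105) (.leaf 661))) (.node (.node (.leaf 446) (.leaf 1317)) (.node (.leaf 989) (.leaf 1430)))) (.node (.node (.node (.leaf 246) (.leaf 127)) (.node (.leaf 883) (.leaf 1397))) (.node (.node (.leaf 602) (.leaf 923)) (.node (.leaf 570) (.leaf 1158))))) (.node (.node (.node (.node (.node (.leaf 151) (.leaf 807)) (.leaf 631)) (.node (.leaf 814) (.leaf 521))) (.node (.node (.leaf 351) (.leaf 1007)) (.node (.leaf 1044) (.leaf 1176)))) (.node (.node (.node (.leaf 278) (.leaf 1219)) (.node (.leaf 942) (.leaf 1438))) (.node (.node (.leaf 334) (.leaf 797)) (.node (.leaf 1146) (.leaf 1086)))))) (.node (.node (.node (.node (.node (.node (.leaf 98) (.leaf 1435)) (.leaf 1206)) (.node (.leaf 788) (.leaf 715))) (.node (.node (.leaf 487) (.leaf 1071)) (.node (.leaf 1015) (.leaf 1023)))) (.node (.node (.node (.leaf 297) (.leaf 1277)) (.node (.leaf 894) (.leaf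 1432))) (.node (.node (.leaf 643) (.leaf 929)) (.node (.leaf 396) (.leaf 1050))))) (.node (.node (.node (.node (.node (.leaf 200) (.leaf 1208)) (.leaf 766)) (.node (.leaf 843) (.leaf 360))) (.node (.node (.leaf 558) (.leaf 161)) (.node (.leaf 1070) (.leaf 622)))) (.node (.node (.node (.leaf 392) (.leaf 1192)) (.node (.leaf 701) (.leaf 1442))) (.node (.node (.leaf 721) (.leaf 1199)) (.node (.leaf 878) (.leaf 1228)))))))

def bigNext40 : Janko.Tree (ℕ) :=
  (.node (.node (.node (.node (.node (.node (.node (.leaf 41) (.leaf 1107)) (.leaf 616)) (.node (.leaf 51) (.leaf 829))) (.node (.node (.leaf 447) (.leaf 1275)) (.node (.leaf 990) (.leaf 1278)))) (.node (.node (.node (.leaf 247) (.leaf 982)) (.node (.leaf 749) (.leaf 578))) (.node (.node (.leaf 603) (.leaf 823)) (.node (.leaf 1097) (.leaf 1453))))) (.node (.node (.node (.node (.node (.leaf 152) (.leaf 484)) (.leaf 1185)) (.node (.leaf 815) (.leaf 1172))) (.node (.node (.leaf 217) (.leaf 1241)) (.node (.leaf 696) (.leaf 688))))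 (.node (.node (.node (.leaf 347) (.leaf 240)) (.node (.leaf 943) (.leaf 1425))) (.node (.node (.leaf 681) (.leaf 438)) (.node (.leaf 263) (.leaf 1419)))))) (.node (.node (.node (.node (.node (.node (.leaf 14) (.leaf 1375)) (.leaf 897)) (.node (.leaf 147) (.leaf 1402))) (.node (.node (.leaf 488) (.leaf 666)) (.node (.leaf 1016) (.leaf 1310)))) (.node (.node (.node (.leaf 298) (.leaf 835)) (.node (.leaf 394) (.leaf 1363))) (.node (.node (.leaf 644) (.leaf 698)) (.node (.leaf 384) (.leaf 1130))))) (.node (.node (.node (.node (.node (.leaf 201) (.leaf 866)) (.leaf 1247)) (.node (.leaf 237) (.leaf 322))) (.node (.node (.leaf 286) (.leaf 1031)) (.node (.leaf 1071) (.leaf 816)))) (.node (.node (.node (.leaf 393) (.leaf 236)) (.node (.leaf 965) (.leaf 878))) (.node (.node (.leaf 722) (.leaf 675)) (.node (.leaf 1122) (.leaf 1432)))))))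

def bigNext41 : Janko.Tree (ℕ) :=
  (.node (.node (.node (.node (.node (.node (.node (.leaf 42) (.leaf 1124)) (.leaf 1184)) (.node (.leaf 57) (.leaf 1394))) (.node (.node (.leaf 448) (.leaf 1164)) (.node (.leaf 991) (.leaf 214)))) (.node (.node (.node (.leaf 248) (.leaf 350)) (.node (.leaf 174) (.leaf 564))) (.node (.node (.leaf 604) (.leaf 903)) (.node (.leaf 1098) (.leaf 774))))) (.node (.node (.node (.node (.node (.leaf 153) (.leaf 1352)) (.leaf 1218)) (.node (.leaf 816) (.leaf 1407))) (.node (.node (.leaf 523) (.leaf 232)) (.node (.leaf 3) (.leaf 1437)))) (.node (.node (.node (.leaf 348) (.leaf 1289)) (.node (.leaf 577) (.leaf 1233))) (.node (.node (.leaf 457) (.leaf 1373)) (.node (.leaf 1147) (.leaf 330)))))) (.node (.node (.node (.node (.node (.node (.leaf 99) (.leaf 1301)) (.leaf 1207)) (.node (.leaf 318) (.leaf 887))) (.node (.node (.leaf 489) (.leaf 824)) (.node (.leaf 1017) (.leaf 402)))) (.node (.node (.node (.leaf 299) (.leaf 75)) (.node (.leaf 912) (.leaf 1433)))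 (.node (.node (.leaf 645) (.leaf 1331)) (.node (.leaf 512) (.leaf 437))))) (.node (.node (.node (.node (.node (.leaf 202) (.leaf 747)) (.leaf 211)) (.node (.leaf 844) (.leaf 341))) (.node (.node (.leaf 559) (.leaf 1179)) (.node (.leaf 1017) (.leaf 965)))) (.node (.node (.node (.leaf 394) (.leaf 368)) (.node (.leaf 536) (.leaf 877))) (.node (.node (.leaf 723) (.leaf 651)) (.node (.leaf 659) (.leaf 1190)))))))

def bigNext42 : Janko.Tree (ℕ) :=
  (.node (.node (.node (.node (.node (.node (.node (.leaf 43) (.leaf 486)) (.leaf 836)) (.node (.leaf 762) (.leaf 986))) (.node (.node (.leaf 449) (.leaf 1101)) (.node (.leaf 992) (.leaf 783)))) (.node (.node (.node (.leaf 249) (.leaf 252)) (.node (.leaf 68) (.leaf 883))) (.node (.node (.leaf 605) (.leaf 959)) (.node (.leaf 1099) (.leaf 547))))) (.node (.node (.node (.node (.node (.leaf 154) (.leaf 646)) (.leaf 346)) (.node (.leaf 303) (.leaf 906))) (.node (.node (.leaf 524) (.leaf 1317)) (.node (.leaf 275) (.leaf 1343)))) (.node (.node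 (.node (.leaf 349) (.leaf 571)) (.node (.leaf 45) (.leaf 261))) (.node (.node (.leaf 414) (.leaf 1374)) (.node (.leaf 581) (.leaf 555)))))) (.node (.node (.node (.node (.node (.node (.leaf 100) (.leaf 654)) (.leaf 1208)) (.node (.leaf 741) (.leaf 802))) (.node (.node (.leaf 235) (.leaf 1309)) (.node (.leaf 244) (.leaf 1407)))) (.node (.node (.node (.leaf 300) (.leaf 699)) (.node (.leaf 76) (.leaf 570))) (.node (.node (.leaf 265) (.leaf 1314)) (.node (.leaf 399) (.leaf 1026))))) (.node (.node (.node (.node (.node (.leaf 117) (.leaf 1150)) (.leaf 436)) (.node (.leaf 54) (.leaf 1406))) (.node (.node (.leaf 560) (.leaf 747)) (.node (.leaf 572) (.leaf 320)))) (.node (.node (.node (.leaf 67) (.leaf 1305)) (.node (.leaf 966) (.leaf 22))) (.node (.node (.leaf 521) (.leaf 295)) (.node (.leaf 1168) (.leaf 925)))))))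

def bigNext43 : Janko.Tree (ℕ) :=
  (.node (.node (.node (.node (.node (.node (.node (.leaf 44) (.leaf 548)) (.leaf 1185)) (.node (.leaf 336) (.leaf 850))) (.node (.node (.leaf 413) (.leaf 765)) (.node (.leaf 431) (.leaf 1445)))) (.node (.node (.node (.leaf 250) (.leaf 1157)) (.node (.leaf 884) (.leaf 35))) (.node (.node (.leaf 139) (.leaf 481)) (.node (.leaf 1100) (.leaf 1454))))) (.node (.node (.node (.node (.node (.leaf 155) (.leaf 765)) (.leaf 1101)) (.node (.leaf 116) (.leaf 786))) (.node (.node (.leaf 525) (.leaf 1336)) (.node (.leaf 684) (.leaf 661)))) (.node (.node (.node (.leaf 350) (.leaf 1290)) (.node (.leaf 944) (.leaf 543))) (.node (.node (.leaf 682) (.leaf 349)) (.node (.leaf 1148) (.leaf 714)))))) (.node (.node (.node (.node (.node (.node (.leaf 101) (.leaf 753)) (.leaf 1027)) (.node (.leaf 336) (.leaf 848))) (.node (.node (.leaf 490) (.leaf 872)) (.node (.leaf 1018) (.leaf 364)))) (.node (.node (.node (.leaf 301) (.leaf 924)) (.node (.leaf 284) (.leaf 1090)))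 (.node (.node (.leaf 646) (.leaf 1254)) (.node (.leaf 1116) (.leaf 1454))))) (.node (.node (.node (.node (.node (.leaf 203) (.leaf 52)) (.leaf 1248)) (.node (.leaf 845) (.leaf 289))) (.node (.node (.leaf 227) (.leaf 1343)) (.node (.leaf 1072) (.leaf 1369)))) (.node (.node (.node (.leaf 395) (.leaf 1306)) (.node (.leaf 903) (.leaf 1305))) (.node (.node (.leaf 724) (.leaf 571)) (.node (.leaf 1169) (.leaf 1225)))))))

def bigNext44 : Janko.Tree (ℕ) :=
  (.node (.node (.node (.node (.node (.node (.node (.leaf 45) (.leaf 1387)) (.leaf 1186)) (.node (.leaf 658) (.leaf 240))) (.node (.node (.leaf 450) (.leaf 1225)) (.node (.leaf 993) (.leaf 369)))) (.node (.node (.node (.leaf 251) (.leaf 791)) (.node (.leaf 625) (.leaf 843))) (.node (.node (.leaf 606) (.leaf 1016)) (.node (.leaf 1101) (.leaf 1061))))) (.node (.node (.node (.node (.node (.leaf 156) (.leaf 78)) (.leaf 1222)) (.node (.leaf 59) (.leaf 53))) (.node (.node (.leaf 526) (.leaf 1032)) (.node (.leaf 1014) (.leaf 1318))))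 (.node (.node (.node (.leaf 351) (.leaf 1291)) (.node (.leaf 945) (.leaf 1405))) (.node (.node (.leaf 683) (.leaf 1120)) (.node (.leaf 1054) (.leaf 1264)))))) (.node (.node (.node (.node (.node (.node (.leaf 102) (.leaf 343)) (.leaf 1209)) (.node (.leaf 789) (.leaf 574))) (.node (.node (.leaf 491) (.leaf 1193)) (.node (.leaf 1019) (.leaf 1010)))) (.node (.node (.node (.leaf 250) (.leaf 163)) (.node (.leaf 913) (.leaf 1105))) (.node (.node (.leaf 610) (.leaf 1362)) (.node (.leaf 1117) (.leaf 1454))))) (.node (.node (.node (.node (.node (.leaf 204) (.leaf 859)) (.leaf 692)) (.node (.leaf 85) (.leaf 1416))) (.node (.node (.leaf 385) (.leaf 1219)) (.node (.leaf 1073) (.leaf 1203)))) (.node (.node (.node (.leaf 396) (.leaf 858)) (.node (.leaf 950) (.leaf 381))) (.node (.node (.leaf 603) (.leaf 1384)) (.node (.leaf 250) (.leaf 831)))))))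

def bigNext45 : Janko.Tree (ℕ) :=
  (.node (.node (.node (.node (.node (.node (.node (.leaf 46) (.leaf 1335)) (.leaf 1187)) (.node (.leaf 763) (.leaf 1232))) (.node (.node (.leaf 22) (.leaf 972)) (.node (.leaf 994) (.leaf 330)))) (.node (.node (.node (.leaf 252) (.leaf 1262)) (.node (.leaf 347) (.leaf 58))) (.node (.node (.leaf 607) (.leaf 951)) (.node (.leaf 1102) (.leaf 587))))) (.node (.node (.node (.node (.node (.leaf 157) (.leaf 856)) (.leaf 1233)) (.node (.leaf 129) (.leaf 1406))) (.node (.node (.leaf 501) (.leaf 835)) (.node (.leaf 1045) (.leaf 1287)))) (.node (.node (.node (.leaf 352) (.leaf 1292)) (.node (.leaf 892) (.leaf 35))) (.node (.node (.leaf 684) (.leaf 1375)) (.node (.leaf 1149) (.leaf 1262)))))) (.node (.node (.node (.node (.node (.node (.leaf 88) (.leaf 246)) (.leaf 1015)) (.node (.leaf 790) (.leaf 300))) (.node (.node (.leaf 492) (.leaf 1325)) (.node (.leaf 298) (.leaf 1196)))) (.node (.node (.node (.leaf 302) (.leaf 1278)) (.node (.leaf 683) (.leaf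 896))) (.node (.node (.leaf 647) (.leaf 1031)) (.node (.leaf 483) (.leaf 578))))) (.node (.node (.node (.node (.node (.leaf 205) (.leaf 953)) (.leaf 770)) (.node (.leaf 846) (.leaf 480))) (.node (.node (.leaf 561) (.leaf 1344)) (.node (.leaf 258) (.leaf 1372)))) (.node (.node (.node (.leaf 397) (.leaf 400)) (.node (.leaf 967) (.leaf 83))) (.node (.node (.leaf 725) (.leaf 1295)) (.node (.leaf 638) (.leaf 779)))))))

def bigNext46 : Janko.Tree (ℕ) :=
  (.node (.node (.node (.node (.node (.node (.node (.leaf 47) (.leaf 1344)) (.leaf 1188)) (.node (.leaf 725) (.leaf 601))) (.node (.node (.leaf 451) (.leaf 1318)) (.node (.leaf 995) (.leaf 1044)))) (.node (.node (.node (.leaf 253) (.leaf 1205)) (.node (.leaf 224) (.leaf 285))) (.node (.node (.leaf 608) (.leaf 1353)) (.node (.leaf 143) (.leaf 285))))) (.node (.node (.node (.node (.node (.leaf 116) (.leaf 511)) (.leaf 983)) (.node (.leaf 817) (.leaf 363))) (.node (.node (.leaf 527) (.leaf 628)) (.node (.leaf 1046) (.leaf 179))))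 (.node (.node (.node (.leaf 353) (.leaf 1170)) (.node (.leaf 946) (.leaf 1019))) (.node (.node (.leaf 685) (.leaf 327)) (.node (.leaf 498) (.leaf 827)))))) (.node (.node (.node (.node (.node (.node (.leaf 103) (.leaf 1010)) (.leaf 1210)) (.node (.leaf 678) (.leaf 1375))) (.node (.node (.leaf 493) (.leaf 439)) (.node (.leaf 203) (.leaf 314)))) (.node (.node (.node (.leaf 29) (.leaf 512)) (.node (.leaf 914) (.leaf 1429))) (.node (.node (.leaf 648) (.leaf 823)) (.node (.leaf 1118) (.leaf 1186))))) (.node (.node (.node (.node (.node (.leaf 206) (.leaf 938)) (.leaf 669)) (.node (.leaf 65) (.leaf 1417))) (.node (.node (.leaf 562) (.leaf 1270)) (.node (.leaf 549) (.leaf 1324)))) (.node (.node (.node (.leaf 398) (.leaf 273)) (.node (.leaf 228) (.leaf 410))) (.node (.node (.leaf 726) (.leaf 582)) (.node (.leaf 1148) (.leaf 620)))))))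

def bigNext47 : Janko.Tree (ℕ) :=
  (.node (.node (.node (.node (.node (.node (.node (.leaf 48) (.leaf 864)) (.leaf 332)) (.node (.leaf 603) (.leaf 1051))) (.node (.node (.leaf 452) (.leaf 1261)) (.node (.leaf 212) (.leaf 954)))) (.node (.node (.node (.leaf 254) (.leaf 934)) (.node (.leaf 696) (.leaf 1009))) (.node (.node (.leaf 87) (.leaf 973)) (.node (.leaf 1103) (.leaf 545))))) (.node (.node (.node (.node (.node (.leaf 158) (.leaf 1321)) (.leaf 1178)) (.node (.leaf 796) (.leaf 1218))) (.node (.node (.leaf 395) (.leaf 818)) (.node (.leaf 1047) (.leaf 731)))) (.node (.node (.node (.leaf 354) (.leaf 324)) (.node (.leaf 663) (.leaf 573))) (.node (.node (.leaf 686) (.leaf 1159)) (.node (.leaf 1150) (.leaf 1450)))))) (.node (.node (.node (.node (.node (.node (.leaf 58) (.leaf 646)) (.leaf 1088)) (.node (.leaf 307) (.leaf 1038))) (.node (.node (.leaf 494) (.leaf 533)) (.node (.leaf 1020) (.leaf 1277)))) (.node (.node (.node (.leaf 303) (.leaf 478)) (.node (.leaf 915) (.leaf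 656))) (.node (.node (.leaf 649) (.leaf 1345)) (.node (.leaf 890) (.leaf 293))))) (.node (.node (.node (.node (.node (.leaf 207) (.leaf 720)) (.leaf 548)) (.node (.leaf 847) (.leaf 1221))) (.node (.node (.leaf 563) (.leaf 1345)) (.node (.leaf 1038) (.leaf 89)))) (.node (.node (.node (.leaf 399) (.leaf 909)) (.node (.leaf 968) (.leaf 1431))) (.node (.node (.leaf 727) (.leaf 1378)) (.node (.leaf 647) (.leaf 502)))))))

def bigNext48 : Janko.Tree (ℕ) :=
  (.node (.node (.node (.node (.node (.node (.node (.leaf 49) (.leaf 1377)) (.leaf 397)) (.node (.leaf 754) (.leaf 198))) (.node (.node (.leaf 170) (.leaf 1307)) (.node (.leaf 60) (.leaf 100)))) (.node (.node (.node (.leaf 255) (.leaf 327)) (.node (.leaf 122) (.leaf 1061))) (.node (.node (.leaf 95) (.leaf 1354)) (.node (.leaf 993) (.leaf 1411))))) (.node (.node (.node (.node (.node (.leaf 4) (.leaf 680)) (.leaf 1234)) (.node (.leaf 818) (.leaf 759))) (.node (.node (.leaf 494) (.leaf 417)) (.node (.leaf 1048) (.leaf 704)))) (.node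 (.node (.node (.leaf 355) (.leaf 1092)) (.node (.leaf 97) (.leaf 373))) (.node (.node (.leaf 687) (.leaf 245)) (.node (.leaf 1151) (.leaf 1384)))))) (.node (.node (.node (.node (.node (.node (.leaf 104) (.leaf 1436)) (.leaf 1211)) (.node (.leaf 442) (.leaf 1292))) (.node (.node (.leaf 281) (.leaf 1317)) (.node (.leaf 1021) (.leaf 1423)))) (.node (.node (.node (.leaf 304) (.leaf 1137)) (.node (.leaf 82) (.leaf 1414))) (.node (.node (.leaf 68) (.leaf 726)) (.node (.leaf 254) (.leaf 547))))) (.node (.node (.node (.node (.node (.leaf 208) (.leaf 1275)) (.leaf 817)) (.node (.leaf 599) (.leaf 694))) (.node (.node (.leaf 564) (.leaf 1346)) (.node (.leaf 559) (.leaf 447)))) (.node (.node (.node (.leaf 400) (.leaf 1032)) (.node (.leaf 23) (.leaf 432))) (.node (.node (.leaf 657) (.leaf 167)) (.node (.leaf 1017) (.leaf 733)))))))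

def bigNext49 : Janko.Tree (ℕ) :=
  (.node (.node (.node (.node (.node (.node (.node (.leaf 50) (.leaf 465)) (.leaf 540)) (.node (.leaf 764) (.leaf 1272))) (.node (.node (.leaf 453) (.leaf 389)) (.node (.leaf 884) (.leaf 763)))) (.node (.node (.node (.leaf 256) (.leaf 277)) (.node (.leaf 842) (.leaf 1020))) (.node (.node (.leaf 446) (.leaf 553)) (.node (.leaf 885) (.leaf 1359))))) (.node (.node (.node (.node (.node (.leaf 159) (.leaf 146)) (.leaf 127)) (.node (.leaf 435) (.leaf 1213))) (.node (.node (.leaf 528) (.leaf 15)) (.node (.leaf 591) (.leaf 1427)))) (.node (.node (.node (.leaf 356) (.leaf 635)) (.node (.leaf 947) (.leaf 148))) (.node (.node (.leaf 688) (.leaf 1376)) (.node (.leaf 784) (.leaf 624)))))) (.node (.node (.node (.node (.node (.node (.leaf 40) (.leaf 1081)) (.leaf 281)) (.node (.leaf 764) (.leaf 1012))) (.node (.node (.leaf 495) (.leaf 738)) (.node (.leaf 843) (.leaf 1152)))) (.node (.node (.node (.leaf 305) (.leaf 492)) (.node (.leaf 916) (.leaf 430)))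 (.node (.node (.leaf 650) (.leaf 964)) (.node (.leaf 1119) (.leaf 422))))) (.node (.node (.node (.node (.node (.leaf 209) (.leaf 1329)) (.leaf 1249)) (.node (.leaf 409) (.leaf 780))) (.node (.node (.leaf 565) (.leaf 893)) (.node (.leaf 1074) (.leaf 1163)))) (.node (.node (.node (.leaf 401) (.leaf 653)) (.node (.leaf 650) (.leaf 1278))) (.node (.node (.leaf 728) (.leaf 809)) (.node (.leaf 901) (.leaf 1404)))))))

def bigNext50 : Janko.Tree (ℕ) :=
  (.node (.node (.node (.node (.node (.node (.node (.leaf 38) (.leaf 249)) (.leaf 191)) (.node (.leaf 223) (.leaf 734))) (.node (.node (.leaf 454) (.leaf 1319)) (.node (.leaf 206) (.leaf 996)))) (.node (.node (.node (.leaf 257) (.leaf 1263)) (.node (.leaf 877) (.leaf 896))) (.node (.node (.leaf 158) (.leaf 287)) (.node (.leaf 983) (.leaf 1259))))) (.node (.node (.node (.node (.node (.leaf 160) (.leaf 702)) (.leaf 1235)) (.node (.leaf 819) (.leaf 1290))) (.node (.node (.leaf 107) (.leaf 272)) (.node (.leaf 1049) (.leaf 517)))) (.node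 (.node (.node (.leaf 357) (.leaf 648)) (.node (.leaf 948) (.leaf 503))) (.node (.node (.leaf 689) (.leaf 613)) (.node (.leaf 1152) (.leaf 1398)))))) (.node (.node (.node (.node (.node (.node (.leaf 105) (.leaf 1446)) (.leaf 1093)) (.node (.leaf 791) (.leaf 1285))) (.node (.node (.leaf 475) (.leaf 1326)) (.node (.leaf 302) (.leaf 942)))) (.node (.node (.node (.leaf 306) (.leaf 491)) (.node (.leaf 917) (.leaf 1034))) (.node (.node (.leaf 651) (.leaf 1363)) (.node (.leaf 1120) (.leaf 1452))))) (.node (.node (.node (.node (.node (.leaf 210) (.leaf 524)) (.leaf 1134)) (.node (.leaf 848) (.leaf 681))) (.node (.node (.leaf 566) (.leaf 1093)) (.node (.leaf 1075) (.leaf 1364)))) (.node (.node (.node (.leaf 45) (.leaf 386)) (.node (.leaf 969) (.leaf 1413))) (.node (.node (.leaf 729) (.leaf 1385)) (.node (.leaf 66) (.leaf 870)))))))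

def bigNext51 : Janko.Tree (ℕ) :=
  (.node (.node (.node (.node (.node (.node (.node (.leaf 51) (.leaf 1097)) (.leaf 851)) (.node (.leaf 639) (.leaf 1291))) (.node (.node (.leaf 455) (.leaf 1249)) (.node (.leaf 996) (.leaf 1431)))) (.node (.node (.node (.leaf 258) (.leaf 231)) (.node (.leaf 513) (.leaf 1342))) (.node (.node (.leaf 461) (.leaf 1245)) (.node (.leaf 56) (.leaf 490))))) (.node (.node (.node (.node (.node (.leaf 41) (.leaf 1456)) (.leaf 1041)) (.node (.leaf 284) (.leaf 1298))) (.node (.node (.leaf 529) (.leaf 210)) (.node (.leaf 980) (.leaf 1127)))) (.node (.node (.node (.leaf 358) (.leaf 1293)) (.node (.leaf 949) (.leaf 119))) (.node (.node (.leaf 690) (.leaf 1080)) (.node (.leaf 357) (.leaf 198)))))) (.node (.node (.node (.node (.node (.node (.leaf 106) (.leaf 1410)) (.leaf 1100)) (.node (.leaf 458) (.leaf 677))) (.node (.node (.leaf 496) (.leaf 792)) (.node (.leaf 959) (.leaf 1022)))) (.node (.node (.node (.leaf 307) (.leaf 7)) (.node (.leaf 918) (.leaf 1074)))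 (.node (.node (.leaf 652) (.leaf 1115)) (.node (.leaf 1121) (.leaf 650))))) (.node (.node (.node (.node (.node (.leaf 211) (.leaf 800)) (.leaf 713)) (.node (.leaf 849) (.leaf 47))) (.node (.node (.leaf 567) (.leaf 1098)) (.node (.leaf 981) (.leaf 889)))) (.node (.node (.node (.leaf 402) (.leaf 1307)) (.node (.leaf 970) (.leaf 558))) (.node (.node (.leaf 730) (.leaf 637)) (.node (.leaf 632) (.leaf 1296)))))))

def bigNext52 : Janko.Tree (ℕ) :=
  (.node (.node (.node (.node (.node (.node (.node (.leaf 52) (.leaf 1273)) (.leaf 310)) (.node (.leaf 612) (.leaf 1395))) (.node (.node (.leaf 397) (.leaf 1064)) (.node (.leaf 956) (.leaf 1425)))) (.node (.node (.node (.leaf 259) (.leaf 840)) (.node (.leaf 217) (.leaf 1043))) (.node (.node (.leaf 365) (.leaf 504)) (.node (.leaf 516) (.leaf 199))))) (.node (.node (.node (.node (.node (.leaf 161) (.leaf 963)) (.leaf 375)) (.node (.leaf 820) (.leaf 1326))) (.node (.node (.leaf 5) (.leaf 1337)) (.node (.leaf 1050) (.leaf 1326)))) (.node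 (.node (.node (.leaf 359) (.leaf 1294)) (.node (.leaf 950) (.leaf 1294))) (.node (.node (.leaf 691) (.leaf 857)) (.node (.leaf 4) (.leaf 1381)))))) (.node (.node (.node (.node (.node (.node (.leaf 107) (.leaf 1234)) (.leaf 251)) (.node (.leaf 273) (.leaf 1115))) (.node (.node (.leaf 497) (.leaf 528)) (.node (.leaf 102) (.leaf 1412)))) (.node (.node (.node (.leaf 308) (.leaf 892)) (.node (.leaf 919) (.leaf 575))) (.node (.node (.leaf 653) (.leaf 441)) (.node (.leaf 1122) (.leaf 1448))))) (.node (.node (.node (.node (.node (.leaf 212) (.leaf 1307)) (.leaf 311)) (.node (.leaf 850) (.leaf 520))) (.node (.node (.leaf 529) (.leaf 1201)) (.node (.leaf 1076) (.leaf 1442)))) (.node (.node (.node (.leaf 11) (.leaf 1110)) (.node (.leaf 595) (.leaf 1401))) (.node (.node (.leaf 731) (.leaf 274)) (.node (.leaf 724) (.leaf 1369)))))))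

def bigNext53 : Janko.Tree (ℕ) :=
  (.node (.node (.node (.node (.node (.node (.node (.leaf 53) (.leaf 942)) (.leaf 1140)) (.node (.leaf 765) (.leaf 1149))) (.node (.node (.leaf 443) (.leaf 890)) (.node (.leaf 964) (.leaf 1228)))) (.node (.node (.node (.leaf 260) (.leaf 1176)) (.node (.leaf 399) (.leaf 1424))) (.node (.node (.leaf 81) (.leaf 1206)) (.node (.leaf 1104) (.leaf 956))))) (.node (.node (.node (.node (.node (.leaf 162) (.leaf 1194)) (.leaf 1227)) (.node (.leaf 798) (.leaf 70))) (.node (.node (.leaf 530) (.leaf 112)) (.node (.leaf 1051) (.leaf 1051)))) (.node (.node (.node (.leaf 360) (.leaf 1236)) (.node (.leaf 834) (.leaf 1014))) (.node (.node (.leaf 133) (.leaf 875)) (.node (.leaf 679) (.leaf 340)))))) (.node (.node (.node (.node (.node (.node (.leaf 64) (.leaf 1222)) (.leaf 780)) (.node (.leaf 792) (.leaf 769))) (.node (.node (.leaf 498) (.leaf 1211)) (.node (.leaf 307) (.leaf 1351)))) (.node (.node (.node (.leaf 309) (.leaf 1279)) (.node (.leaf 920) (.leaf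 429))) (.node (.node (.leaf 654) (.leaf 839)) (.node (.leaf 103) (.leaf 1418))))) (.node (.node (.node (.node (.node (.leaf 213) (.leaf 1027)) (.leaf 844)) (.node (.leaf 813) (.leaf 693))) (.node (.node (.leaf 568) (.leaf 1216)) (.node (.leaf 222) (.leaf 1392)))) (.node (.node (.node (.leaf 403) (.leaf 1308)) (.node (.leaf 971) (.leaf 1177))) (.node (.node (.leaf 732) (.leaf 1285)) (.node (.leaf 407) (.leaf 1212)))))))

def bigNext54 : Janko.Tree (ℕ) :=
  (.node (.node (.node (.node (.node (.node (.node (.leaf 54) (.leaf 1284)) (.leaf 104)) (.node (.leaf 584) (.leaf 253))) (.node (.node (.leaf 456) (.leaf 1142)) (.node (.leaf 781) (.leaf 1447)))) (.node (.node (.node (.leaf 261) (.leaf 1136)) (.node (.leaf 617) (.leaf 644))) (.node (.node (.leaf 609) (.leaf 75)) (.node (.leaf 687) (.leaf 345))))) (.node (.node (.node (.node (.node (.leaf 163) (.leaf 1321)) (.leaf 393)) (.node (.leaf 821) (.leaf 1408))) (.node (.node (.leaf 531) (.leaf 1145)) (.node (.leaf 1052) (.leaf 1393))))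 (.node (.node (.node (.leaf 324) (.leaf 986)) (.node (.leaf 951) (.leaf 719))) (.node (.node (.leaf 692) (.leaf 248)) (.node (.leaf 1153) (.leaf 1336)))))) (.node (.node (.node (.node (.node (.node (.leaf 108) (.leaf 1161)) (.leaf 972)) (.node (.leaf 32) (.leaf 354))) (.node (.node (.leaf 464) (.leaf 84)) (.node (.leaf 39) (.leaf 1428)))) (.node (.node (.node (.leaf 310) (.leaf 1280)) (.node (.leaf 50) (.leaf 286))) (.node (.node (.leaf 655) (.leaf 1161)) (.node (.leaf 1123) (.leaf 554))))) (.node (.node (.node (.node (.node (.leaf 214) (.leaf 1261)) (.leaf 982)) (.node (.leaf 842) (.leaf 1408))) (.node (.node (.leaf 569) (.leaf 1092)) (.node (.leaf 1072) (.leaf 1360)))) (.node (.node (.node (.leaf 404) (.leaf 1309)) (.node (.leaf 972) (.leaf 145))) (.node (.node (.leaf 716) (.leaf 1379)) (.node (.leaf 1170) (.leaf 1298)))))))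

def bigNext55 : Janko.Tree (ℕ) :=
  (.node (.node (.node (.node (.node (.node (.node (.leaf 55) (.leaf 427)) (.leaf 1174)) (.node (.leaf 554) (.leaf 1396))) (.node (.node (.leaf 420) (.leaf 649)) (.node (.leaf 997) (.leaf 1346)))) (.node (.node (.node (.leaf 262) (.leaf 1067)) (.node (.leaf 885) (.leaf 602))) (.node (.node (.leaf 610) (.leaf 1301)) (.node (.leaf 568) (.leaf 426))))) (.node (.node (.node (.node (.node (.leaf 164) (.leaf 1250)) (.leaf 756)) (.node (.leaf 822) (.leaf 761))) (.node (.node (.leaf 532) (.leaf 1338)) (.node (.leaf 636) (.leaf 1350)))) (.node (.node (.node (.leaf 361) (.leaf 1295)) (.node (.leaf 945) (.leaf 869))) (.node (.node (.leaf 693) (.leaf 830)) (.node (.leaf 1119) (.leaf 1016)))))) (.node (.node (.node (.node (.node (.node (.leaf 46) (.leaf 1029)) (.leaf 1212)) (.node (.leaf 793) (.leaf 1117))) (.node (.node (.leaf 71) (.leaf 1113)) (.node (.leaf 166) (.leaf 952)))) (.node (.node (.node (.leaf 33) (.leaf 1281)) (.node (.leaf 921) (.leaf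 427))) (.node (.node (.leaf 656) (.leaf 810)) (.node (.leaf 862) (.leaf 1452))))) (.node (.node (.node (.node (.node (.leaf 215) (.leaf 918)) (.leaf 340)) (.node (.leaf 533) (.leaf 1399))) (.node (.node (.leaf 570) (.leaf 1077)) (.node (.leaf 1036) (.leaf 998)))) (.node (.node (.node (.leaf 405) (.leaf 348)) (.node (.leaf 973) (.leaf 1443))) (.node (.node (.leaf 733) (.leaf 1386)) (.node (.leaf 57) (.leaf 1328)))))))

def bigNext56 : Janko.Tree (ℕ) :=
  (.node (.node (.node (.node (.node (.node (.node (.leaf 56) (.leaf 1394)) (.leaf 1189)) (.node (.leaf 740) (.leaf 1397))) (.node (.node (.leaf 76) (.leaf 1276)) (.node (.leaf 147) (.leaf 967)))) (.node (.node (.node (.leaf 263) (.leaf 919)) (.node (.leaf 886) (.leaf 789))) (.node (.node (.leaf 543) (.leaf 1355)) (.node (.leaf 1105) (.leaf 1450))))) (.node (.node (.node (.node (.node (.leaf 151) (.leaf 1453)) (.leaf 1236)) (.node (.leaf 823) (.leaf 1409))) (.node (.node (.leaf 533) (.leaf 1170)) (.node (.leaf 1053) (.leaf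 431)))) (.node (.node (.node (.leaf 270) (.leaf 875)) (.node (.leaf 588) (.leaf 1439))) (.node (.node (.leaf 602) (.leaf 879)) (.node (.leaf 1154) (.leaf 1441)))))) (.node (.node (.node (.node (.node (.node (.leaf 109) (.leaf 946)) (.leaf 935)) (.node (.leaf 794) (.leaf 889))) (.node (.node (.leaf 25) (.leaf 1327)) (.node (.leaf 14) (.leaf 1287)))) (.node (.node (.node (.leaf 311) (.leaf 1282)) (.node (.leaf 721) (.leaf 690))) (.node (.node (.leaf 611) (.leaf 1364)) (.node (.leaf 828) (.leaf 359))))) (.node (.node (.node (.node (.node (.leaf 216) (.leaf 1325)) (.leaf 1207)) (.node (.leaf 851) (.leaf 268))) (.node (.node (.leaf 571) (.leaf 202)) (.node (.leaf 608) (.leaf 1420)))) (.node (.node (.node (.leaf 406) (.leaf 1204)) (.node (.leaf 974) (.leaf 1062))) (.node (.node (.leaf 359) (.leaf 338)) (.node (.leaf 1171) (.leaf 1179)))))))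

def bigNext57 : Janko.Tree (ℕ) :=
  (.node (.node (.node (.node (.node (.node (.node (.leaf 3) (.leaf 1265)) (.leaf 1120)) (.node (.leaf 766) (.leaf 1088))) (.node (.node (.leaf 408) (.leaf 1320)) (.node (.leaf 880) (.leaf 1409)))) (.node (.node (.node (.leaf 264) (.leaf 232)) (.node (.leaf 342) (.leaf 271))) (.node (.node (.leaf 128) (.leaf 1126)) (.node (.leaf 333) (.leaf 484))))) (.node (.node (.node (.node (.node (.leaf 165) (.leaf 1404)) (.leaf 256)) (.node (.leaf 824) (.leaf 517))) (.node (.node (.leaf 534) (.leaf 1283)) (.node (.leaf 705) (.leaf 1005)))) (.node (.node (.node (.leaf 362) (.leaf 264)) (.node (.leaf 259) (.leaf 1335))) (.node (.node (.leaf 694) (.leaf 617)) (.node (.leaf 1055) (.leaf 581)))))) (.node (.node (.node (.node (.node (.node (.leaf 110) (.leaf 633)) (.leaf 1154)) (.node (.leaf 795) (.leaf 863))) (.node (.node (.leaf 32) (.leaf 1328)) (.node (.leaf 845) (.leaf 346)))) (.node (.node (.node (.leaf 13) (.leaf 1011)) (.node (.leaf 922) (.leaf 1155)))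 (.node (.node (.leaf 657) (.leaf 1084)) (.node (.leaf 1124) (.leaf 597))))) (.node (.node (.node (.node (.node (.leaf 171) (.leaf 642)) (.leaf 758)) (.node (.leaf 852) (.leaf 525))) (.node (.node (.leaf 572) (.leaf 793)) (.node (.leaf 1077) (.leaf 1181)))) (.node (.node (.node (.leaf 360) (.leaf 412)) (.node (.leaf 162) (.leaf 377))) (.node (.node (.leaf 78) (.leaf 473)) (.node (.leaf 428) (.leaf 1052)))))))

def bigNext58 : Janko.Tree (ℕ) :=
  (.node (.node (.node (.node (.node (.node (.node (.leaf 57) (.leaf 1290)) (.leaf 269)) (.node (.leaf 730) (.leaf 49))) (.node (.node (.leaf 457) (.leaf 1223)) (.node (.leaf 911) (.leaf 1334)))) (.node (.node (.node (.leaf 265) (.leaf 85)) (.node (.leaf 527) (.leaf 1195))) (.node (.node (.leaf 611) (.leaf 756)) (.node (.leaf 172) (.leaf 745))))) (.node (.node (.node (.node (.node (.leaf 125) (.leaf 1361)) (.leaf 1210)) (.node (.leaf 180) (.leaf 1128))) (.node (.node (.leaf 535) (.leaf 812)) (.node (.leaf 1054) (.leaf 999)))) (.node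 (.node (.node (.leaf 363) (.leaf 1224)) (.node (.leaf 952) (.leaf 735))) (.node (.node (.leaf 416) (.leaf 863)) (.node (.leaf 1155) (.leaf 1200)))))) (.node (.node (.node (.node (.node (.node (.leaf 10) (.leaf 1220)) (.leaf 326)) (.node (.leaf 796) (.leaf 432))) (.node (.node (.leaf 499) (.leaf 541)) (.node (.leaf 301) (.leaf 1171)))) (.node (.node (.node (.leaf 312) (.leaf 973)) (.node (.leaf 923) (.leaf 566))) (.node (.node (.leaf 658) (.leaf 374)) (.node (.leaf 706) (.leaf 1357))))) (.node (.node (.node (.node (.node (.leaf 217) (.leaf 801)) (.leaf 1085)) (.node (.leaf 451) (.leaf 292))) (.node (.node (.leaf 573) (.leaf 1347)) (.node (.leaf 1078) (.leaf 1342)))) (.node (.node (.node (.leaf 407) (.leaf 1209)) (.node (.leaf 486) (.leaf 669))) (.node (.node (.leaf 734) (.leaf 1230)) (.node (.leaf 1172) (.leaf 634)))))))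

def bigNext59 : Janko.Tree (ℕ) :=
  (.node (.node (.node (.node (.node (.node (.node (.leaf 58) (.leaf 1245)) (.leaf 1190)) (.node (.leaf 767) (.leaf 927))) (.node (.node (.leaf 458) (.leaf 1035)) (.node (.leaf 998) (.leaf 1430)))) (.node (.node (.node (.leaf 18) (.leaf 421)) (.node (.leaf 887) (.leaf 808))) (.node (.node (.leaf 288) (.leaf 1231)) (.node (.leaf 993) (.leaf 26))))) (.node (.node (.node (.node (.node (.leaf 24) (.leaf 598)) (.leaf 1237)) (.node (.leaf 258) (.leaf 1410))) (.node (.node (.leaf 536) (.leaf 595)) (.node (.leaf 725) (.leaf 1292)))) (.node (.node (.node (.leaf 364) (.leaf 1296)) (.node (.leaf 234) (.leaf 789))) (.node (.node (.leaf 695) (.leaf 819)) (.node (.leaf 1156) (.leaf 1457)))))) (.node (.node (.node (.node (.node (.node (.leaf 111) (.leaf 1325)) (.leaf 134)) (.node (.leaf 80) (.leaf 1403))) (.node (.node (.leaf 192) (.leaf 749)) (.node (.leaf 952) (.leaf 1449)))) (.node (.node (.node (.leaf 313) (.leaf 1125)) (.node (.leaf 546) (.leaf 1257)))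 (.node (.node (.leaf 546) (.leaf 1365)) (.node (.leaf 556) (.leaf 1383))))) (.node (.node (.node (.node (.node (.leaf 189) (.leaf 752)) (.leaf 994)) (.node (.leaf 2) (.leaf 1242))) (.node (.node (.leaf 574) (.leaf 1083)) (.node (.leaf 537) (.leaf 335)))) (.node (.node (.node (.leaf 408) (.leaf 72)) (.node (.leaf 576) (.leaf 508))) (.node (.node (.leaf 663) (.leaf 866)) (.node (.leaf 840) (.leaf 1042)))))))

def bigNext60 : Janko.Tree (ℕ) :=
  (.node (.node (.node (.node (.node (.node (.node (.leaf 59) (.leaf 1403)) (.leaf 710)) (.node (.leaf 768) (.leaf 976))) (.node (.node (.leaf 221) (.leaf 662)) (.node (.leaf 687) (.leaf 452)))) (.node (.node (.node (.leaf 266) (.leaf 52)) (.node (.leaf 748) (.leaf 25))) (.node (.node (.leaf 612) (.leaf 1356)) (.node (.leaf 1106) (.leaf 1455))))) (.node (.node (.node (.node (.node (.leaf 109) (.leaf 919)) (.leaf 979)) (.node (.leaf 825) (.leaf 1184))) (.node (.node (.leaf 537) (.leaf 1339)) (.node (.leaf 1055) (.leaf 674)))) (.node (.node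 (.node (.leaf 328) (.leaf 1035)) (.node (.leaf 197) (.leaf 323))) (.node (.node (.leaf 696) (.leaf 1365)) (.node (.leaf 1097) (.leaf 1211)))))) (.node (.node (.node (.node (.node (.node (.leaf 112) (.leaf 978)) (.leaf 243)) (.node (.leaf 797) (.leaf 1112))) (.node (.node (.leaf 348) (.leaf 441)) (.node (.leaf 1022) (.leaf 329)))) (.node (.node (.node (.leaf 110) (.leaf 6)) (.node (.leaf 924) (.leaf 1426))) (.node (.node (.leaf 560) (.leaf 829)) (.node (.leaf 1125) (.leaf 1044))))) (.node (.node (.node (.node (.node (.leaf 218) (.leaf 1279)) (.leaf 1250)) (.node (.leaf 853) (.leaf 1360))) (.node (.node (.leaf 575) (.leaf 1235)) (.node (.leaf 837) (.leaf 1249)))) (.node (.node (.node (.leaf 409) (.leaf 1310)) (.node (.leaf 339) (.leaf 210))) (.node (.node (.leaf 735) (.leaf 1387)) (.node (.leaf 143) (.leaf 1065)))))))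

def bigNext61 : Janko.Tree (ℕ) :=
  (.node (.node (.node (.node (.node (.node (.node (.leaf 60) (.leaf 488)) (.leaf 995)) (.node (.leaf 296) (.leaf 403))) (.node (.node (.leaf 425) (.leaf 534)) (.node (.leaf 379) (.leaf 1265)))) (.node (.node (.node (.leaf 92) (.leaf 1086)) (.node (.leaf 858) (.leaf 1139))) (.node (.node (.leaf 613) (.leaf 1229)) (.node (.leaf 181) (.leaf 870))))) (.node (.node (.node (.node (.node (.leaf 166) (.leaf 1308)) (.leaf 1213)) (.node (.leaf 826) (.leaf 906))) (.node (.node (.leaf 394) (.leaf 1166)) (.node (.leaf 1033) (.leaf 1451)))) (.node (.node (.node (.leaf 46) (.leaf 1099)) (.node (.leaf 77) (.leaf 414))) (.node (.node (.leaf 113) (.leaf 160)) (.node (.leaf 970) (.leaf 974)))))) (.node (.node (.node (.node (.node (.node (.leaf 113) (.leaf 290)) (.leaf 1125)) (.node (.leaf 724) (.leaf 1404))) (.node (.node (.leaf 500) (.leaf 795)) (.node (.leaf 1023) (.leaf 1183)))) (.node (.node (.node (.leaf 314) (.leaf 609)) (.node (.leaf 594) (.leaf 297)))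 (.node (.node (.leaf 659) (.leaf 1366)) (.node (.leaf 277) (.leaf 1311))))) (.node (.node (.node (.node (.node (.leaf 219) (.leaf 703)) (.leaf 371)) (.node (.leaf 83) (.leaf 915))) (.node (.node (.leaf 576) (.leaf 743)) (.node (.leaf 157) (.leaf 1433)))) (.node (.node (.node (.leaf 28) (.leaf 485)) (.node (.leaf 209) (.leaf 683))) (.node (.node (.leaf 532) (.leaf 1385)) (.node (.leaf 921) (.leaf 781)))))))

def bigNext62 : Janko.Tree (ℕ) :=
  (.node (.node (.node (.node (.node (.node (.node (.leaf 61) (.leaf 1011)) (.leaf 423)) (.node (.leaf 532) (.leaf 1355))) (.node (.node (.leaf 459) (.leaf 1078)) (.node (.leaf 939) (.leaf 1434)))) (.node (.node (.node (.leaf 267) (.leaf 750)) (.node (.leaf 770) (.leaf 1409))) (.node (.node (.leaf 614) (.leaf 1357)) (.node (.leaf 1107) (.leaf 1034))))) (.node (.node (.node (.node (.node (.leaf 167) (.leaf 769)) (.leaf 142)) (.node (.leaf 827) (.leaf 230))) (.node (.node (.leaf 207) (.leaf 930)) (.node (.leaf 43) (.leaf 853)))) (.node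 (.node (.node (.leaf 16) (.leaf 1215)) (.node (.leaf 869) (.leaf 1440))) (.node (.node (.leaf 697) (.leaf 621)) (.node (.leaf 1146) (.leaf 79)))))) (.node (.node (.node (.node (.node (.node (.leaf 114) (.leaf 1405)) (.leaf 283)) (.node (.leaf 328) (.leaf 1405))) (.node (.node (.leaf 444) (.leaf 1329)) (.node (.leaf 1024) (.leaf 1050)))) (.node (.node (.node (.leaf 315) (.leaf 483)) (.node (.leaf 925) (.leaf 1356))) (.node (.node (.leaf 660) (.leaf 1070)) (.node (.leaf 1126) (.leaf 331))))) (.node (.node (.node (.node (.node (.leaf 220) (.leaf 931)) (.leaf 1251)) (.node (.leaf 838) (.leaf 1418))) (.node (.node (.leaf 577) (.leaf 177)) (.node (.leaf 914) (.leaf 827)))) (.node (.node (.node (.leaf 410) (.leaf 1226)) (.node (.leaf 456) (.leaf 1389))) (.node (.node (.leaf 671) (.leaf 515)) (.node (.leaf 1168) (.leaf 1428)))))))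

def bigNext63 : Janko.Tree (ℕ) :=
  (.node (.node (.node (.node (.node (.node (.node (.leaf 62) (.leaf 77)) (.leaf 1191)) (.node (.leaf 769) (.leaf 1263))) (.node (.node (.leaf 366) (.leaf 1201)) (.node (.leaf 911) (.leaf 373)))) (.node (.node (.node (.leaf 268) (.leaf 1080)) (.node (.leaf 459) (.leaf 1373))) (.node (.node (.leaf 615) (.leaf 454)) (.node (.leaf 1108) (.leaf 1367))))) (.node (.node (.node (.node (.node (.leaf 97) (.leaf 662)) (.leaf 1238)) (.node (.leaf 828) (.leaf 267))) (.node (.node (.leaf 538) (.leaf 8)) (.node (.leaf 99) (.leaf 164)))) (.node (.node (.node (.leaf 365) (.leaf 1297)) (.node (.leaf 767) (.leaf 905))) (.node (.node (.leaf 20) (.leaf 795)) (.node (.leaf 1157) (.leaf 345)))))) (.node (.node (.node (.node (.node (.node (.leaf 115) (.leaf 1390)) (.leaf 361)) (.node (.leaf 149) (.leaf 1025))) (.node (.node (.leaf 443) (.leaf 841)) (.node (.leaf 785) (.leaf 1450)))) (.node (.node (.node (.leaf 316) (.leaf 1269)) (.node (.leaf 390) (.leaf 1400)))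 (.node (.node (.leaf 661) (.leaf 321)) (.node (.leaf 47) (.leaf 803))))) (.node (.node (.node (.node (.node (.leaf 176) (.leaf 455)) (.leaf 50)) (.node (.leaf 740) (.leaf 915))) (.node (.node (.leaf 519) (.leaf 819)) (.node (.leaf 640) (.leaf 899)))) (.node (.node (.node (.leaf 411) (.leaf 1091)) (.node (.leaf 641) (.leaf 1416))) (.node (.node (.leaf 53) (.leaf 1068)) (.node (.leaf 1144) (.leaf 690)))))))

def bigNext : Janko.Tree (ℕ) := (.node (.node (.node (.node (.node (.node bigNext0 bigNext32) (.node bigNext16 bigNext48)) (.node (.node bigNext8 bigNext40) (.node bigNext24 bigNext56))) (.node (.node (.node bigNext4 bigNext36) (.node bigNext20 bigNext52)) (.node (.node bigNext12 bigNext44) (.node bigNext28 bigNext60)))) (.node (.node (.node (.node bigNext2 bigNext34) (.node bigNext18 bigNext50)) (.node (.node bigNext10 bigNext42) (.node bigNext26 bigNext58))) (.node (.node (.node bigNext6 bigNext38) (.node bigNext22 bigNext54)) (.node (.node bigNext14 bigNext46) (.node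 bigNext30 bigNext62))))) (.node (.node (.node (.node (.node bigNext1 bigNext33) (.node bigNext17 bigNext49)) (.node (.node bigNext9 bigNext41) (.node bigNext25 bigNext57))) (.node (.node (.node bigNext5 bigNext37) (.node bigNext21 bigNext53)) (.node (.node bigNext13 bigNext45) (.node bigNext29 bigNext61)))) (.node (.node (.node (.node bigNext3 bigNext35) (.node bigNext19 bigNext51)) (.node (.node bigNext11 bigNext43) (.node bigNext27 bigNext59))) (.node (.node (.node bigNext7 bigNext39) (.node bigNext23 bigNext55)) (.node (.node bigNext15 bigNext47) (.node bigNext31 bigNext63))))))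

def bigWord0 : Janko.Tree (ℕ) :=
  (.node (.node (.node (.node (.node (.node (.node (.leaf 1) (.leaf 303042816)) (.leaf 17957152)) (.node (.node (.leaf 1184034) (.leaf 4329639953)) (.leaf 269615121))) (.node (.node (.node (.leaf 1049106) (.leaf 4296085538)) (.leaf 268444177)) (.node (.node (.leaf 16912386) (.leaf 4866510882)) (.leaf 285347857)))) (.node (.node (.node (.node (.leaf 66082) (.leaf 304157201)) (.leaf 18944528)) (.node (.node (.leaf 16785937) (.leaf 4580315393)) (.leaf 285212944))) (.node (.node (.node (.leaf 1118209) (.leaf 4312793361)) (.leaf 269484050)) (.node (.leaf 17834001) (.leaf 286392593))))) (.node (.node (.node (.node (.node (.leaf 4609) (.leaf 303112449)) (.leaf 18882817)) (.node (.node (.leaf 16777761) (.leaf 4564455696)) (.leaf 270598416))) (.node (.node (.node (.leaf 1057025) (.leaf 4297138721)) (.leaf 268509729)) (.node (.node (.leaf 17826066) (.leaf 68753166626)) (.leaf 286269458)))) (.node (.node (.node (.node (.leaf 73761) (.leaf 4295102737))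 (.leaf 19010081)) (.node (.node (.leaf 16847360) (.leaf 4831907858)) (.leaf 285282337))) (.node (.node (.node (.leaf 1122594) (.leaf 4312924448)) (.leaf 269550081)) (.node (.leaf 17895441) (.leaf 287445504)))))) (.node (.node (.node (.node (.node (.node (.leaf 4112) (.leaf 303108113)) (.leaf 17965586)) (.node (.node (.leaf 1188368) (.leaf 4563403025)) (.leaf 270536722))) (.node (.node (.node (.leaf 1052961) (.leaf 4297068817)) (.leaf 268505346)) (.node (.node (.leaf 16912929) (.leaf 68721709312)) (.leaf 286261538)))) (.node (.node (.node (.node (.leaf 69920) (.leaf 4294971904)) (.leaf 19005728)) (.node (.node (.leaf 16846849) (.leaf 4582412833)) (.leaf 285221136))) (.node (.node (.node (.leaf 1118720) (.leaf 4312801537)) (.leaf 269488418)) (.node (.leaf 17891362) (.leaf 287375633))))) (.node (.node (.node (.node (.node (.leaf 65570) (.leaf 304091409)) (.leaf 18944002)) (.node (.node (.leaf 16781842) (.leaf 4565508370)) (.leaf 270606354))) (.node (.node (.node (.leaf 1114146)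 (.leaf 4311814146)) (.leaf 268570896)) (.node (.node (.leaf 17830160) (.leaf 73016611329)) (.leaf 286327314)))) (.node (.node (.node (.node (.leaf 1048593) (.leaf 4296020481)) (.leaf 268439826)) (.node (.node (.leaf 16851457) (.leaf 4849668610)) (.leaf 285286401))) (.node (.node (.node (.leaf 1180177) (.leaf 4328595984)) (.leaf 269554178)) (.node (.leaf 17899536) (.leaf 302125056)))))))

def bigWord1 : Janko.Tree (ℕ) :=
  (.node (.node (.node (.node (.node (.node (.node (.leaf 16) (.leaf 303042818)) (.leaf 17960961)) (.node (.node (.leaf 1184256) (.leaf 4329639954)) (.leaf 269615361))) (.node (.node (.node (.leaf 1049121) (.leaf 4296085792)) (.leaf 268501249)) (.node (.node (.leaf 16912400) (.leaf 4866511393)) (.leaf 285347858)))) (.node (.node (.node (.node (.leaf 69632) (.leaf 304157216)) (.leaf 18944529)) (.node (.node (.leaf 16785953) (.leaf 4580315680)) (.leaf 285212945))) (.node (.node (.node (.leaf 1118210) (.leaf 4312793378)) (.leaf 269484305)) (.node (.leaf 17834002)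 (.leaf 286392594))))) (.node (.node (.node (.node (.node (.leaf 4610) (.leaf 303112465)) (.leaf 18882832)) (.node (.node (.leaf 16781328) (.leaf 4564455936)) (.leaf 270598417))) (.node (.node (.node (.leaf 1057040) (.leaf 4297199632)) (.leaf 268566785)) (.node (.node (.leaf 17826081) (.leaf 68754149392)) (.leaf 286269473)))) (.node (.node (.node (.node (.leaf 73984) (.leaf 4295102738)) (.leaf 268435472)) (.node (.node (.leaf 16847361) (.leaf 4833026320)) (.leaf 285282338))) (.node (.node (.node (.leaf 1122817) (.leaf 4312928528)) (.leaf 269550096)) (.node (.leaf 17895442) (.leaf 287445506)))))) (.node (.node (.node (.node (.node (.node (.leaf 4113) (.leaf 303108114)) (.leaf 18874625)) (.node (.node (.leaf 1188370) (.leaf 4563406866)) (.leaf 270536960))) (.node (.node (.node (.leaf 1052962) (.leaf 4297068818)) (.leaf 268505361)) (.node (.node (.leaf 16912930) (.leaf 68736323842)) (.leaf 286261762)))) (.node (.node (.node (.node (.leaf 69921) (.leaf 4294971936)) (.leaf 19005730))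 (.node (.node (.leaf 16846850) (.leaf 4596961554)) (.leaf 285221137))) (.node (.node (.node (.leaf 1118721) (.leaf 4312801825)) (.leaf 269488640)) (.node (.leaf 17891585) (.leaf 287375649))))) (.node (.node (.node (.node (.node (.leaf 65792) (.leaf 304091410)) (.leaf 18944018)) (.node (.node (.leaf 16781856) (.leaf 4565565473)) (.leaf 270606849))) (.node (.node (.node (.leaf 1114369) (.leaf 4311814176)) (.leaf 268570897)) (.node (.node (.leaf 17830161) (.leaf 73284981281)) (.leaf 286327328)))) (.node (.node (.node (.node (.leaf 1048594) (.leaf 4296020482)) (.leaf 268439840)) (.node (.node (.leaf 16851472) (.leaf 4849672448)) (.leaf 285286416))) (.node (.node (.node (.leaf 1180178) (.leaf 4328595986)) (.leaf 269554193)) (.node (.leaf 17899537) (.leaf 302125058)))))))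

def bigWord2 : Janko.Tree (ℕ) :=
  (.node (.node (.node (.node (.node (.node (.node (.leaf 17) (.leaf 303042832)) (.leaf 17960977)) (.node (.node (.leaf 1184257) (.leaf 4329639968)) (.leaf 269615376))) (.node (.node (.node (.leaf 1049122) (.leaf 4296085794)) (.leaf 268501264)) (.node (.node (.leaf 16912401) (.leaf 4866514945)) (.leaf 285348096)))) (.node (.node (.node (.node (.leaf 69633) (.leaf 304160769)) (.leaf 18944544)) (.node (.node (.leaf 16842752) (.leaf 4580315681)) (.leaf 285212946))) (.node (.node (.node (.leaf 1118224) (.leaf 4312793602)) (.leaf 269484306)) (.node (.leaf 17834017) (.leaf 286392608))))) (.node (.node (.node (.node (.node (.leaf 4624) (.leaf 303169553)) (.leaf 18882833)) (.node (.node (.leaf 16781329) (.leaf 4564455937)) (.leaf 270598434))) (.node (.node (.node (.leaf 1057041) (.leaf 4297199633)) (.leaf 268566800)) (.node (.node (.leaf 17826082) (.leaf 68755194129)) (.leaf 286269696)))) (.node (.node (.node (.node (.leaf 73985) (.leaf 4295102752))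 (.leaf 268435473)) (.node (.node (.leaf 16847362) (.leaf 4833026322)) (.leaf 285282560))) (.node (.node (.node (.leaf 1122832) (.leaf 4312932882)) (.leaf 269550097)) (.node (.leaf 17895456) (.leaf 287445536)))))) (.node (.node (.node (.node (.node (.node (.leaf 4114) (.leaf 303108128)) (.leaf 18874640)) (.node (.node (.leaf 16777217) (.leaf 4563407105)) (.leaf 270536961))) (.node (.node (.node (.leaf 1053184) (.leaf 4297072897)) (.leaf 268505362)) (.node (.node (.leaf 16916737) (.leaf 68736328209)) (.leaf 286261777)))) (.node (.node (.node (.node (.leaf 69922) (.leaf 4295033089)) (.leaf 19009552)) (.node (.node (.leaf 16846864) (.leaf 4597026834)) (.leaf 285221138))) (.node (.node (.node (.leaf 1118722) (.leaf 4312858641)) (.leaf 269488641)) (.node (.leaf 17891600) (.leaf 287379713))))) (.node (.node (.node (.node (.node (.leaf 65793) (.leaf 304091649)) (.leaf 18944032)) (.node (.node (.leaf 16781857) (.leaf 4565569554)) (.leaf 270606864))) (.node (.node (.node (.leaf 1114384)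 (.leaf 4311814177)) (.leaf 268570898)) (.node (.leaf 17830162) (.leaf 286327330)))) (.node (.node (.node (.node (.leaf 1048608) (.leaf 4296020512)) (.leaf 268439842)) (.node (.node (.leaf 16851473) (.leaf 4849672482)) (.leaf 285286417))) (.node (.node (.node (.leaf 1183744) (.leaf 4328656913)) (.leaf 269554194)) (.node (.leaf 17899538) (.leaf 302125073)))))))

def bigWord3 : Janko.Tree (ℕ) :=
  (.node (.node (.node (.node (.node (.node (.node (.leaf 18) (.leaf 303042834)) (.leaf 17960978)) (.node (.node (.leaf 1184258) (.leaf 4329701633)) (.leaf 269615378))) (.node (.node (.node (.leaf 1052672) (.leaf 4296086049)) (.leaf 268501265)) (.node (.node (.leaf 16912402) (.leaf 4866580753)) (.leaf 285348097)))) (.node (.node (.node (.node (.leaf 69634) (.leaf 304161281)) (.leaf 18948097)) (.node (.node (.leaf 16842753) (.leaf 4581229058)) (.leaf 285213217))) (.node (.node (.node (.leaf 1118225) (.leaf 4312793617)) (.leaf 269484545)) (.node (.leaf 17834240) (.leaf 286396688)))))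 (.node (.node (.node (.node (.node (.leaf 4625) (.leaf 303169793)) (.leaf 18882834)) (.node (.node (.leaf 16781330) (.leaf 4564516898)) (.leaf 270602258))) (.node (.node (.node (.leaf 1057042) (.leaf 4297199634)) (.leaf 268566801)) (.node (.node (.leaf 17826305) (.leaf 68987916578)) (.leaf 286269697)))) (.node (.node (.node (.node (.leaf 74000) (.leaf 4295102754)) (.leaf 268435713)) (.node (.node (.leaf 16847376) (.leaf 4834000896)) (.leaf 285282561))) (.node (.node (.node (.leaf 1122833) (.leaf 4313841921)) (.leaf 269550112)) (.node (.leaf 17895457) (.leaf 287445537)))))) (.node (.node (.node (.node (.node (.node (.leaf 4128) (.leaf 303108129)) (.leaf 18874641)) (.node (.node (.leaf 16777232) (.leaf 4563407138)) (.leaf 270536977))) (.node (.node (.node (.leaf 1053185) (.leaf 4297072912)) (.leaf 268505378)) (.node (.node (.leaf 16916752) (.leaf 68736328225)) (.leaf 286261778)))) (.node (.node (.node (.node (.leaf 70144) (.leaf 4295033104)) (.leaf 19009553)) (.node (.node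 (.leaf 16846865) (.leaf 4598010130)) (.leaf 285221392))) (.node (.node (.node (.leaf 1118736) (.leaf 4312858656)) (.leaf 269488642)) (.node (.leaf 17891601) (.leaf 287379730))))) (.node (.node (.node (.node (.node (.leaf 65808) (.leaf 304091650)) (.leaf 18944033)) (.node (.node (.leaf 16781858) (.leaf 4565569568)) (.leaf 270606866))) (.node (.node (.node (.leaf 1114385) (.leaf 4311814400)) (.leaf 268570912)) (.node (.leaf 17830176) (.leaf 286331394)))) (.node (.node (.node (.node (.leaf 1048609) (.leaf 4296020513)) (.leaf 268440064)) (.node (.node (.leaf 16851474) (.leaf 4849729825)) (.leaf 285286418))) (.node (.node (.node (.leaf 1183745) (.leaf 4328656914)) (.leaf 269554208)) (.node (.leaf 17899777) (.leaf 302125074)))))))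

def bigWord4 : Janko.Tree (ℕ) :=
  (.node (.node (.node (.node (.node (.node (.node (.leaf 256) (.leaf 303043073)) (.leaf 17961232)) (.node (.node (.leaf 1184288) (.leaf 4329701650)) (.leaf 269619201))) (.node (.node (.node (.leaf 1052673) (.leaf 4296086050)) (.leaf 268501266)) (.node (.node (.leaf 16912640) (.leaf 68719480848)) (.leaf 285348098)))) (.node (.node (.node (.node (.leaf 69648) (.leaf 304161296)) (.leaf 18948112)) (.node (.node (.leaf 16842754) (.leaf 4581233152)) (.leaf 285217024))) (.node (.node (.node (.leaf 1118226) (.leaf 4312793618)) (.leaf 269484561)) (.node (.leaf 17834241) (.leaf 286400784))))) (.node (.node (.node (.node (.node (.leaf 4626) (.leaf 303169810)) (.leaf 18882848)) (.node (.node (.leaf 16781568) (.leaf 4564517410)) (.leaf 270602272))) (.node (.node (.node (.leaf 1057056) (.leaf 4297199872)) (.leaf 268566802)) (.node (.node (.leaf 17826306) (.leaf 68988051728)) (.leaf 286269712)))) (.node (.node (.node (.node (.leaf 74001) (.leaf 4295102978))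 (.leaf 268435728)) (.node (.node (.leaf 16847377) (.leaf 4834001168)) (.leaf 285282562))) (.node (.node (.node (.leaf 1122834) (.leaf 4313841937)) (.leaf 269550114)) (.node (.leaf 17895458) (.leaf 301994000)))))) (.node (.node (.node (.node (.node (.node (.leaf 4129) (.leaf 303108130)) (.leaf 18874642)) (.node (.node (.leaf 16777233) (.leaf 4563411473)) (.leaf 270536978))) (.node (.node (.node (.leaf 1053186) (.leaf 4297072914)) (.leaf 268505600)) (.node (.node (.leaf 16916753) (.leaf 68737302801)) (.leaf 286261793)))) (.node (.node (.node (.node (.leaf 70145) (.leaf 4295033105)) (.leaf 19009554)) (.node (.node (.leaf 16846866) (.leaf 4598075410)) (.leaf 285221393))) (.node (.node (.node (.leaf 1118737) (.leaf 4312858896)) (.leaf 269488657)) (.node (.leaf 17891616) (.leaf 287384081))))) (.node (.node (.node (.node (.node (.leaf 65809) (.leaf 304091681)) (.leaf 18944034)) (.node (.node (.leaf 16785424) (.leaf 4565569569)) (.leaf 270606881))) (.node (.node (.node (.leaf 1114386)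 (.leaf 4311814401)) (.leaf 268570914)) (.node (.leaf 17830177) (.leaf 286331424)))) (.node (.node (.node (.node (.leaf 1048610) (.leaf 4296020514)) (.leaf 268440066)) (.node (.node (.leaf 16851489) (.leaf 4849730049)) (.leaf 285286656))) (.node (.node (.node (.leaf 1183746) (.leaf 4328657152)) (.leaf 269554209)) (.node (.leaf 17899793) (.leaf 302125312)))))))

def bigWord5 : Janko.Tree (ℕ) :=
  (.node (.node (.node (.node (.node (.node (.node (.leaf 257) (.leaf 303043074)) (.leaf 17961233)) (.node (.node (.leaf 1184289) (.leaf 4329709586)) (.leaf 269619472))) (.node (.node (.node (.leaf 1052674) (.leaf 4296089616)) (.leaf 268501280)) (.node (.node (.leaf 16912641) (.leaf 68719480849)) (.leaf 285348113)))) (.node (.node (.node (.node (.leaf 69649) (.leaf 304161297)) (.leaf 18948113)) (.node (.node (.leaf 16842769) (.leaf 4581233154)) (.leaf 285217025))) (.node (.node (.node (.leaf 1118240) (.leaf 4312793633)) (.leaf 269484562)) (.node (.leaf 17834256) (.leaf 286400800)))))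 (.node (.node (.node (.node (.node (.leaf 4640) (.leaf 303169824)) (.leaf 18882850)) (.node (.node (.leaf 16781569) (.leaf 4564520961)) (.leaf 270602273))) (.node (.node (.node (.leaf 1057058) (.leaf 4311744529)) (.leaf 268566816)) (.node (.node (.leaf 17826320) (.leaf 68989026338)) (.leaf 286269730)))) (.node (.node (.node (.node (.leaf 74002) (.leaf 4295103010)) (.leaf 268435729)) (.node (.node (.leaf 16847378) (.leaf 4834001169)) (.leaf 285282578))) (.node (.node (.node (.leaf 1122849) (.leaf 4313845778)) (.leaf 269553665)) (.node (.leaf 17895712) (.leaf 301994241)))))) (.node (.node (.node (.node (.node (.node (.leaf 4130) (.leaf 303108386)) (.leaf 18878480)) (.node (.node (.leaf 16777234) (.leaf 4563472402)) (.leaf 270537217))) (.node (.node (.node (.leaf 1053200) (.leaf 4297130256)) (.leaf 268505601)) (.node (.node (.leaf 16916754) (.leaf 68737303042)) (.leaf 286261794)))) (.node (.node (.node (.node (.leaf 70146) (.leaf 4295036944)) (.leaf 19009792)) (.node (.node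 (.leaf 16846880) (.leaf 4598075682)) (.leaf 285221409))) (.node (.node (.node (.leaf 1118738) (.leaf 4312858912)) (.leaf 269488672)) (.node (.leaf 17891617) (.leaf 287384082))))) (.node (.node (.node (.node (.node (.leaf 65810) (.leaf 304152848)) (.leaf 18944256)) (.node (.node (.leaf 16785425) (.leaf 4565574160)) (.leaf 270667792))) (.node (.node (.node (.leaf 1114400) (.leaf 4311814402)) (.leaf 268571136)) (.node (.leaf 17830178) (.leaf 286331425)))) (.node (.node (.node (.node (.leaf 1048833) (.leaf 4296081425)) (.leaf 268440081)) (.node (.node (.leaf 16908545) (.leaf 4849730050)) (.leaf 285286928))) (.node (.node (.node (.leaf 1183760) (.leaf 4328657168)) (.leaf 269554210)) (.node (.leaf 17899810) (.leaf 302125313)))))))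

def bigWord6 : Janko.Tree (ℕ) :=
  (.node (.node (.node (.node (.node (.node (.node (.leaf 258) (.leaf 303043088)) (.leaf 17961504)) (.node (.node (.leaf 1184290) (.leaf 4329709858)) (.leaf 269619473))) (.node (.node (.node (.leaf 1052688) (.leaf 4296089618)) (.leaf 268501282)) (.node (.node (.leaf 16912642) (.leaf 68719481088)) (.leaf 285348114)))) (.node (.node (.node (.node (.leaf 69650) (.leaf 304161298)) (.leaf 18948114)) (.node (.node (.leaf 16842784) (.leaf 4581237281)) (.leaf 285217041))) (.node (.node (.node (.leaf 1118241) (.leaf 4312793634)) (.leaf 269484577)) (.node (.leaf 17834257) (.leaf 286400802))))) (.node (.node (.node (.node (.node (.leaf 4641) (.leaf 303177746)) (.leaf 18939904)) (.node (.node (.leaf 16781570) (.leaf 4564520994)) (.leaf 270602274))) (.node (.node (.node (.leaf 1057296) (.leaf 4311744769)) (.leaf 268566817)) (.node (.node (.leaf 17826321) (.leaf 68989030912)) (.leaf 286269985)))) (.node (.node (.node (.node (.leaf 74016) (.leaf 4295106817))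 (.leaf 268435730)) (.node (.node (.leaf 16847392) (.leaf 4834005010)) (.leaf 285282592))) (.node (.node (.node (.leaf 1179664) (.leaf 4313846016)) (.leaf 269553666)) (.node (.leaf 17895714) (.leaf 301994258)))))) (.node (.node (.node (.node (.node (.node (.leaf 4352) (.leaf 303108608)) (.leaf 18878481)) (.node (.node (.leaf 16777473) (.leaf 4563472658)) (.leaf 270537218))) (.node (.node (.node (.leaf 1053201) (.leaf 4297130274)) (.leaf 268505602)) (.node (.node (.leaf 16917008) (.leaf 68737306640)) (.leaf 286265360)))) (.node (.node (.node (.node (.leaf 70160) (.leaf 4295036946)) (.leaf 19009793)) (.node (.node (.leaf 16846881) (.leaf 4598145297)) (.leaf 285278480))) (.node (.node (.node (.leaf 1118752) (.leaf 4312859137)) (.leaf 269488673)) (.node (.leaf 17891841) (.leaf 287441168))))) (.node (.node (.node (.node (.node (.leaf 65824) (.leaf 304152849)) (.leaf 18944257)) (.node (.node (.leaf 16785426) (.leaf 4565574162)) (.leaf 270667793))) (.node (.node (.node (.leaf 1114401)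 (.leaf 4311814432)) (.leaf 268571138)) (.node (.leaf 17830400) (.leaf 286331426)))) (.node (.node (.node (.node (.leaf 1048848) (.leaf 4296081440)) (.leaf 268440082)) (.node (.node (.leaf 16908560) (.leaf 4849738256)) (.leaf 285286929))) (.node (.node (.node (.leaf 1183761) (.leaf 4328657169)) (.leaf 269557761)) (.node (.leaf 17900048) (.leaf 302125328)))))))

def bigWord7 : Janko.Tree (ℕ) :=
  (.node (.node (.node (.node (.node (.node (.node (.leaf 272) (.leaf 303043105)) (.leaf 17961505)) (.node (.node (.leaf 1187856) (.leaf 4330684688)) (.leaf 269623312))) (.node (.node (.node (.leaf 1052689) (.leaf 4296089873)) (.leaf 268505089)) (.node (.node (.leaf 16912656) (.leaf 68719542545)) (.leaf 285348130)))) (.node (.node (.node (.node (.leaf 69664) (.leaf 4294967553)) (.leaf 18948609)) (.node (.node (.leaf 16842785) (.leaf 4581302800)) (.leaf 285217057))) (.node (.node (.node (.leaf 1118242) (.leaf 4312797200)) (.leaf 269488144)) (.node (.leaf 17834258) (.leaf 286401042)))))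 (.node (.node (.node (.node (.node (.leaf 4642) (.leaf 303178000)) (.leaf 18939906)) (.node (.node (.leaf 16781584) (.leaf 4564521472)) (.leaf 270602497))) (.node (.node (.node (.leaf 1057297) (.leaf 4311744786)) (.leaf 268567056)) (.node (.node (.leaf 17826322) (.leaf 68989092114)) (.leaf 286326801)))) (.node (.node (.node (.node (.leaf 74018) (.leaf 4295106832)) (.leaf 268435744)) (.node (.node (.leaf 16847393) (.leaf 4834005249)) (.leaf 285282593))) (.node (.node (.node (.leaf 1179665) (.leaf 4313846017)) (.leaf 269553680)) (.node (.leaf 17895936) (.leaf 302055696)))))) (.node (.node (.node (.node (.node (.node (.leaf 4353) (.leaf 303108609)) (.leaf 18878482)) (.node (.node (.leaf 16777488) (.leaf 4563472914)) (.leaf 270537249))) (.node (.node (.node (.leaf 1053202) (.leaf 4297134098)) (.leaf 268505617)) (.node (.node (.leaf 16917010) (.leaf 68737306641)) (.leaf 286265361)))) (.node (.node (.node (.node (.leaf 70161) (.leaf 4295037185)) (.leaf 19009808)) (.node (.node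 (.leaf 16846882) (.leaf 4599058689)) (.leaf 285278481))) (.node (.node (.node (.leaf 1118753) (.leaf 4312859138)) (.leaf 269488674)) (.node (.leaf 17891842) (.leaf 287441169))))) (.node (.node (.node (.node (.node (.leaf 65825) (.leaf 304156673)) (.leaf 18944258)) (.node (.node (.leaf 16785441) (.leaf 4565635346)) (.leaf 270667794))) (.node (.node (.node (.leaf 1114402) (.leaf 4311814434)) (.leaf 268571169)) (.node (.leaf 17830401) (.leaf 286334977)))) (.node (.node (.node (.node (.leaf 1048849) (.leaf 4296081665)) (.leaf 268440096)) (.node (.node (.leaf 16908561) (.leaf 4849738258)) (.leaf 285286945))) (.node (.node (.node (.leaf 1183762) (.leaf 4328657170)) (.leaf 269557776)) (.node (.leaf 17900049) (.leaf 302125329)))))))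

def bigWord8 : Janko.Tree (ℕ) :=
  (.node (.node (.node (.node (.node (.node (.node (.leaf 273) (.leaf 303104033)) (.leaf 17965072)) (.node (.node (.leaf 1187857) (.leaf 4330684689)) (.leaf 269623314))) (.node (.node (.node (.leaf 1052690) (.leaf 4296090145)) (.leaf 268505090)) (.node (.node (.leaf 16912657) (.leaf 68719546386)) (.leaf 285348384)))) (.node (.node (.node (.node (.leaf 69665) (.leaf 4294967568)) (.leaf 18948624)) (.node (.node (.leaf 16842786) (.leaf 4581359632)) (.leaf 285217058))) (.node (.node (.node (.leaf 1118464) (.leaf 4312797201)) (.leaf 269488145)) (.node (.leaf 17834274) (.leaf 287310081))))) (.node (.node (.node (.node (.node (.leaf 65536) (.leaf 303178001)) (.leaf 18939936)) (.node (.node (.leaf 16781585) (.leaf 4564521505)) (.leaf 270602498))) (.node (.node (.node (.leaf 1057313) (.leaf 4311752722)) (.leaf 268567057)) (.node (.node (.leaf 17826337) (.leaf 69004693777)) (.leaf 286326816)))) (.node (.node (.node (.node (.leaf 74241) (.leaf 4295106834))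 (.leaf 268435746)) (.node (.node (.leaf 16847394) (.leaf 4834005505)) (.leaf 285282594))) (.node (.node (.node (.leaf 1179905) (.leaf 4313911553)) (.leaf 269553681)) (.node (.leaf 17895937) (.leaf 302055698)))))) (.node (.node (.node (.node (.node (.node (.leaf 4354) (.leaf 303108610)) (.leaf 18878720)) (.node (.node (.leaf 16777489) (.leaf 4563472929)) (.leaf 270541057))) (.node (.node (.node (.leaf 1053216) (.leaf 4297134112)) (.leaf 268505618)) (.node (.node (.leaf 17825792) (.leaf 68737306642)) (.leaf 286265362)))) (.node (.node (.node (.node (.leaf 70162) (.leaf 4295037202)) (.leaf 19009809)) (.node (.node (.leaf 16847104) (.leaf 4599123969)) (.leaf 285278482))) (.node (.node (.node (.leaf 1118754) (.leaf 4312859168)) (.leaf 269549585)) (.node (.leaf 17891856) (.leaf 287441186))))) (.node (.node (.node (.node (.node (.leaf 65826) (.leaf 304156674)) (.leaf 18944273)) (.node (.node (.leaf 16785664) (.leaf 4580184337)) (.leaf 270668032))) (.node (.node (.node (.leaf 1114625)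 (.leaf 4311814656)) (.leaf 268571170)) (.node (.leaf 17830402) (.leaf 286334994)))) (.node (.node (.node (.node (.leaf 1048850) (.leaf 4296081936)) (.leaf 268440098)) (.node (.node (.leaf 16908562) (.leaf 4849795360)) (.leaf 285344016))) (.node (.node (.node (.leaf 1184000) (.leaf 4328657186)) (.leaf 269557777)) (.node (.leaf 17900050) (.leaf 302125330)))))))

def bigWord9 : Janko.Tree (ℕ) :=
  (.node (.node (.node (.node (.node (.node (.node (.leaf 274) (.leaf 303104034)) (.leaf 17965073)) (.node (.node (.leaf 1187858) (.leaf 4330688513)) (.leaf 269623568))) (.node (.node (.node (.leaf 1052928) (.leaf 4296146961)) (.leaf 268505104)) (.node (.node (.leaf 16912658) (.leaf 68719546625)) (.leaf 285348385)))) (.node (.node (.node (.node (.leaf 69666) (.leaf 4294967570)) (.leaf 18948625)) (.node (.node (.leaf 16843009) (.leaf 4581368096)) (.leaf 285217297))) (.node (.node (.node (.leaf 1118465) (.leaf 4312797202)) (.leaf 269488384)) (.node (.leaf 17834512) (.leaf 287310097)))))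 (.node (.node (.node (.node (.node (.leaf 65537) (.leaf 303178002)) (.leaf 18939937)) (.node (.node (.leaf 16781586) (.leaf 4564525329)) (.leaf 270602513))) (.node (.node (.node (.leaf 1114112) (.leaf 4311752976)) (.leaf 268570624)) (.node (.node (.leaf 17826338) (.leaf 69005738498)) (.leaf 286326817)))) (.node (.node (.node (.node (.leaf 74256) (.leaf 4296019984)) (.leaf 268439568)) (.node (.node (.leaf 16850945) (.leaf 4834009089)) (.leaf 285282816))) (.node (.node (.node (.leaf 1179920) (.leaf 4313911570)) (.leaf 269553682)) (.node (.leaf 17895938) (.leaf 302055714)))))) (.node (.node (.node (.node (.node (.node (.leaf 4368) (.leaf 303108625)) (.leaf 18878721)) (.node (.node (.leaf 16777490) (.leaf 4563534352)) (.leaf 270541072))) (.node (.node (.node (.leaf 1053217) (.leaf 4297134113)) (.leaf 268505632)) (.node (.node (.leaf 17825793) (.leaf 68737310977)) (.leaf 286265601)))) (.node (.node (.node (.node (.leaf 70176) (.leaf 4295037218)) (.leaf 19009810)) (.node (.node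 (.leaf 16847105) (.leaf 4599123970)) (.leaf 285278496))) (.node (.node (.node (.leaf 1122305) (.leaf 4312859170)) (.leaf 269549586)) (.node (.leaf 17891857) (.leaf 287445248))))) (.node (.node (.node (.node (.node (.leaf 66049) (.leaf 304156690)) (.leaf 18944274)) (.node (.node (.leaf 16785665) (.leaf 4580188193)) (.leaf 270668048))) (.node (.node (.node (.leaf 1114626) (.leaf 4311814658)) (.leaf 268574977)) (.node (.leaf 17830416) (.leaf 286335504)))) (.node (.node (.node (.node (.leaf 1048864) (.leaf 4296081937)) (.leaf 268443905)) (.node (.node (.leaf 16908576) (.leaf 4849799440)) (.leaf 285344017))) (.node (.node (.node (.leaf 1184001) (.leaf 4329570833)) (.leaf 269557778)) (.node (.leaf 17900065) (.leaf 302125344)))))))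

def bigWord10 : Janko.Tree (ℕ) :=
  (.node (.node (.node (.node (.node (.node (.node (.leaf 288) (.leaf 303104288)) (.leaf 17965074)) (.node (.node (.leaf 1188097) (.leaf 4330688768)) (.leaf 269623569))) (.node (.node (.node (.leaf 1052929) (.leaf 4296155408)) (.leaf 268505106)) (.node (.node (.leaf 16912672) (.leaf 68720529682)) (.leaf 285352209)))) (.node (.node (.node (.node (.leaf 69888) (.leaf 4294971408)) (.leaf 18948626)) (.node (.node (.leaf 16843024) (.leaf 4581368098)) (.leaf 285217298))) (.node (.node (.node (.leaf 1118466) (.leaf 4312797456)) (.leaf 269488386)) (.node (.leaf 17834513) (.leaf 287310098))))) (.node (.node (.node (.node (.node (.leaf 65538) (.leaf 303178016)) (.leaf 18940176)) (.node (.node (.leaf 16781600) (.leaf 4564525601)) (.leaf 270602514))) (.node (.node (.node (.leaf 1114113) (.leaf 4311752977)) (.leaf 268570640)) (.node (.node (.leaf 17829904) (.leaf 69005742592)) (.leaf 286327056)))) (.node (.node (.node (.node (.leaf 74257) (.leaf 4296019985))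 (.leaf 268439569)) (.node (.node (.leaf 16850960) (.leaf 4834009616)) (.leaf 285282817))) (.node (.node (.node (.leaf 1179921) (.leaf 4313973026)) (.leaf 269553696)) (.node (.leaf 17895953) (.leaf 302059538)))))) (.node (.node (.node (.node (.node (.node (.leaf 4369) (.leaf 303108640)) (.leaf 18878737)) (.node (.node (.leaf 16777504) (.leaf 4563534353)) (.leaf 270541073))) (.node (.node (.node (.leaf 1053218) (.leaf 4297134114)) (.leaf 268505633)) (.node (.node (.leaf 17825808) (.leaf 68737368610)) (.leaf 286265616)))) (.node (.node (.node (.node (.leaf 70177) (.leaf 4295037473)) (.leaf 19009824)) (.node (.node (.leaf 16847106) (.leaf 4599124224)) (.leaf 285278497))) (.node (.node (.node (.leaf 1122320) (.leaf 4312863265)) (.leaf 269549600)) (.node (.leaf 17891858) (.leaf 287445249))))) (.node (.node (.node (.node (.node (.leaf 66050) (.leaf 304156928)) (.leaf 18944288)) (.node (.node (.leaf 16785680) (.leaf 4580188433)) (.leaf 270668049))) (.node (.node (.node (.leaf 1114640)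 (.leaf 4311814673)) (.leaf 268574992)) (.node (.leaf 17830417) (.leaf 286335506)))) (.node (.node (.node (.node (.leaf 1048865) (.leaf 4296081952)) (.leaf 268443920)) (.node (.node (.leaf 16908577) (.leaf 4850712850)) (.leaf 285344018))) (.node (.node (.node (.leaf 1184002) (.leaf 4329570834)) (.leaf 269558017)) (.node (.leaf 17956880) (.leaf 302125346)))))))

def bigWord11 : Janko.Tree (ℕ) :=
  (.node (.node (.node (.node (.node (.node (.node (.leaf 289) (.leaf 303104513)) (.leaf 17965328)) (.node (.node (.leaf 1188112) (.leaf 4330688769)) (.leaf 269623570))) (.node (.node (.node (.leaf 1052930) (.leaf 4296155409)) (.leaf 268505120)) (.node (.node (.leaf 16912674) (.leaf 68720591105)) (.leaf 285352210)))) (.node (.node (.node (.node (.leaf 69889) (.leaf 4294971409)) (.leaf 18948641)) (.node (.node (.leaf 16843025) (.leaf 4582277393)) (.leaf 285217313))) (.node (.node (.node (.leaf 1118481) (.leaf 4312797457)) (.leaf 269488400)) (.node (.leaf 17834529) (.leaf 287313937)))))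 (.node (.node (.node (.node (.node (.leaf 65552) (.leaf 303178018)) (.leaf 18940177)) (.node (.node (.leaf 16781601) (.leaf 4564582674)) (.leaf 270602753))) (.node (.node (.node (.leaf 1114114) (.leaf 4311753232)) (.leaf 268570641)) (.node (.node (.leaf 17829905) (.leaf 69022585122)) (.leaf 286327057)))) (.node (.node (.node (.node (.leaf 74258) (.leaf 4296020224)) (.leaf 268439570)) (.node (.node (.leaf 16850961) (.leaf 4848623890)) (.leaf 285282818))) (.node (.node (.node (.leaf 1179922) (.leaf 4313977104)) (.leaf 269553698)) (.node (.leaf 17895954) (.leaf 302059793)))))) (.node (.node (.node (.node (.node (.node (.leaf 4370) (.leaf 303108641)) (.leaf 18878738)) (.node (.node (.leaf 16777505) (.leaf 4563538192)) (.leaf 270541074))) (.node (.node (.node (.leaf 1056784) (.leaf 4297134337)) (.leaf 268505634)) (.node (.node (.leaf 17825809) (.leaf 68737376784)) (.leaf 286265617)))) (.node (.node (.node (.node (.leaf 70178) (.leaf 4295041537)) (.leaf 19009825)) (.node (.node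 (.leaf 16847121) (.leaf 4599124226)) (.leaf 285278498))) (.node (.node (.node (.leaf 1122321) (.leaf 4312866817)) (.leaf 269549601)) (.node (.leaf 17891872) (.leaf 287445264))))) (.node (.node (.node (.node (.node (.leaf 66064) (.leaf 304156929)) (.leaf 18944289)) (.node (.node (.leaf 16785681) (.leaf 4580188688)) (.leaf 270668050))) (.node (.node (.node (.leaf 1114641) (.leaf 4311814688)) (.leaf 268574994)) (.node (.leaf 17830418) (.leaf 286335521)))) (.node (.node (.node (.node (.leaf 1048866) (.leaf 4296081954)) (.leaf 268443921)) (.node (.node (.leaf 16908578) (.leaf 4850848032)) (.leaf 285344034))) (.node (.node (.node (.leaf 1184016) (.leaf 4329574672)) (.leaf 269558033)) (.node (.leaf 17956881) (.leaf 302125568)))))))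

def bigWord12 : Janko.Tree (ℕ) :=
  (.node (.node (.node (.node (.node (.node (.node (.leaf 290) (.leaf 303104528)) (.leaf 17965329)) (.node (.node (.leaf 1188113) (.leaf 4330688770)) (.leaf 269623584))) (.node (.node (.node (.leaf 1052944) (.leaf 4296155410)) (.leaf 268505121)) (.node (.node (.leaf 16912896) (.leaf 68720594960)) (.leaf 285352464)))) (.node (.node (.node (.node (.leaf 69890) (.leaf 4294971410)) (.leaf 19005697)) (.node (.node (.leaf 16843026) (.leaf 4582281234)) (.leaf 285220880))) (.node (.node (.node (.leaf 1118482) (.leaf 4312797698)) (.leaf 269488401)) (.node (.leaf 17891345) (.leaf 287313938))))) (.node (.node (.node (.node (.node (.leaf 65553) (.leaf 304091152)) (.leaf 18940192)) (.node (.node (.leaf 16781602) (.leaf 4564586497)) (.leaf 270602754))) (.node (.node (.node (.leaf 1114129) (.leaf 4311753233)) (.leaf 268570642)) (.node (.node (.leaf 17829906) (.leaf 69258510609)) (.leaf 286327072)))) (.node (.node (.node (.node (.leaf 74273) (.leaf 4296020240))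 (.leaf 268439808)) (.node (.node (.leaf 16850962) (.leaf 4848685089)) (.leaf 285282833))) (.node (.node (.node (.leaf 1179936) (.leaf 4313977121)) (.leaf 269553952)) (.node (.leaf 17895968) (.leaf 302059794)))))) (.node (.node (.node (.node (.node (.node (.leaf 4384) (.leaf 303108642)) (.leaf 18878977)) (.node (.node (.leaf 16777506) (.leaf 4563538194)) (.leaf 270598144))) (.node (.node (.node (.leaf 1056785) (.leaf 4297134338)) (.leaf 268509185)) (.node (.node (.leaf 17825810) (.leaf 68737437968)) (.leaf 286265856)))) (.node (.node (.node (.node (.leaf 73729) (.leaf 4295102480)) (.leaf 19009826)) (.node (.node (.leaf 16847122) (.leaf 4599124512)) (.leaf 285282305))) (.node (.node (.node (.leaf 1122322) (.leaf 4312867344)) (.leaf 269549602)) (.node (.leaf 17891874) (.leaf 287445266))))) (.node (.node (.node (.node (.node (.leaf 66065) (.leaf 304156930)) (.leaf 18944290)) (.node (.node (.leaf 16785682) (.leaf 4580253697)) (.leaf 270668064))) (.node (.node (.node (.leaf 1114642)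 (.leaf 4311818257)) (.leaf 268575248)) (.node (.leaf 17830432) (.leaf 286392336)))) (.node (.node (.node (.node (.leaf 1049089) (.leaf 4296085505)) (.leaf 268443922)) (.node (.node (.leaf 16908816) (.leaf 4850848034)) (.leaf 285344272))) (.node (.node (.node (.leaf 1184017) (.leaf 4329574674)) (.leaf 269558050)) (.node (.leaf 17957121) (.leaf 302125600)))))))

def bigWord13 : Janko.Tree (ℕ) :=
  (.node (.node (.node (.node (.node (.node (.node (.leaf 4096) (.leaf 303104530)) (.leaf 17965330)) (.node (.node (.leaf 1188114) (.leaf 4330688802)) (.leaf 269623826))) (.node (.node (.node (.leaf 1052945) (.leaf 4297068561)) (.leaf 268505122)) (.node (.node (.leaf 16912897) (.leaf 68720594962)) (.leaf 286261520)))) (.node (.node (.node (.node (.leaf 69904) (.leaf 4294971648)) (.leaf 19005712)) (.node (.node (.leaf 16843040) (.leaf 4582281473)) (.leaf 285220882))) (.node (.node (.node (.leaf 1118496) (.leaf 4312801297)) (.leaf 269488402)) (.node (.leaf 17891346) (.leaf 287314176)))))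 (.node (.node (.node (.node (.node (.leaf 65554) (.leaf 304091153)) (.leaf 18940193)) (.node (.node (.leaf 16781824) (.leaf 4565504274)) (.leaf 270606337))) (.node (.node (.node (.leaf 1114130) (.leaf 4311810320)) (.leaf 268570880)) (.node (.node (.leaf 17830144) (.leaf 69291020833)) (.leaf 286327073)))) (.node (.node (.node (.node (.leaf 1048576) (.leaf 4296020241)) (.leaf 268439809)) (.node (.node (.leaf 16851200) (.leaf 4848685314)) (.leaf 285282834))) (.node (.node (.node (.leaf 1179937) (.leaf 4313977122)) (.leaf 269553954)) (.node (.leaf 17895969) (.leaf 302064144)))))) (.node (.node (.node (.node (.node (.node (.leaf 4385) (.leaf 303112193)) (.leaf 18878978)) (.node (.node (.leaf 16777744) (.leaf 4563538208)) (.leaf 270598146))) (.node (.node (.node (.leaf 1056786) (.leaf 4297134593)) (.leaf 268509697)) (.node (.node (.leaf 17825826) (.leaf 68737442322)) (.leaf 286265858)))) (.node (.node (.node (.node (.leaf 73744) (.leaf 4295102481)) (.leaf 19010048)) (.node (.node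 (.leaf 16847136) (.leaf 4599128592)) (.leaf 285282306))) (.node (.node (.node (.leaf 1122560) (.leaf 4312924177)) (.leaf 269549825)) (.node (.leaf 17895425) (.leaf 287445280))))) (.node (.node (.node (.node (.node (.leaf 66066) (.leaf 304156962)) (.leaf 18944512)) (.node (.node (.leaf 16785696) (.leaf 4580311313)) (.leaf 270668066))) (.node (.node (.node (.leaf 1114656) (.leaf 4311818769)) (.leaf 269484033)) (.node (.leaf 17830433) (.leaf 286392337)))) (.node (.node (.node (.node (.leaf 1049090) (.leaf 4296085520)) (.leaf 268443936)) (.node (.node (.leaf 16908817) (.leaf 4850848256)) (.leaf 285344273))) (.node (.node (.node (.leaf 1184018) (.leaf 4329574945)) (.leaf 269558288)) (.node (.leaf 17957136) (.leaf 302125601)))))))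

def bigWord14 : Janko.Tree (ℕ) :=
  (.node (.node (.node (.node (.node (.node (.node (.leaf 4097) (.leaf 303108097)) (.leaf 17965344)) (.node (.node (.leaf 1188128) (.leaf 4330689024)) (.leaf 270536720))) (.node (.node (.node (.leaf 1052946) (.leaf 4297068562)) (.leaf 268505344)) (.node (.node (.leaf 16912898) (.leaf 68720595234)) (.leaf 286261521)))) (.node (.node (.node (.node (.leaf 69905) (.leaf 4294971649)) (.leaf 19005713)) (.node (.node (.leaf 16843041) (.leaf 4582412800)) (.leaf 285220897))) (.node (.node (.node (.leaf 1118497) (.leaf 4312801298)) (.leaf 269488416)) (.node (.leaf 17891360) (.leaf 287314177))))) (.node (.node (.node (.node (.node (.leaf 65568) (.leaf 304091392)) (.leaf 18940194)) (.node (.node (.leaf 16781826) (.leaf 4565504545)) (.leaf 270606352))) (.node (.node (.node (.leaf 1114144) (.leaf 4311810321)) (.leaf 268570881)) (.node (.node (.leaf 17830145) (.leaf 69291024385)) (.leaf 286327297)))) (.node (.node (.node (.node (.leaf 1048577) (.leaf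 4296020242)) (.leaf 268439824)) (.node (.node (.leaf 16851201) (.leaf 4848689168)) (.leaf 285282848))) (.node (.node (.node (.leaf 1179938) (.leaf 4328587536)) (.leaf 269554176)) (.node (.leaf 17895970) (.leaf 302064145)))))) (.node (.node (.node (.node (.node (.node (.leaf 4386) (.leaf 303112208)) (.leaf 18879009)) (.node (.node (.leaf 16777745) (.leaf 4563542288)) (.leaf 270598176))) (.node (.node (.node (.leaf 1056801) (.leaf 4297134594)) (.leaf 268509712)) (.node (.node (.leaf 17826064) (.leaf 68753096976)) (.leaf 286265874)))) (.node (.node (.node (.node (.leaf 73745) (.leaf 4295102720)) (.leaf 19010050)) (.node (.node (.leaf 16847137) (.leaf 4599128593)) (.leaf 285282321))) (.node (.node (.node (.leaf 1122561) (.leaf 4312924417)) (.leaf 269549841)) (.node (.leaf 17895426) (.leaf 287445281))))) (.node (.node (.node (.node (.node (.leaf 66080) (.leaf 304157184)) (.leaf 18944513)) (.node (.node (.leaf 16785698) (.leaf 4580311330)) (.leaf 285212689))) (.node (.node (.node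 (.leaf 1114657) (.leaf 4311818785)) (.leaf 269484048)) (.node (.leaf 17830434) (.leaf 286392577)))) (.node (.node (.node (.node (.leaf 1049104) (.leaf 4296085522)) (.leaf 268443938)) (.node (.node (.leaf 16912384) (.leaf 4865466897)) (.leaf 285347841))) (.node (.node (.node (.leaf 1184032) (.leaf 4329636353)) (.leaf 269558305)) (.node (.leaf 17957137) (.leaf 303038993)))))))

def bigWord15 : Janko.Tree (ℕ) :=
  (.node (.node (.node (.node (.node (.node (.node (.leaf 4098) (.leaf 303108112)) (.leaf 17965346)) (.node (.node (.leaf 1188130) (.leaf 4330689056)) (.leaf 270536721))) (.node (.node (.node (.leaf 1052960) (.leaf 4297068800)) (.leaf 268505345)) (.node (.node (.leaf 16912928) (.leaf 68721643777)) (.leaf 286261522)))) (.node (.node (.node (.node (.leaf 69906) (.leaf 4294971664)) (.leaf 19005714)) (.node (.node (.leaf 16843042) (.leaf 4582412802)) (.leaf 285221120))) (.node (.node (.node (.leaf 1118498) (.leaf 4312801536)) (.leaf 269488417)) (.node (.leaf 17891361) (.leaf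 287314433))))) (.node (.node (.node (.node (.node (.leaf 65569) (.leaf 304091393)) (.leaf 18944001)) (.node (.node (.leaf 16781841) (.leaf 4565508369)) (.leaf 270606353))) (.node (.node (.node (.leaf 1114145) (.leaf 4311814145)) (.leaf 268570882)) (.node (.node (.leaf 17830146) (.leaf 73014583568)) (.leaf 286327298)))) (.node (.node (.node (.node (.leaf 1048592) (.leaf 4296020258)) (.leaf 268439825)) (.node (.node (.leaf 16851217) (.leaf 4848689170)) (.leaf 285282850))) (.node (.node (.node (.leaf 1180176) (.leaf 4328587554)) (.leaf 269554177)) (.node (.leaf 17899521) (.leaf 302064146)))))) (.node (.node (.node (.node (.node (.node (.leaf 4608) (.leaf 303112210)) (.leaf 18882816)) (.node (.node (.leaf 16777746) (.leaf 4564455680)) (.leaf 270598177))) (.node (.node (.node (.leaf 1057024) (.leaf 4297138706)) (.leaf 268509713)) (.node (.node (.leaf 17826065) (.leaf 68753166354)) (.leaf 286269457)))) (.node (.node (.node (.node (.leaf 73746) (.leaf 4295102736)) (.leaf 19010080))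 (.node (.node (.leaf 16847138) (.leaf 4831904001)) (.leaf 285282336))) (.node (.node (.node (.leaf 1122577) (.leaf 4312924432)) (.leaf 269549856)) (.node (.leaf 17895440) (.leaf 287445282))))) (.node (.node (.node (.node (.node (.leaf 66081) (.leaf 304157186)) (.leaf 18944514)) (.node (.node (.leaf 16785936) (.leaf 4580315154)) (.leaf 285212929))) (.node (.node (.node (.leaf 1114658) (.leaf 4312793360)) (.leaf 269484049)) (.node (.leaf 17834000) (.leaf 286392592)))) (.node (.node (.node (.node (.leaf 1049105) (.leaf 4296085536)) (.leaf 268444176)) (.node (.node (.leaf 16912385) (.leaf 4866506785)) (.leaf 285347842))) (.node (.node (.node (.leaf 1184033) (.leaf 4329639952)) (.leaf 269615120)) (.node (.leaf 17957138) (.leaf 303038994)))))))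

def bigWord : Janko.Tree (ℕ) := (.node (.node (.node (.node bigWord0 bigWord8) (.node bigWord4 bigWord12)) (.node (.node bigWord2 bigWord10) (.node bigWord6 bigWord14))) (.node (.node (.node bigWord1 bigWord9) (.node bigWord5 bigWord13)) (.node (.node bigWord3 bigWord11) (.node bigWord7 bigWord15))))

def bigPar0 : Janko.Tree (ℕ) :=
  (.node (.node (.node (.node (.node (.node (.node (.leaf 0) (.leaf 8864)) (.leaf 3520)) (.node (.node (.leaf 1618) (.leaf 12913)) (.leaf 5777))) (.node (.node (.node (.leaf 754) (.leaf 10498)) (.leaf 4609)) (.node (.node (.leaf 2546) (.leaf 17346)) (.leaf 7233)))) (.node (.node (.node (.node (.leaf 338) (.leaf 9649)) (.leaf 4080)) (.node (.node (.leaf 2065) (.leaf 14913)) (.leaf 6576))) (.node (.node (.node (.leaf 1185) (.leaf 11649)) (.leaf 5170)) (.node (.leaf 2945) (.leaf 7953))))) (.node (.node (.node (.node (.node (.leaf 161) (.leaf 9217)) (.leaf 3825)) (.node (.node (.leaf 1857) (.leaf 13680)) (.leaf 6176))) (.node (.node (.node (.leaf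 945) (.leaf 11137)) (.leaf 4913)) (.node (.node (.leaf 2754) (.leaf 18754)) (.leaf 7522)))) (.node (.node (.node (.node (.leaf 529) (.leaf 10161)) (.leaf 4337)) (.node (.node (.leaf 2288) (.leaf 15954)) (.leaf 6897))) (.node (.node (.node (.leaf 1410) (.leaf 12176)) (.leaf 5457)) (.node (.leaf 3217) (.leaf 8416)))))) (.node (.node (.node (.node (.node (.node (.leaf 80) (.leaf 9057)) (.leaf 3666)) (.node (.node (.leaf 1728) (.leaf 13281)) (.leaf 5970))) (.node (.node (.node (.leaf 849) (.leaf 10801)) (.leaf 4722)) (.node (.node (.leaf 2641) (.leaf 18032)) (.leaf 7378)))) (.node (.node (.node (.node (.leaf 432) (.leaf 9840)) (.leaf 4240)) (.node (.node (.leaf 2193) (.leaf 15457)) (.leaf 6752))) (.node (.node (.node (.leaf 1280) (.leaf 11793)) (.leaf 5314)) (.node (.leaf 3090) (.leaf 8225))))) (.node (.node (.node (.node (.node (.leaf 242) (.leaf 9441)) (.leaf 3970)) (.node (.node (.leaf 1954) (.leaf 14290)) (.leaf 6354))) (.node (.node (.node (.leaf 1074) (.leaf 11410)) (.leaf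 5040)) (.node (.node (.leaf 2864) (.leaf 20945)) (.leaf 7730)))) (.node (.node (.node (.node (.leaf 657) (.leaf 10321)) (.leaf 4482)) (.node (.node (.leaf 2433) (.leaf 16546)) (.leaf 7009))) (.node (.node (.node (.leaf 1537) (.leaf 12656)) (.leaf 5586)) (.node (.leaf 3344) (.leaf 8688)))))))

def bigPar1 : Janko.Tree (ℕ) :=
  (.node (.node (.node (.node (.node (.node (.node (.leaf 0) (.leaf 8866)) (.leaf 3537)) (.node (.node (.leaf 1632) (.leaf 12914)) (.leaf 5793))) (.node (.node (.node (.leaf 769) (.leaf 10528)) (.leaf 4625)) (.node (.node (.leaf 2560) (.leaf 17361)) (.leaf 7234)))) (.node (.node (.node (.node (.leaf 352) (.leaf 9664)) (.leaf 4081)) (.node (.node (.leaf 2081) (.leaf 14928)) (.leaf 6577))) (.node (.node (.node (.leaf 1186) (.leaf 11666)) (.leaf 5201)) (.node (.leaf 2946) (.leaf 7954))))) (.node (.node (.node (.node (.node (.leaf 162) (.leaf 9233)) (.leaf 3840)) (.node (.node (.leaf 1872) (.leaf 13712)) (.leaf 6177))) (.node (.node (.node (.leaf 960) (.leaf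 11152)) (.leaf 4929)) (.node (.node (.leaf 2769) (.leaf 18864)) (.leaf 7537)))) (.node (.node (.node (.node (.leaf 544) (.leaf 10162)) (.leaf 4384)) (.node (.node (.leaf 2289) (.leaf 16096)) (.leaf 6898))) (.node (.node (.node (.leaf 1425) (.leaf 12208)) (.leaf 5472)) (.node (.leaf 3218) (.leaf 8418)))))) (.node (.node (.node (.node (.node (.node (.leaf 81) (.leaf 9058)) (.leaf 3681)) (.node (.node (.leaf 1730) (.leaf 13298)) (.leaf 5984))) (.node (.node (.node (.leaf 850) (.leaf 10802)) (.leaf 4737)) (.node (.node (.leaf 2642) (.leaf 18114)) (.leaf 7394)))) (.node (.node (.node (.node (.leaf 433) (.leaf 9856)) (.leaf 4242)) (.node (.node (.leaf 2194) (.leaf 15506)) (.leaf 6753))) (.node (.node (.node (.leaf 1281) (.leaf 11841)) (.leaf 5328)) (.node (.leaf 3105) (.leaf 8241))))) (.node (.node (.node (.node (.node (.leaf 256) (.leaf 9442)) (.leaf 3986)) (.node (.node (.leaf 1968) (.leaf 14321)) (.leaf 6385))) (.node (.node (.node (.leaf 1089) (.leaf 11424)) (.leaf 5041))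 (.node (.node (.leaf 2865) (.leaf 21473)) (.leaf 7744)))) (.node (.node (.node (.node (.leaf 658) (.leaf 10322)) (.leaf 4496)) (.node (.node (.leaf 2448) (.leaf 16576)) (.leaf 7024))) (.node (.node (.node (.leaf 1538) (.leaf 12658)) (.leaf 5601)) (.node (.leaf 3345) (.leaf 8690)))))))

def bigPar2 : Janko.Tree (ℕ) :=
  (.node (.node (.node (.node (.node (.node (.node (.leaf 1) (.leaf 8880)) (.leaf 3553)) (.node (.node (.leaf 1633) (.leaf 12928)) (.leaf 5808))) (.node (.node (.node (.leaf 770) (.leaf 10530)) (.leaf 4640)) (.node (.node (.leaf 2561) (.leaf 17377)) (.leaf 7248)))) (.node (.node (.node (.node (.leaf 353) (.leaf 9681)) (.leaf 4096)) (.node (.node (.leaf 2096) (.leaf 14929)) (.leaf 6578))) (.node (.node (.node (.leaf 1200) (.leaf 11682)) (.leaf 5202)) (.node (.leaf 2961) (.leaf 7968))))) (.node (.node (.node (.node (.node (.leaf 176) (.leaf 9265)) (.leaf 3841)) (.node (.node (.leaf 1873) (.leaf 13713)) (.leaf 6194))) (.node (.node (.node (.leaf 961) (.leaf 11153))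 (.leaf 4944)) (.node (.node (.leaf 2770) (.leaf 18977)) (.leaf 7552)))) (.node (.node (.node (.node (.leaf 545) (.leaf 10176)) (.leaf 4385)) (.node (.node (.leaf 2290) (.leaf 16098)) (.leaf 6912))) (.node (.node (.node (.leaf 1440) (.leaf 12258)) (.leaf 5473)) (.node (.leaf 3232) (.leaf 8432)))))) (.node (.node (.node (.node (.node (.node (.leaf 82) (.leaf 9072)) (.leaf 3696)) (.node (.node (.leaf 1745) (.leaf 13313)) (.leaf 5985))) (.node (.node (.node (.leaf 864) (.leaf 10865)) (.leaf 4738)) (.node (.node (.leaf 2657) (.leaf 18225)) (.leaf 7409)))) (.node (.node (.node (.node (.leaf 434) (.leaf 9873)) (.leaf 4256)) (.node (.node (.leaf 2208) (.leaf 15586)) (.leaf 6754))) (.node (.node (.node (.leaf 1282) (.leaf 11857)) (.leaf 5329)) (.node (.leaf 3120) (.leaf 8257))))) (.node (.node (.node (.node (.node (.leaf 257) (.leaf 9473)) (.leaf 4000)) (.node (.node (.leaf 1969) (.leaf 14386)) (.leaf 6400))) (.node (.node (.node (.leaf 1104) (.leaf 11425)) (.leaf 5042)) (.node (.leaf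 2866) (.leaf 7746)))) (.node (.node (.node (.node (.leaf 672) (.leaf 10336)) (.leaf 4498)) (.node (.node (.leaf 2449) (.leaf 16594)) (.leaf 7025))) (.node (.node (.node (.leaf 1552) (.leaf 12673)) (.leaf 5602)) (.node (.leaf 3346) (.leaf 8705)))))))

def bigPar3 : Janko.Tree (ℕ) :=
  (.node (.node (.node (.node (.node (.node (.node (.leaf 2) (.leaf 8882)) (.leaf 3554)) (.node (.node (.leaf 1634) (.leaf 13025)) (.leaf 5810))) (.node (.node (.node (.leaf 784) (.leaf 10545)) (.leaf 4641)) (.node (.node (.leaf 2562) (.leaf 17489)) (.leaf 7249)))) (.node (.node (.node (.node (.leaf 354) (.leaf 9713)) (.leaf 4113)) (.node (.node (.leaf 2097) (.leaf 14978)) (.leaf 6609))) (.node (.node (.node (.leaf 1201) (.leaf 11697)) (.leaf 5217)) (.node (.leaf 2976) (.leaf 8000))))) (.node (.node (.node (.node (.node (.leaf 177) (.leaf 9281)) (.leaf 3842)) (.node (.node (.leaf 1874) (.leaf 13778)) (.leaf 6226))) (.node (.node (.node (.leaf 962) (.leaf 11154)) (.leaf 4945)) (.node (.node (.leaf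 2785) (.leaf 19058)) (.leaf 7553)))) (.node (.node (.node (.node (.leaf 560) (.leaf 10178)) (.leaf 4401)) (.node (.node (.leaf 2304) (.leaf 16128)) (.leaf 6913))) (.node (.node (.node (.leaf 1441) (.leaf 12273)) (.leaf 5488)) (.node (.leaf 3233) (.leaf 8433)))))) (.node (.node (.node (.node (.node (.node (.leaf 96) (.leaf 9073)) (.leaf 3697)) (.node (.node (.leaf 1760) (.leaf 13346)) (.leaf 6001))) (.node (.node (.node (.leaf 865) (.leaf 10880)) (.leaf 4754)) (.node (.node (.leaf 2672) (.leaf 18241)) (.leaf 7410)))) (.node (.node (.node (.node (.leaf 448) (.leaf 9888)) (.leaf 4257)) (.node (.node (.leaf 2209) (.leaf 15618)) (.leaf 6784))) (.node (.node (.node (.leaf 1296) (.leaf 11872)) (.leaf 5330)) (.node (.leaf 3121) (.leaf 8274))))) (.node (.node (.node (.node (.node (.leaf 272) (.leaf 9474)) (.leaf 4001)) (.node (.node (.leaf 1970) (.leaf 14400)) (.leaf 6402))) (.node (.node (.node (.leaf 1105) (.leaf 11440)) (.leaf 5056)) (.node (.leaf 2880) (.leaf 7762)))) (.node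 (.node (.node (.node (.leaf 673) (.leaf 10337)) (.leaf 4512)) (.node (.node (.leaf 2450) (.leaf 16657)) (.leaf 7026))) (.node (.node (.node (.leaf 1553) (.leaf 12674)) (.leaf 5616)) (.node (.leaf 3377) (.leaf 8706)))))))

def bigPar4 : Janko.Tree (ℕ) :=
  (.node (.node (.node (.node (.node (.node (.node (.leaf 16) (.leaf 8897)) (.leaf 3568)) (.node (.node (.leaf 1648) (.leaf 13042)) (.leaf 5841))) (.node (.node (.node (.leaf 785) (.leaf 10546)) (.leaf 4642)) (.node (.node (.leaf 2576) (.leaf 17520)) (.leaf 7250)))) (.node (.node (.node (.node (.leaf 368) (.leaf 9728)) (.leaf 4128)) (.node (.node (.leaf 2098) (.leaf 15040)) (.leaf 6624))) (.node (.node (.node (.leaf 1202) (.leaf 11698)) (.leaf 5233)) (.node (.leaf 2977) (.leaf 8048))))) (.node (.node (.node (.node (.node (.leaf 178) (.leaf 9298)) (.leaf 3856)) (.node (.node (.leaf 1888) (.leaf 13842)) (.leaf 6240))) (.node (.node (.node (.leaf 976) (.leaf 11168)) (.leaf 4946)) (.node (.node (.leaf 2786) (.leaf 19136)) (.leaf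 7568)))) (.node (.node (.node (.node (.leaf 561) (.leaf 10194)) (.leaf 4416)) (.node (.node (.leaf 2305) (.leaf 16160)) (.leaf 6914))) (.node (.node (.node (.leaf 1442) (.leaf 12289)) (.leaf 5490)) (.node (.leaf 3234) (.leaf 8464)))))) (.node (.node (.node (.node (.node (.node (.leaf 97) (.leaf 9074)) (.leaf 3698)) (.node (.node (.leaf 1761) (.leaf 13361)) (.leaf 6002))) (.node (.node (.node (.leaf 866) (.leaf 10882)) (.leaf 4768)) (.node (.node (.leaf 2673) (.leaf 18257)) (.leaf 7425)))) (.node (.node (.node (.node (.leaf 449) (.leaf 9889)) (.leaf 4258)) (.node (.node (.leaf 2210) (.leaf 15650)) (.leaf 6785))) (.node (.node (.node (.leaf 1297) (.leaf 11904)) (.leaf 5345)) (.node (.leaf 3136) (.leaf 8305))))) (.node (.node (.node (.node (.node (.leaf 273) (.leaf 9489)) (.leaf 4002)) (.node (.node (.leaf 1984) (.leaf 14401)) (.leaf 6417))) (.node (.node (.node (.leaf 1106) (.leaf 11441)) (.leaf 5058)) (.node (.leaf 2881) (.leaf 7776)))) (.node (.node (.node (.node (.leaf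 674) (.leaf 10338)) (.leaf 4514)) (.node (.node (.leaf 2465) (.leaf 16673)) (.leaf 7056))) (.node (.node (.node (.leaf 1554) (.leaf 12688)) (.leaf 5617)) (.node (.leaf 3393) (.leaf 8720)))))))

def bigPar5 : Janko.Tree (ℕ) :=
  (.node (.node (.node (.node (.node (.node (.node (.leaf 17) (.leaf 8898)) (.leaf 3569)) (.node (.node (.leaf 1649) (.leaf 13074)) (.leaf 5872))) (.node (.node (.node (.leaf 786) (.leaf 10576)) (.leaf 4656)) (.node (.node (.leaf 2577) (.leaf 17521)) (.leaf 7265)))) (.node (.node (.node (.node (.leaf 369) (.leaf 9729)) (.leaf 4129)) (.node (.node (.leaf 2113) (.leaf 15042)) (.leaf 6625))) (.node (.node (.node (.leaf 1216) (.leaf 11713)) (.leaf 5234)) (.node (.leaf 2992) (.leaf 8064))))) (.node (.node (.node (.node (.node (.leaf 192) (.leaf 9312)) (.leaf 3858)) (.node (.node (.leaf 1889) (.leaf 13857)) (.leaf 6241))) (.node (.node (.node (.leaf 978) (.leaf 11217)) (.leaf 4960)) (.node (.node (.leaf 2800) (.leaf 19202)) (.leaf 7586)))) (.node (.node (.node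 (.node (.leaf 562) (.leaf 10210)) (.leaf 4417)) (.node (.node (.leaf 2306) (.leaf 16161)) (.leaf 6930))) (.node (.node (.node (.leaf 1457) (.leaf 12306)) (.leaf 5505)) (.node (.leaf 3264) (.leaf 8481)))))) (.node (.node (.node (.node (.node (.node (.leaf 98) (.leaf 9106)) (.leaf 3712)) (.node (.node (.leaf 1762) (.leaf 13394)) (.leaf 6033))) (.node (.node (.node (.leaf 880) (.leaf 10928)) (.leaf 4769)) (.node (.node (.leaf 2674) (.leaf 18274)) (.leaf 7426)))) (.node (.node (.node (.node (.leaf 450) (.leaf 9936)) (.leaf 4272)) (.node (.node (.leaf 2224) (.leaf 15666)) (.leaf 6801))) (.node (.node (.node (.leaf 1298) (.leaf 11920)) (.leaf 5360)) (.node (.leaf 3137) (.leaf 8306))))) (.node (.node (.node (.node (.node (.leaf 274) (.leaf 9520)) (.leaf 4016)) (.node (.node (.leaf 1985) (.leaf 14480)) (.leaf 6432))) (.node (.node (.node (.leaf 1120) (.leaf 11442)) (.leaf 5072)) (.node (.leaf 2882) (.leaf 7777)))) (.node (.node (.node (.node (.leaf 689) (.leaf 10353)) (.leaf 4529))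 (.node (.node (.leaf 2481) (.leaf 16674)) (.leaf 7120))) (.node (.node (.node (.leaf 1568) (.leaf 12704)) (.leaf 5618)) (.node (.leaf 3410) (.leaf 8721)))))))

def bigPar6 : Janko.Tree (ℕ) :=
  (.node (.node (.node (.node (.node (.node (.node (.leaf 18) (.leaf 8912)) (.leaf 3584)) (.node (.node (.leaf 1650) (.leaf 13106)) (.leaf 5873))) (.node (.node (.node (.leaf 800) (.leaf 10578)) (.leaf 4658)) (.node (.node (.leaf 2578) (.leaf 17536)) (.leaf 7266)))) (.node (.node (.node (.node (.leaf 370) (.leaf 9730)) (.leaf 4130)) (.node (.node (.leaf 2128) (.leaf 15137)) (.leaf 6641))) (.node (.node (.node (.leaf 1217) (.leaf 11714)) (.leaf 5249)) (.node (.leaf 2993) (.leaf 8066))))) (.node (.node (.node (.node (.node (.leaf 193) (.leaf 9330)) (.leaf 3872)) (.node (.node (.leaf 1890) (.leaf 13890)) (.leaf 6242))) (.node (.node (.node (.leaf 1008) (.leaf 11233)) (.leaf 4961)) (.node (.node (.leaf 2801) (.leaf 19296)) (.leaf 7617)))) (.node (.node (.node (.node (.leaf 576) (.leaf 10225))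 (.leaf 4418)) (.node (.node (.leaf 2320) (.leaf 16210)) (.leaf 6944))) (.node (.node (.node (.leaf 1472) (.leaf 12320)) (.leaf 5506)) (.node (.leaf 3266) (.leaf 8498)))))) (.node (.node (.node (.node (.node (.node (.leaf 112) (.leaf 9120)) (.leaf 3713)) (.node (.node (.leaf 1777) (.leaf 13410)) (.leaf 6034))) (.node (.node (.node (.leaf 881) (.leaf 10946)) (.leaf 4770)) (.node (.node (.leaf 2688) (.leaf 18288)) (.leaf 7440)))) (.node (.node (.node (.node (.leaf 464) (.leaf 9938)) (.leaf 4273)) (.node (.node (.leaf 2225) (.leaf 15681)) (.leaf 6832))) (.node (.node (.node (.leaf 1312) (.leaf 11937)) (.leaf 5361)) (.node (.leaf 3153) (.leaf 8336))))) (.node (.node (.node (.node (.node (.leaf 288) (.leaf 9521)) (.leaf 4017)) (.node (.node (.leaf 1986) (.leaf 14482)) (.leaf 6433))) (.node (.node (.node (.leaf 1121) (.leaf 11472)) (.leaf 5074)) (.node (.leaf 2896) (.leaf 7778)))) (.node (.node (.node (.node (.leaf 704) (.leaf 10368)) (.leaf 4530)) (.node (.node (.leaf 2496) (.leaf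 16816)) (.leaf 7121))) (.node (.node (.node (.leaf 1569) (.leaf 12705)) (.leaf 5633)) (.node (.leaf 3440) (.leaf 8736)))))))

def bigPar7 : Janko.Tree (ℕ) :=
  (.node (.node (.node (.node (.node (.node (.node (.leaf 32) (.leaf 8929)) (.leaf 3585)) (.node (.node (.leaf 1664) (.leaf 13152)) (.leaf 5888))) (.node (.node (.node (.leaf 801) (.leaf 10609)) (.leaf 4673)) (.node (.node (.leaf 2592) (.leaf 17585)) (.leaf 7282)))) (.node (.node (.node (.node (.leaf 384) (.leaf 9745)) (.leaf 4161)) (.node (.node (.leaf 2129) (.leaf 15184)) (.leaf 6657))) (.node (.node (.node (.leaf 1218) (.leaf 11728)) (.leaf 5264)) (.node (.leaf 2994) (.leaf 8082))))) (.node (.node (.node (.node (.node (.leaf 194) (.leaf 9360)) (.leaf 3874)) (.node (.node (.leaf 1904) (.leaf 13920)) (.leaf 6257))) (.node (.node (.node (.leaf 1009) (.leaf 11250)) (.leaf 4976)) (.node (.node (.leaf 2802) (.leaf 19394)) (.leaf 7633)))) (.node (.node (.node (.node (.leaf 578) (.leaf 10240)) (.leaf 4432)) (.node (.node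 (.leaf 2321) (.leaf 16225)) (.leaf 6945))) (.node (.node (.node (.leaf 1473) (.leaf 12321)) (.leaf 5520)) (.node (.leaf 3280) (.leaf 8544)))))) (.node (.node (.node (.node (.node (.node (.leaf 113) (.leaf 9121)) (.leaf 3714)) (.node (.node (.leaf 1792) (.leaf 13426)) (.leaf 6065))) (.node (.node (.node (.leaf 882) (.leaf 10978)) (.leaf 4785)) (.node (.node (.leaf 2690) (.leaf 18289)) (.leaf 7441)))) (.node (.node (.node (.node (.leaf 465) (.leaf 9953)) (.leaf 4288)) (.node (.node (.leaf 2226) (.leaf 15713)) (.leaf 6833))) (.node (.node (.node (.leaf 1313) (.leaf 11938)) (.leaf 5362)) (.node (.leaf 3154) (.leaf 8337))))) (.node (.node (.node (.node (.node (.leaf 289) (.leaf 9553)) (.leaf 4018)) (.node (.node (.leaf 2001) (.leaf 14498)) (.leaf 6434))) (.node (.node (.node (.leaf 1122) (.leaf 11474)) (.leaf 5089)) (.node (.leaf 2897) (.leaf 7793)))) (.node (.node (.node (.node (.leaf 705) (.leaf 10385)) (.leaf 4544)) (.node (.node (.leaf 2497) (.leaf 16818)) (.leaf 7137)))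 (.node (.node (.node (.leaf 1570) (.leaf 12706)) (.leaf 5648)) (.node (.leaf 3441) (.leaf 8737)))))))

def bigPar8 : Janko.Tree (ℕ) :=
  (.node (.node (.node (.node (.node (.node (.node (.leaf 33) (.leaf 8961)) (.leaf 3600)) (.node (.node (.leaf 1665) (.leaf 13153)) (.leaf 5890))) (.node (.node (.node (.leaf 802) (.leaf 10673)) (.leaf 4674)) (.node (.node (.leaf 2593) (.leaf 17634)) (.leaf 7296)))) (.node (.node (.node (.node (.leaf 385) (.leaf 9760)) (.leaf 4176)) (.node (.node (.leaf 2130) (.leaf 15216)) (.leaf 6658))) (.node (.node (.node (.leaf 1232) (.leaf 11729)) (.leaf 5265)) (.node (.leaf 3010) (.leaf 8097))))) (.node (.node (.node (.node (.node (.leaf 208) (.leaf 9361)) (.leaf 3904)) (.node (.node (.leaf 1905) (.leaf 13953)) (.leaf 6258))) (.node (.node (.node (.leaf 1025) (.leaf 11314)) (.leaf 4977)) (.node (.node (.leaf 2817) (.leaf 19457)) (.leaf 7648)))) (.node (.node (.node (.node (.leaf 593) (.leaf 10242)) (.leaf 4434)) (.node (.node (.leaf 2322) (.leaf 16273))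 (.leaf 6946))) (.node (.node (.node (.leaf 1489) (.leaf 12369)) (.leaf 5521)) (.node (.leaf 3281) (.leaf 8546)))))) (.node (.node (.node (.node (.node (.node (.leaf 114) (.leaf 9122)) (.leaf 3728)) (.node (.node (.leaf 1793) (.leaf 13441)) (.leaf 6081))) (.node (.node (.node (.leaf 896) (.leaf 10992)) (.leaf 4786)) (.node (.node (.leaf 2704) (.leaf 18290)) (.leaf 7442)))) (.node (.node (.node (.node (.leaf 466) (.leaf 9970)) (.leaf 4289)) (.node (.node (.leaf 2240) (.leaf 15761)) (.leaf 6834))) (.node (.node (.node (.leaf 1314) (.leaf 11952)) (.leaf 5377)) (.node (.leaf 3168) (.leaf 8354))))) (.node (.node (.node (.node (.node (.leaf 290) (.leaf 9554)) (.leaf 4033)) (.node (.node (.leaf 2016) (.leaf 14561)) (.leaf 6448))) (.node (.node (.node (.leaf 1137) (.leaf 11488)) (.leaf 5090)) (.node (.leaf 2898) (.leaf 7810)))) (.node (.node (.node (.node (.leaf 706) (.leaf 10432)) (.leaf 4546)) (.node (.node (.leaf 2498) (.leaf 16880)) (.leaf 7168))) (.node (.node (.node (.leaf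 1584) (.leaf 12722)) (.leaf 5649)) (.node (.leaf 3442) (.leaf 8738)))))))

def bigPar9 : Janko.Tree (ℕ) :=
  (.node (.node (.node (.node (.node (.node (.node (.leaf 34) (.leaf 8962)) (.leaf 3601)) (.node (.node (.leaf 1666) (.leaf 13185)) (.leaf 5920))) (.node (.node (.node (.leaf 816) (.leaf 10689)) (.leaf 4688)) (.node (.node (.leaf 2594) (.leaf 17649)) (.leaf 7297)))) (.node (.node (.node (.node (.leaf 386) (.leaf 9762)) (.leaf 4177)) (.node (.node (.leaf 2145) (.leaf 15264)) (.leaf 6673))) (.node (.node (.node (.leaf 1233) (.leaf 11730)) (.leaf 5280)) (.node (.leaf 3040) (.leaf 8113))))) (.node (.node (.node (.node (.node (.leaf 209) (.leaf 9362)) (.leaf 3905)) (.node (.node (.leaf 1906) (.leaf 14017)) (.leaf 6273))) (.node (.node (.node (.leaf 1040) (.leaf 11328)) (.leaf 4992)) (.node (.node (.leaf 2818) (.leaf 19762)) (.leaf 7649)))) (.node (.node (.node (.node (.leaf 608) (.leaf 10256)) (.leaf 4448)) (.node (.node (.leaf 2337) (.leaf 16305)) (.leaf 6960))) (.node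 (.node (.node (.leaf 1504) (.leaf 12386)) (.leaf 5522)) (.node (.leaf 3282) (.leaf 8562)))))) (.node (.node (.node (.node (.node (.node (.leaf 128) (.leaf 9137)) (.leaf 3729)) (.node (.node (.leaf 1794) (.leaf 13536)) (.leaf 6096))) (.node (.node (.node (.leaf 897) (.leaf 10993)) (.leaf 4800)) (.node (.node (.leaf 2705) (.leaf 18305)) (.leaf 7457)))) (.node (.node (.node (.node (.leaf 480) (.leaf 9986)) (.leaf 4290)) (.node (.node (.leaf 2241) (.leaf 15762)) (.leaf 6848))) (.node (.node (.node (.leaf 1329) (.leaf 11954)) (.leaf 5378)) (.node (.leaf 3169) (.leaf 8368))))) (.node (.node (.node (.node (.node (.leaf 305) (.leaf 9570)) (.leaf 4034)) (.node (.node (.leaf 2017) (.leaf 14609)) (.leaf 6464))) (.node (.node (.node (.leaf 1138) (.leaf 11490)) (.leaf 5105)) (.node (.leaf 2912) (.leaf 7888)))) (.node (.node (.node (.node (.leaf 720) (.leaf 10433)) (.leaf 4561)) (.node (.node (.leaf 2512) (.leaf 16912)) (.leaf 7169))) (.node (.node (.node (.leaf 1585) (.leaf 12785)) (.leaf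 5650)) (.node (.leaf 3457) (.leaf 8752)))))))

def bigPar10 : Janko.Tree (ℕ) :=
  (.node (.node (.node (.node (.node (.node (.node (.leaf 48) (.leaf 8976)) (.leaf 3602)) (.node (.node (.leaf 1681) (.leaf 13200)) (.leaf 5921))) (.node (.node (.node (.leaf 817) (.leaf 10736)) (.leaf 4690)) (.node (.node (.leaf 2608) (.leaf 17730)) (.leaf 7329)))) (.node (.node (.node (.node (.leaf 400) (.leaf 9776)) (.leaf 4178)) (.node (.node (.leaf 2160) (.leaf 15266)) (.leaf 6674))) (.node (.node (.node (.leaf 1234) (.leaf 11744)) (.leaf 5282)) (.node (.leaf 3041) (.leaf 8114))))) (.node (.node (.node (.node (.node (.leaf 210) (.leaf 9376)) (.leaf 3936)) (.node (.node (.leaf 1920) (.leaf 14065)) (.leaf 6274))) (.node (.node (.node (.leaf 1041) (.leaf 11329)) (.leaf 5008)) (.node (.node (.leaf 2832) (.leaf 19792)) (.leaf 7680)))) (.node (.node (.node (.node (.leaf 609) (.leaf 10257)) (.leaf 4449)) (.node (.node (.leaf 2352) (.leaf 16336)) (.leaf 6961))) (.node (.node (.node (.leaf 1505)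 (.leaf 12418)) (.leaf 5536)) (.node (.leaf 3297) (.leaf 8594)))))) (.node (.node (.node (.node (.node (.node (.leaf 129) (.leaf 9152)) (.leaf 3745)) (.node (.node (.leaf 1808) (.leaf 13537)) (.leaf 6097))) (.node (.node (.node (.leaf 898) (.leaf 10994)) (.leaf 4801)) (.node (.node (.leaf 2720) (.leaf 18434)) (.leaf 7472)))) (.node (.node (.node (.node (.leaf 481) (.leaf 10017)) (.leaf 4304)) (.node (.node (.leaf 2242) (.leaf 15792)) (.leaf 6849))) (.node (.node (.node (.leaf 1344) (.leaf 11985)) (.leaf 5392)) (.node (.leaf 3170) (.leaf 8369))))) (.node (.node (.node (.node (.node (.leaf 306) (.leaf 9584)) (.leaf 4048)) (.node (.node (.leaf 2032) (.leaf 14625)) (.leaf 6465))) (.node (.node (.node (.leaf 1152) (.leaf 11505)) (.leaf 5120)) (.node (.leaf 2913) (.leaf 7890)))) (.node (.node (.node (.node (.leaf 721) (.leaf 10448)) (.leaf 4576)) (.node (.node (.leaf 2513) (.leaf 16930)) (.leaf 7170))) (.node (.node (.node (.leaf 1586) (.leaf 12786)) (.leaf 5681)) (.node (.leaf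 3472) (.leaf 8754)))))))

def bigPar11 : Janko.Tree (ℕ) :=
  (.node (.node (.node (.node (.node (.node (.node (.leaf 49) (.leaf 8993)) (.leaf 3632)) (.node (.node (.leaf 1696) (.leaf 13201)) (.leaf 5922))) (.node (.node (.node (.leaf 818) (.leaf 10737)) (.leaf 4704)) (.node (.node (.leaf 2610) (.leaf 17745)) (.leaf 7330)))) (.node (.node (.node (.node (.leaf 401) (.leaf 9777)) (.leaf 4193)) (.node (.node (.leaf 2161) (.leaf 15313)) (.leaf 6689))) (.node (.node (.node (.leaf 1249) (.leaf 11745)) (.leaf 5296)) (.node (.leaf 3057) (.leaf 8129))))) (.node (.node (.node (.node (.node (.leaf 224) (.leaf 9378)) (.leaf 3937)) (.node (.node (.leaf 1921) (.leaf 14114)) (.leaf 6305))) (.node (.node (.node (.leaf 1042) (.leaf 11360)) (.leaf 5009)) (.node (.node (.leaf 2833) (.leaf 20114)) (.leaf 7681)))) (.node (.node (.node (.node (.leaf 610) (.leaf 10272)) (.leaf 4450)) (.node (.node (.leaf 2353) (.leaf 16354)) (.leaf 6962))) (.node (.node (.node (.leaf 1506) (.leaf 12448)) (.leaf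 5538)) (.node (.leaf 3298) (.leaf 8609)))))) (.node (.node (.node (.node (.node (.node (.leaf 130) (.leaf 9153)) (.leaf 3746)) (.node (.node (.leaf 1809) (.leaf 13584)) (.leaf 6098))) (.node (.node (.node (.leaf 912) (.leaf 11009)) (.leaf 4802)) (.node (.node (.leaf 2721) (.leaf 18480)) (.leaf 7473)))) (.node (.node (.node (.node (.leaf 482) (.leaf 10097)) (.leaf 4305)) (.node (.node (.leaf 2257) (.leaf 15794)) (.leaf 6850))) (.node (.node (.node (.leaf 1345) (.leaf 12001)) (.leaf 5393)) (.node (.leaf 3184) (.leaf 8384))))) (.node (.node (.node (.node (.node (.leaf 320) (.leaf 9585)) (.leaf 4049)) (.node (.node (.leaf 2033) (.leaf 14656)) (.leaf 6466))) (.node (.node (.node (.leaf 1153) (.leaf 11520)) (.leaf 5122)) (.node (.leaf 2914) (.leaf 7905)))) (.node (.node (.node (.node (.leaf 722) (.leaf 10450)) (.leaf 4577)) (.node (.node (.leaf 2514) (.leaf 17040)) (.leaf 7186))) (.node (.node (.node (.leaf 1600) (.leaf 12816)) (.leaf 5697)) (.node (.leaf 3473) (.leaf 8768)))))))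

def bigPar12 : Janko.Tree (ℕ) :=
  (.node (.node (.node (.node (.node (.node (.node (.leaf 50) (.leaf 9008)) (.leaf 3633)) (.node (.node (.leaf 1697) (.leaf 13202)) (.leaf 5936))) (.node (.node (.node (.leaf 832) (.leaf 10738)) (.leaf 4705)) (.node (.node (.leaf 2624) (.leaf 17776)) (.leaf 7344)))) (.node (.node (.node (.node (.leaf 402) (.leaf 9778)) (.leaf 4209)) (.node (.node (.leaf 2162) (.leaf 15330)) (.leaf 6704))) (.node (.node (.node (.leaf 1250) (.leaf 11762)) (.leaf 5297)) (.node (.leaf 3073) (.leaf 8130))))) (.node (.node (.node (.node (.node (.leaf 225) (.leaf 9408)) (.leaf 3952)) (.node (.node (.leaf 1922) (.leaf 14145)) (.leaf 6306))) (.node (.node (.node (.leaf 1057) (.leaf 11361)) (.leaf 5010)) (.node (.node (.leaf 2834) (.leaf 20257)) (.leaf 7696)))) (.node (.node (.node (.node (.leaf 625) (.leaf 10288)) (.leaf 4464)) (.node (.node (.leaf 2354) (.leaf 16401)) (.leaf 6977))) (.node (.node (.node (.leaf 1520) (.leaf 12465)) (.leaf 5568)) (.node (.leaf 3312)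 (.leaf 8610)))))) (.node (.node (.node (.node (.node (.node (.leaf 144) (.leaf 9154)) (.leaf 3777)) (.node (.node (.leaf 1810) (.leaf 13586)) (.leaf 6112))) (.node (.node (.node (.leaf 913) (.leaf 11010)) (.leaf 4817)) (.node (.node (.leaf 2722) (.leaf 18544)) (.leaf 7488)))) (.node (.node (.node (.node (.leaf 497) (.leaf 10128)) (.leaf 4306)) (.node (.node (.leaf 2258) (.leaf 15856)) (.leaf 6865))) (.node (.node (.node (.leaf 1346) (.leaf 12096)) (.leaf 5394)) (.node (.leaf 3186) (.leaf 8386))))) (.node (.node (.node (.node (.node (.leaf 321) (.leaf 9586)) (.leaf 4050)) (.node (.node (.leaf 2034) (.leaf 14785)) (.leaf 6480))) (.node (.node (.node (.leaf 1154) (.leaf 11553)) (.leaf 5136)) (.node (.leaf 2928) (.leaf 7920)))) (.node (.node (.node (.node (.leaf 737) (.leaf 10465)) (.leaf 4578)) (.node (.node (.leaf 2528) (.leaf 17042)) (.leaf 7200))) (.node (.node (.node (.leaf 1601) (.leaf 12818)) (.leaf 5714)) (.node (.leaf 3489) (.leaf 8784)))))))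

def bigPar13 : Janko.Tree (ℕ) :=
  (.node (.node (.node (.node (.node (.node (.node (.leaf 64) (.leaf 9010)) (.leaf 3634)) (.node (.node (.leaf 1698) (.leaf 13234)) (.leaf 5954))) (.node (.node (.node (.leaf 833) (.leaf 10769)) (.leaf 4706)) (.node (.node (.leaf 2625) (.leaf 17778)) (.leaf 7360)))) (.node (.node (.node (.node (.leaf 416) (.leaf 9792)) (.leaf 4224)) (.node (.node (.leaf 2176) (.leaf 15345)) (.leaf 6706))) (.node (.node (.node (.leaf 1264) (.leaf 11777)) (.leaf 5298)) (.node (.leaf 3074) (.leaf 8144))))) (.node (.node (.node (.node (.node (.leaf 226) (.leaf 9409)) (.leaf 3953)) (.node (.node (.leaf 1936) (.leaf 14226)) (.leaf 6337))) (.node (.node (.node (.leaf 1058) (.leaf 11392)) (.leaf 5024)) (.node (.node (.leaf 2848) (.leaf 20689)) (.leaf 7697)))) (.node (.node (.node (.node (.leaf 640) (.leaf 10289)) (.leaf 4465)) (.node (.node (.leaf 2384) (.leaf 16418)) (.leaf 6978))) (.node (.node (.node (.leaf 1521) (.leaf 12466)) (.leaf 5570)) (.node (.leaf 3313)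 (.leaf 8672)))))) (.node (.node (.node (.node (.node (.node (.leaf 145) (.leaf 9169)) (.leaf 3778)) (.node (.node (.leaf 1840) (.leaf 13600)) (.leaf 6114))) (.node (.node (.node (.leaf 914) (.leaf 11057)) (.leaf 4881)) (.node (.node (.leaf 2738) (.leaf 18562)) (.leaf 7490)))) (.node (.node (.node (.node (.leaf 512) (.leaf 10129)) (.leaf 4320)) (.node (.node (.leaf 2272) (.leaf 15920)) (.leaf 6866))) (.node (.node (.node (.leaf 1376) (.leaf 12129)) (.leaf 5409)) (.node (.leaf 3201) (.leaf 8400))))) (.node (.node (.node (.node (.node (.leaf 322) (.leaf 9618)) (.leaf 4064)) (.node (.node (.leaf 2048) (.leaf 14833)) (.leaf 6482))) (.node (.node (.node (.leaf 1168) (.leaf 11617)) (.leaf 5153)) (.node (.leaf 2929) (.leaf 7921)))) (.node (.node (.node (.node (.leaf 738) (.leaf 10480)) (.leaf 4592)) (.node (.node (.leaf 2529) (.leaf 17056)) (.leaf 7201))) (.node (.node (.node (.leaf 1602) (.leaf 12833)) (.leaf 5744)) (.node (.leaf 3504) (.leaf 8785)))))))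

def bigPar14 : Janko.Tree (ℕ) :=
  (.node (.node (.node (.node (.node (.node (.node (.leaf 65) (.leaf 9041)) (.leaf 3648)) (.node (.node (.leaf 1712) (.leaf 13248)) (.leaf 5968))) (.node (.node (.node (.leaf 834) (.leaf 10770)) (.leaf 4720)) (.node (.node (.leaf 2626) (.leaf 17794)) (.leaf 7361)))) (.node (.node (.node (.node (.leaf 417) (.leaf 9793)) (.leaf 4225)) (.node (.node (.leaf 2177) (.leaf 15440)) (.leaf 6721))) (.node (.node (.node (.leaf 1265) (.leaf 11778)) (.leaf 5312)) (.node (.leaf 3088) (.leaf 8145))))) (.node (.node (.node (.node (.node (.leaf 240) (.leaf 9424)) (.leaf 3954)) (.node (.node (.leaf 1938) (.leaf 14257)) (.leaf 6352))) (.node (.node (.node (.leaf 1072) (.leaf 11393)) (.leaf 5025)) (.node (.node (.leaf 2849) (.leaf 20705)) (.leaf 7713)))) (.node (.node (.node (.node (.leaf 641) (.leaf 10290)) (.leaf 4480)) (.node (.node (.leaf 2385) (.leaf 16448)) (.leaf 6992))) (.node (.node (.node (.leaf 1522) (.leaf 12528)) (.leaf 5584)) (.node (.leaf 3314)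 (.leaf 8673)))))) (.node (.node (.node (.node (.node (.node (.leaf 146) (.leaf 9184)) (.leaf 3809)) (.node (.node (.leaf 1841) (.leaf 13632)) (.leaf 6144))) (.node (.node (.node (.leaf 929) (.leaf 11058)) (.leaf 4896)) (.node (.node (.leaf 2752) (.leaf 18640)) (.leaf 7506)))) (.node (.node (.node (.node (.leaf 513) (.leaf 10144)) (.leaf 4322)) (.node (.node (.leaf 2273) (.leaf 15921)) (.leaf 6881))) (.node (.node (.node (.leaf 1377) (.leaf 12145)) (.leaf 5425)) (.node (.leaf 3202) (.leaf 8401))))) (.node (.node (.node (.node (.node (.leaf 336) (.leaf 9632)) (.leaf 4065)) (.node (.node (.leaf 2050) (.leaf 14850)) (.leaf 6545))) (.node (.node (.node (.leaf 1169) (.leaf 11633)) (.leaf 5168)) (.node (.leaf 2930) (.leaf 7937)))) (.node (.node (.node (.node (.leaf 752) (.leaf 10482)) (.leaf 4594)) (.node (.node (.leaf 2544) (.leaf 17217)) (.leaf 7217))) (.node (.node (.node (.leaf 1616) (.leaf 12865)) (.leaf 5761)) (.node (.leaf 3505) (.leaf 8849)))))))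

def bigPar15 : Janko.Tree (ℕ) :=
  (.node (.node (.node (.node (.node (.node (.node (.leaf 66) (.leaf 9056)) (.leaf 3650)) (.node (.node (.leaf 1714) (.leaf 13264)) (.leaf 5969))) (.node (.node (.node (.leaf 848) (.leaf 10784)) (.leaf 4721)) (.node (.node (.leaf 2640) (.leaf 17905)) (.leaf 7362)))) (.node (.node (.node (.node (.leaf 418) (.leaf 9808)) (.leaf 4226)) (.node (.node (.leaf 2178) (.leaf 15442)) (.leaf 6736))) (.node (.node (.node (.leaf 1266) (.leaf 11792)) (.leaf 5313)) (.node (.leaf 3089) (.leaf 8193))))) (.node (.node (.node (.node (.node (.leaf 241) (.leaf 9425)) (.leaf 3969)) (.node (.node (.leaf 1953) (.leaf 14289)) (.leaf 6353))) (.node (.node (.node (.leaf 1073) (.leaf 11409)) (.leaf 5026)) (.node (.node (.leaf 2850) (.leaf 20800)) (.leaf 7714)))) (.node (.node (.node (.node (.leaf 656) (.leaf 10306)) (.leaf 4481)) (.node (.node (.leaf 2401) (.leaf 16450)) (.leaf 6994))) (.node (.node (.node (.leaf 1536) (.leaf 12546)) (.leaf 5585)) (.node (.leaf 3329)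 (.leaf 8674)))))) (.node (.node (.node (.node (.node (.node (.leaf 160) (.leaf 9186)) (.leaf 3824)) (.node (.node (.leaf 1842) (.leaf 13664)) (.leaf 6145))) (.node (.node (.node (.leaf 944) (.leaf 11122)) (.leaf 4897)) (.node (.node (.leaf 2753) (.leaf 18722)) (.leaf 7521)))) (.node (.node (.node (.node (.leaf 514) (.leaf 10160)) (.leaf 4336)) (.node (.node (.leaf 2274) (.leaf 15937)) (.leaf 6896))) (.node (.node (.node (.leaf 1393) (.leaf 12160)) (.leaf 5440)) (.node (.leaf 3216) (.leaf 8402))))) (.node (.node (.node (.node (.node (.leaf 337) (.leaf 9634)) (.leaf 4066)) (.node (.node (.leaf 2064) (.leaf 14898)) (.leaf 6561))) (.node (.node (.node (.leaf 1170) (.leaf 11648)) (.leaf 5169)) (.node (.leaf 2944) (.leaf 7952)))) (.node (.node (.node (.node (.leaf 753) (.leaf 10496)) (.leaf 4608)) (.node (.node (.leaf 2545) (.leaf 17281)) (.leaf 7218))) (.node (.node (.node (.leaf 1617) (.leaf 12912)) (.leaf 5776)) (.node (.leaf 3506) (.leaf 8850)))))))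

def bigPar : Janko.Tree (ℕ) := (.node (.node (.node (.node bigPar0 bigPar8) (.node bigPar4 bigPar12)) (.node (.node bigPar2 bigPar10) (.node bigPar6 bigPar14))) (.node (.node (.node bigPar1 bigPar9) (.node bigPar5 bigPar13)) (.node (.node bigPar3 bigPar11) (.node bigPar7 bigPar15))))

def bigL0 : Janko.Tree (List ℤ) :=
  (.node (.node (.node (.node (.node (.node (.node (.leaf []) (.leaf [-2045, -1378, 0, 6808, -7532, -4302, 2581, -11, 964, 1367, -41, 1764])) (.leaf [-4, -5, 0, 140, -68, -47, -47, 0, 25, 5, -2, 14])) (.node (.leaf []) (.leaf [101, 61, 0, 69, 309, 47, -348, 0, 41, -59, 13, -67]))) (.node (.node (.leaf []) (.leaf [-42, 6, 0, -674, 265, 132, 326, 0, -90, -6, 1, -22])) (.node (.leaf [2511, 1155, 0, 258, 2846, 3443, -4774, 29, -670, -1167, -141, -1201]) (.leaf [13, -13, 0, 1106, -475, -293, -435, -1, 164, 15, 6, 54])))) (.node (.node (.node (.node (.leaf [0, 0, 0, 0, -1, 1]) (.leaf [-1157, -155, 0, -8658, 3033, 818, 5060, -27, -794, 174, 84, -126])) (.leaf [-349,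 -40, 0, -146, 1504, -1001, -444, -30, 607, 100, 190, -133])) (.node (.leaf [-115, -85, 0, 1408, -672, -568, -393, 0, 298, 85, 16, 111]) (.leaf []))) (.node (.node (.leaf []) (.leaf [4303, 2319, 0, -19, 8434, 5055, -10077, 36, -262, -2292, 41, -2552])) (.node (.leaf []) (.leaf [109, -172, 0, 33766, -6547, -12028, -18085, -34, 7539, 318, 828, 835]))))) (.node (.node (.node (.node (.node (.leaf []) (.leaf [458, 293, 0, -2017, 1752, 1131, -289, 0, -348, -293, 3, -396])) (.leaf [-38, -25, 0, 223, -176, -106, 6, 0, 37, 25, -1, 36])) (.node (.leaf []) (.leaf [1, -1, 0, 19, -7, -2, -11, 0, 4]))) (.node (.node (.leaf [-4249, -1959, 0, 29, -6146, -5552, 8431, -78, 1086, 1929, 86, 2266]) (.leaf [-3, -1, 0, -13, 1, 1, 11, 1, -1])) (.node (.leaf []) (.leaf [3907, 2540, 0, -7379, 11912, 6579, -7071, 8, -949, -2514, 79, -2984])))) (.node (.node (.node (.leaf []) (.leaf [-127, -75, 0, -447, -134, -9, 524, 0, -95, 73, -7, 66])) (.node (.leaf [121, 92, 0, -956, 947, 316, -107, 1, -74, -92,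 25, -159]) (.leaf [298, 53, 0, 1615, -331, -82, -1179, 2, 159, -56, 11, -54]))) (.node (.node (.leaf []) (.leaf [-270, -184, 0, 1907, -1331, -876, -118, -2, 328, 184, 1, 276])) (.node (.leaf []) (.leaf [12289, 7452, 0, -9173, 35494, 14749, -30010, 42, 29, -7490, 856, -8679])))))) (.node (.node (.node (.node (.node (.node (.leaf []) (.leaf [217, 156, 0, -1520, 1156, 678, 30, 2, -233, -156, 7, -236])) (.leaf [0, -2, 0, 43, -17, -16, -19, 0, 9, 2, -1, 5])) (.node (.leaf [-26, -10, 0, 122, -87, -67, 0, 0, 31, 10, -2, 21]) (.leaf [4114, 2747, 0, -21739, 19009, 10638, -2255, -17, -3239, -2719, 205, -4023]))) (.node (.node (.leaf [254, 159, 0, -1530, 1011, 770, 95, 0, -310, -160, -12, -211]) (.leaf [-38165, -21433, 0, 61608, -99318, -62748, 64064, -265, 13134, 21332, -394, 25947])) (.node (.leaf [787, 494, 0, -3748, 3299, 1964, -479, 6, -616, -495, 31, -728]) (.leaf [-3453, -2265, 0, 14435, -13953, -8003, 3182, -22, 2169, 2271, -93, 3081])))) (.node (.node (.node (.node (.leaf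 []) (.leaf [8, 2, 0, 35, -3, 1, -31, 0, 5, -2, 1, -3])) (.leaf [45, 25, 0, -158, 156, 89, -42, 0, -32, -25, -1, -27])) (.node (.leaf []) (.leaf [-16, -9, 0, -94, 23, 1, 66, 1, -12, 7, 2, 4]))) (.node (.node (.leaf [-2, 0, 0, -57, 21, 13, 27, 0, -9, 0, 0, -2]) (.leaf [0, 0, 0, -20, 11, 3, 7, 0, -4, 1])) (.node (.leaf [3909, 2048, 0, -22497, 14583, 11609, 1461, 54, -4929, -2099, -89, -3211]) (.leaf [-144, -104, 0, 938, -750, -420, 13, 0, 142, 104, -6, 149]))))) (.node (.node (.node (.node (.node (.leaf []) (.leaf [184, 99, 0, -157, 433, 258, -374, 1, -34, -99, 5, -121])) (.leaf [])) (.node (.leaf [388, 203, 0, -275, 837, 538, -769, 2, -89, -200, 7, -242]) (.leaf [-158, -115, 0, 1041, -869, -459, 44, 0, 137, 115, -10, 176]))) (.node (.node (.leaf []) (.leaf [-20, -18, 0, 136, -118, -59, 9, 0, 14, 18, 0, 23])) (.node (.leaf [119, 59, 0, 647, 58, -80, -593, 0, 126, -56, 12, -45]) (.leaf [181, 99, 0, 309, 294, 117, -597, 0, 70, -96, 9, -112])))) (.node (.node (.node (.leaf [])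 (.leaf [-5306, -2968, 0, 8478, -12203, -9333, 8105, -50, 2089, 2982, 163, 3431])) (.node (.leaf [-1357, -814, 0, 2544, -4218, -2126, 2448, 4, 396, 796, -63, 981]) (.leaf [-3291, -2123, 0, 10519, -12218, -6587, 4466, -19, 1472, 2123, -127, 2777]))) (.node (.node (.leaf []) (.leaf [-46, -14, 0, -487, -35, 123, 400, 1, -127, 14, -25, 38])) (.node (.leaf [-53, -28, 0, 289, -222, -147, 9, 0, 53, 29, -2, 49]) (.leaf [-552, -494, 0, 2728, -2841, -1352, 652, 16, 219, 492, -46, 615])))))))

def bigL1 : Janko.Tree (List ℤ) :=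
  (.node (.node (.node (.node (.node (.node (.node (.leaf []) (.leaf [2698, 1665, 0, 3612, 5188, 1810, -8703, 16, 952, -1647, 103, -1586])) (.leaf [])) (.node (.leaf [-130, -107, 0, 627, -566, -327, 84, 2, 95, 107, -5, 120]) (.leaf [-66, -33, 0, 91, -94, -123, 67, 0, 46, 32, 4, 34]))) (.node (.node (.leaf [-373, -232, 0, 393, -1068, -511, 835, 0, 26, 229, -17, 272]) (.leaf [13, 12, 0, -81, 63, 39, 0, 0, -13, -12, -1, -12])) (.node (.leaf []) (.leaf [6, -2, 0, 336, -125, -87, -150, 0, 58, 2, 3, 10])))) (.node (.node (.node (.node (.leaf [0, 0, 0, 0, 2, 0, -1]) (.leaf [-1144, -666, 0, 2586, -3527, -2016, 1766, 0, 457, 654, -44, 864])) (.leaf [])) (.node (.leaf []) (.leaf [65, 30, 0, 994, -139, -282, -622, -4, 187, -24, 19, 16]))) (.node (.node (.leaf [-10239, -6931, 0, 15241, -33840, -14336, 22905, 22, 576, 7018, -593, 7606]) (.leaf [5881, 3164, 0, -5424, 13664, 8418, -11459, 57, -1416, -3135, 100, -3779])) (.node (.leaf []) (.leaf [3492, 1376, 0, 17159, 3977, -2530, -17463,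 21, 3537, -1251, 647, -1692]))))) (.node (.node (.node (.node (.node (.leaf [0, 0, 0, -18, 2, 5, 12, 0, -5]) (.leaf [-9, -7, 0, 80, -45, -35, -17, 0, 17, 7, -1, 11])) (.leaf [119, 48, 0, 1343, -205, -282, -893, 0, 256, -45, 15, -14])) (.node (.leaf []) (.leaf [-187, -128, 0, 900, -812, -457, 120, 0, 144, 124, -6, 171]))) (.node (.node (.leaf []) (.leaf [476, 236, 0, -1256, 1223, 960, -458, 1, -325, -237, -6, -308])) (.node (.leaf []) (.leaf [-3042, -1675, 0, -8485, -5713, -40, 12579, 26, -2196, 1607, -368, 1733])))) (.node (.node (.node (.leaf [22, 18, 0, -351, 175, 131, 98, 0, -65, -18, -2, -30]) (.leaf [-1170, -755, 0, 1057, -3424, -1456, 2762, 6, 29, 737, -45, 799])) (.node (.leaf []) (.leaf [175, 119, 0, -913, 813, 460, -117, 0, -121, -119, 8, -181]))) (.node (.node (.leaf [-56, -34, 0, 293, -227, -153, 13, 0, 53, 34, 0, 50]) (.leaf [168, 72, 0, 876, -14, -63, -755, 0, 141, -69, 9, -57])) (.node (.leaf [0, -2, 0, 1, -2, 0, 0, 0, 0, 2]) (.leaf [-551, -334, 0, 3192, -2376,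 -1588, 9, -9, 574, 331, 8, 513])))))) (.node (.node (.node (.node (.node (.node (.leaf []) (.leaf [521, 535, 0, -5030, 3838, 1933, 295, -7, -599, -536, 37, -711])) (.leaf [5, 5, 0, -206, 87, 66, 75, 0, -37, -5, -2, -11])) (.node (.leaf []) (.leaf [31, 17, 0, -101, 104, 65, -34, 0, -19, -17, 0, -23]))) (.node (.node (.leaf []) (.leaf [-19901, -10782, 0, 10980, -45652, -25560, 43296, -106, 2778, 10596, -576, 12693])) (.node (.leaf [108, 79, 0, 43, 338, 86, -370, 0, 56, -79, 12, -89]) (.leaf [])))) (.node (.node (.node (.node (.leaf []) (.leaf [-4, -3, 0, -2, -7, -4, 10, 0, 0, 3, 1, 2])) (.leaf [7, 7, 0, -112, 57, 42, 30, 0, -19, -7, -1, -10])) (.node (.leaf []) (.leaf [-3430, -1913, 0, 8428, -10235, -6206, 4497, 1, 1837, 1865, -82, 2378]))) (.node (.node (.leaf []) (.leaf [82, 76, 0, -603, 450, 272, 14, 0, -81, -75, -6, -87])) (.node (.leaf [944, 521, 0, 2369, 1340, 287, -3475, -2, 507, -503, 43, -486]) (.leaf [-2135, -1339, 0, 7524, -7501, -4695, 2199, -8, 1247, 1357, -17,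 1735]))))) (.node (.node (.node (.node (.node (.leaf []) (.leaf [-18, -7, 0, -39, -12, -10, 54, 0, -4, 7, 0, 7])) (.leaf [])) (.node (.leaf []) (.leaf [-969, -545, 0, 4479, -3674, -2412, 416, -4, 863, 548, -15, 799]))) (.node (.node (.leaf [1080, 707, 0, -2893, 3971, 1924, -1795, -1, -345, -704, 69, -896]) (.leaf [0, 0, 0, 3, -1, 0, -1])) (.node (.leaf []) (.leaf [7895, 2583, 0, -4253, 3564, 13712, -7832, 245, -5845, -2826, -951, -2510])))) (.node (.node (.node (.leaf [313, 201, 0, 969, 535, 23, -1354, 0, 276, -195, 17, -184]) (.leaf [])) (.node (.leaf [2026, 1287, 0, -5181, 7172, 3608, -3367, 11, -653, -1275, 100, -1662]) (.leaf [149, 136, 0, -3892, 1704, 1394, 1302, 3, -691, -142, -35, -295]))) (.node (.node (.leaf [0, -2, 0, 1, -2, 0, 0, 0, 0, 2]) (.leaf [-148, -75, 0, -577, -94, -4, 609, 0, -107, 73, -8, 71])) (.node (.leaf []) (.leaf [-2430, -2776, 0, 4007, -15323, -2171, 10007, 139, -2378, 2493, -604, 3397])))))))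

def bigL2 : Janko.Tree (List ℤ) :=
  (.node (.node (.node (.node (.node (.node (.node (.leaf []) (.leaf [-611, -428, 0, 5606, -3365, -2416, -879, -16, 1001, 450, 29, 655])) (.leaf [-10211, -5683, 0, 20009, -28558, -17470, 15930, -61, 4129, 5619, -202, 7161])) (.node (.leaf []) (.leaf [-1044, -621, 0, 2455, -3304, -1857, 1617, -2, 406, 619, -38, 788]))) (.node (.node (.leaf [-3, 0, 0, -22, 4, 3, 15, 0, -2]) (.leaf [])) (.node (.leaf [-3322, -1935, 0, 33020, -14927, -15255, -8457, -79, 7047, 2067, 553, 3195]) (.leaf [-200, -112, 0, 932, -738, -512, 65, 1, 188, 112, -7, 171])))) (.node (.node (.node (.node (.leaf []) (.leaf [17723, 9179, 0, -8806, 37656, 23082, -37337, 139, -3126, -9072, 271, -10753])) (.leaf [-1050, -621, 0, 2938, -3372, -2019, 1325, 0, 554, 615, -25, 779])) (.node (.leaf []) (.leaf [-173, -147, 0, 643, -914, -330, 373, 0, -7, 147, -15, 191]))) (.node (.node (.leaf [1, 3, 0, -100, 51, 27, 34, 0, -17, -3, 0, -5]) (.leaf [4755, 2464, 0, -4976, 10742, 7059,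 -8636, 58, -1478, -2450, 45, -2965])) (.node (.leaf [-197, -92, 0, 20, -384, -234, 447, -1, 22, 92, -7, 118]) (.leaf [766, 399, 0, 31734, -3741, -10808, -19315, -58, 7469, -240, 833, 269]))))) (.node (.node (.node (.node (.node (.leaf []) (.leaf [-90, -69, 0, 941, -594, -369, -147, 0, 154, 70, -2, 109])) (.leaf [-5, -3, 0, -27, -2, 5, 22, 0, -2, 2])) (.node (.leaf [-40, -16, 0, -156, -9, -3, 155, 0, -24, 16, -2, 16]) (.leaf [1473, 951, 0, -7101, 5630, 3901, -532, 4, -1285, -949, -36, -1263]))) (.node (.node (.leaf [0, 0, 0, 1, -1]) (.leaf [231, 161, 0, -1006, 1016, 529, -234, 1, -136, -161, 14, -219])) (.node (.leaf [-1227, -743, 0, 3017, -4018, -2209, 1904, -6, 470, 741, -44, 948]) (.leaf [-297, -140, 0, 564, -526, -580, 257, -5, 232, 138, 11, 168])))) (.node (.node (.node (.leaf []) (.leaf [-61, -124, 0, 1851, -1097, -566, -432, 8, 210, 128, 5, 153])) (.node (.leaf [-454, -261, 0, 396, -1166, -615, 984, -1, 53, 258, -12, 305]) (.leaf []))) (.node (.node (.leaf []) (.leaf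 [7159, 3746, 0, 1563, 12477, 8123, -16904, 59, -384, -3728, -66, -3886])) (.node (.leaf []) (.leaf [-4, 0, 0, -56, 14, 13, 32, 0, -8, 0, 0, -2])))))) (.node (.node (.node (.node (.node (.node (.leaf []) (.leaf [102, 68, 0, 365, 129, 4, -439, 0, 87, -66, 7, -59])) (.leaf [5, 2, 0, -54, 27, 23, 13, 0, -11, -2, 0, -6])) (.node (.leaf [33, -6, 0, 939, -237, -254, -519, 0, 191, 7, 13, 11]) (.leaf [-718, -399, 0, 1482, -1764, -1387, 992, 11, 294, 397, 23, 498]))) (.node (.node (.leaf []) (.leaf [0, 0, 0, -5, 0, 2, 3, 0, -1])) (.node (.leaf []) (.leaf [-17, -4, 0, -1347, 355, 417, 696, -4, -285, 1, -2, -52])))) (.node (.node (.node (.node (.leaf [15, 18, 0, -216, 148, 74, 32, 0, -27, -18, 1, -25]) (.leaf [0, 0, 0, -1, -1, 2, 2, 0, -1])) (.leaf [29, 0, 0, 6, 32, 31, -44, 0, -22, 0, 10, -20])) (.node (.leaf []) (.leaf [463, 232, 0, 955, 667, 203, -1562, -2, 175, -223, 26, -238]))) (.node (.node (.leaf []) (.leaf [0, 0, 0, 0, 0, 0, 0, -1, 0, 1])) (.node (.leaf [-289, -143, 0, -404,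 -450, -207, 865, -2, -58, 140, -17, 166]) (.leaf [442, 247, 0, -1120, 1231, 884, -538, 0, -230, -247, -1, -325]))))) (.node (.node (.node (.node (.node (.leaf [1, 0, 0, 8, -2, 0, -5]) (.leaf [3112, 2344, 0, -26318, 17128, 11691, 2834, 12, -4190, -2389, -66, -3602])) (.leaf [45, 35, 0, -116, 207, 73, -106, 0, 2, -35, 8, -49])) (.node (.leaf [0, 0, 0, 4, -1, -1, -2, 0, 1]) (.leaf [-14, -16, 0, 201, -118, -71, -44, 0, 32, 15, 2, 18]))) (.node (.node (.leaf [48, 18, 0, -109, 98, 94, -42, 0, -36, -18, -1, -27]) (.leaf [1127, 534, 0, -8065, 4899, 3648, 1152, 10, -1826, -523, 20, -973])) (.node (.leaf [2, -4, 0, 163, -64, -43, -71, 0, 28, 4, 1, 6]) (.leaf [11488, 6181, 0, -25986, 29388, 22133, -14167, 173, -6208, -6287, -251, -7686])))) (.node (.node (.node (.leaf [141, 67, 0, 516, 86, 16, -552, 0, 88, -64, 10, -71]) (.leaf [-3235, -1907, 0, 8466, -8240, -6885, 3338, -26, 1902, 1934, 196, 2196])) (.node (.leaf [351, 341, 0, 3146, 1781, -1110, -3619, -30, 1270, -287, 247, -486])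 (.leaf [-46, -18, 0, -201, 2, -1, 184, 0, -30, 18, -3, 20]))) (.node (.node (.leaf []) (.leaf [0, 1])) (.node (.leaf [333, 214, 0, -333, 969, 444, -759, 2, -20, -208, 13, -244]) (.leaf [-154, -282, 0, 4189, -2446, -1336, -1028, 12, 539, 286, -12, 393])))))))

def bigL3 : Janko.Tree (List ℤ) :=
  (.node (.node (.node (.node (.node (.node (.node (.leaf []) (.leaf [-349, -80, 0, -1386, 147, -44, 1205, -2, -118, 84, -8, 91])) (.leaf [16, 13, 0, -234, 136, 86, 48, -1, -35, -13, 0, -24])) (.node (.leaf []) (.leaf [36, 24, 0, -213, 157, 105, 0, -1, -36, -24, 0, -33]))) (.node (.node (.leaf []) (.leaf [-4465, -2609, 0, 5967, -11425, -6990, 8282, -22, 1114, 2585, -15, 3030])) (.node (.leaf [-39, -6, 0, 354, 32, -221, -220, -2, 147, 6, 21, 9]) (.leaf [-3, 0, 0, -17, 2, 2, 14, 0, -2])))) (.node (.node (.node (.node (.leaf []) (.leaf [-1252, -728, 0, 3234, -4037, -2338, 1795, 0, 548, 719, -52, 987])) (.leaf [601, 439, 0, -5605, 3291, 2546, 881, 22, -944, -454, -39, -753])) (.node (.leaf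 []) (.leaf [-393, -490, 0, 7587, -5837, -2075, -921, 28, 752, 439, -161, 938]))) (.node (.node (.leaf []) (.leaf [5812, 3114, 0, -5066, 13307, 8252, -11391, 57, -1377, -3085, 93, -3705])) (.node (.leaf [205, 117, 0, 916, 248, -83, -998, 1, 219, -112, 18, -104]) (.leaf [-1735, -1222, 0, 24633, -8105, -11132, -9001, -80, 5570, 1369, 663, 1686]))))) (.node (.node (.node (.node (.node (.leaf [-1, 0, 0, -7, 0, 1, 6, 0, -1]) (.leaf [10967, 5093, 0, 2701, 18549, 12113, -25400, 92, -1142, -5011, 177, -6012])) (.leaf [])) (.node (.leaf [-129, -73, 0, -21, -267, -136, 328, 0, -5, 72, -1, 73]) (.leaf [-100, -51, 0, -451, -4, 13, 409, 0, -68, 48, -1, 33]))) (.node (.node (.leaf [18, 8, 0, 34, 27, 8, -59, 0, 5, -8, 2, -9]) (.leaf [315, 199, 0, -301, 820, 470, -694, 2, -13, -199, 1, -233])) (.node (.leaf []) (.leaf [36, 18, 0, -168, 107, 101, 3, 1, -40, -19, -2, -27])))) (.node (.node (.node (.leaf []) (.leaf [2, -7, 0, 399, -143, -118, -176, -1, 73, 8, 4, 16])) (.node (.leaf []) (.leaf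 [249, 102, 0, 1005, -37, 16, -905, 2, 109, -98, -2, -68]))) (.node (.node (.leaf []) (.leaf [])) (.node (.leaf []) (.leaf [5312, 3713, 0, -22748, 21839, 12628, -4892, 0, -3190, -3745, 138, -4878])))))) (.node (.node (.node (.node (.node (.node (.leaf []) (.leaf [252, 159, 0, -14, 615, 284, -660, 1, 23, -156, 13, -179])) (.leaf [346, 65, 0, -6383, 699, 3002, 3346, 26, -1840, -119, -270, -134])) (.node (.leaf []) (.leaf [-11210, -6613, 0, -14379, -24079, -6746, 37212, 33, -4320, 6435, -873, 7060]))) (.node (.node (.leaf []) (.leaf [0, 0, 0, 0, 2, 0, -1])) (.node (.leaf [-2661, -1087, 0, -3958, -1436, -2351, 6198, -46, 439, 1024, 103, 965]) (.leaf [14, 4, 0, 215, -59, -43, -122, 0, 39, -4, 2, -1])))) (.node (.node (.node (.node (.leaf []) (.leaf [0, 0, 0, -2, 0, 2, 2, 0, -1])) (.leaf [0, 0, 0, -2, 0, 1, 1])) (.node (.leaf [-154, -106, 0, 255, -639, -198, 416, 0, -28, 106, -22, 146]) (.leaf [221, 118, 0, 558, 246, 100, -779, 0, 108, -115, 7, -119]))) (.node (.node (.leaf [])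 (.leaf [-263, -152, 0, -892, -312, -11, 1081, 0, -191, 146, -16, 134])) (.node (.leaf [-18, -6, 0, -78, 8, -1, 67, 0, -9, 6, 0, 5]) (.leaf [28, 9, 0, 242, -46, -37, -163, 0, 40, -9, 3, -5]))))) (.node (.node (.node (.node (.node (.leaf []) (.leaf [-262, -40, 0, -7875, 2512, 2063, 3851, 1, -1328, 9, -52, -244])) (.leaf [])) (.node (.leaf [-154, -89, 0, 632, -533, -380, 95, 0, 118, 89, 0, 131]) (.leaf [4, 0, 0, 19, 0, -2, -17, 0, 2]))) (.node (.node (.leaf [12, 6, 0, -46, 45, 25, -10, 0, -10, -6, 0, -8]) (.leaf [2678, 1497, 0, -8991, 9135, 5584, -2775, 17, -1676, -1507, 56, -2048])) (.node (.leaf [218, 138, 0, 360, 394, 128, -730, 0, 89, -133, 8, -128]) (.leaf [3415, 1906, 0, -5498, 8463, 5745, -5465, 46, -1310, -1951, 20, -2249])))) (.node (.node (.node (.leaf []) (.leaf [-6395, -3040, 0, 3772, -9687, -9779, 10693, -72, 2367, 3059, 304, 3330])) (.node (.leaf [532, 262, 0, -3945, 2013, 1993, 758, 22, -912, -268, -42, -501]) (.leaf [2364, 1446, 0, -2750, 6474, 3461, -4949,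 9, -309, -1438, 67, -1702]))) (.node (.node (.leaf []) (.leaf [-135, -88, 0, -125, -307, -107, 431, 0, -50, 86, -7, 93])) (.node (.leaf [-1, 0, 0, -5, -3, 2, 6, 0, -1]) (.leaf [713, 434, 0, -1318, 2340, 1134, -1421, -1, -117, -431, 49, -585])))))))

def bigL4 : Janko.Tree (List ℤ) :=
  (.node (.node (.node (.node (.node (.node (.node (.leaf []) (.leaf [4667, 2898, 0, -2073, 12718, 5349, -11859, 24, 237, -2858, 238, -3246])) (.leaf [-16, -6, 0, -39, -6, -11, 48, 0, -3, 6, 0, 7])) (.node (.leaf [-5667, -3021, 0, 4481, -12742, -7926, 11265, -57, 1277, 2992, -86, 3582]) (.leaf []))) (.node (.node (.leaf []) (.leaf [10076, 6009, 0, 16126, 21435, 4815, -35421, -36, 4749, -5833, 886, -6321])) (.node (.leaf [238, 184, 0, -1771, 1311, 754, 79, -2, -276, -184, 3, -240]) (.leaf [])))) (.node (.node (.node (.node (.leaf [-180, -100, 0, 226, -452, -279, 338, -2, 44, 100, -3, 125]) (.leaf [26344, 14674, 0, -41760, 73422, 41170, -48317, 85, -7048, -14697, 652, -18132])) (.leaf [59, 103,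 0, -4852, 2077, 1491, 1830, 1, -836, -113, -6, -305])) (.node (.leaf []) (.leaf [-282, 83, 0, -3940, 2796, 252, 1225, -34, -200, -35, 148, -269]))) (.node (.node (.leaf []) (.leaf [])) (.node (.leaf []) (.leaf [-2151, -1333, 0, 1678, -6675, -2543, 5564, 20, -205, 1306, -182, 1658]))))) (.node (.node (.node (.node (.node (.leaf []) (.leaf [273, 181, 0, -1412, 1161, 755, -129, 5, -213, -185, -2, -269])) (.leaf [12, 6, 0, 14, 14, 14, -34, 0, 3, -7, 0, -7])) (.node (.leaf [-19, -10, 0, -202, 37, 38, 133, 0, -38, 9, 1]) (.leaf [-4, -4, 0, 46, -23, -18, -13, 0, 11, 3, 1, 3]))) (.node (.node (.leaf [-1095, -797, 0, 6047, -4503, -3307, 199, -17, 945, 803, 71, 1091]) (.leaf [221, 138, 0, 398, 328, 160, -737, 2, 101, -138, 0, -133])) (.node (.leaf [322, 187, 0, 340, 491, 303, -893, 4, 47, -188, 6, -189]) (.leaf [-2045, -1031, 0, 7604, -4604, -5426, 212, -38, 2088, 1065, 234, 1324])))) (.node (.node (.node (.leaf []) (.leaf [-3860, -2421, 0, -3601, -10105, -2366, 12986, 13, -1561,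 2328, -439, 2742])) (.node (.leaf []) (.leaf [161, 106, 0, -674, 647, 369, -139, 0, -109, -105, 7, -141]))) (.node (.node (.leaf []) (.leaf [7185, 3760, 0, 1206, 12691, 8247, -16824, 59, -451, -3742, -58, -3926])) (.node (.leaf []) (.leaf [2111, 1217, 0, -1673, 5486, 2777, -4723, 3, -181, -1199, 76, -1443])))))) (.node (.node (.node (.node (.node (.node (.leaf []) (.leaf [69, 73, 0, 1208, 64, -419, -880, -3, 294, -63, 42, -11])) (.leaf [265, 120, 0, -573, 341, 598, -136, 2, -228, -123, -36, -129])) (.node (.leaf [-79, -33, 0, -256, -41, -21, 285, 0, -38, 33, -4, 35]) (.leaf [-2100, -1079, 0, -121, -3702, -2547, 4795, 8, 152, 1070, -9, 1212]))) (.node (.node (.leaf []) (.leaf [-82, -37, 0, -142, -98, -50, 246, 0, -16, 36, -1, 36])) (.node (.leaf []) (.leaf [25, 11, 0, 64, 9, 19, -78, 0, 8, -11, 1, -14])))) (.node (.node (.node (.node (.leaf []) (.leaf [0, 0, 0, -3, 1, 2, 2, 0, -1])) (.leaf [0, 0, 0, 2, 0, 0, -1])) (.node (.leaf [251, 163, 0, -1280, 991, 673, -57, 0, -238,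 -163, -4, -211]) (.leaf [10722, 6145, 0, -22325, 31135, 18768, -16942, 45, -3986, -6188, 188, -7676]))) (.node (.node (.leaf []) (.leaf [-509, -281, 0, -175, -1080, -499, 1358, -2, -42, 275, -22, 316])) (.node (.leaf [1201, 820, 0, -5374, 4220, 3268, -565, 15, -920, -826, -81, -1066]) (.leaf [-29, -28, 0, 402, -204, -159, -106, 0, 74, 28, 4, 37]))))) (.node (.node (.node (.node (.node (.leaf []) (.leaf [-3007, -1895, 0, 581, -8157, -3139, 8086, 7, -346, 1859, -214, 2107])) (.leaf [66, 42, 0, -301, 256, 161, -34, 0, -55, -41, 0, -54])) (.node (.leaf [1, 0, 0, 10, 0, -2, -8, 0, 2]) (.leaf [28, 15, 0, -21, 52, 45, -52, 0, -7, -15, -1, -17]))) (.node (.node (.leaf [545, 306, 0, 22, 1411, 558, -1509, 8, 75, -303, 53, -413]) (.leaf [-1401, -974, 0, 5871, -5774, -3285, 1392, 3, 791, 965, -34, 1307])) (.node (.leaf []) (.leaf [0, 1, 0, 6, -4, 1, -4, 0, 3, -1, -1])))) (.node (.node (.node (.leaf [59, 41, 0, -299, 245, 157, -24, 0, -50, -41, 0, -53]) (.leaf [-6529, -3275, 0, 6179,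 -11586, -10497, 10499, -64, 2523, 3300, 281, 3625])) (.node (.leaf [0, 0, 0, 2, -2]) (.leaf [249, 144, 0, 410, 496, 131, -863, 0, 112, -141, 22, -159]))) (.node (.node (.leaf [36, 17, 0, 13, 63, 40, -90, 0, 1, -17, 1, -22]) (.leaf [-129, -74, 0, -514, -113, 10, 557, 0, -107, 72, -8, 64])) (.node (.leaf [-1, 0, 0, -4, 3, 0, 2]) (.leaf [-225, -140, 0, -395, -337, -164, 744, -2, -99, 140, 0, 135])))))))

def bigL5 : Janko.Tree (List ℤ) :=
  (.node (.node (.node (.node (.node (.node (.node (.leaf []) (.leaf [7424, 3949, 0, -2787, 14457, 9884, -15649, 66, -1148, -3967, -98, -4293])) (.leaf [22, 5, 0, 244, -51, -49, -152, 0, 40, -5, 4, -1])) (.node (.leaf []) (.leaf [-204, -117, 0, -79, -411, -220, 554, -1, -33, 117, -3, 132]))) (.node (.node (.leaf []) (.leaf [])) (.node (.leaf [-263, -150, 0, 575, -761, -478, 397, -2, 105, 150, -3, 194]) (.leaf [-5, -1, 0, 781, -196, -264, -392, 0, 179, 1, 13, 23])))) (.node (.node (.node (.node (.leaf [-386, -203, 0, 37, -814, -450, 925, -2,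 10, 203, -9, 237]) (.leaf [223, 155, 0, 695, 437, 15, -1013, -3, 229, -163, 32, -153])) (.leaf [])) (.node (.leaf []) (.leaf []))) (.node (.node (.leaf [0, 0, 0, 8, -1, -2, -5, 0, 2]) (.leaf [1092, 650, 0, -11625, 5462, 5081, 3024, 20, -2470, -675, -143, -1083])) (.node (.leaf []) (.leaf [-6074, -3342, 0, 36055, -20927, -19461, -3695, -77, 7990, 3435, 537, 4906]))))) (.node (.node (.node (.node (.node (.leaf []) (.leaf [258, 132, 0, 1453, 137, -197, -1322, 5, 284, -125, 21, -93])) (.leaf [-15, -6, 0, -38, -36, 3, 65, -1, -11, 6, -2, 8])) (.node (.leaf [-51, -27, 0, -89, -46, -44, 150, 0, -13, 27, 3, 24]) (.leaf [-11501, -6735, 0, -7566, -25031, -9657, 33434, 25, -2241, 6509, -645, 7218]))) (.node (.node (.leaf []) (.leaf [-1695, -982, 0, 8082, -6787, -4210, 782, -6, 1486, 979, -45, 1443])) (.node (.leaf []) (.leaf [3, -2, 0, 94, -35, -26, -43, 0, 14, 2, 0, 6])))) (.node (.node (.node (.leaf [0, 0, 0, -3, 2, 1, 1, 0, -1]) (.leaf [1, 0, 0, 12, -3, -1, -8, 0, 2])) (.node (.leaf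 [-19, -18, 0, 141, -119, -60, 6, 0, 14, 18, 0, 23]) (.leaf [-479, -247, 0, -1924, -405, 81, 2062, -1, -377, 242, -30, 202]))) (.node (.node (.leaf []) (.leaf [7165, 3784, 0, -566, 13358, 8730, -16041, 57, -767, -3766, -67, -3993])) (.node (.leaf [2, -4, 0, 83, -37, -22, -34, 0, 12, 3, 1, 5]) (.leaf [3052, 1496, 0, -5489, 6407, 5588, -3795, 42, -1695, -1517, -153, -1748])))))) (.node (.node (.node (.node (.node (.node (.leaf []) (.leaf [-341, -210, 0, 984, -1132, -676, 450, 1, 158, 208, -6, 270])) (.leaf [-190, -114, 0, -1273, -100, 211, 1117, 0, -285, 108, -23, 81])) (.node (.leaf [-61, -30, 0, -117, -64, -41, 186, 0, -15, 30, -1, 30]) (.leaf [-508, -254, 0, -1018, -456, -358, 1541, -4, -128, 252, 7, 242]))) (.node (.node (.leaf []) (.leaf [])) (.node (.leaf [-1608, -978, 0, 5582, -5675, -3429, 1682, -6, 966, 978, -25, 1278]) (.leaf [13, 8, 0, 0, 22, 22, -32, 0, 3, -8, 0, -12])))) (.node (.node (.node (.node (.leaf [-381, -258, 0, 1950, -1682, -975, 198, 0, 308, 258, -9,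 347]) (.leaf [-88, -58, 0, -252, -186, 0, 384, 0, -75, 57, -9, 54])) (.leaf [])) (.node (.leaf []) (.leaf [-13, -9, 0, 9, -24, -24, 25, 1, 2, 8, 1, 10]))) (.node (.node (.leaf []) (.leaf [-484, -320, 0, 857, -1614, -752, 1000, -2, 63, 315, -25, 393])) (.node (.leaf [1095, 797, 0, -6051, 4505, 3309, -198, 17, -946, -803, -71, -1091]) (.leaf [-200, -126, 0, 474, -675, -343, 339, 0, 62, 126, -4, 147]))))) (.node (.node (.node (.node (.node (.leaf []) (.leaf [127, 95, 0, -1907, 1073, 724, 405, 2, -280, -106, 2, -211])) (.leaf [143, 89, 0, -143, 419, 196, -338, 0, 2, -88, 7, -110])) (.node (.leaf [-16, -8, 0, 6, -27, -25, 34, 0, 0, 8, 0, 12]) (.leaf [0, 0, 0, -4, 2, 3, 1, 0, -1, 0, 0, -1]))) (.node (.node (.leaf []) (.leaf [388, 190, 0, 192, 690, 401, -996, 1, 14, -183, 12, -237])) (.node (.leaf [7050, 3546, 0, -5838, 12512, 10990, -11881, 66, -2489, -3565, -264, -3925]) (.leaf [41, 22, 0, -204, 176, 104, -25, 0, -32, -23, 2, -37])))) (.node (.node (.node (.leaf [181, 106, 0,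 166, 375, 138, -545, 0, 43, -103, 10, -110]) (.leaf [-6922, -3691, 0, 11054, -15002, -12273, 9920, -65, 3109, 3725, 252, 4251])) (.node (.leaf [-67, -65, 0, 1905, -1061, -560, -538, 1, 311, 62, -16, 152]) (.leaf [-66, -37, 0, 201, -196, -139, 65, 0, 42, 37, 1, 47]))) (.node (.node (.leaf [-91, -43, 0, -792, 73, 145, 579, 0, -152, 40, -9, 21]) (.leaf [5654, 2633, 0, -3474, 9165, 8452, -9778, 55, -1948, -2654, -217, -2977])) (.node (.leaf [43, 31, 0, -1247, 564, 420, 421, 0, -226, -32, -1, -94]) (.leaf [364, 276, 0, -2669, 2086, 1143, 27, 2, -372, -276, 13, -408])))))))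

def bigL6 : Janko.Tree (List ℤ) :=
  (.node (.node (.node (.node (.node (.node (.node (.leaf []) (.leaf [8095, 4138, 0, 5851, 12088, 8060, -20481, 56, 104, -4075, -92, -4122])) (.leaf [])) (.node (.leaf [15, 5, 0, 75, -5, -3, -64, 0, 11, -5, 1, -5]) (.leaf [-4790, -3126, 0, 9754, -15882, -7925, 9033, 3, 989, 3107, -206, 3801]))) (.node (.node (.leaf []) (.leaf [-272, -126, 0, -506, -336, -169, 834, -3, -58, 121, -17, 152])) (.node (.leaf [-2258, -1249, 0, 1918, -5592, -3073, 4743, -7, 370, 1231, -81, 1511]) (.leaf [85, 73, 0, -235, 386, 148, -188, 0, 1, -72, 8, -88])))) (.node (.node (.node (.node (.leaf []) (.leaf [-2386, -1330, 0, 15419, -8106, -8218, -2358, -53, 3540, 1386, 295, 1892])) (.leaf [])) (.node (.leaf []) (.leaf [4429, 2614, 0, -1473, 9192, 5881, -9915, 55, -310, -2639, -70, -2725]))) (.node (.node (.leaf []) (.leaf [])) (.node (.leaf []) (.leaf [16434, 8716, 0, -5300, 36686, 19643, -37118, 75, -2000, -8323, 659, -10512]))))) (.node (.node (.node (.node (.node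 (.leaf []) (.leaf [-109, -56, 0, -138, -80, -119, 266, 1, -1, 56, 3, 54])) (.leaf [])) (.node (.leaf []) (.leaf [457, 249, 0, 2038, 376, -150, -2083, 0, 409, -237, 37, -203]))) (.node (.node (.leaf []) (.leaf [-5316, -2260, 0, -7200, -1259, -5865, 11661, -62, 735, 2353, 599, 1620])) (.node (.leaf []) (.leaf [1493, 958, 0, -5682, 5713, 3298, -1520, 6, -894, -957, 44, -1278])))) (.node (.node (.node (.leaf [0, 0, 0, 1]) (.leaf [0, 0, 0, 14, -4, -3, -7, 0, 3])) (.node (.leaf []) (.leaf [4, 4, 0, -8, 13, 5, -5, 0, -3, -3, 0, -2]))) (.node (.node (.leaf []) (.leaf [5377, 3055, 0, 3996, 10573, 4666, -15325, 22, 927, -3004, 155, -3138])) (.node (.leaf []) (.leaf [823, 560, 0, -4231, 3684, 2093, -438, -1, -665, -561, 30, -756])))))) (.node (.node (.node (.node (.node (.node (.leaf []) (.leaf [-5732, -2680, 0, -8645, -5741, -4728, 15722, -49, -562, 2607, 124, 2642])) (.leaf [36, 17, 0, 9, 58, 43, -84, 0, -1, -17, 1, -22])) (.node (.leaf [-30, -19, 0, 31, -79, -46, 64, 0, 2, 19, -2,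 25]) (.leaf [1, 3, 0, 2, 3, -1, -3, 0, 0, -2]))) (.node (.node (.leaf [22, 64, 0, -1657, 570, 617, 669, 5, -274, -71, -38, -112]) (.leaf [-12, -4, 0, -20, -27, -1, 42, 0, -4, 3, -1, 6])) (.node (.leaf [-362, -247, 0, 1852, -1620, -920, 203, 0, 285, 247, -10, 333]) (.leaf [0, 0, 0, -1, 0, 0, 1])))) (.node (.node (.node (.node (.leaf []) (.leaf [0, 0, 0, -3, 1, 2, 2, 0, -1])) (.leaf [714, 459, 0, -2440, 2421, 1578, -723, 1, -422, -456, -2, -581])) (.node (.leaf []) (.leaf []))) (.node (.node (.leaf []) (.leaf [2108, 1031, 0, -1282, 1860, 3831, -2842, 51, -971, -1093, -313, -944])) (.node (.leaf [1517, 1054, 0, -7766, 5937, 4302, -421, 15, -1305, -1060, -80, -1392]) (.leaf [32, 11, 0, 93, -10, 20, -91, 0, 3, -11, -1, -9]))))) (.node (.node (.node (.node (.node (.leaf [-16, -5, 0, -84, 7, 5, 69, 0, -12, 5, -1, 5]) (.leaf [-275, -164, 0, -2557, -11, 589, 1990, 1, -561, 156, -49, 71])) (.leaf [63, 40, 0, -327, 254, 169, -14, 0, -60, -39, -1, -54])) (.node (.leaf [197, 109, 0,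 -184, 455, 296, -388, 2, -40, -109, 2, -134]) (.leaf [334, 180, 0, -21, 698, 386, -799, 1, -11, -177, 6, -203]))) (.node (.node (.leaf []) (.leaf [1439, 805, 0, -2570, 4210, 2331, -2541, 16, -444, -789, 49, -1064])) (.node (.leaf [191, 108, 0, 627, 278, 3, -807, 0, 150, -105, 18, -108]) (.leaf [-6224, -3168, 0, 452, -10861, -7735, 13499, -63, 890, 3183, 113, 3325])))) (.node (.node (.node (.leaf [30, 22, 0, -88, 102, 61, -40, 0, -13, -22, 0, -24]) (.leaf [-3590, -2019, 0, 8752, -8950, -7356, 3935, -35, 2078, 2040, 166, 2411])) (.node (.leaf [3235, 1905, 0, -8407, 8215, 6868, -3361, 26, -1893, -1932, -196, -2192]) (.leaf [-54, -32, 0, 257, -198, -139, 14, 0, 52, 32, 2, 41]))) (.node (.node (.leaf [-1, 0, 0, -12, 2, 1, 8, 0, -1]) (.leaf [-227, -149, 0, -400, -473, -105, 818, 0, -121, 144, -15, 143])) (.node (.leaf []) (.leaf [745, 480, 0, -2020, 2581, 1384, -1115, 4, -300, -469, 19, -593])))))))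

def bigL7 : Janko.Tree (List ℤ) :=
  (.node (.node (.node (.node (.node (.node (.node (.leaf []) (.leaf [6989, 3630, 0, 2480, 11705, 7679, -16838, 59, -234, -3613, -71, -3730])) (.leaf [104, 69, 0, -334, 413, 201, -155, 0, -40, -69, 9, -94])) (.node (.leaf []) (.leaf [-348, -82, 0, -8645, 2734, 2120, 4417, 8, -1540, 63, -12, -255]))) (.node (.node (.leaf [486, 275, 0, 651, 920, 336, -1573, 2, 178, -269, 20, -299]) (.leaf [-217, -96, 0, -748, -129, -38, 805, -3, -106, 92, -16, 107])) (.node (.leaf []) (.leaf [-18950, -10499, 0, 3498, -38960, -23184, 43394, -113, 1432, 10419, -143, 11380])))) (.node (.node (.node (.node (.leaf [-175, -81, 0, 99, -372, -222, 357, -2, 41, 81, -4, 100]) (.leaf [-3156, -2025, 0, -1088, -8145, -2796, 9398, 20, -808, 1964, -231, 2210])) (.leaf [])) (.node (.leaf [723, 430, 0, -880, 2013, 1070, -1515, -7, -87, -424, 38, -547]) (.leaf []))) (.node (.node (.leaf []) (.leaf [7943, 4129, 0, 1484, 15085, 8783, -19300, 39, -204, -4075, 167, -4679])) (.node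 (.leaf []) (.leaf [1670, 322, 0, -14461, 1040, 8435, 7209, 146, -5207, -415, -729, -600]))))) (.node (.node (.node (.node (.node (.leaf []) (.leaf [-415, -230, 0, 162, -960, -514, 959, -1, 27, 226, -16, 275])) (.leaf [14, -8, 0, -12, -61, 51, 26, 0, -27, 7, -6, -2])) (.node (.leaf []) (.leaf [-57, -47, 0, 574, -398, -218, -64, -2, 86, 48, 0, 67]))) (.node (.node (.leaf []) (.leaf [-18284, -9073, 0, 11995, -35321, -25984, 34227, -128, 5246, 8863, 123, 10692])) (.node (.leaf []) (.leaf [0, 0, 0, 0, 2, 0, -1])))) (.node (.node (.node (.leaf []) (.leaf [1332, 737, 0, 979, 2463, 1202, -3699, -2, 191, -719, 25, -758])) (.node (.leaf [0, 0, 0, 1, 1, 0, -1]) (.leaf [122, 58, 0, 140, 322, 61, -432, -1, 57, -57, 25, -96]))) (.node (.node (.leaf [0, 0, 0, -9, 1, 2, 6, 0, -2]) (.leaf [4084, 2418, 0, -14293, 14512, 8809, -4254, 45, -2475, -2403, 87, -3387])) (.node (.leaf [308, 181, 0, 439, 585, 203, -1016, 1, 123, -178, 13, -188]) (.leaf [248, 163, 0, -1352, 989, 694, 3, 0, -265, -163,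 -5, -207])))))) (.node (.node (.node (.node (.node (.node (.leaf []) (.leaf [-4665, -3081, 0, 10350, -15285, -8290, 8219, -7, 1138, 3077, -127, 3783])) (.leaf [-250, -118, 0, -96, -442, -249, 624, -2, 3, 121, 0, 122])) (.node (.leaf [19, 25, 0, -3, 92, 16, -86, 0, 26, -25, -2, -18]) (.leaf [6, 3, 0, 22, 5, -3, -22, 0, 1, -2]))) (.node (.node (.leaf []) (.leaf [78, 44, 0, -367, 341, 182, -57, 0, -59, -44, 7, -72])) (.node (.leaf []) (.leaf [-232, -146, 0, -133, -515, -216, 669, -2, -46, 143, -13, 158])))) (.node (.node (.node (.node (.leaf [1, 0, 0, -1]) (.leaf [0, 0, 0, 0, 2, 0, -1, 1])) (.leaf [])) (.node (.leaf []) (.leaf [301, -510, 0, 9854, -5966, -2036, -2998, 49, 726, 487, -145, 834]))) (.node (.node (.leaf [-1343, -753, 0, 859, -3611, -1520, 3128, 1, 128, 744, -94, 849]) (.leaf [-445, -226, 0, -1969, -223, 94, 1931, 0, -354, 218, -27, 183])) (.node (.leaf []) (.leaf [57, 54, 0, -259, 231, 152, -47, 0, -30, -54, -7, -50]))))) (.node (.node (.node (.node (.node (.leaf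 []) (.leaf [27, 29, 0, -2003, 619, 702, 894, 1, -406, -34, -27, -101])) (.leaf [21, -2, 0, 311, -135, -52, -146, 0, 39, 3, -3, 10])) (.node (.leaf [27, 15, 0, -25, 57, 43, -50, 0, -7, -15, -1, -17]) (.leaf [705, 448, 0, -1632, 1988, 1423, -1024, 1, -249, -454, -9, -566]))) (.node (.node (.leaf [-33, -11, 0, -562, 87, 154, 353, 0, -115, 11, -9, -6]) (.leaf [377, 146, 0, -1214, 1135, 774, -303, 17, -311, -142, -1, -261])) (.node (.leaf [161, 82, 0, 576, 148, 2, -653, 0, 108, -79, 10, -74]) (.leaf [251, 163, 0, 44, 555, 291, -679, 1, 46, -163, 2, -173])))) (.node (.node (.node (.leaf [-172, -87, 0, 300, -430, -288, 258, -2, 78, 87, -2, 111]) (.leaf [-410, -286, 0, 1215, -1456, -827, 588, -1, 157, 286, -8, 349])) (.node (.leaf []) (.leaf [-136, -72, 0, -187, -202, -99, 398, 1, -24, 69, -6, 73]))) (.node (.node (.leaf []) (.leaf [-312, -195, 0, 1321, -1074, -775, 148, 0, 265, 195, 6, 246])) (.node (.leaf [-103, -57, 0, -488, -92, 47, 494, 0, -104, 54, -9, 47]) (.leaf [1162, 751,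 0, -908, 3404, 1390, -2842, -5, 16, -734, 50, -796])))))))

def bigL8 : Janko.Tree (List ℤ) :=
  (.node (.node (.node (.node (.node (.node (.node (.leaf []) (.leaf [1493, 866, 0, -3257, 4604, 2581, -2386, 14, -568, -863, 55, -1114])) (.leaf [100, 69, 0, -423, 451, 220, -118, 0, -50, -69, 9, -98])) (.node (.leaf [849, 532, 0, -4083, 3566, 2123, -489, 6, -681, -532, 32, -778]) (.leaf []))) (.node (.node (.leaf []) (.leaf [59, 39, 0, -313, 274, 155, -37, 0, -42, -40, 2, -58])) (.node (.leaf [0, 0, 0, 0, 0, 0, 0, -1, 0, 0, 1]) (.leaf [6227, 3082, 0, -27240, 16624, 17095, 576, 76, -7003, -3145, -574, -4204])))) (.node (.node (.node (.node (.leaf [-19, -13, 0, -173, 3, 22, 144, 0, -50, 13, -2, 17]) (.leaf [482, 27, 0, 9467, -3398, -2127, -4661, 22, 1430, -31, -50, 397])) (.leaf [9, -4, 0, -7, -89, 43, 53, 0, -36, 4, -9, 10])) (.node (.leaf []) (.leaf [5998, 2868, 0, -2998, 10112, 8608, -11091, 59, -1724, -2886, -183, -3229]))) (.node (.node (.leaf []) (.leaf [1763, 1184, 0, 3525,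 4983, 255, -7386, -20, 1367, -1115, 339, -1392])) (.node (.leaf [-1297, -996, 0, -2763, -4716, 125, 6251, 34, -1429, 934, -349, 1218]) (.leaf [-561, -844, 0, 6136, -2728, -3236, -1178, 60, 640, 916, 314, 629]))))) (.node (.node (.node (.node (.node (.leaf []) (.leaf [-255, -144, 0, 451, -749, -417, 461, -1, 69, 144, -13, 195])) (.leaf [])) (.node (.leaf [-4284, -2067, 0, -3037, -5822, -4435, 10319, -53, 266, 2028, 29, 2179]) (.leaf [7363, 4463, 0, -18700, 22042, 14381, -9878, 50, -3391, -4487, 6, -5543]))) (.node (.node (.leaf []) (.leaf [-6117, -2489, 0, 6746, -6555, -11305, 6560, -96, 3922, 2606, 682, 2637])) (.node (.leaf [-192, -152, 0, 151, -722, -214, 596, 0, -81, 149, -9, 166]) (.leaf [0, 0, 0, 1, -1])))) (.node (.node (.node (.leaf [-1, 0, 0, -3, 2, 0, 2]) (.leaf [20, 19, 0, -145, 120, 62, -4, 0, -16, -19, 0, -23])) (.node (.leaf []) (.leaf [2, 4, 0, -53, 26, 18, 18, -1, -10, -3, 0, -4]))) (.node (.node (.leaf []) (.leaf [-205, -128, 0, 167, -567, -275, 482, 0, 1,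 125, -9, 155])) (.node (.leaf [398, 237, 0, -175, 954, 507, -940, 2, -5, -235, 9, -271]) (.leaf [315, 212, 0, -1908, 1365, 926, 59, -1, -358, -209, -7, -276])))))) (.node (.node (.node (.node (.node (.node (.leaf []) (.leaf [-2351, -1586, 0, 576, -8148, -2069, 7471, 14, -870, 1548, -300, 1956])) (.leaf [36, 17, 0, 9, 59, 43, -85, 0, -1, -17, 1, -22])) (.node (.leaf []) (.leaf [0, 1, 0, 0, 1, 0, 0, 0, 0, -1]))) (.node (.node (.leaf [0, 0, 0, -5, 1, 1, 3, 0, -1]) (.leaf [-647, -451, 0, 7663, -4154, -3100, -1691, -6, 1377, 463, 36, 799])) (.node (.leaf [532, 387, 0, -496, 1608, 703, -1317, -9, 52, -384, 15, -391]) (.leaf [31, 23, 0, -191, 166, 88, -16, 0, -23, -23, 1, -34])))) (.node (.node (.node (.node (.leaf []) (.leaf [36, 17, 0, 11, 60, 42, -86, 0, -1, -16, 1, -22])) (.leaf [-38, -18, 0, -90, -29, -30, 128, 0, -19, 18, 0, 24])) (.node (.leaf [11, 12, 0, -262, 118, 95, 86, 0, -47, -12, -3, -20]) (.leaf [0, 1, 0, -6, 0, 1, 5, 0, -2]))) (.node (.node (.leaf []) (.leaf [4889,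 2019, 0, 6804, 384, 5536, -10376, 62, -836, -2121, -624, -1354])) (.node (.leaf [-17, -15, 0, 281, -160, -100, -63, 1, 42, 15, 0, 28]) (.leaf [517, 301, 0, -382, 1378, 685, -1211, 1, -9, -301, 29, -383]))))) (.node (.node (.node (.node (.node (.leaf []) (.leaf [3678, 2260, 0, -17508, 14894, 9282, -1948, 21, -3003, -2271, 69, -3258])) (.leaf [])) (.node (.leaf [1, 0, 0, -1]) (.leaf [1, -1, 0, 46, -20, -10, -20, 0, 8, 0, 0, 2]))) (.node (.node (.leaf [78, 47, 0, 89, 180, 51, -266, 0, 37, -47, 5, -51]) (.leaf [2604, 1328, 0, -3068, 6141, 3792, -4591, 3, -916, -1289, 50, -1576])) (.node (.leaf [-192, -116, 0, -810, -224, 51, 893, 0, -188, 113, -20, 103]) (.leaf [-22, 107, 0, -4085, 1638, 1268, 1632, 2, -613, -110, -31, -279])))) (.node (.node (.node (.leaf [-1, 0, 0, 4, -4, -1, 1, 0, 1]) (.leaf [])) (.node (.leaf [72, 3, 0, 1370, -437, -311, -701, 3, 212, -1, 11, 26]) (.leaf [-2, 0, 0, -12, 5, 0, 7]))) (.node (.node (.leaf [0, 0, 0, 0, -1, 0, 1]) (.leaf [-276, -180, 0, 595,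 -830, -489, 435, 0, 100, 180, -5, 202])) (.node (.leaf [323, 173, 0, 1635, 185, -166, -1546, 0, 318, -164, 28, -131]) (.leaf [4383, 2786, 0, -6402, 13011, 6600, -8923, 6, -678, -2755, 131, -3213])))))))

def bigL9 : Janko.Tree (List ℤ) :=
  (.node (.node (.node (.node (.node (.node (.node (.leaf []) (.leaf [983, 617, 0, -3377, 3679, 2022, -1174, 6, -529, -618, 41, -815])) (.leaf [100, 57, 0, -412, 362, 236, -65, 0, -79, -57, 3, -83])) (.node (.leaf []) (.leaf [-1275, -643, 0, -4871, -518, -89, 4995, 7, -807, 619, -5, 481]))) (.node (.node (.leaf []) (.leaf [0, -2, 0, 0, -4, 1, 1, 0, 0, 1, 1])) (.node (.leaf [-176, -100, 0, 250, -472, -275, 329, -2, 44, 100, -4, 125]) (.leaf [3312, 1691, 0, -8537, 8312, 6736, -3213, 6, -2221, -1674, -82, -2169])))) (.node (.node (.node (.node (.leaf [3692, 1678, 0, 4066, 3978, 3505, -9166, 56, -157, -1642, -48, -1740]) (.leaf [703, 161, 0, 8977, -2690, -1741, -5027, 24, 1354, -163, -41, 222])) (.leaf [30, 17, 0, 40, 57, 20, -96, 0, 10, -17,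 2, -18])) (.node (.leaf []) (.leaf [-528, -298, 0, 975, -1567, -859, 925, -2, 165, 292, -21, 391]))) (.node (.node (.leaf [392, 223, 0, 106, 826, 392, -1014, 0, 15, -217, 16, -237]) (.leaf [-1701, -875, 0, -6683, -2518, 741, 7591, -10, -1274, 773, -282, 858])) (.node (.leaf [3, 1, 0, 22, -4, -3, -15, 0, 2]) (.leaf [9616, 6732, 0, -30649, 40626, 17960, -16262, -49, -2679, -6537, 779, -9028]))))) (.node (.node (.node (.node (.node (.leaf []) (.leaf [-161, -100, 0, 608, -480, -411, 92, -1, 120, 101, 9, 132])) (.leaf [])) (.node (.leaf [-948, -486, 0, -2533, -964, -329, 3348, 2, -435, 468, -18, 433]) (.leaf [54, 37, 0, -390, 252, 181, 38, -1, -72, -37, -2, -50]))) (.node (.node (.leaf []) (.leaf [1691, 2112, 0, -14088, 21514, 2550, -6151, -241, 1298, -1815, 1240, -3868])) (.node (.leaf [125, 65, 0, 574, 88, -42, -574, 0, 114, -62, 9, -54]) (.leaf [71, 39, 0, 2, 141, 83, -170, 0, -2, -38, 1, -43])))) (.node (.node (.node (.leaf []) (.leaf [-227, -154, 0, 345, -773, -330, 524,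 0, 0, 153, -16, 190])) (.node (.leaf []) (.leaf []))) (.node (.node (.leaf [-1, 0, 0, -11, 3, 2, 7, 0, -2]) (.leaf [56, 28, 0, 208, 56, -3, -238, 0, 44, -28, 4, -26])) (.node (.leaf []) (.leaf [4956, 2581, 0, -6529, 10981, 8024, -8064, 42, -1887, -2584, -48, -3055])))))) (.node (.node (.node (.node (.node (.node (.leaf []) (.leaf [-6844, -4112, 0, 14968, -19397, -12712, 10102, -52, 2756, 4135, 9, 5008])) (.leaf [-66, -41, 0, -161, -139, -12, 273, 0, -51, 41, -6, 40])) (.node (.leaf [-14, 4, 0, 220, -61, -87, -101, 0, 67, -4, -2, 13]) (.leaf [15, 3, 0, 178, -70, -29, -87, 0, 18, -3, 0, 6]))) (.node (.node (.leaf []) (.leaf [-94, -65, 0, 147, -357, -126, 238, 0, -10, 64, -9, 83])) (.node (.leaf [28, 11, 0, -3, 66, 25, -69, 0, -3, -11, 3, -15]) (.leaf [8, 59, 0, -790, 370, 276, 264, 3, -98, -63, -9, -74])))) (.node (.node (.node (.node (.leaf [0, 0, 0, -1, 0, 0, 1]) (.leaf [-4, 0, 0, -50, 14, 13, 28, 0, -7, 0, 0, -2])) (.leaf [])) (.node (.leaf [-650, -391, 0, 1963, -2147,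 -1317, 775, -1, 352, 388, -15, 511]) (.leaf [-308, -205, 0, 1790, -1300, -886, -28, 1, 337, 203, 7, 266]))) (.node (.node (.leaf []) (.leaf [538, 304, 0, 17, 1198, 575, -1354, 2, 7, -298, 23, -337])) (.node (.leaf []) (.leaf [-24416, -12286, 0, 22380, -55314, -34594, 47469, -160, 5819, 12505, -231, 14646]))))) (.node (.node (.node (.node (.node (.leaf []) (.leaf [415, 293, 0, -6208, 3132, 2405, 1623, 6, -1102, -305, -30, -597])) (.leaf [-276, -146, 0, 1106, -1006, -631, 197, -6, 220, 147, -11, 230])) (.node (.leaf [-2, 0, 0, -12, 1, 2, 9, 0, -1]) (.leaf [405, 259, 0, -1512, 1545, 878, -429, 0, -236, -259, 12, -339]))) (.node (.node (.leaf [112, 80, 0, -361, 473, 213, -190, 0, -29, -80, 8, -104]) (.leaf [-6408, -2033, 0, -12167, 2674, -6317, 13355, -198, 1654, 2291, 794, 1051])) (.node (.leaf [-308, -161, 0, 912, -965, -615, 343, -2, 187, 160, -6, 227]) (.leaf [12, 18, 0, -368, 195, 122, 101, -1, -50, -18, -1, -33])))) (.node (.node (.node (.leaf []) (.leaf [-2639, -1623,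 0, 6695, -8712, -4821, 4010, 1, 1033, 1608, -90, 2050])) (.node (.leaf []) (.leaf [-50, -12, 0, 372, -21, -222, -196, 1, 153, 12, 10, 18]))) (.node (.node (.leaf []) (.leaf [-316, -246, 0, 3756, -1984, -1496, -890, 2, 713, 249, 29, 340])) (.node (.leaf [16, 1, 0, 201, -77, -34, -103, 0, 26, -1, -1, 6]) (.leaf [0, 0, 0, -1, 0, 0, 1])))))))

def bigL10 : Janko.Tree (List ℤ) :=
  (.node (.node (.node (.node (.node (.node (.node (.leaf []) (.leaf [493, 332, 0, -1071, 1763, 783, -953, 0, -100, -332, 30, -386])) (.leaf [-1973, -1211, 0, -1714, -6711, -706, 7508, 12, -1155, 1163, -405, 1592])) (.node (.leaf []) (.leaf [-71, -37, 0, -144, -148, -19, 268, 0, -40, 36, -8, 43]))) (.node (.node (.leaf [0, 0, 0, -1, 0, 0, 1]) (.leaf [4, 16, 0, 577, -1, -237, -380, 5, 157, -18, 15, 13])) (.node (.leaf []) (.leaf [1540, 874, 0, -3342, 4402, 2793, -2303, 17, -630, -870, -1, -1111])))) (.node (.node (.node (.node (.leaf []) (.leaf [-25587, -14038, 0, 36465, -64389, -40475, 44649, -193, 8238,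 13960, -308, 16987])) (.leaf [130, 89, 0, -781, 620, 365, -19, 0, -126, -89, 4, -125])) (.node (.leaf [241, 158, 0, -1150, 988, 598, -122, 1, -204, -155, 3, -207]) (.leaf []))) (.node (.node (.leaf [0, 0, 0, -1, 0, 1]) (.leaf [430, 281, 0, -4480, 2311, 1892, 1045, 3, -915, -282, -41, -430])) (.node (.leaf [-3292, -1901, 0, -3099, -5911, -2774, 9470, -2, -623, 1878, -65, 1834]) (.leaf [-1021, -659, 0, 3094, -3332, -2109, 1215, 3, 525, 656, 7, 782]))))) (.node (.node (.node (.node (.node (.leaf [0, 0, 0, -1, 0, 0, 1]) (.leaf [-485, -303, 0, 1738, -1715, -1072, 485, 1, 289, 304, -6, 398])) (.leaf [8, 2, 0, 33, -7, 5, -28, 0, 5, -3, 1, -5])) (.node (.leaf [7, 6, 0, -113, 62, 40, 28, 0, -19, -6, 0, -10]) (.leaf [2513, 1665, 0, -13498, 10658, 6881, -606, 19, -2345, -1671, 1, -2289]))) (.node (.node (.leaf [0, 0, 0, 2, 1, 0, -2]) (.leaf [22529, 12441, 0, -42751, 60368, 39265, -34914, 110, -8895, -12304, 138, -15762])) (.node (.leaf [6626, 3324, 0, -5498, 11575, 10390, -11050, 64,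 -2389, -3346, -272, -3656]) (.leaf [-22, -29, 0, 546, -299, -177, -150, 0, 86, 30, -2, 47])))) (.node (.node (.node (.leaf []) (.leaf [2247, 1376, 0, -3862, 6648, 3634, -4171, 11, -537, -1370, 68, -1676])) (.node (.leaf [-557, -320, 0, -829, -1060, -283, 1809, 0, -173, 305, -27, 291]) (.leaf [-219, -125, 0, 495, -648, -397, 325, -1, 92, 124, -4, 162]))) (.node (.node (.leaf [0, 0, 0, -28, 4, 8, 18, 0, -8]) (.leaf [562, 255, 0, 1107, 775, 299, -1840, 8, 180, -252, 37, -312])) (.node (.leaf []) (.leaf [304, 189, 0, -1353, 1105, 759, -140, 0, -259, -190, -5, -241])))))) (.node (.node (.node (.node (.node (.node (.leaf []) (.leaf [491, 585, 0, -11279, 6044, 3793, 3078, -5, -1762, -600, 9, -999])) (.leaf [-460, -253, 0, 354, -1093, -624, 963, -2, 77, 250, -11, 298])) (.node (.leaf [983, 553, 0, -1463, 2768, 1504, -1857, 8, -251, -547, 44, -713]) (.leaf [0, 0, 0, 1, 1, 0, -1]))) (.node (.node (.leaf []) (.leaf [6277, 2931, 0, 4939, 7099, 6743, -14645, 78, -565, -2904, -194, -2956]))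 (.node (.leaf [32, 15, 0, 601, -239, -97, -292, 1, 99, -15, -5, 5]) (.leaf [420, 265, 0, -3372, 2243, 1486, 352, 11, -594, -266, 13, -480])))) (.node (.node (.node (.node (.leaf []) (.leaf [-4, -2, 0, 5, -9, -4, 6, 0, 2, 2, 0, 2])) (.leaf [])) (.node (.leaf []) (.leaf [1181, 720, 0, -3125, 3973, 2183, -1752, 5, -486, -720, 46, -925]))) (.node (.node (.leaf []) (.leaf [-412, -274, 0, 2060, -1765, -1050, 213, 1, 334, 274, -7, 368])) (.node (.leaf [-4350, -2447, 0, -7542, -7197, -2319, 14345, 6, -1561, 2402, -195, 2291]) (.leaf [-696, -438, 0, 411, -1937, -836, 1731, -3, -24, 437, -40, 496]))))) (.node (.node (.node (.node (.node (.leaf []) (.leaf [1555, 839, 0, -6772, 4049, 4414, 86, 36, -1650, -880, -203, -1070])) (.leaf [3, 0, 0, 38, -11, -9, -21, 0, 5, 0, 0, 2])) (.node (.leaf [1, 0, 0, 1, 1, 0, -2]) (.leaf [-3, -6, 0, 18, -30, -5, 10, 0, -3, 6, -1, 6]))) (.node (.node (.leaf [217, 117, 0, 32, 358, 250, -482, -2, -27, -117, 0, -109]) (.leaf [-11194, -6638, 0, 25270, -34069,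 -20052, 17443, -20, 4160, 6675, -231, 8267])) (.node (.leaf []) (.leaf [9517, 4925, 0, -5864, 18103, 13625, -18210, 92, -2355, -4958, -233, -5374])))) (.node (.node (.node (.leaf [0, 0, 0, 1, 2, 0, -2]) (.leaf [])) (.node (.leaf [0, 0, 0, -1, 1]) (.leaf [-25, -6, 0, -155, 32, 11, 112, 0, -21, 6, -1, 6]))) (.node (.node (.leaf []) (.leaf [])) (.node (.leaf [-2, -1, 0, 38, -27, -10, -6, 0, 5, 1, -1, 4]) (.leaf [4201, 2422, 0, 1035, 8666, 4385, -10840, 6, 241, -2400, 96, -2499])))))))

def bigL11 : Janko.Tree (List ℤ) :=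
  (.node (.node (.node (.node (.node (.node (.node (.leaf []) (.leaf [1326, 845, 0, -5201, 5056, 2981, -1236, 5, -847, -842, 21, -1111])) (.leaf [-285, -343, 0, 5982, -3481, -2010, -1393, -2, 830, 358, -14, 592])) (.node (.leaf []) (.leaf [-1170, -712, 0, 3104, -3949, -2159, 1738, -5, 481, 712, -47, 917]))) (.node (.node (.leaf []) (.leaf [])) (.node (.leaf [-279, -150, 0, -421, -465, -179, 881, -2, -83, 147, -13, 158]) (.leaf [3414, 1816, 0, -934, 7600, 3987, -7870, 23, -325, -1794, 127, -2088])))) (.node (.node (.node (.node (.leaf [0, 0, 0, 1, -1]) (.leaf [-23794, -13109, 0, 46019, -63789, -41455, 35986, -195, 10047, 13073, -182, 16324])) (.leaf [1258, 670, 0, -3043, 3760, 2296, -1686, 17, -665, -666, 56, -931])) (.node (.leaf []) (.leaf [-23, -1, 0, -343, 85, 86, 189, 0, -48, -1, -7, -6]))) (.node (.node (.leaf [0, 0, 0, 1, 1, 0, -1]) (.leaf [421, 261, 0, -3142, 1917, 1446, 415, 3, -633, -262, -18, -382])) (.node (.leaf [-16, -13, 0, -21, -102, 10, 99, 0, -29, 13, -7,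 20]) (.leaf [2069, 1277, 0, -1789, 5712, 2749, -4743, 11, -106, -1262, 89, -1494]))))) (.node (.node (.node (.node (.node (.leaf []) (.leaf [3563, 2141, 0, -1558, 9021, 4309, -8691, 10, 44, -2122, 128, -2412])) (.leaf [-167, -95, 0, 128, -471, -211, 404, 0, -1, 95, -12, 124])) (.node (.leaf []) (.leaf [1109, 675, 0, -6987, 4562, 3519, 465, 13, -1346, -699, -43, -1005]))) (.node (.node (.leaf []) (.leaf [])) (.node (.leaf []) (.leaf [0, 1, 0, 1, 0, 0, 0, 0, 0, -1])))) (.node (.node (.node (.leaf []) (.leaf [])) (.node (.leaf []) (.leaf [-74, -23, 0, -108, -22, -77, 170, -1, 8, 24, 3, 30]))) (.node (.node (.leaf [0, 0, 0, 1, -2, 1]) (.leaf [-15, -5, 0, -71, 5, 2, 60, 0, -9, 5, -1, 5])) (.node (.leaf []) (.leaf [11346, 6660, 0, 14697, 18294, 9114, -34191, 101, 2980, -6624, 139, -6461])))))) (.node (.node (.node (.node (.node (.node (.leaf []) (.leaf [190, 183, 0, -6036, 2666, 2034, 2110, 4, -1104, -195, -13, -433])) (.leaf [])) (.node (.leaf [373, 232, 0, -399, 1070, 512, -832,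 0, -27, -229, 17, -272]) (.leaf [-183, -143, 0, 6306, -2676, -2078, -2332, -8, 1229, 155, 6, 410]))) (.node (.node (.leaf [111, 57, 0, 822, -18, -133, -658, 1, 167, -54, 10, -38]) (.leaf [400, 228, 0, -1411, 1448, 849, -418, 6, -249, -228, 17, -334])) (.node (.leaf [-1121, -626, 0, 1226, -2845, -1640, 2249, 1, 207, 620, -30, 769]) (.leaf [-55, 7, 0, -1081, 300, 296, 571, 5, -170, -13, -14, -40])))) (.node (.node (.node (.node (.leaf []) (.leaf [24, 12, 0, -27, 50, 40, -41, 0, -8, -12, 0, -15])) (.leaf [])) (.node (.leaf []) (.leaf [1522, 963, 0, -4414, 5429, 2899, -2203, 6, -637, -960, 66, -1243]))) (.node (.node (.leaf []) (.leaf [84, 10, 0, 1914, -642, -457, -938, 2, 298, -4, 8, 56])) (.node (.leaf []) (.leaf [-461, -306, 0, 2641, -2008, -1294, 28, 0, 472, 305, 2, 409]))))) (.node (.node (.node (.node (.node (.leaf []) (.leaf [-726, -553, 0, -5520, -1708, 1556, 5455, 18, -1582, 513, -262, 439])) (.leaf [])) (.node (.leaf [1492, 911, 0, -2098, 4366, 2176, -3001, 1, -285,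 -905, 76, -1070]) (.leaf [10, 40, 0, 894, -58, -295, -577, -2, 258, -31, 20, -22]))) (.node (.node (.leaf []) (.leaf [-49, -17, 0, -291, 42, 21, 221, 1, -42, 17, -3, 14])) (.node (.leaf [126, 73, 0, 472, 128, -4, -534, 0, 99, -71, 8, -63]) (.leaf [4510, 1890, 0, 35065, -3178, -6107, -25921, 7, 6063, -1791, 367, -687])))) (.node (.node (.node (.leaf []) (.leaf [-24, -72, 0, 1911, -989, -547, -598, 2, 261, 75, -1, 137])) (.node (.leaf []) (.leaf [13, 8, 0, -92, 75, 39, -2, 0, -12, -8, 1, -15]))) (.node (.node (.leaf []) (.leaf [-12900, -7083, 0, 20162, -32839, -21040, 21563, -102, 4567, 7065, -143, 8631])) (.node (.leaf [758, 402, 0, -709, 1864, 1058, -1538, 0, -151, -396, 34, -514]) (.leaf [3416, 1879, 0, -6435, 7784, 6366, -4512, 27, -1673, -1900, -149, -2132])))))))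

def bigL12 : Janko.Tree (List ℤ) :=
  (.node (.node (.node (.node (.node (.node (.node (.leaf []) (.leaf [-12139, -7135, 0, 21870, -34562, -20059, 20726, -78, 3959, 7099, -283, 8646])) (.leaf [])) (.node (.leaf []) (.leaf []))) (.node (.node (.leaf []) (.leaf [])) (.node (.leaf [-428, -248, 0, 2159, -1693, -1192, 155, -1, 358, 251, -7, 425]) (.leaf [1416, 759, 0, 538, 2578, 1513, -3562, 14, 26, -749, 12, -823])))) (.node (.node (.node (.node (.leaf []) (.leaf [-26927, -14901, 0, 47551, -71572, -45400, 43570, -199, 9969, 14880, -269, 18449])) (.leaf [-7, 2, 0, 386, -114, -129, -186, 0, 96, -2, 0, 17])) (.node (.leaf [-162, -87, 0, 73, -364, -206, 361, -1, 17, 87, -5, 104]) (.leaf [-286, -296, 0, 7481, -3780, -2454, -2250, -2, 1252, 305, 3, 586]))) (.node (.node (.leaf [-1, 0, 0, 12, -4, -4, -5, 0, 4]) (.leaf [332, 195, 0, -2590, 1703, 1136, 263, 2, -463, -197, 1, -338])) (.node (.leaf [-2, -2, 0, 27, -16, -8, -7, 0, 5, 2, 0, 2]) (.leaf [-3, 88, 0, -2407, 1113, 679, 859,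 -8, -326, -94, -13, -136]))))) (.node (.node (.node (.node (.node (.leaf []) (.leaf [73, 37, 0, 573, -110, -75, -386, 0, 88, -35, 0, -10])) (.leaf [55, 34, 0, -254, 196, 147, -21, 0, -46, -34, -2, -47])) (.node (.leaf [4443, 2645, 0, -39124, 19433, 18446, 8369, 84, -8161, -2774, -588, -4193]) (.leaf [-8179, -4711, 0, 4856, -19821, -10455, 18311, -23, 798, 4618, -235, 5355]))) (.node (.node (.leaf []) (.leaf [])) (.node (.leaf [-105, -66, 0, -411, -131, 20, 471, 0, -95, 63, -8, 54]) (.leaf [-264, -123, 0, -515, -329, -151, 835, -3, -71, 121, -15, 141])))) (.node (.node (.node (.leaf [162, 81, 0, 54, 283, 185, -399, 2, 2, -81, 3, -101]) (.leaf [2326, 1382, 0, -3823, 6096, 3951, -3962, 14, -706, -1379, -6, -1639])) (.node (.leaf [-4, 6, 0, -280, 143, 65, 94, 1, -33, -8, -1, -12]) (.leaf []))) (.node (.node (.leaf [0, 0, 0, -2, 4, 0, -1]) (.leaf [])) (.node (.leaf [15003, 8270, 0, -12221, 37538, 19845, -32084, 57, -2267, -8165, 522, -9815]) (.leaf [17, 7, 0, -19, 42, 16, -31,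 0, -8, -8, -1, -1])))))) (.node (.node (.node (.node (.node (.node (.leaf []) (.leaf [190, 184, 0, -5344, 2443, 1822, 1793, 3, -966, -193, -8, -407])) (.leaf [])) (.node (.leaf [323, 203, 0, -234, 918, 400, -788, 0, 6, -200, 18, -234]) (.leaf [1045, 572, 0, -1260, 2915, 1505, -2171, 9, -173, -572, 66, -778]))) (.node (.node (.leaf []) (.leaf [-1241, -670, 0, 3187, -3822, -2308, 1610, -18, 677, 666, -58, 935])) (.node (.leaf [-118, -62, 0, 255, -342, -213, 181, 1, 45, 62, -6, 92]) (.leaf [37, 19, 0, 261, -41, -22, -193, 0, 48, -19, 0, -13])))) (.node (.node (.node (.node (.leaf []) (.leaf [15, 6, 0, 34, 6, 13, -44, 0, 3, -6, 0, -7])) (.leaf [219, 135, 0, 871, 245, -65, -963, -1, 178, -132, 13, -79])) (.node (.leaf [-1025, -658, 0, 5427, -4785, -2606, 570, -4, 825, 667, -68, 985]) (.leaf [-37690, -21311, 0, 81173, -106546, -68039, 55990, -177, 15596, 21324, -149, 26691]))) (.node (.node (.leaf [7, 13, 0, -145, 113, 42, 13, 0, -8, -13, 1, -18]) (.leaf [-120, -64, 0, -809, 125,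 57, 607, -1, -146, 64, 5, 39])) (.node (.leaf [-513, -392, 0, 1062, -1952, -794, 1141, 7, 2, 389, -20, 420]) (.leaf [-7, -5, 0, -41, 0, 5, 33, 0, -6, 4, 0, 2]))))) (.node (.node (.node (.node (.node (.leaf [231, 150, 0, -1252, 941, 639, -21, 0, -233, -151, -4, -196]) (.leaf [-487, -437, 0, -10239, 370, 3320, 6991, 43, -2508, 367, -274, 46])) (.leaf [0, 0, 0, -1, 1])) (.node (.leaf []) (.leaf [-320, -215, 0, 1976, -1474, -940, -25, 0, 345, 212, -2, 305]))) (.node (.node (.leaf [-185, -115, 0, 668, -643, -404, 172, 0, 119, 115, 2, 139]) (.leaf [0, 0, 0, -2, 1, 0, 0, 1])) (.node (.leaf [-2124, -1011, 0, -5184, -2634, -702, 7271, -21, -737, 948, -161, 1087]) (.leaf [11306, 6026, 0, -11868, 24534, 17310, -20272, 106, -3360, -6053, -195, -6801])))) (.node (.node (.node (.leaf []) (.leaf [-145, -99, 0, 684, -632, -352, 108, 0, 103, 99, -6, 134])) (.node (.leaf [0, 0, 0, 3, 0, 0, -2]) (.leaf [20, 16, 0, -93, 107, 42, -28, 0, -8, -15, 2, -21]))) (.node (.node (.leaf [128, 52, 0,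 -101, 200, 187, -195, 2, -62, -52, -8, -54]) (.leaf [])) (.node (.leaf [-216, -141, 0, 933, -876, -502, 171, 0, 154, 138, -6, 188]) (.leaf [-26509, -15814, 0, -9696, -56501, -26801, 72003, -144, -3466, 15643, -752, 16734])))))))

def bigL13 : Janko.Tree (List ℤ) :=
  (.node (.node (.node (.node (.node (.node (.node (.leaf []) (.leaf [-2992, -2552, 0, 5816, -14720, -3527, 8906, 7, -971, 2603, -548, 2984])) (.leaf [])) (.node (.leaf []) (.leaf [-13976, -7729, 0, 14392, -36151, -19344, 28613, -58, 2680, 7640, -491, 9289]))) (.node (.node (.leaf []) (.leaf [-54, -36, 0, 240, -227, -130, 47, 0, 34, 35, -1, 51])) (.node (.leaf []) (.leaf [674, 412, 0, 366, 1608, 568, -2010, 3, 164, -413, 48, -441])))) (.node (.node (.node (.node (.leaf [0, 0, 0, 2, 1, 0, -2]) (.leaf [492, 304, 0, -1316, 1674, 915, -742, 0, -189, -304, 18, -390])) (.leaf [-7, 12, 0, -113, 49, 28, 39, 0, 1, -12, -10, 1])) (.node (.leaf []) (.leaf [-765, -495, 0, 5178, -4066, -2304, -1, -7, 790, 498, -64, 859])))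 (.node (.node (.leaf []) (.leaf [1827, 897, 0, -2516, 2724, 3446, -2104, 39, -1073, -927, -176, -936])) (.node (.leaf []) (.leaf [-41, -26, 0, 48, -130, -53, 97, 0, 0, 26, -2, 30]))))) (.node (.node (.node (.node (.node (.leaf []) (.leaf [3235, 1906, 0, -8487, 8245, 6891, -3328, 26, -1905, -1934, -196, -2196])) (.leaf [])) (.node (.leaf [0, -6, 0, 253, -88, -81, -112, 0, 47, 6, 3, 13]) (.leaf [-1251, -754, 0, 3281, -4145, -2297, 1829, -6, 536, 751, -36, 948]))) (.node (.node (.leaf [-63, -40, 0, 320, -252, -167, 18, 0, 58, 39, 1, 54]) (.leaf [])) (.node (.leaf [17, 10, 0, -117, 77, 54, 10, 0, -22, -11, 0, -15]) (.leaf [33, 17, 0, 18, 41, 40, -75, 0, -3, -17, -1, -17])))) (.node (.node (.node (.leaf []) (.leaf [6, 8, 0, -60, 50, 21, 2, -1, -6, -7, 0, -8])) (.node (.leaf [162, 92, 0, 140, 387, 107, -521, 1, 54, -91, 10, -98]) (.leaf [-962, -604, 0, 1663, -3053, -1493, 1912, -3, 171, 605, -49, 738]))) (.node (.node (.leaf [40, 17, 0, 29, 46, 41, -91, 0, -5, -17, 1, -19]) (.leaf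 [])) (.node (.leaf [28, 13, 0, -82, 71, 58, -20, 0, -23, -13, 0, -17]) (.leaf [-106, -65, 0, -416, -127, 18, 474, 0, -95, 63, -8, 54])))))) (.node (.node (.node (.node (.node (.node (.leaf []) (.leaf [7445, 5500, 0, -35736, 34214, 18324, -6488, -79, -4552, -5258, 280, -7551])) (.leaf [])) (.node (.leaf []) (.leaf [370, 188, 0, 821, 727, 102, -1432, 1, 233, -191, 46, -233]))) (.node (.node (.leaf []) (.leaf [-30, -34, 0, 1660, -654, -534, -658, 2, 316, 34, 8, 94])) (.node (.leaf []) (.leaf [-16, -45, 0, 1670, -728, -489, -643, 2, 296, 45, 0, 94])))) (.node (.node (.node (.node (.leaf [-1, 0, 0, 0, -3, -1, 3, 0, 1]) (.leaf [22, 12, 0, -78, 69, 52, -17, 0, -16, -12, 0, -17])) (.leaf [-248, -83, 0, 282, -282, -472, 251, -7, 177, 83, 4, 152])) (.node (.leaf []) (.leaf [290, 185, 0, -595, 936, 496, -526, 1, -70, -185, 15, -237]))) (.node (.node (.leaf []) (.leaf [-226, -137, 0, -385, -332, -171, 737, -1, -95, 137, 1, 134])) (.node (.leaf [268, 82, 0, 2383, -307, -456, -1670, 0,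 413, -72, 26, -32]) (.leaf [-282, -184, 0, 1563, -1151, -789, 0, 0, 299, 184, 6, 236]))))) (.node (.node (.node (.node (.node (.leaf []) (.leaf [-4, 0, 0, -51, 58, -6, 2, -1, 4, 1, 4, -5])) (.leaf [-294, -205, 0, 2064, -1416, -938, -152, 0, 375, 206, 5, 273])) (.node (.leaf [-36, -25, 0, -514, -47, 160, 417, 0, -147, 24, -15, 17]) (.leaf [1082, 541, 0, -903, 2079, 1672, -1960, -10, -288, -539, -10, -665]))) (.node (.node (.leaf []) (.leaf [-3, 0, 0, -3, 5, -4, 1, 1, 3])) (.node (.leaf []) (.leaf [22, 11, 0, -92, 73, 52, -10, 0, -19, -11, -1, -15])))) (.node (.node (.node (.leaf []) (.leaf [20, 5, 0, 34, 22, 12, -60, 0, 5, -5, 2, -11])) (.node (.leaf []) (.leaf [-59, -31, 0, 69, -121, -96, 97, 0, 21, 31, 1, 36]))) (.node (.node (.leaf [-3, 0, 0, -26, 8, 3, 15, 0, -2]) (.leaf [-1052, -631, 0, 1510, -2919, -1639, 2041, -2, 207, 628, -25, 761])) (.node (.leaf [465, 296, 0, -312, 1297, 567, -1122, 2, -6, -287, 20, -327]) (.leaf [1460, 861, 0, 9611, 1407, -1880, -8800, -22, 2234,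 -815, 281, -634])))))))

def bigL14 : Janko.Tree (List ℤ) :=
  (.node (.node (.node (.node (.node (.node (.node (.leaf []) (.leaf [-7926, -2578, 0, -1657, -10830, -8213, 15782, -139, 2778, 2599, -159, 3133])) (.leaf [])) (.node (.leaf []) (.leaf []))) (.node (.node (.leaf []) (.leaf [-285, -157, 0, 1259, -1094, -684, 160, -6, 245, 157, -10, 244])) (.node (.leaf [-22, -6, 0, 1398, -518, -495, -548, -1, 243, 9, 3, 119]) (.leaf [2318, 1311, 0, -6569, 6829, 4742, -2502, 1, -1398, -1306, 29, -1724])))) (.node (.node (.node (.node (.leaf []) (.leaf [-266, -161, 0, -390, -550, -154, 905, -1, -115, 158, -18, 168])) (.leaf [31, 26, 0, 246, 5, -36, -212, 0, 68, -26, -2, -13])) (.node (.leaf []) (.leaf [-781, -492, 0, 1185, -2449, -1136, 1623, 2, 118, 483, -47, 590]))) (.node (.node (.leaf [0, 0, 0, 1, 2, 0, -2]) (.leaf [11, 9, 0, -111, 74, 41, 16, 0, -19, -8, 0, -12])) (.node (.leaf []) (.leaf [-138, -87, 0, 95, -441, -144, 371, -1, -16, 87, -9, 95]))))) (.node (.node (.node (.node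 (.node (.leaf []) (.leaf [-2, 4, 0, -113, 47, 32, 46, 0, -15, -4, -1, -7])) (.leaf [0, 0, 0, -1, 0, 0, 1])) (.node (.leaf [-3857, -1868, 0, -20020, -1544, 2169, 18363, -21, -3667, 1784, -267, 1307]) (.leaf [-258, -149, 0, 299, -909, -276, 628, -11, 27, 146, -30, 191]))) (.node (.node (.leaf [3491, 1603, 0, 22594, -642, -3223, -18270, 20, 3998, -1519, 234, -895]) (.leaf [2786, 1779, 0, -4373, 7592, 4451, -5010, -4, -745, -1763, -18, -1844])) (.node (.leaf [-271, -171, 0, 1554, -1204, -763, 44, -7, 262, 173, 8, 246]) (.leaf [-7991, -4492, 0, 22305, -24684, -15767, 9656, -58, 4378, 4526, -126, 5920])))) (.node (.node (.node (.leaf [46, 22, 0, 82, 54, 33, -141, 0, 13, -22, 2, -26]) (.leaf [19, 10, 0, 67, 9, 4, -72, 0, 12, -9, 0, -9])) (.node (.leaf [138, 87, 0, -92, 440, 144, -372, 1, 16, -87, 9, -95]) (.leaf [-75, -41, 0, 267, -261, -160, 72, 0, 49, 41, -2, 58]))) (.node (.node (.leaf [136, 93, 0, -570, 536, 316, -117, 0, -88, -93, -1, -112]) (.leaf [136, -12, 0, 2228, -697,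 -496, -1184, 1, 346, 12, 17, 48])) (.node (.leaf []) (.leaf [0, 1, 0, 5, 0, -2, -3, 0, 1])))))) (.node (.node (.node (.node (.node (.node (.leaf []) (.leaf [99, 145, 0, -5626, 2333, 1813, 2152, 3, -1023, -154, -17, -360])) (.leaf [-101, -42, 0, -523, -38, 69, 470, 1, -84, 36, -8, 27])) (.node (.leaf []) (.leaf []))) (.node (.node (.leaf [-1523, -918, 0, 2700, -4711, -2337, 2847, 3, 395, 900, -69, 1097]) (.leaf [])) (.node (.leaf [-293, -239, 0, 2302, -1881, -932, 11, -2, 276, 237, -17, 360]) (.leaf [-209, -153, 0, 1423, -1099, -622, -29, 3, 233, 150, -15, 217])))) (.node (.node (.node (.node (.leaf []) (.leaf [0, 0, 0, -4, 2, 2, 2, 0, -1])) (.leaf [])) (.node (.leaf []) (.leaf [-258, -122, 0, 430, -590, -459, 393, -5, 101, 128, 8, 166]))) (.node (.node (.leaf []) (.leaf [19, -3, 0, 347, 32, -145, -252, -1, 73, 6, 22])) (.node (.leaf [1, 1, 0, 6, -4, -1, -2]) (.leaf [-501, -298, 0, -8, -1115, -544, 1254, -1, -6, 292, -17, 311]))))) (.node (.node (.node (.node (.node (.leaf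 [0, 0, 0, -5, 1, 1, 3, 0, -1]) (.leaf [0, 1, 0, 1, 0, 0, 0, 0, 0, -1])) (.leaf [0, 3, 0, 0, 2, -1, 0, 0, 0, -2])) (.node (.leaf [-584, -443, 0, 2019, -2841, -1029, 1112, 2, 109, 443, -78, 574]) (.leaf [7, 2, 0, -10, 20, 11, -14, 0, -2, -2, 1, -6]))) (.node (.node (.leaf []) (.leaf [-2756, -1574, 0, -4046, -5664, -1426, 9257, -17, -1037, 1543, -208, 1616])) (.node (.leaf [-5343, -2736, 0, 3416, -10882, -7443, 10409, -60, 1345, 2703, -23, 3223]) (.leaf [1187, 685, 0, -2727, 3705, 2114, -1854, 0, -452, -677, 49, -917])))) (.node (.node (.node (.leaf [-4, 0, 0, -15, -1, 1, 15, 0, -1]) (.leaf [10, 4, 0, 19, 6, 8, -27, 0, 0, -4, 1, -5])) (.node (.leaf []) (.leaf [11, 22, 0, -389, 202, 127, 118, 0, -58, -22, 0, -35]))) (.node (.node (.leaf [1, 0, 0, 9, -3, -1, -5, 0, 1]) (.leaf [12, 0, 0, -33, 12, 27, 3, 0, -18, 0, 0, -4])) (.node (.leaf [-2091, -843, 0, -3912, -712, -1758, 5261, -46, 105, 822, 110, 762]) (.leaf [-20343, -12564, 0, -8489, -47749, -18882, 58625, -71, -4199, 12351,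 -1049, 13540])))))))

def bigL15 : Janko.Tree (List ℤ) :=
  (.node (.node (.node (.node (.node (.node (.node (.leaf []) (.leaf [100, 65, 0, -306, 352, 208, -139, 0, -39, -65, 2, -87])) (.leaf [])) (.node (.leaf [464, 290, 0, -1629, 1667, 992, -495, 0, -270, -289, 8, -374]) (.leaf [57, 53, 0, -1326, 668, 445, 397, 0, -231, -53, -1, -106]))) (.node (.node (.leaf []) (.leaf [-3, -1, 0, -24, 1, 5, 17, 0, -3, 1])) (.node (.leaf [2756, 1693, 0, 3544, 5235, 1928, -8751, 16, 910, -1674, 96, -1615]) (.leaf [725, 454, 0, -609, 2059, 938, -1711, 3, -13, -454, 42, -530])))) (.node (.node (.node (.node (.leaf []) (.leaf [31, 14, 0, 22, 39, 32, -73, 0, -2, -14, 0, -15])) (.leaf [22, 24, 0, -316, 201, 110, 58, 0, -46, -24, 1, -33])) (.node (.leaf []) (.leaf [-2162, -1611, 0, 13172, -11631, -5905, 1101, 27, 1664, 1580, -175, 2389]))) (.node (.node (.leaf []) (.leaf [0, 0, 0, 1, 1, 0, -1])) (.node (.leaf [-4012, -2143, 0, -958, -7441, -4429, 9770, -34, 89, 2117, -39, 2318]) (.leaf [-11,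 -1, 0, -6, 13, -15, 5, 0, 13, 1, 1, -1]))))) (.node (.node (.node (.node (.node (.leaf []) (.leaf [-1236, -754, 0, 3428, -4218, -2331, 1770, -4, 536, 752, -46, 975])) (.leaf [10, 5, 0, 16, 9, 10, -28, 0, 2, -5, 1, -7])) (.node (.leaf [-22, -29, 0, 681, -352, -218, -200, 1, 104, 29, 1, 54]) (.leaf [-2395, -1371, 0, 2935, -6526, -3436, 4787, -13, 505, 1347, -93, 1660]))) (.node (.node (.leaf []) (.leaf [42, -1, 0, -30, 29, 69, -45, 2, -32, -1, 0, -18])) (.node (.leaf [118, 95, 0, -215, 413, 186, -250, 0, -10, -92, 4, -98]) (.leaf [-141, -59, 0, -454, -119, -28, 543, 1, -88, 58, -7, 69])))) (.node (.node (.node (.leaf []) (.leaf [])) (.node (.leaf [7, 6, 0, -112, 63, 39, 27, 0, -19, -6, 0, -10]) (.leaf [3842, 1918, 0, -1743, 6774, 5386, -7382, 21, -967, -1909, -70, -2150]))) (.node (.node (.leaf [24, 6, 0, 259, -61, -45, -162, 0, 44, -6, 2, -2]) (.leaf [11, 6, 0, -21, 35, 18, -21, 1, -3, -6, 0, -8])) (.node (.leaf [-8, -13, 0, 126, -70, -52, -28, 0, 18, 12, 2, 15]) (.leaf [-1,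 1, 0, -16, 6, 2, 10, 0, -4])))))) (.node (.node (.node (.node (.node (.node (.leaf []) (.leaf [-297, -178, 0, -445, -563, -187, 994, -2, -126, 175, -10, 179])) (.leaf [-1235, -721, 0, 1907, -3195, -2074, 2181, -6, 331, 717, 6, 877])) (.node (.leaf [-392, -223, 0, -103, -823, -393, 1010, 0, -14, 217, -16, 237]) (.leaf [1717, 665, 0, 2640, 592, 1674, -4030, 21, -169, -677, -114, -595]))) (.node (.node (.leaf [0, 0, 0, -1, 0, 0, 1]) (.leaf [2958, 1501, 0, -14005, 9659, 7983, -43, 40, -3230, -1537, -76, -2269])) (.node (.leaf []) (.leaf [-13, -20, 0, 303, -201, -91, -56, 0, 34, 21, -2, 30])))) (.node (.node (.node (.leaf [-1, 0, 0, -9, 2, 1, 6, 0, -1]) (.leaf [])) (.node (.leaf []) (.leaf [351, 187, 0, -960, 1155, 657, -486, -3, -163, -184, 18, -274]))) (.node (.node (.leaf [-1, 0, 0, -11, 4, 1, 6, 0, -1]) (.leaf [])) (.node (.leaf []) (.leaf [790, 543, 0, -3300, 3698, 1677, -1261, -35, -136, -614, 43, -676]))))) (.node (.node (.node (.node (.node (.leaf []) (.leaf [-15953,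 -8255, 0, 52636, -46855, -35515, 12422, -179, 11868, 8289, 256, 11657])) (.leaf [2284, 981, 0, -9126, 5690, 5885, 14, 64, -2610, -1022, -170, -1417])) (.node (.leaf []) (.leaf [9, 22, 0, -472, 245, 146, 147, 1, -69, -22, 0, -40]))) (.node (.node (.leaf [0, 0, 0, -2, 1, 1, 1, 0, -1]) (.leaf [-4307, -2673, 0, 1456, -11629, -4783, 11189, -22, -332, 2639, -225, 2980])) (.node (.leaf [6988, 4185, 0, -1025, 17019, 7756, -17876, 30, 387, -4127, 270, -4609]) (.leaf [1, 3, 0, -187, 86, 53, 70, 0, -32, -3, 1, -12])))) (.node (.node (.node (.leaf []) (.leaf [132, 4, 0, 436, -674, 243, -14, 7, -154, 2, -86, 65])) (.node (.leaf [318, 273, 0, -2475, 1905, 1058, 56, 6, -326, -277, 1, -371]) (.leaf [-3, -3, 0, -5, 1, -5, 7, 0, -1, 3, 1, 2]))) (.node (.node (.leaf [10, 4, 0, 18, 8, 6, -28, 0, 2, -4, 1, -5]) (.leaf [93, 49, 0, -2, 175, 114, -215, 0, -6, -49, 0, -54])) (.node (.leaf [832, 432, 0, -2651, 2644, 1733, -788, 10, -584, -432, 40, -649]) (.leaf [-14859, -8009, 0, 34891, -40603, -28389,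 19077, -77, 7631, 7916, 42, 10571])))))))

def bigL16 : Janko.Tree (List ℤ) :=
  (.node (.node (.node (.node (.node (.node (.node (.leaf []) (.leaf [-20243, -10998, 0, 16405, -48802, -27464, 42564, -94, 3205, 10915, -384, 12971])) (.leaf [-161, -108, 0, 840, -707, -422, 72, 0, 135, 108, -3, 148])) (.node (.leaf []) (.leaf [1, 0, 0, 2, 0, 1, -3]))) (.node (.node (.leaf [0, 0, 0, 0, -1, 0, 1]) (.leaf [-7, -6, 0, 107, -62, -38, -24, 0, 18, 6, 0, 10])) (.node (.leaf [-1158, -419, 0, -2659, -1033, -545, 3661, -16, -270, 399, -41, 524]) (.leaf [-2136, -1365, 0, 8396, -7958, -4902, 1895, -9, 1386, 1380, -20, 1779])))) (.node (.node (.node (.node (.leaf []) (.leaf [-7118, -4103, 0, 19907, -21970, -14162, 8620, -50, 3831, 4141, -75, 5296])) (.leaf [])) (.node (.leaf []) (.leaf [3291, 2129, 0, -10514, 12239, 6583, -4485, 19, -1460, -2129, 128, -2782]))) (.node (.node (.leaf []) (.leaf [548, 329, 0, -1217, 1735, 942, -888, 2, -200, -322, 20, -414])) (.node (.leaf []) (.leaf [-9, -11,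 0, 248, -119, -80, -81, 0, 44, 11, 1, 17]))))) (.node (.node (.node (.node (.node (.leaf [1, 0, 0, 3, -1, 0, -2]) (.leaf [1433, 943, 0, -4714, 5095, 3033, -1741, -2, -701, -932, 17, -1205])) (.leaf [])) (.node (.leaf [2325, 1365, 0, -3770, 6249, 3807, -4041, 6, -707, -1350, 26, -1620]) (.leaf [-84, -53, 0, 57, -253, -101, 218, 0, -9, 54, -8, 66]))) (.node (.node (.leaf [-248, -17, 0, -1860, 324, 365, 1223, 3, -184, 11, -42, -23]) (.leaf [-3, 1, 0, -12, 0, 1, 11, 0, -1])) (.node (.leaf [-17, -8, 0, -14, -22, -20, 44, 0, -2, 8, 0, 11]) (.leaf [-1447, -893, 0, 4655, -5145, -2938, 1793, -6, 737, 894, -37, 1164])))) (.node (.node (.node (.leaf []) (.leaf [3660, 2087, 0, 1257, 7312, 3746, -9527, 6, 240, -2066, 80, -2154])) (.node (.leaf []) (.leaf [-940, -626, 0, 13772, -6417, -5436, -3985, -17, 2693, 655, 119, 1175]))) (.node (.node (.leaf [291, 137, 0, 726, 324, 115, -1002, 2, 115, -134, 19, -151]) (.leaf [8, 3, 0, 96, -24, -16, -59, 1, 17, -3, -1])) (.node (.leaf []) (.leaf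 [0, -1, 0, 6, -2, -1, -3, 0, 1, 1])))))) (.node (.node (.node (.node (.node (.node (.leaf []) (.leaf [4122, 2285, 0, -13191, 13996, 8375, -4560, 15, -2496, -2267, 188, -3271])) (.leaf [37, 16, 0, 143, 10, 6, -144, 0, 24, -16, 2, -18])) (.node (.leaf []) (.leaf [17, 9, 0, 38, 19, 9, -56, 0, 5, -9, 0, -7]))) (.node (.node (.leaf []) (.leaf [-3835, -1562, 0, -17233, -4682, 2140, 18359, -21, -3573, 1436, -659, 1925])) (.node (.leaf []) (.leaf [-374, -279, 0, 3219, -2138, -1371, -340, 2, 513, 283, 3, 416])))) (.node (.node (.node (.leaf []) (.leaf [])) (.node (.leaf []) (.leaf [37, 3, 0, 348, -177, -29, -156, 1, 22, -3, -6, 11]))) (.node (.node (.leaf []) (.leaf [-1, 0, 0, 0, 4, -2, -2, 1, 1, 0, -1, 1])) (.node (.leaf [0, 2, 0, 0, 0, 0, 1, 0, 0, -2]) (.leaf [-266, -139, 0, 359, -644, -410, 458, -1, 93, 142, -8, 167]))))) (.node (.node (.node (.node (.node (.leaf []) (.leaf [-77, 0, 0, -2661, 826, 736, 1313, 0, -468, -6, -18, -98])) (.leaf [0, 1, 0, 0, 1, 0, 0, 0, 0, -1])) (.node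 (.leaf [-742, -552, 0, 2465, -3341, -1339, 1303, 4, 192, 552, -79, 686]) (.leaf []))) (.node (.node (.leaf []) (.leaf [-5888, -3525, 0, 2176, -15071, -6838, 14651, -26, -145, 3482, -257, 3981])) (.node (.leaf [-110, -76, 0, 415, -428, -247, 121, 0, 58, 77, -5, 101]) (.leaf [-4, -3, 0, -488, 119, 154, 258, 0, -111, 3, -5, -14])))) (.node (.node (.node (.leaf [-1, 0, 0, -2, 2, 0, 1]) (.leaf [-1, -17, 0, 1348, -645, -343, -503, 1, 227, 17, -14, 78])) (.node (.leaf [2723, 1216, 0, -9974, 5439, 7196, 57, 60, -2992, -1291, -384, -1504]) (.leaf [227, 150, 0, -923, 943, 505, -237, 0, -133, -150, 14, -207]))) (.node (.node (.leaf []) (.leaf [])) (.node (.leaf [1118, 584, 0, 2964, 1305, 359, -4043, -1, 560, -566, 40, -545]) (.leaf [0, 0, 0, 0, -1, 1])))))))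

def bigL17 : Janko.Tree (List ℤ) :=
  (.node (.node (.node (.node (.node (.node (.node (.leaf []) (.leaf [-14234, -8800, 0, 10727, -40739, -17566, 34576, -34, -101, 8714, -823, 10248])) (.leaf [])) (.node (.leaf [3789, 1744, 0, 3556, 4395, 3763, -9201, 56, -241, -1707, -48, -1828]) (.leaf [1, 0, 0, 4, 1, 0, -4]))) (.node (.node (.leaf []) (.leaf [-3, 0, 0, -24, 2, 6, 17, 0, -3, -1])) (.node (.leaf []) (.leaf [220, 109, 0, 731, 248, 49, -902, 3, 167, -112, 27, -148])))) (.node (.node (.node (.node (.leaf []) (.leaf [-1847, -840, 0, -2969, -1019, -1775, 4729, -36, -61, 886, 97, 758])) (.leaf [-561, -347, 0, 2187, -1886, -1353, 395, 0, 401, 350, 16, 448])) (.node (.leaf []) (.leaf [-47, -44, 0, 565, -349, -216, -99, 0, 88, 44, 1, 62]))) (.node (.node (.leaf []) (.leaf [-15558, -8195, 0, 3331, -34006, -18087, 35755, -73, 1665, 7805, -636, 9860])) (.node (.leaf [10, 3, 0, 125, -30, -20, -77, 0, 24, -3, 2, -5]) (.leaf [-481, -234, 0, 1380, -1283, -988, 424, -4, 347, 240, 13,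 298]))))) (.node (.node (.node (.node (.node (.leaf []) (.leaf [45, 25, 0, -199, 115, 124, 12, -1, -54, -25, -3, -29])) (.leaf [2269, 1495, 0, -9563, 8867, 5458, -1852, 27, -1521, -1501, 36, -2054])) (.node (.leaf []) (.leaf [0, 1, 0, 2, 0, -1, -1]))) (.node (.node (.leaf []) (.leaf [-4, 1, 0, -11, 0, 0, 12, 0, -1])) (.node (.leaf []) (.leaf [-5180, -2945, 0, -18065, -2642, -1330, 19586, -74, -3092, 2970, 53, 2205])))) (.node (.node (.node (.leaf []) (.leaf [-15, -2, 0, -206, 53, 46, 118, 0, -33, 2, -2, -3])) (.node (.leaf [0, 0, 0, -1, 1]) (.leaf [-52, -30, 0, 260, -193, -141, 8, 0, 52, 30, 1, 43]))) (.node (.node (.leaf [-5, 15, 0, -274, 127, 81, 99, 0, -28, -15, -3, -22]) (.leaf [])) (.node (.leaf []) (.leaf [-171, -85, 0, -75, -198, -182, 350, 1, 44, 85, 8, 56])))))) (.node (.node (.node (.node (.node (.node (.leaf []) (.leaf [-477, -278, 0, -227, -1086, -425, 1360, -2, -81, 266, -23, 309])) (.leaf [-72, -44, 0, 446, -343, -208, 3, 0, 73, 44, -3, 72])) (.node (.leaf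 [85, 74, 0, -689, 515, 286, 41, 0, -104, -71, 4, -101]) (.leaf []))) (.node (.node (.leaf []) (.leaf [-20203, -11387, 0, 40925, -53317, -36708, 29134, -168, 8866, 11365, 170, 13951])) (.node (.leaf [0, -1, 0, 0, 0, 0, 0, 0, 0, 1]) (.leaf [-176, -107, 0, 399, -554, -313, 285, 0, 59, 107, -6, 136])))) (.node (.node (.node (.leaf []) (.leaf [1111, 645, 0, -802, 2860, 1398, -2491, -2, -112, -639, 48, -721])) (.node (.leaf []) (.leaf [-134, -117, 0, 2184, -1159, -788, -571, 0, 385, 118, 4, 194]))) (.node (.node (.leaf [-33, -24, 0, -78, -71, -16, 141, 0, -32, 24, -2, 27]) (.leaf [])) (.node (.leaf [248, 24, 0, 1827, -274, -362, -1237, -3, 195, -18, 43, 15]) (.leaf [-22575, -12734, 0, 10248, -52357, -28256, 51298, -114, 1880, 12659, -623, 14406]))))) (.node (.node (.node (.node (.node (.leaf []) (.leaf [0, 0, 0, 4, -1, -1, -2, 0, 1])) (.leaf [0, 0, 0, -1, 0, 1])) (.node (.leaf []) (.leaf [-628, -432, 0, 2227, -2120, -1497, 622, -1, 337, 435, 12, 559]))) (.node (.node (.leaf [])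 (.leaf [-9386, -5675, 0, 1193, -21882, -10806, 23671, -75, -464, 5652, -193, 6072])) (.node (.leaf []) (.leaf [-24, -15, 0, 83, -84, -50, 23, 0, 17, 14, 0, 18])))) (.node (.node (.node (.leaf [-27, -25, 0, 518, -234, -191, -162, 0, 96, 25, 8, 35]) (.leaf [])) (.node (.leaf []) (.leaf []))) (.node (.node (.leaf []) (.leaf [-2, 0, 0, -39, 14, 9, 19, 0, -5, 0, 0, -2])) (.node (.leaf [-549, -303, 0, -358, -1130, -483, 1560, -2, -90, 294, -24, 339]) (.leaf [0, 0, 0, 2, 0, 0, -1])))))))

def bigL18 : Janko.Tree (List ℤ) :=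
  (.node (.node (.node (.node (.node (.node (.node (.leaf []) (.leaf [6889, 3606, 0, -13200, 17700, 11961, -9848, 43, -3303, -3548, 44, -4546])) (.leaf [])) (.node (.leaf [0, 1]) (.leaf [779, 505, 0, -45, 2141, 772, -2182, 2, 130, -487, 48, -553]))) (.node (.node (.leaf []) (.leaf [26, 13, 0, -47, 56, 51, -36, 0, -11, -14, 0, -18])) (.node (.leaf [-76, -64, 0, 496, -459, -206, 50, 0, 52, 64, -6, 86]) (.leaf [])))) (.node (.node (.node (.node (.leaf []) (.leaf [-2747, -1635, 0, 10780, -10100, -6294, 2339, -13, 1865, 1640, -51, 2303])) (.leaf [-2442, -1483, 0, 9024, -8513, -5550, 2165, -20, 1609, 1493, -6, 1995])) (.node (.leaf []) (.leaf [-63, -22, 0, -221, 21, -25, 205, 0, -19, 22, 3, 18]))) (.node (.node (.leaf [0, 0, 0, 17, -2, -5, -11, 0, 5]) (.leaf [382, 214, 0, -383, 985, 533, -788, 2, -69, -210, 13, -260])) (.node (.leaf []) (.leaf [352, 233, 0, -2308, 1610, 1093, 120, 0, -419, -234, -4, -330]))))) (.node (.node (.node (.node (.node (.leaf []) (.leaf [-118, -90, 0,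 -671, -343, 194, 761, 0, -189, 78, -35, 68])) (.leaf [])) (.node (.leaf []) (.leaf [-1, -4, 0, 138, -59, -44, -51, 0, 21, 5, 0, 10]))) (.node (.node (.leaf []) (.leaf [-36, 2, 0, -834, 253, 217, 428, 0, -138, -5, -4, -29])) (.node (.leaf []) (.leaf [-349, -228, 0, 658, -925, -632, 545, -1, 123, 224, 13, 243])))) (.node (.node (.node (.leaf [0, 0, 0, 39, -17, -9, -18, 0, 10, -1, -1, 2]) (.leaf [-200, -114, 0, -83, -452, -181, 568, -1, -36, 114, -8, 122])) (.node (.leaf [0, 0, 0, 3, 0, -1, -2, 0, 1]) (.leaf [-182, -90, 0, 59, -353, -243, 389, 0, 26, 90, -5, 116]))) (.node (.node (.leaf [454, 242, 0, 1380, 552, 91, -1788, 2, 302, -236, 23, -243]) (.leaf [540, 906, 0, -12708, 5082, 5317, 4168, 25, -1970, -979, -352, -1073])) (.node (.leaf []) (.leaf [0, 1, 0, 8, -3, -1, -3, 0, 1, -1])))))) (.node (.node (.node (.node (.node (.node (.leaf []) (.leaf [2280, 1248, 0, -1674, 5510, 3034, -4882, 6, -333, -1233, 84, -1508])) (.leaf [])) (.node (.leaf []) (.leaf [6760, 2972, 0, -11662,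 9255, 13663, -5733, 93, -4938, -3087, -784, -3153]))) (.node (.node (.leaf []) (.leaf [-383, -207, 0, 1160, -1058, -835, 326, 0, 268, 206, 7, 274])) (.node (.leaf [-2189, -1348, 0, 3788, -6500, -3552, 4064, -11, 519, 1342, -65, 1640]) (.leaf [0, 0, 0, 1])))) (.node (.node (.node (.leaf []) (.leaf [36, 13, 0, 213, -5, -22, -181, 0, 40, -13, 3, -13])) (.node (.leaf [-215, -269, 0, 2311, -1840, -844, -82, 4, 200, 273, -5, 318]) (.leaf [176, 106, 0, -390, 557, 311, -291, -1, -57, -106, 10, -141]))) (.node (.node (.leaf []) (.leaf [15, 9, 0, 68, 30, -11, -80, 0, 18, -9, 3, -8])) (.node (.leaf []) (.leaf [996, 607, 0, -3957, 3700, 2275, -830, 8, -690, -611, 11, -815]))))) (.node (.node (.node (.node (.node (.leaf []) (.leaf [-75, -42, 0, 375, -273, -207, 16, 1, 68, 44, 3, 61])) (.leaf [0, 0, 0, -1, 3, 0, -1])) (.node (.leaf []) (.leaf [167, 52, 0, 2621, -228, -801, -1726, 3, 523, -46, 62, 32]))) (.node (.node (.leaf []) (.leaf [1538, 553, 0, -3784, -13, 4171, 791, 21, -2076, -605,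 -424, -364])) (.node (.leaf []) (.leaf [8, 3, 0, -4, 14, 10, -14, 0, -4, -3, -1, -2])))) (.node (.node (.node (.leaf []) (.leaf [-1753, -1332, 0, -11120, -7498, 3845, 13837, 102, -4155, 1126, -943, 1726])) (.node (.leaf [3315, 1700, 0, -4125, 6645, 5513, -5169, 30, -1334, -1712, -113, -1947]) (.leaf [-5710, -3283, 0, 2423, -12986, -7192, 12971, -22, 436, 3255, -87, 3584]))) (.node (.node (.leaf [-2, 0, 0, -12, 1, 1, 10, 0, -1]) (.leaf [1, -1, 0, -7, 3, 3, 2, 0, -2])) (.node (.leaf []) (.leaf [-64, -15, 0, 931, -380, -370, -308, -6, 212, 24, 5, 67])))))))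

def bigL19 : Janko.Tree (List ℤ) :=
  (.node (.node (.node (.node (.node (.node (.node (.leaf []) (.leaf [9703, 5002, 0, -7454, 20179, 13832, -18369, 81, -2651, -4976, 34, -5802])) (.leaf [-632, -393, 0, 3737, -2821, -1810, 0, -6, 671, 394, -13, 597])) (.node (.leaf [46, 28, 0, -104, 124, 90, -63, 0, -20, -27, -1, -34]) (.leaf [139, 40, 0, 2808, -694, -695, -1582, 0, 534, -37, 29, 33]))) (.node (.node (.leaf []) (.leaf [-28, -12, 0, -305, 67, 57, 193, 0, -55, 11, 1, -1])) (.node (.leaf [7, -6, 0, 125, -76, -20, -42, 0, 8, 6, -1, 8]) (.leaf [0, 0, 0, -1, 0, 0, 1])))) (.node (.node (.node (.node (.leaf [0, 0, 0, 1, 2, 0, -2]) (.leaf [2244, 1129, 0, 2431, 3603, 1762, -6282, 5, 242, -1100, 94, -1194])) (.leaf [-1457, -836, 0, 3850, -4691, -2762, 2026, -4, 669, 831, -62, 1154])) (.node (.leaf [-551, -286, 0, 776, -1225, -972, 911, -6, 172, 293, 6, 390]) (.leaf [-35, -9, 0, -67, 2, -31, 82, 0, 5, 9, 1, 11]))) (.node (.node (.leaf []) (.leaf [0, 0, 0, -1, 1])) (.node (.leaf [-15,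 -20, 0, -229, 13, 55, 171, 0, -68, 20, 3, 2]) (.leaf [-125, -84, 0, 341, -461, -230, 209, 0, 35, 83, -6, 108]))))) (.node (.node (.node (.node (.node (.leaf []) (.leaf [-465, -296, 0, 320, -1299, -569, 1117, -2, 9, 287, -20, 327])) (.leaf [])) (.node (.leaf []) (.leaf [0, -1, 0, 0, 0, 0, 0, 0, 0, 1]))) (.node (.node (.leaf []) (.leaf [817, 424, 0, 4457, 847, -746, -4348, -12, 977, -397, 123, -322])) (.node (.leaf []) (.leaf [377, 234, 0, -1298, 1385, 784, -437, -3, -204, -232, 14, -310])))) (.node (.node (.node (.leaf []) (.leaf [458, 272, 0, -711, 1317, 710, -872, 2, -106, -269, 13, -329])) (.node (.leaf [-1517, -1054, 0, 7767, -5936, -4302, 420, -15, 1305, 1060, 80, 1392]) (.leaf [-59, -34, 0, 185, -175, -129, 55, 0, 38, 34, 2, 43]))) (.node (.node (.leaf [0, 0, 0, -5, -1, 2, 5, 0, -2]) (.leaf [])) (.node (.leaf []) (.leaf [2088, 1384, 0, -3403, 6583, 2998, -4110, -36, -455, -1321, 100, -1462])))))) (.node (.node (.node (.node (.node (.node (.leaf []) (.leaf [993, 596,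 0, -4745, 4032, 2484, -488, -1, -846, -587, 35, -884])) (.leaf [])) (.node (.leaf [-1, 0, 0, 4, -4, -1, 1, 0, 1]) (.leaf []))) (.node (.node (.leaf []) (.leaf [560, 378, 0, -3045, 2359, 1542, -97, 0, -539, -378, -5, -494])) (.node (.leaf [0, -1, 0, 3, -2, 0, -1, 0, 0, 1]) (.leaf [25, 15, 0, -43, 58, 47, -38, 0, -9, -15, -1, -17])))) (.node (.node (.node (.leaf []) (.leaf [])) (.node (.leaf []) (.leaf [0, -9, 0, 180, -93, -50, -59, 0, 23, 8, 1, 13]))) (.node (.node (.leaf []) (.leaf [])) (.node (.leaf [-19, -8, 0, -42, -27, -6, 65, 0, -6, 8, -2, 9]) (.leaf [2939, 1878, 0, -6860, 10053, 5014, -5051, 18, -907, -1851, 120, -2301]))))) (.node (.node (.node (.node (.node (.leaf []) (.leaf [8789, 5503, 0, -8391, 24678, 11821, -19886, 37, -552, -5437, 338, -6296])) (.leaf [3, -3, 0, 151, -56, -40, -68, 1, 25, 3, 1, 5])) (.node (.leaf []) (.leaf [20, 7, 0, 74, 5, 5, -75, 0, 10, -7, 1, -9]))) (.node (.node (.leaf []) (.leaf [-23965, -13339, 0, 12358, -55517, -30474, 53351, -104, 2564,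 13139, -567, 15262])) (.node (.leaf [-12, -5, 0, -30, -14, -4, 42, 0, -6, 5, -1, 7]) (.leaf [-101, -73, 0, -129, -152, -104, 315, -2, -46, 73, 12, 60])))) (.node (.node (.node (.leaf [0, 0, 0, -4, 0, 1, 3, 0, -1]) (.leaf [93, 45, 0, 784, -78, -135, -571, 0, 146, -44, 12, -24])) (.node (.leaf []) (.leaf [-2229, -1421, 0, 5912, -7722, -4049, 3433, -1, 853, 1404, -78, 1742]))) (.node (.node (.leaf []) (.leaf [0, 0, 0, -1, 0, 1, 1, 0, 0, -1])) (.node (.leaf [0, 0, 0, 3, 0, 0, -2]) (.leaf [-1076, -556, 0, 1752, -2626, -1832, 1715, -4, 402, 561, -6, 723])))))))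

def bigL20 : Janko.Tree (List ℤ) :=
  (.node (.node (.node (.node (.node (.node (.node (.leaf []) (.leaf [39, 262, 0, -3874, 3630, 562, 266, -35, -106, -212, 168, -503])) (.leaf [-616, -399, 0, 4069, -2725, -1937, -297, 0, 779, 400, 16, 554])) (.node (.leaf []) (.leaf [167, 105, 0, 965, 219, -154, -970, 2, 250, -100, 22, -92]))) (.node (.node (.leaf []) (.leaf [-1903, -819, 0, 9758, -5115, -5652, -1204, -56, 2699, 864, 203, 1189])) (.node (.leaf [-324, -203, 0, 228, -918, -398, 793, 0, -7, 200, -18, 234]) (.leaf [-948, -564, 0, 2264, -2901, -1732, 1382, -1, 407, 561, -20, 699])))) (.node (.node (.node (.node (.leaf []) (.leaf [-1384, -749, 0, 6069, -3477, -3943, -235, -30, 1568, 783, 182, 909])) (.leaf [])) (.node (.leaf [-267, -227, 0, 910, -1088, -590, 427, -6, 54, 231, 12, 254]) (.leaf [296, 366, 0, -5555, 3423, 1885, 1131, 1, -720, -379, 20, -595]))) (.node (.node (.leaf [1, 0, 0, 3, 3, 0, -5]) (.leaf [394, 216, 0, -238, 938, 509, -869, 2, -47, -212, 13, -259])) (.node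 (.leaf []) (.leaf [-393, -222, 0, 1289, -1381, -807, 449, -6, 228, 222, -17, 324]))))) (.node (.node (.node (.node (.node (.leaf []) (.leaf [-289, -174, 0, -619, -484, -117, 1033, -2, -140, 168, -15, 163])) (.leaf [0, 0, 0, -1, 0, 0, 1])) (.node (.leaf []) (.leaf [18, 8, 0, 40, 14, 11, -56, 0, 4, -8, 0, -7]))) (.node (.node (.leaf []) (.leaf [-27, -53, 0, 1454, -566, -504, -554, -9, 251, 62, 29, 83])) (.node (.leaf [1789, 1035, 0, -2990, 5104, 2855, -3221, 5, -508, -1023, 61, -1290]) (.leaf [-263, -617, 0, 3345, -4759, -677, 1183, 31, -436, 590, -223, 885])))) (.node (.node (.node (.leaf [1, 0, 0, -6, 5, 1, 0, 0, -1]) (.leaf [-2, -5, 0, 173, -73, -51, -68, 0, 31, 5, 1, 9])) (.node (.leaf []) (.leaf [-270, -190, 0, 1476, -1235, -693, 82, 3, 256, 181, -5, 235]))) (.node (.node (.leaf []) (.leaf [-14816, -9201, 0, 51978, -51596, -32495, 15022, -55, 8844, 9231, -42, 11926])) (.node (.leaf []) (.leaf [808, 334, 0, 6371, -1826, -808, -3856, -9, 708, -328, -46, 124])))))) (.node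 (.node (.node (.node (.node (.node (.leaf []) (.leaf [-629, -367, 0, -116, -1368, -665, 1636, -5, -40, 364, -24, 401])) (.leaf [-4, 0, 0, -16, -1, 2, 16, 0, -2])) (.node (.leaf [48, 29, 0, -322, 217, 153, 17, 0, -55, -30, -3, -43]) (.leaf [2837, 1585, 0, -375, 6047, 3382, -6753, 23, -86, -1578, 45, -1761]))) (.node (.node (.leaf []) (.leaf [-4227, -2017, 0, -1816, -6131, -4737, 9646, -57, 502, 1990, 28, 2202])) (.node (.leaf [-500, -195, 0, -6846, 2273, 1394, 3581, 15, -947, 192, 31, -288]) (.leaf [0, 0, 0, 3, -1, 0, -1])))) (.node (.node (.node (.leaf []) (.leaf [1, 0, 0, 0, -1, 1, 0, 0, -1])) (.node (.leaf []) (.leaf [0, 0, 0, -6, -3, 3, 6, 0, -2]))) (.node (.node (.leaf []) (.leaf [-5005, -3418, 0, 26486, -23913, -12695, 3171, 2, 3773, 3373, -290, 4960])) (.node (.leaf [0, 5, 0, -96, 47, 28, 32, 0, -11, -5, -1, -7]) (.leaf [14368, 8359, 0, -41021, 43912, 29224, -16844, 102, -7805, -8431, -113, -10585]))))) (.node (.node (.node (.node (.node (.leaf []) (.leaf [198, 162,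 0, -1500, 1211, 627, -5, 1, -188, -162, 11, -237])) (.leaf [-101, -62, 0, -479, -112, 52, 496, -1, -106, 58, -8, 47])) (.node (.leaf [678, 425, 0, 705, 1249, 602, -2049, 0, 206, -428, 21, -431]) (.leaf [26, 17, 0, -284, 180, 111, 45, 0, -47, -17, 1, -34]))) (.node (.node (.leaf [119, 86, 0, -473, 536, 252, -163, 0, -48, -86, 8, -114]) (.leaf [312, 231, 0, -1652, 1559, 779, -247, 2, -207, -231, 16, -313])) (.node (.leaf [-1048, -657, 0, 7422, -4688, -3554, -740, -13, 1395, 681, 42, 1000]) (.leaf [7, 2, 0, 23, -2, 5, -23, 0, 2, -2, -1, -2])))) (.node (.node (.node (.leaf []) (.leaf [])) (.node (.leaf []) (.leaf [-81, 522, 0, -4234, 4629, 488, -98, -29, 337, -483, 210, -743]))) (.node (.node (.leaf [-1, 0, 0, -9, 2, 1, 6, 0, -1]) (.leaf [-20, -4, 0, -225, 82, 33, 119, 0, -29, 4, 0, -2])) (.node (.leaf [-298, -190, 0, 91, -768, -356, 764, -2, -24, 189, -14, 215]) (.leaf [3983, 2184, 0, 112, 7769, 4659, -9428, 25, -167, -2168, 23, -2342])))))))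

def bigL21 : Janko.Tree (List ℤ) :=
  (.node (.node (.node (.node (.node (.node (.node (.leaf []) (.leaf [-47, -87, 0, 1911, -1045, -572, -537, 2, 258, 90, -2, 153])) (.leaf [323, 208, 0, -744, 1051, 567, -534, 0, -104, -207, 9, -246])) (.node (.leaf [-1285, -647, 0, 3263, -3845, -2392, 1608, -23, 746, 644, -65, 960]) (.leaf [1, -1, 0, 2, -5, 3, -1]))) (.node (.node (.leaf []) (.leaf [-1014, -494, 0, 8749, -3370, -4331, -2481, -25, 2167, 544, 244, 679])) (.node (.leaf [290, 148, 0, 1123, 222, -15, -1205, 0, 210, -142, 17, -132]) (.leaf [82, 95, 0, 1749, 118, -597, -1328, -3, 505, -95, 62, -43])))) (.node (.node (.node (.node (.leaf []) (.leaf [-30604, -18310, 0, 47590, -79161, -51195, 53321, -180, 8728, 18313, 136, 21295])) (.leaf [63, 27, 0, 918, -143, -205, -591, 0, 193, -24, 19, -27])) (.node (.leaf []) (.leaf [-39, 10, 0, -643, 97, 190, 402, 2, -121, -14, -17, -6]))) (.node (.node (.leaf [-293, -141, 0, -1033, -183, -42, 1128, -2, -173, 138, -11, 131]) (.leaf [-1668,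 -914, 0, 2076, -4105, -2573, 3084, -17, 443, 907, -7, 1111])) (.node (.leaf [-175, -98, 0, 997, -911, -427, 102, -3, 149, 98, -19, 172]) (.leaf [492, 361, 0, -9789, 4309, 3764, 3119, 6, -1788, -385, -55, -879]))))) (.node (.node (.node (.node (.node (.leaf []) (.leaf [9528, 4525, 0, -2525, 17549, 11929, -19596, 87, -2149, -4467, 85, -5235])) (.leaf [])) (.node (.leaf [1983, 881, 0, -6434, 3253, 5062, 68, 50, -2267, -914, -286, -994]) (.leaf [1135, 627, 0, -3235, 3224, 2400, -1197, -4, -664, -627, -14, -841]))) (.node (.node (.leaf [-88, -68, 0, 286, -403, -162, 168, 0, 13, 68, -8, 87]) (.leaf [-2715, -1594, 0, -1781, -5011, -2573, 7397, -8, -343, 1591, -21, 1506])) (.node (.leaf [100, 58, 0, 418, 170, -28, -504, 0, 120, -61, 23, -76]) (.leaf [16, 9, 0, 97, -30, 0, -64, -1, 12, -8, -1, -4])))) (.node (.node (.node (.leaf []) (.leaf [])) (.node (.leaf []) (.leaf []))) (.node (.node (.leaf [0, 0, 0, -8, 3, 2, 4, 0, -2]) (.leaf [-2151, -1310, 0, 3839, -6244, -3585, 3835, 6,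 568, 1295, -59, 1611])) (.node (.leaf [302, 162, 0, 348, 530, 230, -900, 2, 67, -159, 13, -175]) (.leaf [3752, 2623, 0, -6667, 14248, 5079, -8687, -60, -123, -2503, 368, -3120])))))) (.node (.node (.node (.node (.node (.node (.leaf []) (.leaf [-858, -478, 0, 1979, -2489, -1570, 1216, -3, 389, 482, -17, 614])) (.leaf [-5, -3, 0, -36, 3, 6, 25, 0, -3, 2])) (.node (.leaf [-1, 0, 0, 9, -5, -2, -2, 0, 2]) (.leaf [-304, -141, 0, -959, -178, -75, 1078, -2, -132, 138, -6, 120]))) (.node (.node (.leaf []) (.leaf [6289, 3371, 0, -17178, 16756, 13077, -6107, 29, -4147, -3305, -153, -4378])) (.node (.leaf [-2331, -1345, 0, -9459, -1042, 5, 9625, -2, -1758, 1339, 27, 848]) (.leaf [-1940, -1455, 0, -187, -7223, -1390, 6884, 21, -1062, 1394, -333, 1785])))) (.node (.node (.node (.leaf []) (.leaf [431, 396, 0, -3947, 2138, 1848, 735, 0, -709, -400, -76, -450])) (.node (.leaf [-3, -1, 0, -12, 0, 1, 11, 0, -1, 1]) (.leaf [0, 0, 0, -10, 4, 3, 5, 0, -3]))) (.node (.node (.leaf [-375, -240,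 0, 1502, -1391, -869, 306, 0, 257, 240, -2, 309]) (.leaf [-3304, -1692, 0, 4120, -6590, -5509, 5125, -30, 1342, 1704, 115, 1938])) (.node (.leaf [0, 5, 0, -92, 46, 27, 30, 0, -10, -5, -1, -7]) (.leaf [-7653, -4215, 0, 18295, -21962, -14290, 10175, -53, 3837, 4227, -89, 5422]))))) (.node (.node (.node (.node (.node (.leaf [0, 0, 0, -1, 0, 0, 1]) (.leaf [-77, -42, 0, -633, 6, 124, 496, -1, -129, 39, -9, 23])) (.leaf [347, 248, 0, -1089, 1153, 750, -412, 5, -169, -254, -11, -272])) (.node (.leaf [6, 0, 0, -268, 71, 97, 125, 0, -61, 0, -5, -10]) (.leaf []))) (.node (.node (.leaf []) (.leaf [])) (.node (.leaf [-1028, -560, 0, 1039, -2452, -1492, 1995, -4, 240, 554, -18, 668]) (.leaf [54, 24, 0, 51, 72, 55, -137, 0, -1, -24, 4, -33])))) (.node (.node (.node (.leaf []) (.leaf [-84, -63, 0, 630, -439, -279, -47, 0, 107, 63, 1, 85])) (.node (.leaf []) (.leaf [-107, -150, 0, 2641, -1399, -886, -719, 8, 386, 154, 9, 219]))) (.node (.node (.leaf [207, 107, 0, 967, -87, 15, -827, 1,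 145, -107, -8, -70]) (.leaf [-36, -19, 0, 48, -82, -60, 62, 0, 10, 19, -1, 26])) (.node (.leaf []) (.leaf [83, 51, 0, 84, 209, 40, -270, -2, 24, -47, 11, -51])))))))

def bigL22 : Janko.Tree (List ℤ) :=
  (.node (.node (.node (.node (.node (.node (.node (.leaf []) (.leaf [-15, -5, 0, -70, 7, 2, 58, 0, -9, 5, -1, 5])) (.leaf [-10, -2, 0, 72, 37, -59, -62, 0, 40, 2, 7, -1])) (.node (.leaf []) (.leaf [481, 275, 0, -630, 1350, 718, -983, 1, -77, -272, 19, -355]))) (.node (.node (.leaf []) (.leaf [285, 559, 0, 4477, 1414, -1513, -4269, -49, 1736, -500, 195, -419])) (.node (.leaf []) (.leaf [-905, -560, 0, 1522, -2705, -1456, 1723, -1, 192, 555, -36, 695])))) (.node (.node (.node (.node (.leaf [-1, 0, 0, -8, 4, 1, 4, 0, -1]) (.leaf [1, 0, 0, 0, 0, 0, 0, 0, 0, 0, 0, 0])) (.leaf [-87, -78, 0, 604, -457, -278, -6, 0, 83, 78, 6, 89])) (.node (.leaf []) (.leaf [2946, 1627, 0, -8886, 7569, 6639, -2257, 27, -2129, -1648, -194, -1973]))) (.node (.node (.leaf []) (.leaf [0, 1, 0, 2, -1,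 0, 0, 0, 0, -1])) (.node (.leaf [-5, -3, 0, -30, 5, 3, 22, 0, -5, 3, 0, 1]) (.leaf [215, 131, 0, -104, 558, 265, -522, -1, 1, -128, 15, -158]))))) (.node (.node (.node (.node (.node (.leaf []) (.leaf [-4313, -3058, 0, 20496, -18230, -11004, 2988, -3, 2979, 3095, -64, 4058])) (.leaf [])) (.node (.leaf []) (.leaf [-99, -54, 0, -403, -131, 36, 456, 0, -90, 51, -11, 48]))) (.node (.node (.leaf [-13, -5, 0, 37, -59, -13, 24, 0, 6, 5, -3, 8]) (.leaf [-2810, -1246, 0, 18696, -8683, -9987, -3744, -49, 4700, 1299, 351, 2111])) (.node (.leaf [0, 0, 0, 1, -2, 0, 1]) (.leaf [3777, 2065, 0, 765, 6988, 4268, -9135, 25, -76, -2047, 9, -2174])))) (.node (.node (.node (.leaf []) (.leaf [505, 295, 0, 2109, 398, -88, -2230, -4, 444, -280, 7, -205])) (.node (.leaf [0, -5, 0, 94, -46, -27, -31, 0, 10, 5, 1, 7]) (.leaf [-3800, -1989, 0, 3321, -6726, -6028, 6323, -19, 1328, 1987, 200, 2082]))) (.node (.node (.leaf []) (.leaf [-4104, -2537, 0, 17051, -13724, -10339, 1989, -38, 3425, 2568, 111,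 3301])) (.node (.leaf []) (.leaf [-2855, -976, 0, -1267, 4141, -5712, 1446, -221, 2662, 1210, 969, 52])))))) (.node (.node (.node (.node (.node (.node (.leaf []) (.leaf [276, 132, 0, 397, 396, 206, -805, 3, 42, -127, 17, -162])) (.leaf [-317, -164, 0, -450, -471, -225, 936, 0, -58, 157, -11, 169])) (.node (.leaf []) (.leaf [5, 3, 0, 37, -2, -6, -26, 0, 3, -2]))) (.node (.node (.leaf [-10, -6, 0, 100, -64, -37, -16, 0, 18, 6, 0, 10]) (.leaf [-29727, -16617, 0, 24327, -67669, -42306, 59766, -225, 5796, 16621, -193, 18876])) (.node (.leaf [-275, -182, 0, 143, -600, -401, 617, -1, 2, 185, 9, 183]) (.leaf [2307, 1339, 0, -16681, 8690, 8488, 2859, 49, -3623, -1409, -277, -1985])))) (.node (.node (.node (.leaf [-1, 0, 0, -6, 2, 0, 4]) (.leaf [0, 0, 0, 0, -1, 0, 1])) (.node (.leaf [-11, -8, 0, 1, -54, -2, 46, 0, -9, 8, -2, 9]) (.leaf [-430, -171, 0, -2240, -81, 223, 2004, -2, -387, 162, -29, 142]))) (.node (.node (.leaf []) (.leaf [41, 22, 0, 564, -231, -60, -287, 1, 90, -22, -8,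 -4])) (.node (.leaf [19, 18, 0, -143, 120, 60, -5, 0, -14, -18, 0, -23]) (.leaf [-982, -1001, 0, 9025, -6053, -4088, -845, 1, 1147, 1010, 41, 1394]))))) (.node (.node (.node (.node (.node (.leaf []) (.leaf [-416, -235, 0, -1266, -558, -60, 1662, -2, -284, 229, -25, 222])) (.leaf [-4337, -2154, 0, 2677, -8804, -5927, 8467, -61, 1128, 2143, -30, 2552])) (.node (.leaf [-586, -387, 0, 700, -1791, -774, 1311, 1, 49, 384, -27, 406]) (.leaf []))) (.node (.node (.leaf []) (.leaf [0, 0, 0, -6, 2, 1, 3, 0, -1])) (.node (.leaf [-28, -12, 0, 39, -65, -45, 48, 0, 8, 12, 0, 19]) (.leaf [-33145, -18412, 0, 43545, -83041, -51166, 60098, -234, 9596, 18271, -433, 21997])))) (.node (.node (.node (.leaf []) (.leaf [-67, -42, 0, 387, -297, -190, 7, 0, 66, 42, 0, 63])) (.node (.leaf []) (.leaf [-181, -112, 0, 845, -658, -475, 61, 0, 161, 112, 4, 151]))) (.node (.node (.leaf []) (.leaf [])) (.node (.leaf [170, 91, 0, -109, 377, 238, -358, 2, -25, -92, 3, -113]) (.leaf [70, 40, 0, -396, 321, 184,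 -15, -1, -70, -39, 6, -65])))))))

def bigL23 : Janko.Tree (List ℤ) :=
  (.node (.node (.node (.node (.node (.node (.node (.leaf []) (.leaf [75, 56, 0, -389, 354, 193, -52, 0, -52, -57, 4, -75])) (.leaf [-19, -14, 0, 142, -53, -77, -43, 0, 39, 14, 3, 15])) (.node (.leaf []) (.leaf [-149, -84, 0, -496, -229, 13, 637, 0, -117, 80, -14, 79]))) (.node (.node (.leaf []) (.leaf [1446, 818, 0, 4589, 2012, 101, -5933, -22, 1061, -779, 136, -811])) (.node (.leaf []) (.leaf [-167, -115, 0, 967, -810, -455, 56, -1, 149, 116, -9, 167])))) (.node (.node (.node (.node (.leaf [-427, -268, 0, 1714, -1625, -976, 373, 0, 283, 268, -8, 358]) (.leaf [0, 1, 0, 0, 0, 0, 0, 0, 0, 0, 0, 0])) (.leaf [-4, 4, 0, -89, 132, -11, -19, 0, 13, -4, 10, -16])) (.node (.leaf []) (.leaf [-299, -243, 0, -604, -631, -125, 1128, 3, -189, 237, -20, 191]))) (.node (.node (.leaf [0, 0, 0, -1, 0, 1, 1, 0, -1]) (.leaf [])) (.node (.leaf [2, 0, 0, 13, -4, -1, -8, 0, 1]) (.leaf [299, 198, 0, -484, 1024, 413, -641, -4,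 -41, -192, 32, -237]))))) (.node (.node (.node (.node (.node (.leaf []) (.leaf [-3569, -2396, 0, 17896, -14977, -9485, 1772, -28, 2819, 2440, -28, 3351])) (.leaf [])) (.node (.leaf []) (.leaf [-7866, -4600, 0, 408, -18574, -8560, 20248, -31, -465, 4540, -312, 5117]))) (.node (.node (.leaf [345, 182, 0, 135, 660, 339, -889, 0, 13, -179, 5, -188]) (.leaf [-4242, -2056, 0, -5531, -5423, -3432, 11810, -23, -507, 2047, -3, 2022])) (.node (.leaf []) (.leaf [-100, -70, 0, 262, -368, -191, 184, -4, 17, 75, -1, 87])))) (.node (.node (.node (.leaf []) (.leaf [-70, -39, 0, -27, -165, -64, 200, 0, -13, 38, -6, 49])) (.node (.leaf [72, 41, 0, -295, 238, 176, -36, 0, -60, -41, -1, -56]) (.leaf [-606, -301, 0, -4513, 577, 475, 3396, -6, -886, 292, 1, 227]))) (.node (.node (.leaf []) (.leaf [-1645, -921, 0, 1057, -3993, -2138, 3645, -6, 176, 912, -59, 1092])) (.node (.leaf [-36, -28, 0, -573, -53, 182, 459, -2, -165, 25, -14, 20]) (.leaf [-451, 126, 0, 9424, 2190, -5387, -6770, -50, 3352,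 67, 758, -334])))))) (.node (.node (.node (.node (.node (.node (.leaf []) (.leaf [-9284, -6127, 0, 4819, -34101, -8231, 28476, 130, -2673, 5778, -1503, 8035])) (.leaf [0, 0, 0, -9, 5, 1, 3, 0, -1])) (.node (.leaf []) (.leaf [220, 141, 0, -1976, 1062, 880, 406, 3, -415, -132, -25, -213]))) (.node (.node (.leaf []) (.leaf [3583, 2413, 0, -10594, 13329, 6877, -5492, -4, -1265, -2400, 158, -3056])) (.node (.leaf [-240, -183, 0, 1678, -1256, -737, -50, 2, 266, 183, -2, 235]) (.leaf [43, 96, 0, -1882, 894, 648, 605, 2, -270, -105, -5, -171])))) (.node (.node (.node (.leaf [0, 0, 0, -6, 2, 1, 3, 0, -1]) (.leaf [1, 0, 0, -1, 0, 1, 0, 0, -1])) (.node (.leaf []) (.leaf [63, 36, 0, 564, -17, -117, -430, 0, 118, -33, 8, -17]))) (.node (.node (.leaf [0, 0, 0, 1, -1, -1, 0, 0, 1]) (.leaf [-1468, -528, 0, 2724, -631, -3409, 161, -50, 1633, 564, 288, 477])) (.node (.leaf []) (.leaf [10499, 5521, 0, -21732, 24238, 20154, -12567, 138, -5894, -5548, -410, -6682]))))) (.node (.node (.node (.node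 (.node (.leaf []) (.leaf [1, 0, 0, 30, -11, -8, -13, 0, 4, 0, 0, 2])) (.leaf [310, 197, 0, -1508, 1236, 802, -132, 0, -265, -197, 0, -268])) (.node (.leaf [0, 0, 0, -1, 0, 0, 1]) (.leaf [0, -1, 0, -15, 4, 4, 7, 0, -2]))) (.node (.node (.leaf [0, 0, 0, 8, 0, -3, -6, 0, 3]) (.leaf [-1716, -946, 0, 1640, -4198, -2360, 3419, -5, 389, 928, -36, 1074])) (.node (.leaf []) (.leaf [])))) (.node (.node (.node (.leaf []) (.leaf [])) (.node (.leaf [3011, 1758, 0, 2146, 5770, 2727, -8455, 8, 493, -1749, 60, -1725]) (.leaf [40, 16, 0, 238, -17, -26, -188, 0, 36, -15, 2, -10]))) (.node (.node (.leaf []) (.leaf [])) (.node (.leaf [-77, -51, 0, 506, -362, -236, -21, 0, 90, 51, -1, 74]) (.leaf [173, 95, 0, 298, 344, 72, -598, 0, 69, -91, 17, -102])))))))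

def bigL24 : Janko.Tree (List ℤ) :=
  (.node (.node (.node (.node (.node (.node (.node (.leaf []) (.leaf [25, 26, 0, -458, 257, 158, 115, 0, -76, -27, 2, -42])) (.leaf [9, 8, 0, -160, 91, 56, 36, 0, -23, -8, -1, -15])) (.node (.leaf []) (.leaf [2280, 1248, 0, -6370, 3553, 5942, -620, 26, -2102, -1170, -348, -1554]))) (.node (.node (.leaf []) (.leaf [-628, -287, 0, -3225, -194, 358, 2884, -14, -514, 269, -39, 185])) (.node (.leaf [520, 261, 0, -1541, 1422, 1084, -449, 4, -376, -267, -15, -329]) (.leaf [-2956, -1595, 0, 11189, -7782, -7458, 811, -27, 2821, 1618, 249, 1951])))) (.node (.node (.node (.node (.leaf []) (.leaf [0, 0, 1, 0, 0, 0, 0, 0, 0, 0, 0, 0])) (.leaf [87, 63, 0, -1154, 677, 413, 245, 0, -200, -63, 0, -107])) (.node (.leaf []) (.leaf [-10261, -6011, 0, 19720, -29493, -17492, 16996, -78, 3508, 6028, -223, 7418]))) (.node (.node (.leaf []) (.leaf [-113, -157, 0, 3651, -1576, -1308, -1255, -2, 614, 160, 39, 287])) (.node (.leaf []) (.leaf [-29227, -16429, 0,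 66098, -83350, -53799, 41737, -165, 12886, 16415, -60, 20815]))))) (.node (.node (.node (.node (.node (.leaf []) (.leaf [849, 487, 0, -2243, 2864, 1545, -1238, 13, -385, -481, 41, -670])) (.leaf [])) (.node (.leaf [-377, -187, 0, 401, -943, -526, 740, 5, 90, 182, -23, 253]) (.leaf [-57, -39, 0, -322, -76, 60, 318, 0, -75, 36, -8, 24]))) (.node (.node (.leaf []) (.leaf [860, 511, 0, -1548, 2293, 1485, -1392, 3, -299, -511, -3, -593])) (.node (.leaf [-26, -4, 0, -249, 87, 35, 136, 0, -27, 4, 0, -4]) (.leaf [4719, 2054, 0, -2352, 6204, 7165, -7573, 53, -1949, -2082, -286, -2216])))) (.node (.node (.node (.leaf []) (.leaf [483, 325, 0, -1716, 1935, 996, -635, 0, -219, -325, 23, -423])) (.node (.leaf []) (.leaf [5572, 3377, 0, -2925, 14785, 6689, -13587, -12, 30, -3302, 304, -3910]))) (.node (.node (.leaf [-4, -2, 0, -12, -7, 1, 17, 0, -3, 1, 0, 2]) (.leaf [-2, 3, 0, -43, 20, 11, 18, -1, -5, -1, -1, -3])) (.node (.leaf []) (.leaf [23990, 14574, 0, 8834, 54556, 23152, -67238,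 93, 4048, -14349, 1038, -15634])))))) (.node (.node (.node (.node (.node (.node (.leaf []) (.leaf [-92, -57, 0, -353, -132, 23, 418, 0, -84, 54, -8, 47])) (.leaf [])) (.node (.leaf []) (.leaf [-7, -3, 0, -38, 1, 3, 32, -1, -6, 3, 1, 2]))) (.node (.node (.leaf [4179, 2294, 0, -5972, 9316, 7087, -6624, 37, -1577, -2309, -104, -2632]) (.leaf [])) (.node (.leaf [0, 0, 0, 0, -1, 1]) (.leaf [1150, 595, 0, -3188, 3621, 2174, -1343, 24, -727, -591, 68, -867])))) (.node (.node (.node (.leaf [0, 0, 0, -1, 0, 0, 1]) (.leaf [0, 0, 0, 1, -2, 0, 0, 0, 1])) (.node (.leaf []) (.leaf [-145, -86, 0, -433, -175, -31, 559, 0, -91, 83, -7, 76]))) (.node (.node (.leaf []) (.leaf [-43, -29, 0, -11, -116, -39, 126, 0, -8, 28, -4, 31])) (.node (.leaf [19, 18, 0, -141, 120, 60, -6, 0, -14, -18, 0, -23]) (.leaf []))))) (.node (.node (.node (.node (.node (.leaf []) (.leaf [139, 69, 0, 692, 44, -54, -638, 0, 125, -66, 9, -53])) (.leaf [146, 91, 0, -1219, 734, 535, 185, 0, -237, -91, -3, -144])) (.node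 (.leaf []) (.leaf []))) (.node (.node (.leaf []) (.leaf [0, 0, 0, -1, 0, 1])) (.node (.leaf [0, 0, 0, 13, -2, -4, -8, 0, 4]) (.leaf [53, 36, 0, -86, 306, 26, -192, -1, 26, -36, 17, -50])))) (.node (.node (.node (.leaf []) (.leaf [5, -2, 0, 90, -50, -15, -33, 0, 8, 1, -1, 6])) (.node (.leaf [9648, 4319, 0, 5469, 14701, 9783, -23332, 70, -636, -4229, 165, -5061]) (.leaf [30, 4, 0, 223, -69, -19, -141, 0, 29, -3, -2, -3]))) (.node (.node (.leaf [0, 0, 0, 1, -2, 0, 1]) (.leaf [217, 161, 0, -787, 906, 461, -299, 1, -87, -161, 13, -208])) (.node (.leaf [-51, -41, 0, 601, -346, -235, -125, 0, 107, 41, 1, 63]) (.leaf [-1231, 122, 0, 6412, 425, -4697, -3179, -107, 2959, -26, 399, 287])))))))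

def bigL25 : Janko.Tree (List ℤ) :=
  (.node (.node (.node (.node (.node (.node (.node (.leaf []) (.leaf [-21, 4, 0, -366, 159, 70, 167, 0, -48, -5, 3, -14])) (.leaf [-489, -306, 0, 1557, -1658, -1030, 574, -2, 256, 306, -5, 397])) (.node (.leaf []) (.leaf [4693, 2396, 0, -3643, 9502, 6807, -8708, 47, -1358, -2384, -13, -2793]))) (.node (.node (.leaf []) (.leaf [])) (.node (.leaf [23, -9, 0, -1599, 426, 535, 774, 2, -376, 0, -21, -37]) (.leaf [31904, 18897, 0, -49652, 85722, 51990, -57240, 156, -8619, -18852, 390, -22572])))) (.node (.node (.node (.node (.leaf [1, 0, 0, -2, 1, 1, 0, 0, -1]) (.leaf [0, 0, 0, 1, 0, 0, 0, 0, 0, 0, 0, 0])) (.leaf [-73, -36, 0, -382, 51, 6, 309, 0, -60, 36, 4, 21])) (.node (.leaf []) (.leaf [235, 170, 0, -3156, 1727, 1200, 737, -1, -560, -170, -3, -314]))) (.node (.node (.leaf []) (.leaf [0, 1, 0, 0, 1, 0, 0, 0, 0, -1])) (.node (.leaf [0, 0, 0, 11, -5, -1, -4, 0, 1]) (.leaf [-1316, -833, 0, 3774, -4878, -2428, 2051, -4, 486, 831, -79, 1099])))))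 (.node (.node (.node (.node (.node (.leaf []) (.leaf [-38, -30, 0, 507, -322, -180, -90, 0, 78, 30, -3, 56])) (.leaf [])) (.node (.leaf []) (.leaf [316, 192, 0, -308, 893, 412, -701, 0, -35, -186, 16, -222]))) (.node (.node (.leaf [-715, -352, 0, 148, -1546, -864, 1670, -10, 51, 349, -34, 477]) (.leaf [289, 182, 0, -122, 589, 416, -637, 1, -12, -185, -9, -185])) (.node (.leaf []) (.leaf [-173, -118, 0, 880, -787, -436, 107, -1, 133, 118, -7, 164])))) (.node (.node (.node (.leaf []) (.leaf [-604, -367, 0, 3351, -2332, -1728, -79, 2, 675, 358, 29, 493])) (.node (.leaf [857, 513, 0, -1998, 2665, 1539, -1313, 2, -336, -510, 23, -643]) (.leaf [-49, -29, 0, -258, -81, 39, 282, -1, -74, 30, -9, 31]))) (.node (.node (.leaf [1, 0, 0, 5, 1, -1, -5, 0, 1]) (.leaf [-9, -6, 0, 96, -49, -38, -23, 1, 19, 6, 0, 8])) (.node (.leaf [-645, -392, 0, 1626, -2175, -1155, 1002, 1, 251, 386, -37, 515]) (.leaf [-5163, -2311, 0, 3086, -7500, -7871, 8398, -56, 2063, 2335, 268, 2550])))))) (.node (.node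 (.node (.node (.node (.node (.leaf []) (.leaf [75, 39, 0, -211, 239, 143, -95, 0, -40, -39, 2, -54])) (.leaf [])) (.node (.leaf []) (.leaf [-7, -3, 0, -46, 5, 4, 36, -1, -8, 3, 1, 2]))) (.node (.node (.leaf []) (.leaf [546, 338, 0, -1646, 1952, 1102, -780, -1, -213, -341, 30, -484])) (.node (.leaf [0, 0, 0, 2, 0, 0, -1]) (.leaf [4655, 2272, 0, 4317, 6175, 4476, -11819, 59, -3, -2229, -23, -2354])))) (.node (.node (.node (.leaf []) (.leaf [0, 0, 0, -8, 3, 2, 4, 0, -2])) (.node (.leaf []) (.leaf [39, 28, 0, 449, -60, -105, -301, 0, 89, -29, 1, 8]))) (.node (.node (.leaf [0, 0, 0, 12, -5, -2, -5, 0, 2]) (.leaf [-4124, -2292, 0, 1146, -8631, -5172, 9285, -26, 377, 2268, -27, 2513])) (.node (.leaf [-1, 0, 0, -15, 4, 2, 9, 0, -2]) (.leaf [-1924, -1348, 0, -2255, -5791, -905, 7493, 47, -1408, 1318, -234, 1482]))))) (.node (.node (.node (.node (.node (.leaf []) (.leaf [-336, -208, 0, 1192, -1030, -806, 258, -2, 226, 211, 15, 266])) (.leaf [0, 0, 0, -1, 1])) (.node (.leaf [0, 0,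 0, 1]) (.leaf [-634, -394, 0, 579, -1855, -820, 1496, -1, 15, 382, -34, 473]))) (.node (.node (.leaf [392, 171, 0, 1236, 150, 124, -1322, 8, 127, -168, 9, -156]) (.leaf [0, 0, 0, 2, 0, 0, -1])) (.node (.leaf [-381, -214, 0, 399, -989, -535, 778, -2, 72, 210, -13, 260]) (.leaf [428, 177, 0, 8423, -2142, -2089, -4713, -10, 1581, -147, 28, 182])))) (.node (.node (.node (.leaf []) (.leaf [])) (.node (.leaf [-296, -141, 0, -226, -658, -231, 875, -6, -48, 135, -36, 212]) (.leaf [-643, -302, 0, -33301, 4534, 11422, 19727, 58, -7781, 144, -848, -399]))) (.node (.node (.leaf []) (.leaf [487, 255, 0, 1448, 562, 71, -1829, -2, 256, -243, 35, -231])) (.node (.leaf [-520, -293, 0, 200, -1197, -643, 1191, -2, 42, 287, -21, 344]) (.leaf [8071, 4658, 0, -9826, 21040, 12025, -15751, 36, -1744, -4606, 176, -5536])))))))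

def bigL26 : Janko.Tree (List ℤ) :=
  (.node (.node (.node (.node (.node (.node (.node (.leaf []) (.leaf [102, 43, 0, -984, 455, 449, 243, -1, -213, -45, -9, -100])) (.leaf [])) (.node (.leaf [89, 49, 0, -249, 255, 181, -95, 0, -54, -49, 0, -63]) (.leaf [4403, 2062, 0, 1313, 6620, 5070, -9809, 55, -637, -2035, -13, -2320]))) (.node (.node (.leaf []) (.leaf [0, -1, 0, 0, 0, 0, 0, 1])) (.node (.leaf [-327, -205, 0, -980, -557, -36, 1361, 0, -250, 193, -36, 215]) (.leaf [11477, 5496, 0, -1836, 19537, 14759, -23493, 107, -2521, -5328, -40, -6471])))) (.node (.node (.node (.node (.leaf []) (.leaf [0, 0, 0, 0, 1, 0, 0, 0, 0, 0, 0, 0])) (.leaf [])) (.node (.leaf []) (.leaf [-19, -8, 0, -30, -15, -17, 51, 0, -1, 8, 0, 9]))) (.node (.node (.leaf []) (.leaf [0, 0, 0, 0, -1, 1])) (.node (.leaf [2, 0, 0, 12, -3, -1, -8, 0, 1]) (.leaf [620, 582, 0, -3918, 3523, 1780, -402, -25, -366, -583, 40, -728]))))) (.node (.node (.node (.node (.node (.leaf []) (.leaf [-67, -38, 0, -108, -93, -53,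 208, -1, -21, 38, -1, 40])) (.leaf [])) (.node (.leaf []) (.leaf [-1, 0, 0, -6, 4, 1, 2]))) (.node (.node (.leaf [-427, -255, 0, 316, -1108, -554, 963, 0, 35, 249, -15, 291]) (.leaf [281, 183, 0, -328, 621, 484, -515, 1, -53, -186, -15, -190])) (.node (.leaf [-108, -70, 0, -225, -330, 4, 477, -6, -91, 68, -10, 71]) (.leaf [5, -1, 0, -168, 25, 66, 88, -1, -43, 0, -5, -1])))) (.node (.node (.node (.leaf []) (.leaf [4, 4, 0, -122, 45, 46, 46, 0, -23, -4, -2, -8])) (.node (.leaf []) (.leaf []))) (.node (.node (.leaf []) (.leaf [380, 246, 0, -1569, 1406, 908, -283, 0, -268, -246, -3, -315])) (.node (.leaf [-187, -128, 0, 895, -797, -456, 111, 0, 151, 125, -5, 164]) (.leaf [-3010, -1340, 0, 5081, -5214, -5713, 3279, -40, 1892, 1374, 199, 1621])))))) (.node (.node (.node (.node (.node (.node (.leaf []) (.leaf [-8341, -5022, 0, 7648, -22331, -11259, 18301, -34, 880, 4950, -281, 5771])) (.leaf [-2068, -1166, 0, 1099, -5060, -2561, 4750, -13, 158, 1155, -75, 1350])) (.node (.leaf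 [-4, -2, 0, -19, -2, 4, 17, 0, -2, 2, 0, -1]) (.leaf [6411, 3728, 0, 1356, 14667, 6435, -17341, 27, 749, -3680, 276, -4119]))) (.node (.node (.leaf []) (.leaf [-3962, -2330, 0, -107, -8446, -4433, 9838, -2, -82, 2306, -60, 2387])) (.node (.leaf []) (.leaf [4472, 2175, 0, 2841, 6385, 4683, -10760, 56, -272, -2135, -20, -2319])))) (.node (.node (.node (.leaf []) (.leaf [1, 0, 0, 2, -1, 1, -1, 0, -1])) (.node (.leaf [72, 55, 0, -334, 433, 158, -147, 2, 0, -55, 12, -100]) (.leaf []))) (.node (.node (.leaf []) (.leaf [-58, -36, 0, 55, -156, -84, 128, 0, 4, 35, -3, 46])) (.node (.leaf [7, 12, 0, -119, 89, 37, 14, 0, -10, -12, 1, -15]) (.leaf [2, 1, 0, 2, 1, 2, -4, 0, 0, -1, 0, -1]))))) (.node (.node (.node (.node (.node (.leaf []) (.leaf [-385, -229, 0, 2460, -1759, -1165, -97, -1, 453, 229, -13, 377])) (.leaf [29, 14, 0, -38, 64, 46, -48, 0, -11, -14, 0, -17])) (.node (.leaf []) (.leaf [-333, -214, 0, 327, -973, -440, 766, -2, 18, 208, -14, 244]))) (.node (.node (.leaf [-11,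 -6, 0, 20, -33, -18, 20, 0, 3, 6, 0, 8]) (.leaf [39, 23, 0, -170, 126, 102, -11, 0, -36, -23, -1, -31])) (.node (.leaf [-123, -74, 0, -453, -131, 4, 518, 0, -95, 71, -8, 62]) (.leaf [16, 6, 0, -22, 57, 14, -34, 0, -6, -6, 5, -11])))) (.node (.node (.node (.leaf []) (.leaf [42, 29, 0, -256, 209, 118, -10, 0, -39, -29, 2, -42])) (.node (.leaf [1, 0, 0, 2, 1, 0, -3, 0, -1, 0, 1]) (.leaf [18, 12, 0, -93, 82, 44, -9, 0, -15, -12, 1, -16]))) (.node (.node (.leaf [-4, 0, 0, -15, -1, 1, 15, 0, -1]) (.leaf [212, 139, 0, -936, 866, 500, -159, 0, -154, -136, 6, -186])) (.node (.leaf [0, 0, 0, 21, -2, -7, -14, 0, 7]) (.leaf [0, 0, 0, -3, 1, 1, 2, 0, -1])))))))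

def bigL27 : Janko.Tree (List ℤ) :=
  (.node (.node (.node (.node (.node (.node (.node (.leaf []) (.leaf [73, 31, 0, 223, 118, -8, -295, 5, 39, -32, 8, -33])) (.leaf [])) (.node (.leaf []) (.leaf [-3937, -1950, 0, -3126, -7925, -3330, 11347, -88, -600, 1896, -282, 2601]))) (.node (.node (.leaf []) (.leaf [-97, -49, 0, -704, 18, 112, 562, 1, -139, 46, -9, 31])) (.node (.leaf []) (.leaf [36492, 19768, 0, -41496, 85470, 55300, -66857, 294, -10327, -19769, 164, -23172])))) (.node (.node (.node (.node (.leaf []) (.leaf [0, 0, 0, 0, 0, 1, 0, 0, 0, 0, 0, 0])) (.leaf [3004, 1852, 0, -6804, 10064, 5077, -5159, 12, -945, -1816, 134, -2339])) (.node (.leaf []) (.leaf [-259, -148, 0, 1004, -843, -600, 141, 0, 224, 145, 4, 187]))) (.node (.node (.leaf []) (.leaf [-2, 3, 0, -53, 24, 14, 22, 0, -7, -2, -1, -3])) (.node (.leaf [-1, 0, 0, 0, -1, 1, 1]) (.leaf [110, 54, 0, 621, 38, -75, -556, 0, 122, -52, 10, -42]))))) (.node (.node (.node (.node (.node (.leaf []) (.leaf [437, 502, 0, -7403,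 4858, 2501, 1279, 1, -909, -494, 41, -871])) (.leaf [])) (.node (.leaf [512, 303, 0, 320, 1021, 487, -1428, 4, 80, -300, 18, -321]) (.leaf [-1, 0, 0, -5, 4, 0, 2]))) (.node (.node (.leaf []) (.leaf [])) (.node (.leaf []) (.leaf [-751, -461, 0, 1679, -2333, -1309, 1181, 1, 288, 454, -23, 554])))) (.node (.node (.node (.leaf [-30, -22, 0, -12, -114, -15, 116, 0, -21, 22, -4, 24]) (.leaf [])) (.node (.leaf []) (.leaf [467, 267, 0, -806, 1333, 752, -823, 3, -143, -264, 13, -333]))) (.node (.node (.leaf [0, 0, 0, 5, -2, -1, -2, 0, 1]) (.leaf [-116, -71, 0, 481, -486, -252, 114, 0, 74, 70, -8, 103])) (.node (.leaf [-14996, -8067, 0, 26467, -36131, -26460, 21924, -154, 6634, 8057, 239, 9800]) (.leaf [-6746, -3659, 0, 4333, -11876, -10161, 12330, -6, 1775, 3668, 339, 3680])))))) (.node (.node (.node (.node (.node (.node (.leaf []) (.leaf [701, 448, 0, -1185, 2136, 1087, -1333, 3, -164, -441, 21, -508])) (.leaf [650, 407, 0, -2721, 2470, 1550, -491, 4, -463, -407, 9, -563])) (.node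 (.leaf [-3, 0, 0, -38, 6, 12, 24, -1, -6, 0, 0, -2]) (.leaf [2639, 920, 0, -29723, 6556, 15055, 12363, 177, -8245, -1161, -1060, -1719]))) (.node (.node (.leaf []) (.leaf [45, 1, 0, 828, -176, -207, -494, -2, 166, -1, 17, -2])) (.node (.leaf []) (.leaf [1580, 808, 0, -11810, 4998, 6226, 2820, 50, -2894, -879, -289, -1201])))) (.node (.node (.node (.leaf []) (.leaf [-35, -21, 0, 198, -150, -100, 2, 0, 36, 21, -2, 35])) (.node (.leaf [-203, -125, 0, 713, -698, -438, 198, 0, 127, 125, 3, 151]) (.leaf [285, 151, 0, 1181, 196, -38, -1221, 0, 224, -146, 17, -126]))) (.node (.node (.leaf []) (.leaf [31244, 16681, 0, -55359, 78656, 53810, -48087, 250, -12609, -16944, -140, -20371])) (.node (.leaf [-1, 0, 0, -14, 6, 2, 7, 0, -2]) (.leaf [0, 0, 0, 0, 2, 0, -1, 1, 0, 0, -1]))))) (.node (.node (.node (.node (.node (.leaf []) (.leaf [-102, -69, 0, 408, -444, -220, 126, 1, 49, 69, -9, 98])) (.leaf [-31, -30, 0, 465, -286, -162, -94, 0, 72, 31, -3, 48])) (.node (.leaf []) (.leaf [286,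 182, 0, -498, 924, 424, -560, 0, -63, -176, 15, -212]))) (.node (.node (.leaf [179, 99, 0, -193, 446, 265, -354, 2, -37, -99, 4, -123]) (.leaf [-758, -464, 0, 76, -1959, -798, 2035, -2, -89, 464, -50, 522])) (.node (.leaf []) (.leaf [-1101, -619, 0, 1806, -3208, -1704, 2024, -14, 317, 616, -53, 798])))) (.node (.node (.node (.leaf []) (.leaf [-97, 1, 0, -3317, 734, 997, 1827, 0, -668, -7, -62, -62])) (.node (.leaf [25, 9, 0, -26, 54, 38, -47, 0, -6, -9, 1, -17]) (.leaf [1, 0, 0, 2, -1, 2, -2, 0, -1]))) (.node (.node (.leaf []) (.leaf [188, 129, 0, -1032, 876, 499, -79, 1, -161, -129, 6, -180])) (.node (.leaf [327, 264, 0, -6014, 3261, 2080, 1573, 8, -1021, -271, 18, -558]) (.leaf [3941, 2830, 0, -2283, 17234, 2871, -13685, -69, 1909, -2645, 888, -3896])))))))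

def bigL28 : Janko.Tree (List ℤ) :=
  (.node (.node (.node (.node (.node (.node (.node (.leaf []) (.leaf [-6, -10, 0, 305, -91, -105, -142, 1, 68, 8, 6, 11])) (.leaf [69, 36, 0, -2, 124, 85, -153, 0, -8, -36, 1, -40])) (.node (.leaf []) (.leaf [483, 249, 0, -135, 921, 659, -1029, 5, -71, -247, 12, -323]))) (.node (.node (.leaf []) (.leaf [0, 0, 0, 0, 3, -1, -2, 1])) (.node (.leaf []) (.leaf [35231, 20112, 0, -69515, 98145, 61236, -54848, 233, -13900, -20047, 485, -24842])))) (.node (.node (.node (.node (.leaf []) (.leaf [0, 0, 0, 0, 0, 0, 1, 0, 0, 0, 0, 0])) (.leaf [1247, 736, 0, -2524, 4093, 1927, -2240, -4, -387, -715, 78, -912])) (.node (.leaf [0, -3, 0, 0, -2, 0, 0, 0, 0, 2, 1]) (.leaf [87, 55, 0, 866, -37, -184, -647, 0, 191, -52, 14, -29]))) (.node (.node (.leaf [22, 15, 0, -192, 120, 83, 26, 0, -34, -15, -1, -23]) (.leaf [9, -11, 0, 992, -362, -296, -430, -2, 168, 15, 7, 51])) (.node (.leaf [1, 0, 0, 3, 2, 0, -4]) (.leaf [6, -3, 0, 116, -53, -21, -51, 0, 15, 2, 1,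 3]))))) (.node (.node (.node (.node (.node (.leaf []) (.leaf [315, 225, 0, -4280, 2190, 1682, 1086, 1, -785, -229, -21, -412])) (.leaf [0, 2, 0, -26, 17, 9, 4, 1, 0, -3, 0, -4])) (.node (.leaf [489, 385, 0, -2039, 2494, 952, -757, -4, -174, -385, 63, -477]) (.leaf [-291, -31, 0, -5519, 1097, 1564, 3198, 5, -991, 6, -104, -101]))) (.node (.node (.leaf []) (.leaf [92, 36, 0, 548, 5, -81, -459, -1, 91, -31, 8, -23])) (.node (.leaf [793, 462, 0, -579, 1817, 1116, -1655, 2, -117, -456, 4, -518]) (.leaf [-11, -4, 0, -135, 77, 18, 49, -1, -5, 3, 7, -14])))) (.node (.node (.node (.leaf []) (.leaf [-1054, -657, 0, 4583, -3366, -2790, 303, -3, 953, 660, 75, 806])) (.node (.leaf [0, 1, 0, 1, 0, 0, 0, 0, 0, -1]) (.leaf [-5835, -2676, 0, -17656, -4668, -1342, 21072, -11, -2728, 2539, -118, 2434]))) (.node (.node (.leaf [1, 0, 0, 7, -4, -1, -3, 0, 1]) (.leaf [-2483, -1469, 0, 4103, -7244, -3897, 4628, -3, 615, 1451, -77, 1788])) (.node (.leaf []) (.leaf [-5802, -2748, 0, 3040, -9649,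 -8415, 10555, -57, 1749, 2767, 193, 3101])))))) (.node (.node (.node (.node (.node (.node (.leaf []) (.leaf [-1375, -962, 0, 1282, -4322, -1778, 3470, -4, -126, 950, -68, 1078])) (.leaf [])) (.node (.leaf [-76, -47, 0, 278, -270, -169, 72, 0, 48, 47, -1, 62]) (.leaf [-930, -532, 0, 2459, -2713, -1853, 1134, -2, 487, 532, 2, 683]))) (.node (.node (.leaf []) (.leaf [1884, 1096, 0, -663, 4805, 2175, -4713, 3, 61, -1078, 89, -1283])) (.node (.leaf []) (.leaf [245, 153, 0, 108, 583, 231, -723, -1, 64, -150, 14, -171])))) (.node (.node (.node (.leaf [0, 0, 0, 0, -1, 0, 1]) (.leaf [1, 0, 0, 15, -5, -2, -8, 0, 2])) (.node (.leaf [-30, -16, 0, -39, -56, -22, 95, 0, -9, 16, -2, 19]) (.leaf [-4, -4, 0, 34, -33, -12, 4, -1, 2, 4, 0, 6]))) (.node (.node (.leaf []) (.leaf [40437, 23028, 0, -92474, 117345, 74347, -58416, 189, -17409, -23048, 238, -29079])) (.node (.leaf [-1, 0, 0, -26, 7, 5, 15, 0, -5]) (.leaf [-4, -9, 0, 89, -65, -28, -11, 0, 6, 9, 0, 11]))))) (.node (.node (.node (.node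 (.node (.leaf []) (.leaf [-176, -93, 0, -505, -100, -75, 589, 2, -65, 90, -3, 76])) (.leaf [])) (.node (.leaf [-260, -169, 0, 1199, -1039, -645, 152, 0, 205, 169, -4, 226]) (.leaf [18, 7, 0, 10, 18, 19, -37, 0, -4, -7, 0, -7]))) (.node (.node (.leaf []) (.leaf [-45, -26, 0, 240, -184, -119, 6, 0, 46, 26, 0, 37])) (.node (.leaf []) (.leaf [260, 208, 0, -906, 1090, 501, -377, 1, -102, -211, 3, -201])))) (.node (.node (.node (.leaf [-478, -307, 0, 2100, -1871, -1144, 325, 0, 359, 307, -4, 398]) (.leaf [-3615, -2052, 0, -3836, -6303, -2907, 10544, -4, -725, 2028, -93, 1998])) (.node (.leaf []) (.leaf [2, 0, 0, 13, -5, 0, -7]))) (.node (.node (.leaf []) (.leaf [401, 295, 0, 1414, 465, 46, -1701, 2, 344, -286, -3, -207])) (.node (.leaf [-420, -255, 0, 903, -1273, -733, 668, -2, 156, 252, -10, 311]) (.leaf [536, 290, 0, -676, 1368, 815, -1004, 5, -144, -287, 18, -374])))))))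

def bigL29 : Janko.Tree (List ℤ) :=
  (.node (.node (.node (.node (.node (.node (.node (.leaf []) (.leaf [552, 339, 0, 279, 1520, 376, -1734, 1, 155, -337, 64, -366])) (.leaf [-59, -22, 0, 25, -71, -90, 92, 1, 26, 22, -1, 32])) (.node (.leaf []) (.leaf [-48, -19, 0, -79, -33, -38, 127, 0, -3, 19, 1, 19]))) (.node (.node (.leaf []) (.leaf [0, 0, 0, 1, -2, 0, 1])) (.node (.leaf [-112, -79, 0, -670, -86, 71, 635, 0, -171, 75, -13, 75]) (.leaf [19230, 10736, 0, -37620, 51511, 33825, -28783, 143, -8194, -10710, 136, -13272])))) (.node (.node (.node (.node (.leaf []) (.leaf [0, 0, 0, 0, 0, 0, 1])) (.leaf [4975, 3169, 0, -16084, 18262, 10027, -6465, 16, -2378, -3157, 177, -4132])) (.node (.leaf []) (.leaf [-49, -18, 0, -171, -8, -14, 173, 0, -20, 18, -2, 20]))) (.node (.node (.leaf []) (.leaf [22535, 12323, 0, -30760, 52961, 36544, -38181, 188, -7571, -12290, -189, -14534])) (.node (.leaf [5, 0, 0, 18, 2, -1, -18, 0, 1]) (.leaf [-337, -201, 0, 220, -881, -418, 777, 0, 24, 195,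 -15, 229]))))) (.node (.node (.node (.node (.node (.leaf []) (.leaf [-221, -113, 0, -87, -463, -213, 584, -3, -8, 111, -18, 145])) (.leaf [-206, -108, 0, -377, -263, -126, 641, 1, -54, 105, -7, 103])) (.node (.leaf [5302, 2407, 0, 3535, 6114, 5826, -12071, 43, -601, -2419, -160, -2419]) (.leaf []))) (.node (.node (.leaf []) (.leaf [])) (.node (.leaf [21, 9, 0, 71, 2, 8, -73, 0, 9, -9, 0, -8]) (.leaf [-3343, -2024, 0, 6977, -9949, -5834, 5359, -21, 1218, 2007, -66, 2464])))) (.node (.node (.node (.leaf []) (.leaf [5524, 2605, 0, -3551, 9632, 8092, -9853, 52, -1780, -2623, -146, -2988])) (.node (.leaf [1450, 977, 0, 15283, 2211, -4610, -12924, -31, 3984, -861, 564, -661]) (.leaf [533, 261, 0, 409, 1007, 427, -1479, -1, 51, -252, 28, -293]))) (.node (.node (.leaf []) (.leaf [])) (.node (.leaf [-987, -425, 0, -7463, 623, 1220, 5567, -2, -1285, 395, -99, 229]) (.leaf [-5994, -2865, 0, 2992, -10103, -8603, 11086, -59, 1722, 2884, 183, 3227])))))) (.node (.node (.node (.node (.node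 (.node (.leaf []) (.leaf [-4368, -2779, 0, 6445, -13008, -6590, 8875, -6, 683, 2748, -131, 3206])) (.leaf [])) (.node (.leaf [-5, -4, 0, -5, -5, -4, 10, 0, 2, 4, 0, 1]) (.leaf []))) (.node (.node (.leaf []) (.leaf [])) (.node (.leaf []) (.leaf [-10214, -5734, 0, 25036, -30010, -19153, 13702, -63, 4995, 5747, -82, 7277])))) (.node (.node (.node (.leaf []) (.leaf [529, 211, 0, -8511, 2167, 3713, 3642, 25, -2169, -262, -263, -339])) (.node (.leaf [104, 58, 0, -95, 249, 151, -210, 2, -20, -58, 1, -70]) (.leaf []))) (.node (.node (.leaf []) (.leaf [])) (.node (.leaf [-1, 0, 0, -5, 0, 1, 4]) (.leaf [1616, 1487, 0, 18412, 5967, -6544, -17629, -132, 6058, -1285, 1044, -1428]))))) (.node (.node (.node (.node (.node (.leaf []) (.leaf [-9, -2, 0, -49, 1, 3, 43, 0, -8, 2, -1, 4])) (.leaf [-58, -29, 0, 50, -118, -88, 107, 1, 15, 28, 0, 37])) (.node (.leaf [61, 25, 0, 196, 40, 15, -224, 0, 31, -25, 4, -29]) (.leaf [-514, -281, 0, -72, -1054, -555, 1275, -2, 3, 275, -17, 313]))) (.node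 (.node (.leaf []) (.leaf [-497, -287, 0, 746, -1385, -771, 935, -1, 122, 284, -14, 352])) (.node (.leaf []) (.leaf [583, 382, 0, -1015, 1865, 871, -1145, -1, -120, -379, 22, -411])))) (.node (.node (.node (.leaf []) (.leaf [-375, -255, 0, 284, -1157, -418, 947, 1, -13, 252, -24, 255])) (.node (.leaf [-6059, -2793, 0, -4918, -6435, -6604, 14021, -76, 575, 2773, 230, 2814]) (.leaf [-4, 2, 0, -183, 76, 46, 81, 0, -32, -2, 1, -9]))) (.node (.node (.leaf [-5, -2, 0, -32, 1, 6, 24, 0, -3, 1]) (.leaf [396, 263, 0, -462, 1104, 554, -819, 0, -66, -254, 4, -263])) (.node (.leaf []) (.leaf [4059, 3661, 0, 8355, 17917, -1279, -21408, -88, 5378, -3476, 1124, -3881])))))))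

def bigL30 : Janko.Tree (List ℤ) :=
  (.node (.node (.node (.node (.node (.node (.node (.leaf []) (.leaf [-7586, -4185, 0, -1854, -13483, -8778, 18369, -79, 47, 4201, 80, 4340])) (.leaf [84, 50, 0, -75, 198, 127, -172, 0, -12, -50, 1, -59])) (.node (.leaf []) (.leaf [-1416, -792, 0, 12035, -5537, -5729, -2918, -39, 2815, 843, 224, 1103]))) (.node (.node (.leaf []) (.leaf [-188, -107, 0, 275, -492, -302, 340, -1, 51, 107, -3, 132])) (.node (.leaf [-30, -50, 0, -973, 53, 291, 658, 2, -274, 41, -20, 32]) (.leaf [19618, 10990, 0, -36683, 52493, 33829, -30414, 144, -7911, -10949, 210, -13551])))) (.node (.node (.node (.node (.leaf []) (.leaf [0, 0, 0, -1, 1, 0, 1])) (.leaf [])) (.node (.leaf []) (.leaf []))) (.node (.node (.leaf []) (.leaf [0, 1, 0, 17, -4, -4, -8, 0, 2])) (.node (.leaf []) (.leaf [-1350, -869, 0, 7754, -5507, -4018, -89, -14, 1413, 890, 44, 1226]))))) (.node (.node (.node (.node (.node (.leaf []) (.leaf [-14884, -8450, 0, 22103, -42267, -22394, 28362, -77,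 3709, 8381, -639, 10520])) (.leaf [281, 150, 0, -244, 779, 342, -634, -1, -32, -144, 18, -189])) (.node (.leaf [-2053, -1300, 0, 5410, -7243, -3732, 3292, -11, 714, 1288, -94, 1684]) (.leaf [-327, -177, 0, -1548, -238, 140, 1526, 0, -305, 167, -28, 139]))) (.node (.node (.leaf []) (.leaf [-3, -1, 0, -23, 4, 3, 15, 0, -2, 1])) (.node (.leaf [-4, -2, 0, 6, -9, -5, 6, 0, 1, 2, 0, 2]) (.leaf [2086, 997, 0, 2945, 3574, 1338, -6684, -7, 718, -1017, 78, -1104])))) (.node (.node (.node (.leaf []) (.leaf [306, 195, 0, -382, 685, 531, -548, 1, -66, -198, -15, -207])) (.node (.leaf [850, 507, 0, -2280, 2808, 1591, -1198, 1, -384, -497, 29, -663]) (.leaf [-174, -128, 0, 1032, -649, -547, -76, -3, 211, 134, 19, 135]))) (.node (.node (.leaf [0, 0, 0, -6, 2, 1, 3, 0, -1]) (.leaf [33193, 18374, 0, -39666, 82182, 49830, -62134, 217, -8801, -18209, 524, -21873])) (.node (.leaf [5343, 2705, 0, 1481, 8804, 6039, -12380, 56, -479, -2663, -30, -2882]) (.leaf [-6177, -2948, 0, 2108, -10122, -8549,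 11881, -59, 1580, 2963, 173, 3291])))))) (.node (.node (.node (.node (.node (.node (.leaf []) (.leaf [-1504, -1530, 0, 13364, -11018, -5192, -98, 17, 1382, 1507, -148, 2136])) (.leaf [])) (.node (.leaf []) (.leaf [262, 114, 0, 2049, -133, -346, -1565, 0, 393, -108, 28, -74]))) (.node (.node (.leaf []) (.leaf [384, 254, 0, -2219, 1872, 1009, -131, -1, -350, -254, 21, -359])) (.node (.leaf [-410, -220, 0, 117, -845, -499, 909, 0, 49, 217, -1, 231]) (.leaf [-221, -185, 0, -475, -925, 19, 1176, 2, -314, 184, -67, 247])))) (.node (.node (.node (.leaf [0, 0, 0, 1]) (.leaf [])) (.node (.leaf [8, 2, 0, 35, -3, 1, -31, 0, 5, -2, 0, -3]) (.leaf [5651, 2656, 0, -3448, 9460, 8363, -9996, 57, -1834, -2678, -199, -3019]))) (.node (.node (.leaf [-123, -83, 0, 643, -516, -322, 39, 0, 111, 83, 5, 98]) (.leaf [-15029, -8354, 0, 27006, -40597, -25229, 24304, -94, 5627, 8333, -241, 10335])) (.node (.leaf [0, 0, 0, -13, 7, 3, 5, 0, -3]) (.leaf [2219, 1293, 0, 11304, 3298, -1785, -12008, -37,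 2856, -1225, 395, -1174]))))) (.node (.node (.node (.node (.node (.leaf [0, -5, 0, 91, -46, -27, -29, 0, 10, 5, 1, 7]) (.leaf [25, 14, 0, -44, 60, 45, -37, 0, -10, -14, 0, -17])) (.leaf [8191, 4337, 0, 10615, 13782, 5634, -24679, 17, 1794, -4246, 320, -4356])) (.node (.leaf []) (.leaf [-124, -51, 0, -1367, 203, 286, 914, 0, -258, 47, -15, 14]))) (.node (.node (.leaf [-141, -67, 0, -526, -85, -13, 559, 0, -91, 64, -10, 71]) (.leaf [])) (.node (.leaf []) (.leaf [-790, -425, 0, -1197, -1387, -567, 2583, -12, -301, 422, -51, 533])))) (.node (.node (.node (.leaf []) (.leaf [396, 264, 0, -1919, 1688, 987, -240, 0, -305, -264, 9, -354])) (.node (.leaf [145, -162, 0, -8518, 760, 3388, 5044, 49, -2462, 99, -271, -35]) (.leaf [0, 1, 0, 12, -5, -1, -5, 0, 3, -1, 1, -2]))) (.node (.node (.leaf []) (.leaf [1827, 925, 0, 5323, 2117, 312, -6717, 21, 839, -862, 141, -913])) (.node (.leaf []) (.leaf [1030, -357, 0, -24536, 2781, 10749, 13191, 121, -7042, 138, -833, -457])))))))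

def bigL31 : Janko.Tree (List ℤ) :=
  (.node (.node (.node (.node (.node (.node (.node (.leaf []) (.leaf [801, 491, 0, -438, 2218, 941, -2008, 3, 31, -492, 50, -564])) (.leaf [1, 0, 0, -4, -1, 3, 3, -1, -2])) (.node (.leaf []) (.leaf [0, -9, 0, 154, -84, -41, -52, 1, 22, 6, 0, 13]))) (.node (.node (.leaf []) (.leaf [630, 401, 0, -2476, 2498, 1394, -651, 0, -369, -395, 18, -549])) (.node (.leaf [-243, -160, 0, 1594, -1064, -760, -116, 0, 306, 160, 10, 212]) (.leaf [37749, 21144, 0, -55646, 96282, 60413, -65584, 257, -12074, -21031, 425, -25362])))) (.node (.node (.node (.node (.leaf []) (.leaf [0, 0, 0, 2, 1, 0, -1])) (.leaf [-163, -58, 0, -311, 9, -123, 356, -1, 45, 56, 12, 26])) (.node (.leaf []) (.leaf [589, 326, 0, -740, 1354, 973, -1026, 5, -177, -324, 4, -415]))) (.node (.node (.leaf []) (.leaf [])) (.node (.leaf [2, 0, 0, 16, -4, -1, -10, 0, 1]) (.leaf [15, 6, 0, 79, -25, 3, -54, 0, 7, -6, -1, -3]))))) (.node (.node (.node (.node (.node (.leaf []) (.leaf [9989, 5288,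 0, -29789, 27461, 21400, -8397, 92, -7296, -5225, -188, -7002])) (.leaf [])) (.node (.leaf []) (.leaf [277, 378, 0, -4905, 3742, 1456, 571, -30, -466, -336, 98, -660]))) (.node (.node (.leaf [-127, -52, 0, 99, -197, -186, 194, -2, 61, 52, 8, 54]) (.leaf [15, 10, 0, -152, 85, 64, 29, 0, -28, -10, -1, -16])) (.node (.leaf [-1150, -646, 0, 979, -2482, -1706, 2211, -10, 262, 640, 22, 713]) (.leaf [-465, -412, 0, 4588, -2265, -2107, -1057, 0, 899, 415, 99, 451])))) (.node (.node (.node (.leaf []) (.leaf [-299, -160, 0, 181, -776, -351, 694, 2, 25, 153, -18, 197])) (.node (.leaf [0, 0, 0, -4, 0, 1, 3, 0, -1]) (.leaf [43, -29, 0, 1731, -534, -529, -833, -2, 287, 38, 18, 84]))) (.node (.node (.leaf []) (.leaf [25209, 14539, 0, -29837, 66565, 36745, -50211, 150, -5102, -14479, 705, -17194])) (.node (.leaf [-8, -6, 0, 59, -48, -24, 0, 0, 9, 6, 0, 8]) (.leaf [24197, 12150, 0, -22600, 54979, 34372, -46854, 159, -5865, -12369, 235, -14516])))))) (.node (.node (.node (.node (.node (.node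 (.leaf [1, 0, 0, 4, -1, 0, -3]) (.leaf [1968, 862, 0, 2275, 1659, 1916, -4704, 19, -154, -861, -81, -790])) (.leaf [])) (.node (.leaf []) (.leaf [4958, 2992, 0, 283, 12359, 4985, -13518, 24, 632, -2949, 259, -3298]))) (.node (.node (.leaf []) (.leaf [0, 0, 0, 5, -2, -1, -2, 0, 1])) (.node (.leaf []) (.leaf [10, 6, 0, -44, 36, 26, -7, 1, -6, -7, 0, -9])))) (.node (.node (.node (.leaf []) (.leaf [])) (.node (.leaf []) (.leaf [95, 62, 0, 325, 149, -10, -413, 0, 80, -59, 8, -51]))) (.node (.node (.leaf []) (.leaf [-241, -165, 0, 1552, -1077, -736, -86, 0, 292, 165, 7, 212])) (.node (.leaf [113, 70, 0, -526, 413, 292, -39, 0, -101, -70, -2, -92]) (.leaf [3471, 2405, 0, 22664, 9649, -6252, -24735, -148, 7087, -2143, 1315, -2561]))))) (.node (.node (.node (.node (.node (.leaf []) (.leaf [118, 64, 0, -238, 492, 162, -285, -1, 0, -64, 26, -119])) (.leaf [0, 0, 0, -1, 1])) (.node (.leaf [78, 42, 0, -201, 210, 156, -87, 0, -46, -42, -1, -53]) (.leaf [90, 54, 0, 319, 151, -20, -406,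 0, 82, -52, 10, -49]))) (.node (.node (.leaf [131, 87, 0, 73, 322, 115, -401, 0, 41, -85, 7, -92]) (.leaf [-545, -312, 0, 758, -1483, -835, 1047, -1, 121, 309, -15, 386])) (.node (.leaf [4, 14, 0, -257, 143, 71, 76, 0, -35, -14, 0, -18]) (.leaf [-356, -297, 0, 995, -1519, -618, 731, 8, 17, 294, -14, 314])))) (.node (.node (.node (.leaf []) (.leaf [167, 111, 0, -794, 693, 412, -101, 0, -129, -111, -1, -140])) (.node (.leaf [34, 38, 0, -310, 373, 101, -84, 2, 15, -38, 13, -80]) (.leaf [-790, -488, 0, 481, -2223, -934, 1968, -3, -25, 488, -50, 559]))) (.node (.node (.leaf [-37, -15, 0, 7, -6, -58, 33, 1, 31, 15, 3, 8]) (.leaf [507, 698, 0, 10396, 258, -3163, -7791, -34, 3071, -641, 211, -305])) (.node (.leaf []) (.leaf [1520, 1129, 0, -7534, 6888, 3841, -1102, 4, -1043, -1122, 32, -1463])))))))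

def bigL32 : Janko.Tree (List ℤ) :=
  (.node (.node (.node (.node (.node (.node (.node (.leaf []) (.leaf [-202, -133, 0, 671, -782, -409, 276, 0, 89, 133, -14, 181])) (.leaf [-60, -35, 0, 143, -171, -114, 81, 0, 29, 34, 1, 42])) (.node (.leaf [10, 11, 0, -334, 175, 102, 101, 0, -54, -11, 2, -27]) (.leaf []))) (.node (.node (.leaf []) (.leaf [87, 152, 0, -2364, 1692, 721, 330, 0, -163, -160, 36, -321])) (.node (.leaf []) (.leaf [25344, 14445, 0, -26550, 61119, 37528, -49404, 168, -5465, -14492, 211, -16529])))) (.node (.node (.node (.node (.leaf []) (.leaf [0, 0, 0, 3, 0, 0, -1])) (.leaf [137, 70, 0, 117, 215, 92, -342, -4, -15, -62, 1, -46])) (.node (.leaf [-2211, -1225, 0, 1806, -5475, -2979, 4690, -8, 343, 1207, -81, 1479]) (.leaf [334, 227, 0, -725, 1135, 590, -646, 0, -42, -226, 4, -281]))) (.node (.node (.leaf []) (.leaf [-1082, -705, 0, 2754, -3915, -1889, 1855, 2, 320, 701, -70, 893])) (.node (.leaf []) (.leaf [-789, -420, 0, 444, -1396, -1188, 1494, -2, 179, 417,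 28, 470]))))) (.node (.node (.node (.node (.node (.leaf []) (.leaf [1809, 1031, 0, -1951, 4492, 2638, -3550, 3, -389, -1021, 32, -1192])) (.leaf [-6, -3, 0, -43, 2, 6, 33, -1, -7, 3, 0, 2])) (.node (.leaf []) (.leaf [305, 203, 0, 758, 77, 286, -951, 2, 133, -212, -39, -140]))) (.node (.node (.leaf []) (.leaf [])) (.node (.leaf []) (.leaf [2067, 1328, 0, -9484, 7676, 5315, -842, 17, -1812, -1327, -21, -1747])))) (.node (.node (.node (.leaf []) (.leaf [96, 61, 0, 472, 68, -33, -465, 0, 104, -59, 7, -49])) (.node (.leaf []) (.leaf [310, 171, 0, -1383, 1284, 723, -236, -2, -230, -165, 21, -284]))) (.node (.node (.leaf []) (.leaf [0, 0, 0, 2, 1, -1, -2, 0, 1])) (.node (.leaf [4974, 2493, 0, -73, 8683, 6077, -10829, 59, -775, -2454, 0, -2798]) (.leaf [15988, 7939, 0, -14050, 34818, 22944, -30974, 101, -3679, -8192, -51, -9328])))))) (.node (.node (.node (.node (.node (.node (.leaf []) (.leaf [6, 3, 0, 15, 8, -2, -19, 0, 0, -2])) (.leaf [580, 337, 0, -1094, 1690, 973, -995, 1,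 -179, -334, 14, -424])) (.node (.leaf []) (.leaf [-54, -38, 0, 466, -309, -199, -52, 0, 77, 38, -1, 63]))) (.node (.node (.leaf []) (.leaf [23, 4, 0, 122, -40, 0, -81, 0, 8, -5, 0, -2])) (.node (.leaf [337, 196, 0, -277, 913, 427, -760, 0, -32, -191, 17, -231]) (.leaf [21623, 11777, 0, -25730, 49102, 33972, -38027, 174, -6693, -11745, -186, -13669])))) (.node (.node (.node (.leaf []) (.leaf [1112, 649, 0, -4751, 4189, 2640, -693, 9, -904, -649, 41, -943])) (.node (.leaf []) (.leaf []))) (.node (.node (.leaf []) (.leaf [15, 12, 0, -71, 68, 38, -12, -1, -10, -10, 0, -16])) (.node (.leaf [407, 244, 0, -187, 1064, 480, -1002, 0, 6, -241, 22, -280]) (.leaf [-6471, -3723, 0, 5415, -15755, -8951, 13533, -35, 1028, 3676, -119, 4263]))))) (.node (.node (.node (.node (.node (.leaf []) (.leaf [6, 3, 0, 35, -5, -3, -26, 0, 5, -3, 0, -1])) (.leaf [-280, -175, 0, 1247, -1020, -699, 130, 0, 238, 176, 5, 222])) (.node (.leaf [9, 4, 0, 18, 8, 6, -27, 0, 2, -4, 1, -5]) (.leaf [-5, 21, 0,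 -1992, 696, 606, 886, 0, -373, -24, -12, -94]))) (.node (.node (.leaf [607, 339, 0, 771, 1164, 360, -1893, 0, 154, -325, 28, -320]) (.leaf [-2641, -1431, 0, -2928, -3277, -2388, 6879, 2, -110, 1416, 39, 1210])) (.node (.leaf []) (.leaf [-462, -1855, 0, -633, -13591, 3112, 9539, 114, -4111, 1678, -1024, 2130])))) (.node (.node (.node (.leaf []) (.leaf [644, 468, 0, -3867, 3106, 1822, -131, -1, -596, -468, 9, -625])) (.node (.leaf [-424, -259, 0, 684, -1148, -690, 740, 2, 126, 256, -8, 296]) (.leaf [-6, -1, 0, -88, 28, 19, 48, 0, -14, 1, 1, -4]))) (.node (.node (.leaf []) (.leaf [2520, 2084, 0, 6189, 5558, 637, -10612, -42, 2225, -2021, 128, -1654])) (.node (.leaf [-99, -72, 0, -511, -147, 66, 546, 0, -139, 69, -12, 59]) (.leaf [3276, 1753, 0, -25205, 9314, 13613, 6885, 115, -6388, -1930, -821, -2288])))))))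

def bigL33 : Janko.Tree (List ℤ) :=
  (.node (.node (.node (.node (.node (.node (.node (.leaf []) (.leaf [-339, -216, 0, 1226, -1285, -727, 380, 0, 188, 216, -14, 291])) (.leaf [2, 0, 0, 7, -2, 1, -5, 0, -1])) (.node (.leaf []) (.leaf [-7390, -3609, 0, -924, -10995, -9197, 15697, -77, 1275, 3576, 188, 3844]))) (.node (.node (.leaf []) (.leaf [619, 378, 0, -2680, 2493, 1420, -473, -1, -458, -368, 18, -521])) (.node (.leaf []) (.leaf [25034, 14124, 0, -18603, 58787, 34268, -52649, 142, -3858, -14107, 493, -16183])))) (.node (.node (.node (.node (.leaf []) (.leaf [0, 0, 0, 0, 0, 0, 0, 1, 0, 0, 0, 0])) (.leaf [-214, -135, 0, 1509, -864, -748, -206, -2, 310, 135, 26, 183])) (.node (.leaf []) (.leaf [251, 145, 0, -445, 629, 454, -395, 0, -86, -144, -4, -179]))) (.node (.node (.leaf []) (.leaf [207, 138, 0, -1002, 892, 515, -130, 1, -160, -137, 6, -189])) (.node (.leaf []) (.leaf [-146, -722, 0, 6505, -6460, -1258, -15, 21, -46, 686, -241, 1036]))))) (.node (.node (.node (.node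 (.node (.leaf []) (.leaf [28748, 15876, 0, -29674, 72934, 40288, -57814, 182, -6044, -15775, 917, -18922])) (.leaf [])) (.node (.leaf [116, 89, 0, -808, 613, 353, 18, 0, -126, -89, -1, -112]) (.leaf [-25458, -12907, 0, 25338, -58734, -36598, 48808, -161, 6354, 13120, -258, 15431]))) (.node (.node (.leaf []) (.leaf [0, 1, 0, -154, 55, 43, 69, 0, -31, -1, -1, -4])) (.node (.leaf [5, 3, 0, 33, -1, -6, -24, 0, 3, -2]) (.leaf [34, 22, 0, 76, 53, 20, -125, 0, 22, -21, 2, -25])))) (.node (.node (.node (.leaf []) (.leaf [1, 0, 0, -4, 2, 2, 1, 0, -2])) (.node (.leaf []) (.leaf [3079, 1700, 0, -18681, 11339, 9713, 1749, 45, -4046, -1738, -218, -2517]))) (.node (.node (.leaf []) (.leaf [-64, -43, 0, -465, -66, 94, 423, 0, -119, 42, -12, 32])) (.node (.leaf [1, 0, 0, 5, -3, 0, -2]) (.leaf [22757, 11321, 0, -23144, 51254, 33200, -42566, 142, -6174, -11552, 115, -13552])))))) (.node (.node (.node (.node (.node (.node (.leaf []) (.leaf [0, 0, 0, 2, 0, 0, -1])) (.leaf [])) (.node (.leaf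 []) (.leaf [0, 0, 0, 1, 1, -1, -1, 0, 0, 0, 1]))) (.node (.node (.leaf [-58, -22, 0, -181, -3, -26, 186, 0, -17, 23, -1, 22]) (.leaf [364, 195, 0, -1158, 1000, 817, -272, 0, -271, -195, -12, -255])) (.node (.leaf []) (.leaf [-302, -217, 0, 4218, -2130, -1653, -1096, 1, 774, 221, 21, 401])))) (.node (.node (.node (.leaf []) (.leaf [-1053, -554, 0, -2110, -1447, -555, 3499, 1, -398, 539, -30, 543])) (.node (.leaf []) (.leaf [135, 67, 0, 604, 85, -38, -603, 0, 116, -65, 10, -57]))) (.node (.node (.leaf []) (.leaf [50, 22, 0, 723, -119, -174, -465, 4, 148, -19, -2, 6])) (.node (.leaf [88, 50, 0, -319, 251, 209, -44, 0, -76, -50, -4, -60]) (.leaf [-313, -148, 0, -418, -442, -252, 889, -3, -39, 144, -20, 187]))))) (.node (.node (.node (.node (.node (.leaf []) (.leaf [-169, -122, 0, 988, -880, -448, 95, -1, 129, 122, -10, 176])) (.leaf [0, 0, 0, 3, 0, 0, -2])) (.node (.leaf []) (.leaf [-4601, -2898, 0, 14117, -16156, -9276, 6085, -25, 2119, 2898, -116, 3790]))) (.node (.node (.leaf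 [-1, 0, 0, -17, 2, 4, 12, 0, -4]) (.leaf [5, -1, 0, 110, -22, -35, -62, 0, 19, 1, 3, 4])) (.node (.leaf [346, 204, 0, 662, 616, 169, -1220, 2, 168, -198, 17, -206]) (.leaf [-2, -1, 0, -3, -1, -2, 5, 0, 0, 1, 0, 1])))) (.node (.node (.node (.leaf []) (.leaf [13, 4, 0, 86, -14, -9, -63, 0, 13, -4, 1, -3])) (.node (.leaf [-2382, -1384, 0, 2172, -6224, -3229, 5153, -1, 284, 1366, -78, 1618]) (.leaf [2, 5, 0, -141, 61, 45, 55, 0, -26, -5, 1, -11]))) (.node (.node (.leaf []) (.leaf [])) (.node (.leaf [2, 0, 0, -4, 5, 3, -3, 0, -1, 0, 0, -1]) (.leaf [-435, -250, 0, 1003, -1300, -821, 661, -1, 161, 252, -12, 347])))))))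

def bigL34 : Janko.Tree (List ℤ) :=
  (.node (.node (.node (.node (.node (.node (.node (.leaf []) (.leaf [-170, -165, 0, 5019, -2200, -1727, -1752, -4, 928, 174, 16, 368])) (.leaf [-400, -240, 0, 174, -1033, -472, 983, 0, -5, 237, -21, 274])) (.node (.leaf []) (.leaf [-680, -410, 0, 1243, -1817, -1195, 1096, -1, 232, 407, 4, 482]))) (.node (.node (.leaf []) (.leaf [34, 20, 0, -38, 79, 55, -63, -1, -8, -18, 0, -25])) (.node (.leaf []) (.leaf [])))) (.node (.node (.node (.node (.leaf []) (.leaf [0, 0, 0, 2, 1, 0, -1])) (.leaf [])) (.node (.leaf [-321, -178, 0, 1460, -1246, -783, 164, -6, 281, 178, -10, 275]) (.leaf [230, 135, 0, 133, 437, 240, -637, 0, 44, -134, 2, -146]))) (.node (.node (.leaf []) (.leaf [-12, -5, 0, -27, -2, -10, 33, 0, -2, 6, 0, 5])) (.node (.leaf []) (.leaf [746, 540, 0, -868, 2541, 995, -1904, -5, 93, -538, 60, -629]))))) (.node (.node (.node (.node (.node (.leaf []) (.leaf [7, -10, 0, 1253, -512, -345, -513, 1, 212, 14, -1, 61])) (.leaf [])) (.node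 (.leaf [-163, -215, 0, 4040, -2086, -1438, -1110, -3, 581, 218, 23, 394]) (.leaf [14272, 8855, 0, -17998, 44634, 19495, -32502, -25, -672, -8756, 859, -10811]))) (.node (.node (.leaf [-33, -43, 0, 156, -211, -72, 78, 0, -12, 43, 2, 39]) (.leaf [456, 319, 0, -2169, 1768, 1159, -188, -4, -391, -316, -18, -355])) (.node (.leaf []) (.leaf [-20, -12, 0, 7, -81, -7, 67, 0, -6, 12, -3, 11])))) (.node (.node (.node (.leaf []) (.leaf [])) (.node (.leaf [5693, 3036, 0, -4503, 12808, 7955, -11317, 57, -1285, -3006, 85, -3593]) (.leaf [1508, 983, 0, -28416, 12757, 10465, 9020, 55, -5489, -1141, -162, -2090]))) (.node (.node (.leaf []) (.leaf [-262, -131, 0, 749, -866, -504, 331, -6, 146, 131, -18, 215])) (.node (.leaf [11970, 7019, 0, -21030, 33808, 19642, -20623, 78, -3825, -6986, 278, -8492]) (.leaf [455, 289, 0, -1420, 1941, 824, -813, 2, -111, -298, 53, -426])))))) (.node (.node (.node (.node (.node (.node (.leaf []) (.leaf [9, -2, 0, 256, -106, -59, -113, 0, 38, 2, -1, 12])) (.leaf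 [])) (.node (.leaf []) (.leaf [-1, 3, 0, -23, 26, 1, 0, 0, 2, -3, 2, -4]))) (.node (.node (.leaf [0, 1]) (.leaf [-171, 196, 0, -659, 2837, -811, -1182, -35, 796, -163, 263, -384])) (.node (.leaf []) (.leaf [-379, -230, 0, 1118, -1305, -737, 507, 3, 178, 228, -14, 300])))) (.node (.node (.node (.leaf []) (.leaf [48, 95, 0, -10387, 4223, 3111, 4214, 21, -1894, -122, 40, -660])) (.node (.leaf [305, 170, 0, -817, 912, 595, -369, 4, -170, -170, 1, -220]) (.leaf [1, 0, 0, 3, -1, 0, -2]))) (.node (.node (.leaf [2, 0, 0, -6, 3, 4, 1, 0, -4]) (.leaf [-125, -133, 0, 5268, -2062, -1809, -2026, 1, 981, 141, 38, 344])) (.node (.leaf [67, 48, 0, -813, 405, 322, 212, 0, -164, -48, -10, -64]) (.leaf [-232, -134, 0, 613, -583, -497, 211, 0, 158, 126, 8, 170]))))) (.node (.node (.node (.node (.node (.leaf []) (.leaf [5, 3, 0, 31, -6, 0, -22, 0, 4, -3, 0, -2])) (.leaf [0, 0, 0, -3, 1, 1, 2, 1, -1, 0, -1])) (.node (.leaf []) (.leaf []))) (.node (.node (.leaf []) (.leaf [])) (.node (.leaf [380,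 200, 0, 279, 669, 349, -1026, 2, 34, -197, 10, -214]) (.leaf [50, 47, 0, 276, 70, -35, -284, -2, 77, -43, 5, -31])))) (.node (.node (.node (.leaf []) (.leaf [1, 2, 0, -67, 31, 20, 22, 0, -10, -2, -1, -3])) (.node (.leaf [0, 0, 0, 4, -1, -1, -2, 0, 1]) (.leaf [-11, -4, 0, -114, 29, 22, 70, 0, -19, 4, 1, -3]))) (.node (.node (.leaf []) (.leaf [-7855, -4682, 0, 1732, -19225, -8927, 19750, -35, -271, 4619, -314, 5217])) (.node (.leaf [5, 1, 0, 38, -9, -2, -26, 0, 6, -1, 0, -2]) (.leaf [-3233, -1794, 0, 20, -6693, -3735, 7832, -23, 45, 1782, -54, 1979])))))))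

def bigL35 : Janko.Tree (List ℤ) :=
  (.node (.node (.node (.node (.node (.node (.node (.leaf []) (.leaf [-235, -144, 0, 240, -787, -284, 612, 1, -26, 144, -23, 188])) (.leaf [0, 0, 0, -1, -1, 1, 1])) (.node (.leaf []) (.leaf [73, 77, 0, -2034, 1021, 673, 603, -1, -320, -83, -3, -162]))) (.node (.node (.leaf []) (.leaf [-7577, -3867, 0, 5185, -17518, -9845, 15936, -44, 1366, 3894, -248, 4637])) (.node (.leaf [-842, -440, 0, -1472, -1033, -551, 2556, 2, -200, 428, -9, 404]) (.leaf [5834, 2733, 0, 9412, 5737, 4595, -16339, 49, 719, -2657, -111, -2678])))) (.node (.node (.node (.node (.leaf []) (.leaf [0, 0, 0, 0, 0, 0, 0, 0, 1, 0, 0, 0])) (.leaf [])) (.node (.leaf []) (.leaf [92, 49, 0, 318, 125, 1, -398, 0, 79, -49, 10, -55]))) (.node (.node (.leaf [0, 0, 0, 7, -4, 0, -2]) (.leaf [72, 49, 0, -152, 287, 110, -166, 0, 0, -48, 7, -66])) (.node (.leaf [0, 0, 0, -13, 5, 2, 6, 0, -2]) (.leaf [-42, -21, 0, -66, -157, 8, 184, -5, -28, 23, -9, 28]))))) (.node (.node (.node (.node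 (.node (.leaf []) (.leaf [3770, 1966, 0, -4827, 8197, 6184, -6221, 44, -1343, -2009, -52, -2344])) (.leaf [])) (.node (.leaf [-7, -17, 0, -82, -187, 51, 199, -2, -95, 17, -16, 49]) (.leaf [-9014, -4871, 0, 28257, -27963, -18841, 8543, -75, 6209, 4776, -149, 6795]))) (.node (.node (.leaf []) (.leaf [-14, -7, 0, -52, -15, -1, 61, 0, -13, 7, -2, 10])) (.node (.leaf []) (.leaf [1651, 1004, 0, -4889, 5162, 3458, -1909, 9, -881, -998, -19, -1282])))) (.node (.node (.node (.leaf []) (.leaf [])) (.node (.leaf []) (.leaf [65, -16, 0, 1388, -377, -398, -729, -2, 217, 24, 15, 59]))) (.node (.node (.leaf []) (.leaf [0, 0, 0, 3, 0, -1, -2, 0, 1])) (.node (.leaf [609, 327, 0, 29, 1390, 635, -1562, 0, 20, -321, 40, -397]) (.leaf [15, 6, 0, 43, 2, 10, -48, 0, 5, -6, 0, -7])))))) (.node (.node (.node (.node (.node (.node (.leaf [0, 0, 0, -1, 1]) (.leaf [87, 59, 0, -673, 470, 285, 58, 1, -120, -57, 1, -88])) (.leaf [])) (.node (.leaf []) (.leaf []))) (.node (.node (.leaf [0, 1, 0, 1, 1, -1,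 -1]) (.leaf [27, 23, 0, -235, 198, 88, -4, 1, -23, -25, 3, -35])) (.node (.leaf []) (.leaf [-928, -584, 0, 5813, -4022, -2854, -255, -15, 1076, 603, 21, 852])))) (.node (.node (.node (.leaf []) (.leaf [])) (.node (.leaf [90, 13, 0, 1460, -427, -316, -788, 2, 232, -11, 13, 16]) (.leaf [138, 72, 0, 547, 116, -18, -587, 0, 106, -69, 10, -63]))) (.node (.node (.leaf [16, 1, 0, 218, -84, -36, -110, 0, 30, -2, 0, 4]) (.leaf [70, 20, 0, 2154, -560, -594, -1156, 1, 424, -17, 17, 54])) (.node (.leaf [-291, -143, 0, -455, -431, -195, 889, -2, -66, 140, -17, 164]) (.leaf [1872, 1000, 0, -238, 4267, 2064, -4554, 13, -72, -980, 99, -1194]))))) (.node (.node (.node (.node (.node (.leaf []) (.leaf [81, 49, 0, -21, 232, 86, -227, -1, 17, -48, 7, -62])) (.leaf [])) (.node (.leaf [402, 264, 0, -1839, 1660, 972, -281, 0, -295, -264, 9, -352]) (.leaf [-2103, -1412, 0, 10092, -8385, -5529, 1061, -9, 1655, 1433, 10, 1904]))) (.node (.node (.leaf []) (.leaf [-585, -639, 0, -956, -3237, 179, 3365,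 14, -950, 598, -192, 714])) (.node (.leaf [-84, -43, 0, -684, 30, 126, 525, 0, -137, 40, -10, 25]) (.leaf [0, 1, 0, 0, 2, -1, -1])))) (.node (.node (.node (.leaf []) (.leaf [-4, -3, 0, 30, -21, -12, -3, 0, 6, 2, 0, 4])) (.node (.leaf [-1638, -1087, 0, 5843, -6013, -3599, 1806, 0, 882, 1077, -19, 1402]) (.leaf [243, 135, 0, 15, 737, 222, -752, 6, 73, -136, 35, -208]))) (.node (.node (.leaf []) (.leaf [])) (.node (.leaf [12, 13, 0, -850, 274, 282, 386, -2, -182, -13, -4, -41]) (.leaf [210, 92, 0, -1092, 707, 549, 89, 6, -302, -89, -6, -128])))))))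

def bigL36 : Janko.Tree (List ℤ) :=
  (.node (.node (.node (.node (.node (.node (.node (.leaf []) (.leaf [1213, 673, 0, -1289, 3022, 1749, -2394, 5, -264, -664, 26, -802])) (.leaf [1, 0, 0, 7, -2, 0, -4])) (.node (.leaf []) (.leaf []))) (.node (.node (.leaf []) (.leaf [15, 5, 0, 77, -7, -3, -64, 0, 11, -5, 1, -5])) (.node (.leaf []) (.leaf [-19067, -12417, 0, 31573, -66477, -27536, 43971, 91, -151, 12647, -1126, 15051])))) (.node (.node (.node (.node (.leaf []) (.leaf [0, 0, 0, 2, -2, 0, 0, 0, 1])) (.leaf [46, 47, 0, -1989, 681, 712, 828, -1, -397, -50, -24, -116])) (.node (.leaf [0, 0, 0, -4, 0, 1, 3, 0, -1]) (.leaf [1868, 907, 0, 2871, 2965, 1106, -5666, 21, 324, -850, 139, -1040]))) (.node (.node (.leaf []) (.leaf [191, 134, 0, -1327, 996, 586, 39, 0, -216, -133, 6, -195])) (.node (.leaf []) (.leaf [-488, -273, 0, 5901, -2864, -2392, -1567, -12, 1215, 292, 41, 516]))))) (.node (.node (.node (.node (.node (.leaf []) (.leaf [3823, 2082, 0, -34674, 15752, 16461, 8554, 61,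 -7696, -2188, -572, -3457])) (.leaf [])) (.node (.leaf []) (.leaf [-39, -7, 0, 270, -78, -138, -112, 5, 106, 3, -9, 28]))) (.node (.node (.leaf []) (.leaf [3071, 1752, 0, 3990, 4975, 2280, -9214, 2, 734, -1728, 50, -1621])) (.node (.leaf []) (.leaf [-189, -103, 0, -1409, 157, 176, 1052, 0, -261, 100, -6, 57])))) (.node (.node (.node (.leaf []) (.leaf [336, 209, 0, -405, 963, 480, -712, -1, -44, -203, 15, -248])) (.node (.leaf []) (.leaf [325, 181, 0, -299, 762, 482, -658, 0, -52, -181, 4, -221]))) (.node (.node (.leaf [-19, -7, 0, -51, -12, -9, 64, 0, -7, 7, -1, 9]) (.leaf [-1, 0, 0, 0, -1, 1, 1])) (.node (.leaf []) (.leaf [921, 569, 0, -3570, 3433, 2073, -829, 3, -610, -572, 25, -769])))))) (.node (.node (.node (.node (.node (.node (.leaf []) (.leaf [-2136, -1241, 0, -11748, -2946, 2005, 11990, 38, -2938, 1174, -396, 1104])) (.leaf [333, 203, 0, -1011, 1086, 689, -389, 0, -180, -199, 4, -266])) (.node (.leaf [-32, -14, 0, 55, -84, -49, 51, 0, 14, 14, -1, 19]) (.leaf [-15,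 -4, 0, -77, 6, 3, 65, -1, -12, 5, 0, 5]))) (.node (.node (.leaf []) (.leaf [-3094, -1391, 0, 13528, -7392, -8737, -833, -27, 3742, 1411, 324, 2022])) (.node (.leaf []) (.leaf [21, 12, 0, -21, 85, 21, -67, 0, 9, -12, 2, -18])))) (.node (.node (.node (.leaf []) (.leaf [13964, 7710, 0, -26006, 37378, 23925, -21769, 95, -5591, -7706, 164, -9561])) (.node (.leaf []) (.leaf []))) (.node (.node (.leaf []) (.leaf [1104, 705, 0, 677, 2425, 1074, -3295, 13, 327, -702, 17, -750])) (.node (.leaf [179, 113, 0, -686, 648, 400, -157, 0, -119, -113, -3, -136]) (.leaf [139, 72, 0, -1216, 716, 578, 162, -1, -192, -76, 5, -193]))))) (.node (.node (.node (.node (.node (.leaf []) (.leaf [1216, 773, 0, -6007, 4859, 3209, -479, 17, -1050, -790, -10, -1064])) (.leaf [-178, -126, 0, 1535, -947, -668, -224, 0, 282, 125, 2, 191])) (.node (.leaf []) (.leaf [128, 56, 0, 1311, -124, -283, -931, 0, 264, -53, 19, -24]))) (.node (.node (.leaf [0, 0, 0, 1, -1, 0, 0, -1, 0, 0, 1]) (.leaf [1138, 271, 0, 1967,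 180, 985, -2667, 19, -168, -276, -56, -345])) (.node (.leaf []) (.leaf [-226, -157, 0, 1536, -1175, -690, -20, -2, 240, 158, -8, 239])))) (.node (.node (.node (.leaf []) (.leaf [471, 268, 0, 78, 1047, 491, -1229, 2, 30, -262, 25, -310])) (.node (.leaf [0, 0, 0, 9, -2, -2, -5, 0, 2]) (.leaf [281, 152, 0, -1263, 1085, 681, -149, 6, -245, -153, 11, -242]))) (.node (.node (.leaf []) (.leaf [-9272, -5739, 0, 7648, -25362, -12166, 21350, -40, 438, 5670, -358, 6564])) (.node (.leaf []) (.leaf [-345, -318, 0, -1430, -1553, 415, 2334, 27, -701, 291, -134, 344])))))))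

def bigL37 : Janko.Tree (List ℤ) :=
  (.node (.node (.node (.node (.node (.node (.node (.leaf []) (.leaf [173, 104, 0, 21, 364, 179, -431, 1, -1, -98, -5, -92])) (.leaf [-18, -8, 0, -48, -21, -1, 68, 0, -10, 7, 3, 2])) (.node (.leaf []) (.leaf [-601, -325, 0, 716, -1570, -900, 1196, -4, 117, 324, -24, 435]))) (.node (.node (.leaf []) (.leaf [])) (.node (.leaf [-409, -296, 0, 150, -1238, -421, 1122, 3, -60, 285, -30, 298]) (.leaf [-5141, -2553, 0, 8607, -11983, -8738, 7353, -43, 2526, 2513, -5, 3238])))) (.node (.node (.node (.node (.leaf []) (.leaf [0, 0, 0, 2, -2, 0, 0, 0, 1])) (.leaf [-1, 0, 0, 11, -7, -2, -2, 0, 2])) (.node (.leaf []) (.leaf [160, 122, 0, -1101, 854, 483, 16, 0, -172, -119, 4, -166]))) (.node (.node (.leaf []) (.leaf [])) (.node (.leaf [0, 0, 0, 7, -4, -2, -2, 0, 2]) (.leaf [38, 16, 0, 36, 29, 40, -81, 0, -9, -15, -1, -15]))))) (.node (.node (.node (.node (.node (.leaf []) (.leaf [4835, 2980, 0, -16675, 18918, 9801, -6265, -24, -2345, -2889, 340, -4338]))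 (.leaf [-29, -14, 0, 23, -57, -43, 54, 0, 7, 14, 0, 18])) (.node (.leaf []) (.leaf [-7, -3, 0, -48, 6, 6, 35, 0, -7, 3, 0, 1]))) (.node (.node (.leaf []) (.leaf [4812, 2897, 0, -3677, 12085, 6425, -10579, 8, -480, -2874, 100, -3169])) (.node (.leaf []) (.leaf [-134, -68, 0, -997, -13, 180, 818, 0, -211, 65, -17, 46])))) (.node (.node (.node (.leaf []) (.leaf [-197, -148, 0, 1554, -1140, -662, -85, -2, 235, 148, -7, 227])) (.node (.leaf [427, 220, 0, -7181, 2486, 2940, 2719, 0, -1646, -223, -119, -464]) (.leaf [-256, -143, 0, 182, -697, -303, 594, 2, 21, 136, -17, 174]))) (.node (.node (.leaf []) (.leaf [0, 0, 0, 2, 0, 0, -1])) (.node (.leaf []) (.leaf [-3, -1, 0, -21, 4, 3, 14, 0, -2, 1])))))) (.node (.node (.node (.node (.node (.node (.leaf [0, 0, 0, 1, 1, 0, -1]) (.leaf [-4805, -2519, 0, -10033, -5721, -2528, 15608, -30, -1585, 2501, -51, 2205])) (.leaf [-15, -6, 0, 3, -34, -17, 36, 0, 1, 7, -1, 9])) (.node (.leaf [0, -1, 0, -1, -1, 0, 1, 0, 0, 1]) (.leaf [184, 93, 0,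 291, 156, 156, -489, 0, 9, -90, -3, -82]))) (.node (.node (.leaf [-413, 19, 0, 631, 1390, -1220, -943, -43, 1006, 20, 215, -209]) (.leaf [-30252, -16406, 0, 53270, -75968, -52142, 45855, -229, 12834, 16272, -24, 20234])) (.node (.leaf [-2170, -1267, 0, 4521, -6353, -3811, 3436, -6, 805, 1252, -45, 1602]) (.leaf [0, 0, 0, 0, -1, 1])))) (.node (.node (.node (.leaf []) (.leaf [])) (.node (.leaf []) (.leaf []))) (.node (.node (.leaf [0, 0, 0, -10, -2, 4, 9, 0, -4]) (.leaf [248, 499, 0, -2000, 5408, -397, -2263, -54, 770, -385, 378, -843])) (.node (.leaf [-1, 0, 0, -12, 3, 2, 8, 0, -2]) (.leaf [-216, -132, 0, 838, -783, -494, 180, -2, 150, 131, -1, 178]))))) (.node (.node (.node (.node (.node (.leaf []) (.leaf [2954, 1486, 0, -5643, 6222, 5640, -3517, 29, -1655, -1513, -143, -1781])) (.leaf [-4201, -2526, 0, -4457, -8280, -3198, 12908, -14, -1192, 2490, -151, 2496])) (.node (.leaf []) (.leaf [-5, -3, 0, -50, 12, 6, 32, 0, -8, 3, 1]))) (.node (.node (.leaf []) (.leaf [-1751, -1175,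 0, -3554, -4957, -224, 7373, 20, -1372, 1106, -340, 1381])) (.node (.leaf []) (.leaf [0, -1, 0, -6, 3, 1, 2, 0, -1, 1])))) (.node (.node (.node (.leaf []) (.leaf [306, 152, 0, -687, 694, 603, -308, 0, -205, -152, 0, -199])) (.node (.leaf []) (.leaf [523, 310, 0, -1482, 1831, 992, -754, 6, -228, -310, 28, -433]))) (.node (.node (.leaf []) (.leaf [840, 522, 0, -2736, 2556, 1905, -776, 6, -522, -521, -35, -649])) (.node (.leaf []) (.leaf [1174, 852, 0, -11170, 6847, 4674, 1724, 4, -1929, -861, -35, -1312])))))))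

def bigL38 : Janko.Tree (List ℤ) :=
  (.node (.node (.node (.node (.node (.node (.node (.leaf []) (.leaf [6417, 3330, 0, -4983, 13567, 9139, -12248, 60, -1705, -3288, 24, -3906])) (.leaf [-4, -1, 0, 59, -24, -25, -17, 0, 10, 1, 1, 6])) (.node (.leaf [0, 0, 0, -1, 1]) (.leaf [89, 67, 0, -664, 499, 258, 43, -3, -121, -61, 2, -76]))) (.node (.node (.leaf []) (.leaf [5405, 3358, 0, -6090, 17163, 7119, -12959, 0, 47, -3319, 427, -4282])) (.node (.leaf []) (.leaf [6427, 2881, 0, 10812, 4702, 5326, -17243, 72, 405, -2849, -214, -2700])))) (.node (.node (.node (.node (.leaf []) (.leaf [0, 0, 0, 0, 0, 0, 0, 0, 0, 1, 0, 0])) (.leaf [-6, -3, 0, -17, -8, 3, 21, 0, -1, 2])) (.node (.leaf []) (.leaf [128, 109, 0, -1558, 840, 614, 364, 0, -289, -106, -16, -143]))) (.node (.node (.leaf []) (.leaf [300, 140, 0, -535, 516, 574, -273, 5, -229, -138, -11, -166])) (.node (.leaf []) (.leaf [269, 121, 0, 572, 302, 146, -852, 3, 67, -116, 18, -146]))))) (.node (.node (.node (.node (.node (.leaf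 []) (.leaf [1323, 478, 0, -13066, 2837, 6987, 5237, 57, -3673, -553, -500, -880])) (.leaf [19, 12, 0, -3, 40, 23, -44, 0, -1, -11, 0, -12])) (.node (.leaf [1, 0, 0, 14, -4, -2, -8, 0, 2]) (.leaf [46, 17, 0, 134, 23, 21, -157, 0, 19, -18, 3, -23]))) (.node (.node (.leaf [0, 0, 0, 3, 0, -1, -2, 0, 1]) (.leaf [3621, 2107, 0, 2001, 6980, 3484, -9781, 2, 409, -2083, 61, -2077])) (.node (.leaf []) (.leaf [33, 25, 0, -56, 126, 46, -78, 0, 0, -25, 4, -29])))) (.node (.node (.node (.leaf []) (.leaf [-9, -13, 0, 278, -149, -88, -78, 0, 40, 13, 1, 23])) (.node (.leaf [0, 0, 0, -1, 0, 0, 1]) (.leaf [-111, -109, 0, 1656, -922, -610, -392, -2, 279, 110, 7, 156]))) (.node (.node (.leaf []) (.leaf [0, 0, 0, 6, -1, -1, -3, 0, 1])) (.node (.leaf [650, 357, 0, -1704, 1985, 1228, -821, 7, -357, -353, 15, -475]) (.leaf [21, 13, 0, -216, 115, 91, 47, 0, -44, -13, -1, -21])))))) (.node (.node (.node (.node (.node (.node (.leaf []) (.leaf [4773, 2821, 0, 599, 11475, 4748, -12936, 26, 541, -2784,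 240, -3099])) (.leaf [-3, -4, 0, 113, -48, -38, -40, 1, 19, 5, 0, 7])) (.node (.leaf []) (.leaf [279, 161, 0, -857, 822, 593, -251, -1, -193, -161, 3, -203]))) (.node (.node (.leaf []) (.leaf [-3131, -1777, 0, 19375, -11741, -10029, -1869, -46, 4121, 1821, 222, 2624])) (.node (.leaf []) (.leaf [0, 0, 0, 2, 0, 0, -1])))) (.node (.node (.node (.leaf []) (.leaf [643, 342, 0, -1259, 1837, 1089, -1021, 8, -260, -339, 26, -470])) (.node (.leaf []) (.leaf []))) (.node (.node (.leaf []) (.leaf [5035, 3722, 0, -18011, 24705, 9098, -9302, -56, -1052, -3539, 633, -5163])) (.node (.leaf []) (.leaf [404, 259, 0, -146, 1001, 479, -976, 3, -5, -256, 12, -264]))))) (.node (.node (.node (.node (.node (.leaf []) (.leaf [7992, 4546, 0, -18547, 25533, 13761, -12549, 40, -3196, -4533, 362, -5905])) (.leaf [])) (.node (.leaf [0, 6, 0, -277, 107, 82, 117, 0, -50, -6, -2, -13]) (.leaf [2, 0, 0, 42, -15, -10, -20, 0, 6, 0, 0, 2]))) (.node (.node (.leaf []) (.leaf [7, 7, 0, -29, 85, -9, -39, 0, 8,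 -7, 5, -7])) (.node (.leaf [-236, -140, 0, 237, -661, -322, 522, -2, 24, 136, -11, 174]) (.leaf [-50, -43, 0, 268, -369, -109, 125, -2, -14, 43, -12, 83])))) (.node (.node (.node (.leaf []) (.leaf [390, 208, 0, -28, 822, 449, -931, 2, -16, -205, 12, -242])) (.node (.leaf [-294, -179, 0, -126, -575, -319, 789, -1, -43, 178, -1, 186]) (.leaf [5545, 2931, 0, -10967, 13896, 9983, -7652, 55, -2683, -2943, -87, -3584]))) (.node (.node (.leaf []) (.leaf [0, 1, 0, 1, 1, -1, -1])) (.node (.leaf []) (.leaf [-420, -267, 0, 94, -1058, -468, 1069, -3, -21, 263, -14, 276])))))))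

def bigL39 : Janko.Tree (List ℤ) :=
  (.node (.node (.node (.node (.node (.node (.node (.leaf []) (.leaf [13, 6, 0, -21, 33, 22, -21, 0, -6, -6, 1, -9])) (.leaf [])) (.node (.leaf [-3, 0, 0, -15, 1, 2, 12, 0, -1]) (.leaf [97, 53, 0, -375, 332, 227, -71, 0, -72, -53, 1, -79]))) (.node (.node (.leaf []) (.leaf [])) (.node (.leaf []) (.leaf [-2548, -1623, 0, 17627, -12463, -8049, -905, -15, 3029, 1652, -26, 2528])))) (.node (.node (.node (.node (.leaf []) (.leaf [0, 0, 0, 0, 0, 0, 0, 0, 0, 0, 1, 0])) (.leaf [-5, -6, 0, -89, 8, 23, 64, 0, -26, 6, 1])) (.node (.leaf []) (.leaf [171, 123, 0, -1017, 812, 478, -24, 0, -168, -120, 3, -164]))) (.node (.node (.leaf []) (.leaf [5533, 3380, 0, -1677, 14343, 6234, -14116, 25, 297, -3330, 251, -3755])) (.node (.leaf [0, -2, 0, -2, -2, 0, 2, 0, 0, 2]) (.leaf [-333, -213, 0, 1171, -1228, -698, 361, -2, 198, 210, -9, 271]))))) (.node (.node (.node (.node (.node (.leaf []) (.leaf [3483, 2113, 0, -31669, 12184, 15977, 9043, 113, -7425, -2296,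 -886, -2842])) (.leaf [130, 73, 0, -32, 332, 147, -339, 0, 12, -72, 8, -92])) (.node (.leaf []) (.leaf [-7132, -3739, 0, -968, -12667, -8256, 16594, -59, 492, 3721, 67, 3897]))) (.node (.node (.leaf [-53, -33, 0, 79, -150, -82, 101, 0, 12, 32, -1, 38]) (.leaf [-875, -505, 0, 1469, -2664, -1371, 1677, -8, 204, 502, -55, 683])) (.node (.leaf []) (.leaf [-7, -4, 0, -30, -16, 6, 38, 0, -10, 4, -1, 4])))) (.node (.node (.node (.leaf [-258, -138, 0, 1139, -994, -615, 147, -6, 222, 139, -11, 221]) (.leaf [13, -56, 0, 970, -429, -299, -366, -3, 116, 59, 10, 76])) (.node (.leaf []) (.leaf []))) (.node (.node (.leaf [-25, -21, 0, 216, -135, -96, -27, 0, 35, 21, 2, 27]) (.leaf [17, 6, 0, 85, -12, 0, -69, 0, 11, -6, 0, -5])) (.node (.leaf []) (.leaf [43, 24, 0, -22, 85, 64, -90, 0, -5, -24, 0, -29])))))) (.node (.node (.node (.node (.node (.node (.leaf []) (.leaf [-260, -142, 0, 141, -634, -328, 590, -4, 25, 142, -15, 180])) (.leaf [])) (.node (.leaf []) (.leaf [-25446, -14599, 0, 31878,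 -63648, -39168, 47594, -172, 6331, 14655, -215, 16915]))) (.node (.node (.leaf []) (.leaf [34, 25, 0, -415, 245, 109, 122, 5, -118, -22, -5])) (.node (.leaf []) (.leaf [-168, -124, 0, 1075, -867, -489, 24, -1, 161, 124, -6, 175])))) (.node (.node (.node (.leaf []) (.leaf [])) (.node (.leaf [539, 375, 0, -3723, 2532, 1732, 271, -1, -677, -375, -10, -511]) (.leaf []))) (.node (.node (.leaf []) (.leaf [-12068, -5164, 0, 1442, -19375, -15262, 24408, -95, 2889, 5089, 25, 6404])) (.node (.leaf [-1, 0, 0, -13, 5, 2, 7, 0, -2]) (.leaf [-94, -62, 0, 625, -464, -280, -23, -1, 113, 60, -1, 90]))))) (.node (.node (.node (.node (.node (.leaf []) (.leaf [9042, 4871, 0, -17769, 23259, 16185, -13031, 95, -4050, -4945, -67, -5998])) (.leaf [-31, -23, 0, 25, -109, -36, 87, 0, -6, 23, -4, 27])) (.node (.leaf []) (.leaf [6, 4, 0, -17, 33, 6, -17, 0, 3, -4, 1, -6]))) (.node (.node (.leaf []) (.leaf [3, 8, 0, -358, 163, 100, 133, 0, -61, -8, 0, -19])) (.node (.leaf []) (.leaf [3241, 1704, 0,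 10760, 2890, 281, -12502, -7, 1899, -1662, 117, -1318])))) (.node (.node (.node (.leaf []) (.leaf [-64, -48, 0, -164, -192, 3, 306, 0, -71, 48, -12, 52])) (.node (.leaf [-131, -88, 0, -801, -5, 72, 699, -1, -181, 88, 1, 55]) (.leaf []))) (.node (.node (.leaf []) (.leaf [-812, -498, 0, 524, -2261, -987, 1990, -3, -13, 499, -52, 581])) (.node (.leaf [-3210, -1496, 0, -6006, -2545, -2351, 9100, -39, -405, 1460, 79, 1372]) (.leaf [13, 40, 0, -787, 463, 228, 201, 3, -86, -42, 0, -72])))))))

def bigL40 : Janko.Tree (List ℤ) :=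
  (.node (.node (.node (.node (.node (.node (.node (.leaf []) (.leaf [1591, 881, 0, -410, 3650, 1870, -3803, 4, -51, -863, 47, -1013])) (.leaf [2, 0, 0, 10, -5, 1, -5, 0, -1])) (.node (.leaf [0, 0, 0, 1, 1, 0, -1]) (.leaf [441, 274, 0, -1550, 1620, 929, -481, 0, -258, -268, 14, -365]))) (.node (.node (.leaf []) (.leaf [-24106, -13593, 0, 61616, -72054, -45906, 31278, -159, 12313, 13584, -279, 17467])) (.node (.leaf []) (.leaf [-1750, -1498, 0, 10106, -12267, -3603, 2980, 56, 431, 1387, -411, 2285])))) (.node (.node (.node (.node (.leaf []) (.leaf [0, 0, 0, 0, -1, 1, 1])) (.leaf [-7162, -3745, 0, -1706, -12417, -8090, 16965, -59, 360, 3727, 65, 3883])) (.node (.leaf [-7, 7, 0, -477, 148, 137, 231, 0, -91, -8, -8, -10]) (.leaf [68, 63, 0, -1845, 794, 634, 653, 0, -355, -63, -13, -120]))) (.node (.node (.leaf []) (.leaf [-2, 8, 0, -147, 78, 38, 48, 0, -15, -7, -1, -11])) (.node (.leaf []) (.leaf []))))) (.node (.node (.node (.node (.node (.leaf []) (.leaf [2050, 1021, 0, -8790,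 4858, 5847, 403, 40, -2361, -1063, -251, -1363])) (.leaf [-372, -228, 0, 1449, -1457, -823, 368, -6, 236, 229, -19, 330])) (.node (.leaf []) (.leaf [-5, -3, 0, -37, 9, 3, 24, 0, -5, 3, 0, 1]))) (.node (.node (.leaf [0, 0, 0, 9, -2, -2, -5, 0, 2]) (.leaf [-1028, -615, 0, 1335, -3108, -1471, 2230, -8, 112, 611, -68, 800])) (.node (.leaf [0, 1, 0, 3, 0, -2, -2, 0, 1]) (.leaf [162, 114, 0, -904, 759, 438, -63, 0, -139, -114, 5, -157])))) (.node (.node (.node (.leaf []) (.leaf [48, 28, 0, 680, -88, -170, -444, 0, 140, -25, 9, -3])) (.node (.leaf []) (.leaf [169, 99, 0, 64, 401, 151, -485, -2, 33, -93, 8, -110]))) (.node (.node (.leaf []) (.leaf [0, 0, 0, 7, -1, -1, -4, 0, 1])) (.node (.leaf [12, 5, 0, -11, 18, 19, -17, 0, -6, -5, 0, -6]) (.leaf [-622, -350, 0, -660, -1149, -518, 1871, -2, -163, 342, -26, 395])))))) (.node (.node (.node (.node (.node (.node (.leaf [0, 0, 0, 6, 1, -2, -5, 0, 2]) (.leaf [5861, 3462, 0, 394, 13787, 6115, -15509, 26, 532, -3407, 236, -3799])) (.leaf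 [-214, -140, 0, -773, -197, -28, 887, -1, -170, 140, -4, 107])) (.node (.leaf [-149, -95, 0, 652, -586, -356, 103, 0, 112, 95, -4, 128]) (.leaf []))) (.node (.node (.leaf []) (.leaf [-2271, -1232, 0, 940, -5303, -2783, 5230, -6, 173, 1214, -98, 1488])) (.node (.leaf []) (.leaf [0, 3, 0, 1, 2, -2, 0, -1, 0, -1])))) (.node (.node (.node (.leaf []) (.leaf [1017, 619, 0, -4411, 3887, 2458, -688, -2, -759, -610, 4, -866])) (.node (.leaf [1112, 719, 0, -5143, 4293, 2799, -551, 0, -920, -719, -10, -924]) (.leaf [-478, -296, 0, 1992, -1743, -1121, 292, 0, 391, 290, -1, 375]))) (.node (.node (.leaf []) (.leaf [11703, 6847, 0, 7411, 25504, 9939, -33864, -24, 2217, -6622, 646, -7348])) (.node (.leaf [-1, 0, 0, 2, -2, -1, 1, 0, 1]) (.leaf [1003, 509, 0, -1134, 2223, 1574, -1793, 2, -289, -514, 6, -647]))))) (.node (.node (.node (.node (.node (.leaf []) (.leaf [3553, 1781, 0, -10000, 9499, 7248, -3194, 41, -2569, -1808, -73, -2251])) (.leaf [])) (.node (.leaf [11, 6, 0, -5, 23, 14, -23,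 0, -2, -6, 0, -6]) (.leaf [5, 4, 0, -18, 30, 8, -14, 0, 2, -4, 1, -6]))) (.node (.node (.leaf [-165, -123, 0, 1047, -820, -480, 3, 0, 170, 120, -3, 164]) (.leaf [358, 295, 0, -946, 1548, 579, -777, -8, -4, -291, 19, -310])) (.node (.leaf []) (.leaf [-215, -160, 0, 927, -962, -495, 244, 0, 106, 160, -11, 211])))) (.node (.node (.node (.leaf []) (.leaf [8, 0, 0, -218, 53, 85, 101, 0, -53, 0, -5, -8])) (.node (.leaf []) (.leaf [702, 427, 0, -2495, 2423, 1561, -689, 0, -423, -427, -4, -563]))) (.node (.node (.leaf []) (.leaf [0, -1, 0, 1, 0, 0, -1, 0, 0, 1])) (.node (.leaf [-187, -129, 0, 936, -792, -474, 78, 0, 166, 126, -3, 163]) (.leaf [-260, -178, 0, 5241, -2314, -1963, -1685, -7, 979, 192, 36, 428])))))))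

def bigL41 : Janko.Tree (List ℤ) :=
  (.node (.node (.node (.node (.node (.node (.node (.leaf []) (.leaf [0, 0, 0, -4, 0, 1, 3, 0, -1])) (.leaf [])) (.node (.leaf [-6, -2, 0, -38, 5, 3, 29, 0, -6, 2, 0, 2]) (.leaf []))) (.node (.node (.leaf []) (.leaf [1190, 734, 0, -3565, 4198, 2308, -1612, 4, -555, -732, 46, -954])) (.node (.leaf []) (.leaf [-101, -57, 0, 226, -254, -190, 119, 1, 59, 57, 1, 63])))) (.node (.node (.node (.node (.leaf []) (.leaf [0, 0, 0, 0, -1, 1, 1])) (.leaf [-99, -56, 0, 347, -309, -222, 76, 0, 72, 56, 1, 73])) (.node (.leaf [0, 0, 0, 0, -1, 1]) (.leaf [-15, -6, 0, -34, -5, -12, 43, 0, -2, 6, 0, 7]))) (.node (.node (.leaf []) (.leaf [2762, 1598, 0, 4533, 4071, 1817, -8679, 6, 847, -1589, 36, -1408])) (.node (.leaf []) (.leaf [-1322, -712, 0, 3909, -3118, -2991, 833, -4, 1067, 706, 89, 843]))))) (.node (.node (.node (.node (.node (.leaf []) (.leaf [2040, 931, 0, 3431, -219, 2396, -4573, 51, -162, -991, -305, -646])) (.leaf [])) (.node (.leaf []) (.leaf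 []))) (.node (.node (.leaf []) (.leaf [-780, -445, 0, 784, -2279, -1053, 1797, -8, 41, 442, -62, 616])) (.node (.leaf [0, 1]) (.leaf [-12, -4, 0, -102, 23, 15, 64, 0, -12, 3])))) (.node (.node (.node (.leaf []) (.leaf [])) (.node (.leaf [153, 108, 0, -2149, 1198, 793, 498, 0, -374, -107, 2, -214]) (.leaf [57, 38, 0, -56, 180, 76, -145, 1, 7, -38, 2, -46]))) (.node (.node (.leaf [65, 30, 0, 35, 115, 67, -171, 0, 6, -30, 3, -41]) (.leaf [])) (.node (.leaf []) (.leaf [764, 465, 0, -2013, 2305, 1449, -944, 2, -418, -458, -6, -519])))))) (.node (.node (.node (.node (.node (.node (.leaf []) (.leaf [2196, 1400, 0, -9339, 8404, 5260, -1611, 8, -1576, -1414, 22, -1866])) (.leaf [])) (.node (.leaf [-3, -2, 0, 6, -9, -5, 4, 0, 2, 2, 0, 2]) (.leaf [765, 604, 0, -8851, 5024, 3597, 1668, -13, -1395, -631, -76, -927]))) (.node (.node (.leaf []) (.leaf [-94, -14, 0, -2849, 763, 768, 1515, -1, -553, 8, -29, -53])) (.node (.leaf []) (.leaf [-288, -193, 0, 563, -954, -469, 551, -1, 59, 190,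 -13, 231])))) (.node (.node (.node (.leaf []) (.leaf [1045, 611, 0, -2658, 3263, 1921, -1433, -1, -505, -605, 29, -759])) (.node (.leaf []) (.leaf []))) (.node (.node (.leaf []) (.leaf [-4474, -2000, 0, -8561, -7145, -1908, 14890, -14, -1419, 1886, -431, 2502])) (.node (.leaf [3648, 2177, 0, -35427, 16988, 16207, 8378, 80, -7342, -2309, -519, -3576]) (.leaf [-866, -236, 0, 3664, -738, -2686, -1016, -39, 1465, 278, 224, 270]))))) (.node (.node (.node (.node (.node (.leaf []) (.leaf [0, 0, 0, -38, 19, 9, 13, 0, -5, 0, 0, -2])) (.leaf [222, 143, 0, -1074, 920, 561, -120, 0, -178, -142, 3, -197])) (.node (.leaf []) (.leaf [6, 4, 0, -13, 32, 6, -19, 0, 3, -4, 1, -6]))) (.node (.node (.leaf []) (.leaf [2475, 1523, 0, -5670, 7855, 4361, -3965, 2, -882, -1512, 70, -1864])) (.node (.leaf [1303, 926, 0, -6946, 5719, 3476, -419, 5, -1184, -905, 12, -1203]) (.leaf [85, -33, 0, 3883, -1456, -1053, -1714, -3, 615, 39, 23, 180])))) (.node (.node (.node (.leaf []) (.leaf [70, 37, 0, 245,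 6, 26, -250, 0, 37, -37, -5, -24])) (.node (.leaf [-132, -71, 0, -492, -7, -39, 481, 1, -72, 71, 1, 53]) (.leaf [-280, -181, 0, -451, -745, -90, 1087, 0, -182, 181, -37, 191]))) (.node (.node (.leaf []) (.leaf [351, 223, 0, -873, 1073, 659, -480, 2, -167, -220, 2, -256])) (.node (.leaf [0, -1, 0, -2, 0, 0, 1, 0, 0, 1]) (.leaf [-152, -86, 0, -502, -168, -1, 594, 1, -89, 81, -11, 68])))))))

def bigL42 : Janko.Tree (List ℤ) :=
  (.node (.node (.node (.node (.node (.node (.node (.leaf []) (.leaf [-290, -187, 0, 727, -1034, -503, 493, 0, 91, 183, -15, 234])) (.leaf [-9, -4, 0, -12, -8, -7, 23, 0, -1, 4, -1, 5])) (.node (.leaf []) (.leaf [31, 14, 0, 5, 23, 39, -47, -1, -16, -14, 0, -10]))) (.node (.node (.leaf []) (.leaf [1103, 659, 0, -2629, 3543, 1967, -1724, 3, -419, -657, 41, -842])) (.node (.leaf []) (.leaf [-114, -61, 0, -242, -100, -81, 361, 0, -41, 61, 4, 55])))) (.node (.node (.node (.node (.leaf []) (.leaf [0, 0, 0, -1, 0, 1, 1])) (.leaf [118, 61, 0, -256, 343, 213,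 -181, 0, -45, -62, 6, -92])) (.node (.leaf [0, 0, 0, 3, -1, 0, -1]) (.leaf [212, 129, 0, 259, 430, 147, -676, 3, 68, -123, 8, -133]))) (.node (.node (.leaf []) (.leaf [40, -8, 0, 853, -388, -177, -353, -2, 97, 11, -1, 40])) (.node (.leaf []) (.leaf [9364, 5438, 0, -11672, 24605, 13971, -18183, 36, -2076, -5366, 203, -6414]))))) (.node (.node (.node (.node (.node (.leaf []) (.leaf [4, 4, 0, -12, 17, 5, -5, 0, -3, -3, 0, -2])) (.leaf [0, 0, 0, 1, 2, -1, -2, 0, 1])) (.node (.leaf [-154, -101, 0, 523, -559, -320, 182, 0, 80, 101, -1, 121]) (.leaf [3, 1, 0, 21, -3, -3, -14, 0, 2, -1]))) (.node (.node (.leaf []) (.leaf [-5809, -3493, 0, 19180, -20483, -12138, 6773, -34, 3147, 3499, -175, 4800])) (.node (.leaf [-1, 1, 0, -2, 4, -1]) (.leaf [-4651, -3396, 0, -11097, -7780, -1893, 17702, 33, -3103, 3343, -126, 2717])))) (.node (.node (.node (.leaf []) (.leaf [211, 112, 0, 1213, 81, -151, -1087, 0, 245, -106, 17, -82])) (.node (.leaf [774, 462, 0, -1822, 2478, 1367, -1206, 2, -303,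 -452, 28, -591]) (.leaf [105, 66, 0, 397, 135, -16, -463, 0, 91, -63, 8, -54]))) (.node (.node (.leaf [-10, -4, 0, -8, -10, -10, 22, 0, 2, 4, -1, 5]) (.leaf [])) (.node (.leaf [56, 12, 0, 358, -26, -78, -254, 0, 28, -9, 11, 4]) (.leaf [1504, 801, 0, 5650, 1072, -22, -6102, -6, 1038, -772, 34, -593])))))) (.node (.node (.node (.node (.node (.node (.leaf []) (.leaf [293, 180, 0, 7, 724, 344, -823, 0, 72, -180, 12, -226])) (.leaf [])) (.node (.leaf [-17, -8, 0, 30, -34, -28, 19, 0, 11, 8, 0, 8]) (.leaf [-794, 299, 0, -9428, 4985, 1307, 3870, -54, -554, -290, 147, -529]))) (.node (.node (.leaf [-159, -102, 0, 105, -241, -285, 281, 0, 30, 105, 15, 101]) (.leaf [2902, 1736, 0, -10008, 10188, 6229, -3084, 13, -1701, -1736, 49, -2357])) (.node (.leaf [-55, -44, 0, 220, -253, -106, 74, 0, 25, 44, 0, 41]) (.leaf [-743, -676, 0, 6690, -4967, -2669, -424, 8, 883, 679, -37, 932])))) (.node (.node (.node (.leaf []) (.leaf [-45, -14, 0, -552, 69, 137, 362, 1, -101, 11, -13, 5])) (.node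 (.leaf [0, 0, 0, 0, -1, 0, 1]) (.leaf [-17, -9, 0, -36, -19, -9, 55, 0, -5, 9, 0, 7]))) (.node (.node (.leaf [-15, -7, 0, -28, -20, -9, 48, 0, -4, 7, 0, 7]) (.leaf [-6359, -3422, 0, -10493, -10716, -3369, 20581, -23, -1966, 3335, -323, 3317])) (.node (.leaf [-1, 0, 0, 1, -1, -1, 1, 0, 1]) (.leaf [-6327, -3062, 0, 1694, -14139, -6803, 14386, -78, 973, 3085, -321, 3479]))))) (.node (.node (.node (.node (.node (.leaf [-13, -5, 0, -32, 0, -10, 36, 0, -2, 6, 0, 5]) (.leaf [-157, -62, 0, -973, 85, 97, 751, -3, -145, 58, -15, 57])) (.leaf [222, 142, 0, -1083, 923, 563, -115, 0, -181, -141, 3, -197])) (.node (.leaf [1010, 555, 0, -976, 2412, 1447, -1990, 4, -223, -549, 19, -655]) (.leaf [1376, 850, 0, -4366, 5148, 2611, -1806, 9, -718, -835, 85, -1110]))) (.node (.node (.leaf []) (.leaf [218, 104, 0, 394, 314, 125, -693, 3, 59, -102, 16, -123])) (.node (.leaf [0, -1, 0, -1, -1, 0, 1, 0, 0, 1]) (.leaf [-12, -24, 0, 232, -301, -50, 66, -2, -31, 24, -13, 63])))) (.node (.node (.node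 (.leaf [-19, -10, 0, -630, 296, 109, 263, -1, -103, 10, 8, -13]) (.leaf [])) (.node (.leaf []) (.leaf [-693, -314, 0, -1013, -1066, -478, 2094, -10, -141, 308, -50, 409]))) (.node (.node (.leaf [-9413, -4851, 0, 6608, -18074, -13720, 17569, -92, 2539, 4887, 245, 5307]) (.leaf [0, -2, 0, 2, 0, 0, -2, 0, 0, 2])) (.node (.leaf []) (.leaf [0, 0, 0, 5, -2, -1, -2, 0, 1])))))))

def bigL43 : Janko.Tree (List ℤ) :=
  (.node (.node (.node (.node (.node (.node (.node (.leaf []) (.leaf [0, 0, 0, 0, -1, 0, 1])) (.leaf [])) (.node (.leaf [-25, -13, 0, -33, -28, -27, 71, 0, -7, 13, 0, 17]) (.leaf [6996, 4040, 0, -21766, 22423, 14539, -7528, 46, -4182, -4076, 64, -5289]))) (.node (.node (.leaf [0, 0, 0, -1, 1]) (.leaf [1236, 754, 0, -3450, 4220, 2338, -1757, 3, -540, -752, 46, -975])) (.node (.leaf [0, 0, 0, 6, 1, -2, -5, 0, 2]) (.leaf [-3924, -2391, 0, 4480, -11147, -5438, 8413, -8, 502, 2367, -178, 2783])))) (.node (.node (.node (.node (.leaf []) (.leaf [0, 0, 0, -1, 0, 1, 1])) (.leaf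 [-409, -207, 0, -1092, -188, -220, 1298, -2, -122, 203, 14, 159])) (.node (.leaf []) (.leaf [31, 20, 0, -159, 115, 88, -3, 0, -30, -20, -2, -26]))) (.node (.node (.leaf [2, 0, 0, 18, -5, -2, -11, 0, 2]) (.leaf [0, 0, 0, 3, 0, -1, -2, 0, 1])) (.node (.leaf []) (.leaf []))))) (.node (.node (.node (.node (.node (.leaf []) (.leaf [-44, -15, 0, 43, -86, -58, 69, 1, 23, 13, -1, 21])) (.leaf [-6, -4, 0, 13, -30, -6, 18, 0, -3, 4, -1, 6])) (.node (.leaf [0, 0, 0, -1, 0, 1]) (.leaf [-1446, -940, 0, 5251, -5657, -3033, 1700, -5, 775, 937, -66, 1240]))) (.node (.node (.leaf []) (.leaf [])) (.node (.leaf [-13, -3, 0, -97, -4, 19, 79, 0, -19, 4, -6, 8]) (.leaf [38, 17, 0, -23, 66, 59, -72, 0, -8, -18, 0, -24])))) (.node (.node (.node (.leaf []) (.leaf [])) (.node (.leaf []) (.leaf [47, 17, 0, 245, -45, -2, -188, 0, 31, -17, 0, -14]))) (.node (.node (.leaf []) (.leaf [-21, 2, 0, -310, 135, 53, 145, 0, -39, -3, 3, -10])) (.node (.leaf []) (.leaf [1026, 590, 0, -1371, 2863, 1480, -2017,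 2, -232, -581, 39, -699])))))) (.node (.node (.node (.node (.node (.node (.leaf []) (.leaf [149, 90, 0, 257, 313, 49, -519, -1, 59, -84, 13, -81])) (.leaf [8, 1, 0, 475, -140, -135, -240, 1, 98, 0, 1, 14])) (.node (.leaf [-25, -11, 0, -68, -8, -17, 80, 0, -9, 11, -1, 14]) (.leaf [-3101, -1604, 0, -1114, -6517, -2885, 8081, -27, -33, 1541, -200, 1894]))) (.node (.node (.leaf []) (.leaf [2054, 1215, 0, -2401, 5706, 2934, -4318, 4, -286, -1203, 82, -1471])) (.node (.leaf []) (.leaf [45, 23, 0, 16, 77, 50, -109, 0, -1, -23, 2, -27])))) (.node (.node (.node (.leaf []) (.leaf [102, 57, 0, -297, 256, 222, -75, -2, -78, -57, -2, -66])) (.node (.leaf [25, 17, 0, -210, 123, 93, 34, 0, -41, -17, -1, -24]) (.leaf [132, 81, 0, -700, 541, 364, -31, 0, -121, -80, -1, -121]))) (.node (.node (.leaf []) (.leaf [-8135, -4211, 0, -12762, -12590, -4970, 25250, -25, -2056, 4117, -324, 4178])) (.node (.leaf []) (.leaf [24355, 13669, 0, -41929, 66019, 40221, -40766, 154, -8459, -13576, 445, -16919])))))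 (.node (.node (.node (.node (.node (.leaf []) (.leaf [-3, 0, 0, -37, 11, 9, 21, 0, -5, 0, 0, -2])) (.leaf [])) (.node (.leaf []) (.leaf [-390, -219, 0, 1733, -1548, -927, 259, 3, 304, 213, -19, 345]))) (.node (.node (.leaf [-34355, -19085, 0, 46743, -87046, -53377, 61856, -228, 10122, 18944, -498, 22928]) (.leaf [])) (.node (.leaf []) (.leaf [1233, 1550, 0, -3869, 10049, 1004, -5271, -6, 1250, -1607, 475, -1745])))) (.node (.node (.node (.leaf []) (.leaf [])) (.node (.leaf [-4426, -2442, 0, 9541, -10546, -8548, 5285, -32, 2443, 2451, 196, 2793]) (.leaf [239, 164, 0, -1553, 1081, 732, 86, 0, -290, -164, -6, -212]))) (.node (.node (.leaf []) (.leaf [-1669, -1116, 0, 5749, -6311, -3443, 2001, -6, 888, 1092, -52, 1400])) (.node (.leaf []) (.leaf [-696, -422, 0, 951, -1640, -1242, 1261, -3, 132, 429, 16, 525])))))))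

def bigL44 : Janko.Tree (List ℤ) :=
  (.node (.node (.node (.node (.node (.node (.node (.leaf []) (.leaf [443, 261, 0, -1087, 1521, 754, -729, -3, -155, -255, 24, -340])) (.leaf [])) (.node (.leaf [-113, -61, 0, -768, -7, 115, 639, 0, -157, 57, -10, 42]) (.leaf [-312, -203, 0, 807, -992, -592, 433, -2, 142, 200, -2, 236]))) (.node (.node (.leaf []) (.leaf [638, 374, 0, -2823, 2578, 1476, -457, 3, -489, -378, 24, -528])) (.node (.leaf []) (.leaf [1, 0, 0, -6, 4, 2, 0, 0, -1])))) (.node (.node (.node (.node (.leaf []) (.leaf [0, 0, 0, 0, 0, 0, 0, 0, 0, 0, 0, 1])) (.leaf [-24, -13, 0, 70, -62, -55, 21, 0, 16, 13, 1, 18])) (.node (.leaf [22, 7, 0, 18, 20, 23, -48, 0, -5, -7, 1, -10]) (.leaf [4, 3, 0, -9, 10, 9, -4, 0, -2, -3, 0, -4]))) (.node (.node (.leaf []) (.leaf [448, 220, 0, 119, 826, 491, -1096, 4, -11, -219, 16, -271])) (.node (.leaf []) (.leaf [9316, 5434, 0, -11634, 24467, 13967, -18100, 38, -2034, -5368, 193, -6412]))))) (.node (.node (.node (.node (.node (.leaf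 []) (.leaf [2, 4, 0, -81, 50, 22, 20, 0, -10, -4, 0, -6])) (.leaf [])) (.node (.leaf [0, 0, 0, 1, 1, 0, -1]) (.leaf [-8, -7, 0, -16, -10, -6, 24, 0, -2, 7, -1, 6]))) (.node (.node (.leaf []) (.leaf [-4642, -2321, 0, 1064, -8454, -5986, 9701, -49, 879, 2306, -10, 2665])) (.node (.leaf [7431, 4450, 0, -1625, 18496, 8345, -18885, 33, 347, -4390, 328, -4977]) (.leaf [-6763, -3479, 0, -3570, -11140, -7016, 16825, -52, 58, 3418, -43, 3713])))) (.node (.node (.node (.leaf []) (.leaf [])) (.node (.leaf []) (.leaf [3, 1, 0, 24, -10, -1, -13, 0, 3, -1, 0, -1]))) (.node (.node (.leaf []) (.leaf [735, 469, 0, -945, 2396, 966, -1697, 3, -39, -470, 60, -557])) (.node (.leaf [731, 382, 0, -968, 1682, 1149, -1215, 2, -272, -379, 2, -449]) (.leaf [2748, 1789, 0, -10757, 10105, 6423, -2427, 9, -1744, -1807, 13, -2345])))))) (.node (.node (.node (.node (.node (.node (.leaf []) (.leaf [148, 81, 0, 0, 309, 163, -355, -1, -7, -78, 6, -89])) (.leaf [])) (.node (.leaf []) (.leaf [337, 234, 0, -939,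 1039, 694, -417, 2, -163, -231, -14, -252]))) (.node (.node (.leaf []) (.leaf [5672, 3116, 0, -22, 14559, 5268, -15397, 31, 517, -3154, 423, -3516])) (.node (.leaf []) (.leaf [-148, -104, 0, 885, -746, -405, 48, -1, 133, 104, -9, 151])))) (.node (.node (.node (.leaf [0, 0, 0, 5, -1, -2, -3, 0, 2]) (.leaf [0, 0, 0, -13, 4, 3, 7, 0, -3])) (.node (.leaf []) (.leaf [19, 15, 0, -130, 82, 66, 11, 0, -23, -14, -2, -19]))) (.node (.node (.leaf [-426, -201, 0, 691, -1107, -699, 720, 0, 146, 201, -21, 308]) (.leaf [])) (.node (.leaf []) (.leaf [24900, 13684, 0, -43298, 65133, 41876, -39885, 193, -9534, -13630, 215, -16864]))))) (.node (.node (.node (.node (.node (.leaf []) (.leaf [59, 37, 0, -193, 179, 131, -50, 0, -40, -36, -2, -44])) (.leaf [-14, -8, 0, 30, -34, -25, 17, 0, 8, 8, 2, 6])) (.node (.leaf [0, 0, 0, 1, -2, 0, 1]) (.leaf []))) (.node (.node (.leaf [-205, -145, 0, 1461, -1114, -622, -41, 1, 232, 145, -10, 209]) (.leaf [-80, -107, 0, 3052, -1409, -999, -1043, 2, 520, 108,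 0, 235])) (.node (.leaf []) (.leaf [-29428, -17316, 0, 49389, -81041, -48560, 51526, -170, 8642, 17329, -475, 20907])))) (.node (.node (.node (.leaf []) (.leaf [-351, -219, 0, 1143, -1184, -739, 389, 0, 196, 219, 0, 271])) (.node (.leaf [18, 10, 0, -9, 39, 25, -40, 0, -1, -10, 0, -12]) (.leaf [-264, -141, 0, -1897, 759, 17, 1122, 0, -236, 150, 58, 9]))) (.node (.node (.leaf [35, 28, 0, -248, 176, 112, 13, 0, -40, -28, -2, -33]) (.leaf [])) (.node (.leaf [-1, -5, 0, 155, -72, -44, -57, 0, 26, 5, 0, 9]) (.leaf [-374, -149, 0, 622, -134, -942, 136, -3, 320, 152, 72, 203])))))))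

def bigL45 : Janko.Tree (List ℤ) :=
  (.node (.node (.node (.node (.node (.node (.node (.leaf []) (.leaf [163, 110, 0, -637, 679, 353, -189, 1, -86, -110, 10, -150])) (.leaf [])) (.node (.leaf []) (.leaf [-77, -31, 0, -235, -25, -31, 262, -3, -30, 32, 5, 26]))) (.node (.node (.leaf [0, 0, 0, 1, 1, 0, -1]) (.leaf [-120, -263, 0, 9031, -3637, -3001, -3457, -5, 1519, 282, 73, 611])) (.node (.leaf []) (.leaf [0, 0, 0, 2, 0, 0, -1])))) (.node (.node (.node (.node (.leaf []) (.leaf [0, 0, 0, -1, 0, 1, 1])) (.leaf [])) (.node (.leaf [347, 224, 0, -1816, 1638, 847, -210, -1, -278, -225, 22, -315]) (.leaf [0, 0, 0, 0, -2, 1, 1]))) (.node (.node (.leaf []) (.leaf [0, 0, 0, 7, 0, -2, -5, 0, 2])) (.node (.leaf []) (.leaf [-528, -233, 0, 178, -1098, -634, 1150, 0, 88, 230, -25, 315]))))) (.node (.node (.node (.node (.node (.leaf []) (.leaf [-7708, -4336, 0, -2478, -15117, -8138, 19837, -47, -424, 4308, -121, 4575])) (.leaf [])) (.node (.leaf [0, 0, 0, 4, -1, -1, -2, 0, 1]) (.leaf [1798,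 1089, 0, -4926, 6097, 3327, -2535, 0, -829, -1074, 81, -1393]))) (.node (.node (.leaf [218, 136, 0, -490, 605, 400, -295, -2, -104, -136, 0, -145]) (.leaf [565, 354, 0, -2782, 2135, 1496, -146, -6, -523, -354, -14, -456])) (.node (.leaf []) (.leaf [1933, 994, 0, -5327, 3288, 4760, -862, 26, -1620, -1023, -302, -1112])))) (.node (.node (.node (.leaf []) (.leaf [])) (.node (.leaf [-10, -139, 0, 11406, -4526, -3474, -4642, -11, 1958, 145, 22, 733]) (.leaf [-117, -88, 0, -150, -277, -75, 409, 0, -60, 85, -4, 78]))) (.node (.node (.leaf []) (.leaf [])) (.node (.leaf []) (.leaf [-8931, -4522, 0, 3990, -16190, -12290, 17532, -91, 2084, 4552, 221, 4863])))))) (.node (.node (.node (.node (.node (.node (.leaf [42, 33, 0, -210, 190, 108, -30, 0, -28, -33, 0, -40]) (.leaf [161, 83, 0, 558, 151, 8, -643, 0, 105, -80, 9, -74])) (.leaf [0, -1, 0, -1, -1, 0, 1, 0, 0, 0, 1])) (.node (.leaf []) (.leaf [169, 92, 0, 704, -22, 38, -657, 2, 114, -92, -11, -62]))) (.node (.node (.leaf []) (.leaf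 [])) (.node (.leaf [-137, -70, 0, -604, -93, 37, 609, 0, -116, 67, -10, 59]) (.leaf [56, 26, 0, -929, 323, 370, 359, 0, -223, -26, -13, -54])))) (.node (.node (.node (.leaf []) (.leaf [])) (.node (.leaf [436, 553, 0, -8685, 6367, 2452, 1274, -29, -945, -502, 159, -1025]) (.leaf [2, 0, 0, 5, -3, 1, -3, -1, -1, 1]))) (.node (.node (.leaf []) (.leaf [-1216, -878, 0, 7269, -5153, -3630, -183, -2, 1321, 876, 79, 1042])) (.node (.leaf [-360, -202, 0, 306, -918, -481, 771, -2, 54, 198, -14, 243]) (.leaf [-22, 8, 0, -1594, 536, 452, 746, -3, -297, -8, -7, -62]))))) (.node (.node (.node (.node (.node (.leaf []) (.leaf [-342, -181, 0, 168, -675, -463, 677, -5, 86, 179, -4, 205])) (.leaf [0, 10, 0, -42, 132, -17, -58, 0, 29, -10, 10, -21])) (.node (.leaf []) (.leaf [-5586, -2983, 0, 4762, -12720, -7902, 10968, -57, 1323, 2954, -88, 3550]))) (.node (.node (.leaf []) (.leaf [])) (.node (.leaf [151, 102, 0, -2464, 1137, 954, 734, 0, -467, -108, -13, -215]) (.leaf [19, 21, 0, -250, 164,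 91, 39, 0, -33, -21, 0, -29])))) (.node (.node (.node (.leaf []) (.leaf [-232, -100, 0, -542, -176, -116, 712, -2, -43, 97, -6, 96])) (.node (.leaf []) (.leaf [-281, -183, 0, 324, -620, -482, 517, -1, 52, 186, 15, 190]))) (.node (.node (.leaf []) (.leaf [460, 236, 0, -1270, 1421, 879, -553, 0, -265, -233, 17, -337])) (.node (.leaf [19, 8, 0, 29, 15, 17, -51, 0, 2, -8, 0, -9]) (.leaf [-903, -611, 0, 3546, -3481, -2077, 896, -1, 521, 608, -8, 796])))))))

def bigL46 : Janko.Tree (List ℤ) :=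
  (.node (.node (.node (.node (.node (.node (.node (.leaf []) (.leaf [424, 390, 0, -2651, 2420, 1207, -299, -10, -245, -394, 29, -504])) (.leaf [])) (.node (.leaf [-114, -50, 0, -1289, 163, 284, 876, 0, -255, 47, -17, 16]) (.leaf [-12, -1, 0, -96, 18, 11, 68, -1, -16, 2, 0, 3]))) (.node (.node (.leaf []) (.leaf [])) (.node (.leaf []) (.leaf [403, 205, 0, 889, 258, 271, -1203, 2, 89, -203, -13, -166])))) (.node (.node (.node (.node (.leaf []) (.leaf [0, 0, 0, 2, 0, 1, -1])) (.leaf [-40855, -24097, 0, 77181, -118108, -68821, 69229, -167, 13079, 24049, -837, 29449])) (.node (.leaf [226, 192, 0, -3661, 1915, 1333, 956, 0, -637, -198, -15, -316]) (.leaf [0, 0, 0, 14, -4, -3, -7, 0, 3]))) (.node (.node (.leaf []) (.leaf [])) (.node (.leaf [6, 4, 0, -11, 30, 6, -19, 0, 3, -4, 1, -6]) (.leaf [-417, -262, 0, 1504, -1563, -885, 448, 0, 246, 256, -14, 350]))))) (.node (.node (.node (.node (.node (.leaf [0, 0, 0, -1, 1]) (.leaf [-3769, -2059, 0, -1394, -6859, -4028, 9468, -25, -79,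 2046, -22, 2144])) (.leaf [-7165, -3784, 0, 566, -13356, -8730, 16040, -57, 767, 3766, 67, 3993])) (.node (.leaf []) (.leaf [45, 54, 0, -1012, 478, 348, 329, 0, -191, -54, -7, -68]))) (.node (.node (.leaf []) (.leaf [-155, -24, 0, -1918, 275, 429, 1262, -8, -365, 21, -43, 50])) (.node (.leaf []) (.leaf [-959, -596, 0, 3938, -3676, -2214, 782, -3, 669, 598, -24, 810])))) (.node (.node (.node (.leaf []) (.leaf [22, 15, 0, -112, 86, 59, -4, 0, -22, -14, -1, -18])) (.node (.leaf []) (.leaf [19, 8, 0, 24, 16, 18, -48, 0, 1, -8, 0, -9]))) (.node (.node (.leaf []) (.leaf [265, 181, 0, -1545, 1108, 804, 6, 2, -263, -184, -12, -251])) (.node (.leaf [-21493, -11248, 0, -10570, -41397, -20556, 56577, -47, -1161, 10935, -812, 12617]) (.leaf [1077, 638, 0, -3166, 3521, 2114, -1303, 0, -589, -633, 23, -804])))))) (.node (.node (.node (.node (.node (.node (.leaf []) (.leaf [324, 165, 0, 1252, 149, 13, -1278, -2, 204, -159, 13, -134])) (.leaf [])) (.node (.leaf [11, 5, 0, 60, -6, -1, -50,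 0, 11, -5, 0, -5]) (.leaf [-1056, -652, 0, 1516, -3200, -1550, 2203, -3, 147, 653, -57, 790]))) (.node (.node (.leaf []) (.leaf [-926, -773, 0, 2383, -4247, -1472, 2227, 25, -110, 773, -115, 926])) (.node (.leaf [0, -1, 0, 0, 0, 1]) (.leaf [59, 34, 0, -242, 201, 142, -33, 0, -48, -34, -1, -45])))) (.node (.node (.node (.leaf [-490, -289, 0, 154, -1076, -623, 1114, -4, 40, 286, -14, 323]) (.leaf [-3368, -1668, 0, 1740, -5510, -4982, 6087, -31, 1006, 1677, 118, 1844])) (.node (.leaf []) (.leaf [0, 0, 0, 1, -1]))) (.node (.node (.leaf []) (.leaf [354, 303, 0, -2945, 2367, 1195, 27, -1, -338, -308, 40, -479])) (.node (.leaf []) (.leaf [-1604, -945, 0, 3771, -4862, -2921, 2383, -7, 655, 942, -6, 1157]))))) (.node (.node (.node (.node (.node (.leaf []) (.leaf [-4246, -2290, 0, 255, -8371, -5068, 9819, -34, 311, 2264, -36, 2522])) (.leaf [75, 70, 0, -1083, 622, 395, 242, 0, -179, -70, -1, -106])) (.node (.leaf [0, 0, 0, 1, 1, 0, -1]) (.leaf []))) (.node (.node (.leaf []) (.leaf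 [77, 46, 0, -898, 485, 366, 187, 7, -157, -52, -14, -85])) (.node (.leaf [42, 22, 0, -47, 80, 74, -70, 0, -12, -22, -1, -29]) (.leaf [-3867, -2292, 0, 6895, -11243, -6325, 6872, -5, 1088, 2271, -96, 2801])))) (.node (.node (.node (.leaf []) (.leaf [12, 66, 0, -1872, 949, 523, 610, -2, -252, -69, 1, -129])) (.node (.leaf [0, 0, 0, -11, 3, 2, 6, 0, -2]) (.leaf [-11, 66, 0, -1492, 1559, 78, 62, -4, -26, -60, 102, -182]))) (.node (.node (.leaf []) (.leaf [-39, -12, 0, -267, 74, 19, 174, 0, -32, 12, 1, 5])) (.node (.leaf [126, 77, 0, 617, 170, -76, -658, 0, 154, -74, 16, -68]) (.leaf [-368, -407, 0, 7029, -3331, -2714, -2044, -9, 1168, 419, 88, 637])))))))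

def bigL47 : Janko.Tree (List ℤ) :=
  (.node (.node (.node (.node (.node (.node (.node (.leaf []) (.leaf [-1367, -856, 0, 3623, -4714, -2511, 2104, -4, 519, 851, -57, 1095])) (.leaf [0, 0, 0, 0, 2, 0, -1, 1, 0, 0, -1])) (.node (.leaf [3, 6, 0, -211, 93, 63, 77, 0, -35, -6, -2, -11]) (.leaf [115, 64, 0, -367, 393, 234, -129, 2, -69, -64, 5, -93]))) (.node (.node (.leaf []) (.leaf [1013, 467, 0, 1882, 1562, 369, -3251, -6, 236, -454, 93, -452])) (.node (.leaf [-14, -17, 0, 254, -159, -82, -51, 0, 34, 17, -1, 25]) (.leaf [-3095, -2400, 0, 5674, -14166, -3553, 8652, 135, -677, 2266, -524, 2900])))) (.node (.node (.node (.node (.leaf []) (.leaf [0, 0, 0, 1, 1, 1, -1])) (.leaf [346, 262, 0, 239, 1219, 174, -1329, 0, 235, -262, 53, -284])) (.node (.leaf [-370, -159, 0, -1313, -83, -74, 1305, -8, -142, 156, -9, 139]) (.leaf [0, 0, 0, 22, -11, -4, -8, 0, 4]))) (.node (.node (.leaf [207, 96, 0, -127, 443, 265, -416, 2, -53, -96, 5, -117]) (.leaf [10820, 4819, 0, -3558, 18939, 14212,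 -21355, 76, -2777, -4741, 24, -5984])) (.node (.leaf []) (.leaf [-394, -263, 0, 457, -1100, -550, 818, 0, 63, 254, -4, 263]))))) (.node (.node (.node (.node (.node (.leaf []) (.leaf [747, -132, 0, -6745, -2671, 4861, 5223, 98, -3188, -4, -660, 210])) (.leaf [30, 18, 0, -126, 89, 76, -6, 0, -29, -18, -2, -20])) (.node (.leaf [0, 0, 0, 1, 2, 0, -2]) (.leaf [-11, -8, 0, 151, -89, -55, -30, 0, 23, 8, 1, 15]))) (.node (.node (.leaf [166, 201, 0, -3703, 1896, 1353, 1011, 4, -550, -204, -24, -367]) (.leaf [-635, -304, 0, -4119, -42, 575, 3474, -4, -827, 286, -51, 236])) (.node (.leaf []) (.leaf [64, 75, 0, -1971, 1048, 600, 584, -4, -318, -75, 14, -156])))) (.node (.node (.node (.leaf []) (.leaf [3, 1, 0, 26, -8, -3, -15, 0, 2])) (.node (.leaf [-42, -70, 0, 5056, -2332, -1312, -1928, 6, 937, 71, -34, 228]) (.leaf [67, 33, 0, -50, 123, 103, -121, 0, -18, -33, -1, -41]))) (.node (.node (.leaf []) (.leaf [1702, 794, 0, -2557, 1796, 3500, -1385, 16, -1236, -806, -269, -735])) (.node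 (.leaf []) (.leaf [-758, -716, 0, 15862, -7786, -5822, -4654, -38, 2692, 734, 53, 1516])))))) (.node (.node (.node (.node (.node (.node (.leaf [0, 0, 0, 1, -1]) (.leaf [143, 82, 0, 501, 144, 9, -582, 0, 101, -79, 8, -71])) (.leaf [-113, -62, 0, 480, -404, -283, 71, 0, 85, 62, 0, 99])) (.node (.leaf [-6, -10, 0, 639, -186, -223, -300, 0, 135, 10, 9, 31]) (.leaf [449, 273, 0, -200, 1087, 554, -1045, 2, -25, -267, 12, -295]))) (.node (.node (.leaf []) (.leaf [-76, -58, 0, -15, -258, -67, 264, 0, -43, 58, -11, 72])) (.node (.leaf []) (.leaf [-307, -106, 0, 300, -549, -471, 472, -6, 151, 95, 5, 178])))) (.node (.node (.node (.leaf []) (.leaf [-62, 65, 0, -3338, 867, 1080, 1690, -3, -615, -65, -74, -117])) (.node (.leaf []) (.leaf [-155, -113, 0, 995, -823, -457, 47, 0, 129, 113, -8, 176]))) (.node (.node (.leaf []) (.leaf [-299, -221, 0, 2210, -1628, -949, -102, 0, 351, 221, -4, 305])) (.node (.leaf [-13337, -7135, 0, 24232, -34252, -22860, 20155, -110, 5760, 7114, -75, 8859])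 (.leaf [-6352, -2976, 0, 3414, -10904, -8929, 11400, -87, 2186, 2967, 96, 3372]))))) (.node (.node (.node (.node (.node (.leaf []) (.leaf [763, 465, 0, -228, 1964, 872, -1944, 3, 44, -465, 43, -527])) (.leaf [0, 0, 0, 0, 0, -1, 0, 0, 0, 0, 1])) (.node (.leaf []) (.leaf [230, 129, 0, 37, 463, 260, -581, 0, 13, -129, 5, -144]))) (.node (.node (.leaf []) (.leaf [])) (.node (.leaf [-135, -66, 0, -702, -40, 75, 631, 0, -122, 63, -11, 44]) (.leaf [-414, -268, 0, 1766, -1556, -1006, 283, 0, 304, 268, 1, 350])))) (.node (.node (.node (.leaf []) (.leaf [883, 574, 0, -3338, 3624, 1885, -1072, 6, -448, -574, 56, -812])) (.node (.leaf []) (.leaf [137, 74, 0, 2746, -594, -703, -1598, -1, 549, -69, 23, 36]))) (.node (.node (.leaf []) (.leaf [-866, -467, 0, -1205, -1488, -593, 2723, -3, -266, 458, -27, 488])) (.node (.leaf [-102, -64, 0, -369, -141, 12, 446, 0, -86, 61, -8, 53]) (.leaf [0, 0, 0, 2, 0, 0, -1])))))))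

def bigL48 : Janko.Tree (List ℤ) :=
  (.node (.node (.node (.node (.node (.node (.node (.leaf []) (.leaf [64, 57, 0, -1876, 941, 604, 576, 2, -313, -62, 7, -151])) (.leaf [32, 13, 0, 279, 13, -68, -227, 0, 62, -13, 8, -9])) (.node (.leaf [-125, -71, 0, 417, -382, -277, 105, 0, 87, 71, 2, 92]) (.leaf [4, -6, 0, 284, -141, -67, -99, 0, 35, 8, 1, 12]))) (.node (.node (.leaf [614, 404, 0, -1253, 1953, 1054, -1110, 2, -144, -404, 14, -479]) (.leaf [-3009, -1946, 0, 10915, -11649, -6386, 3506, -27, 1612, 1934, -88, 2578])) (.node (.leaf [251, 176, 0, -636, 694, 541, -331, 2, -95, -182, -20, -187]) (.leaf [-16, -13, 0, 186, -118, -69, -31, 0, 30, 12, 1, 20])))) (.node (.node (.node (.node (.leaf []) (.leaf [-1, 0, 0, -12, 1, 2, 9, 0, -1])) (.leaf [289, 210, 0, -1593, 1462, 758, -218, 0, -184, -210, 12, -305])) (.node (.leaf [443, 286, 0, -1797, 1727, 1011, -399, 0, -287, -286, 11, -378]) (.leaf [-277, -158, 0, 198, -693, -343, 608, 0, 37, 152, -2, 165]))) (.node (.node (.leaf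 [-1, 0, 0, 1, -1, -1, 1, 0, 1]) (.leaf [])) (.node (.leaf [3, 1, 0, 12, 0, -3, -10, 0, 1]) (.leaf [245, 143, 0, -1513, 946, 759, 135, 0, -320, -145, -13, -197]))))) (.node (.node (.node (.node (.node (.leaf [0, 0, 0, 0, 2, 0, -1]) (.leaf [-17, -9, 0, -18, -17, -21, 43, 0, -1, 9, 0, 11])) (.leaf [])) (.node (.leaf []) (.leaf [6, 8, 0, 32, 41, -13, -53, 0, 17, -8, 4, -8]))) (.node (.node (.leaf [3003, 1908, 0, 5592, 7441, 829, -11669, -15, 1896, -1818, 416, -2099]) (.leaf [-15, -6, 0, -38, -5, -10, 46, 0, -4, 6, 0, 7])) (.node (.leaf []) (.leaf [7, 18, 0, -112, 147, 22, -30, 0, 11, -18, 6, -25])))) (.node (.node (.node (.leaf []) (.leaf [308, 220, 0, -2176, 1546, 978, 129, 0, -377, -216, 0, -306])) (.node (.leaf [4, 3, 0, 1, 10, 3, -11, 0, 0, -2, 0, -2]) (.leaf [166, 136, 0, -1443, 962, 647, 133, 0, -203, -138, -3, -214]))) (.node (.node (.leaf []) (.leaf [-259, -167, 0, 451, -822, -417, 515, -1, 42, 167, -15, 212])) (.node (.leaf []) (.leaf [-1251, -789, 0, 1000, -3230, -1779,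 2843, -9, 30, 788, -20, 920])))))) (.node (.node (.node (.node (.node (.node (.leaf []) (.leaf [28, -14, 0, 1338, -582, -341, -531, 0, 182, 17, 1, 73])) (.leaf [])) (.node (.leaf [-501, -329, 0, 2923, -2163, -1443, -8, 0, 524, 329, 6, 450]) (.leaf [261, 152, 0, -1016, 855, 610, -147, 0, -220, -149, -5, -192]))) (.node (.node (.leaf [-7, -13, 0, 133, -110, -39, -7, 0, 6, 13, -1, 18]) (.leaf [4082, 2047, 0, -8444, 10155, 7346, -5174, 42, -2305, -2056, -3, -2566])) (.node (.leaf []) (.leaf [27, 25, 0, -550, 443, 134, 57, 0, -53, -23, 15, -66])))) (.node (.node (.node (.leaf []) (.leaf [129, 170, 0, -3759, 1675, 1352, 1246, 2, -627, -172, -38, -305])) (.node (.leaf [0, 0, 0, -1, 0, 0, 1]) (.leaf [499, 310, 0, -245, 1323, 591, -1219, 2, -2, -301, 22, -344]))) (.node (.node (.leaf [4425, 2152, 0, 2736, 6334, 4655, -10604, 53, -289, -2113, -17, -2295]) (.leaf [219, 138, 0, -760, 768, 460, -213, 0, -145, -134, 4, -169])) (.node (.leaf [267, 154, 0, 667, 409, 83, -998, 0, 152, -151,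 20, -152]) (.leaf [4865, 2923, 0, -10236, 14906, 8447, -8163, 14, -1526, -2914, 114, -3665]))))) (.node (.node (.node (.node (.node (.leaf []) (.leaf [-14064, -7969, 0, 39956, -43089, -28228, 16290, -100, 7996, 7956, -99, 10434])) (.leaf [0, 2, 0, -167, 64, 47, 72, 0, -32, -2, 0, -7])) (.node (.leaf [22, 71, 0, -1886, 962, 544, 599, -2, -258, -75, 0, -134]) (.leaf [-2, 0, 0, -8, 2, -1, 6, 0, 1]))) (.node (.node (.leaf []) (.leaf [])) (.node (.leaf [54, 22, 0, -569, 328, 220, 113, 0, -111, -22, 2, -58]) (.leaf [-41, -25, 0, -262, -99, 60, 292, 0, -90, 25, -10, 30])))) (.node (.node (.node (.leaf []) (.leaf [-2604, -703, 0, -7851, 2262, -1802, 6716, -60, 62, 757, 332, 381])) (.node (.leaf [0, 0, 0, -4, 2, 1, 2, 0, -1]) (.leaf [172, 121, 0, 328, 560, 4, -762, -2, 155, -119, 37, -135]))) (.node (.node (.leaf [-3, -3, 0, 51, -26, -14, -17, 0, 13, 2, 1]) (.leaf [-113, -58, 0, -644, -37, 78, 574, 0, -127, 55, -10, 44])) (.node (.leaf [-110, -56, 0, 54, -230, -147, 231, 0, 19, 56,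 -4, 70]) (.leaf [26699, 14667, 0, -22765, 65694, 36035, -55549, 172, -4847, -14570, 863, -17292])))))))

def bigL49 : Janko.Tree (List ℤ) :=
  (.node (.node (.node (.node (.node (.node (.node (.leaf []) (.leaf [979, 656, 0, -2909, 3343, 2041, -1333, 3, -397, -648, 5, -846])) (.leaf [-13043, -6735, 0, 15973, -29782, -20310, 22316, -87, 4618, 6513, -55, 8392])) (.node (.leaf []) (.leaf [3, 25, 0, -516, 380, 129, 81, 3, -22, -26, 9, -69]))) (.node (.node (.leaf []) (.leaf [-74, -13, 0, -1164, 375, 276, 586, 3, -150, 5, -4, -49])) (.node (.leaf [-2143, -1255, 0, 2130, -5799, -2929, 4652, -3, 242, 1237, -78, 1492]) (.leaf [557, 311, 0, -201, 1280, 687, -1298, 4, -29, -305, 11, -361])))) (.node (.node (.node (.node (.leaf []) (.leaf [0, 0, 0, -4, -1, 2, 4, 0, -1])) (.leaf [-15, -10, 0, 150, -89, -63, -26, 0, 26, 10, 0, 19])) (.node (.leaf [-139, -122, 0, 1336, -914, -527, -148, 0, 200, 122, 3, 159]) (.leaf [0, 0, 0, -7, 2, 2, 4, 0, -2]))) (.node (.node (.leaf [215, 129, 0, -25,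 648, 201, -639, 0, 55, -129, 24, -164]) (.leaf [275, 158, 0, -2072, 1396, 909, 187, 2, -376, -157, 5, -278])) (.node (.leaf [3, 1, 0, 18, 1, -5, -14, 0, 2]) (.leaf [1164, 765, 0, -4742, 4345, 2768, -939, 2, -779, -758, -9, -994]))))) (.node (.node (.node (.node (.node (.leaf []) (.leaf [2, 0, 0, 15, -6, -2, -8, 0, 1, 0, 0, 1])) (.leaf [-13, -8, 0, 93, -78, -38, 3, 0, 12, 8, -1, 15])) (.node (.leaf [409, 257, 0, -1483, 1526, 876, -439, 0, -238, -257, 12, -337]) (.leaf [-2996, -1497, 0, 3879, -5733, -5130, 4416, -30, 1318, 1518, 129, 1726]))) (.node (.node (.leaf []) (.leaf [281, 171, 0, -1546, 1063, 806, 44, 0, -319, -171, -11, -226])) (.node (.leaf [-34, -23, 0, 207, -132, -111, -12, 0, 38, 23, 4, 31]) (.leaf [-36, 2, 0, -126, 181, -54, -1, 1, 50, -2, 11, -16])))) (.node (.node (.node (.leaf []) (.leaf [-221, -126, 0, -204, -398, -205, 650, 0, -59, 126, -4, 138])) (.node (.leaf []) (.leaf [0, 1, 0, 0, 1, -1]))) (.node (.node (.leaf []) (.leaf [])) (.node (.leaf [-49, -23,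 0, 131, -161, -88, 71, 0, 22, 24, -2, 35]) (.leaf [-21889, -11953, 0, 25708, -49628, -34313, 38699, -174, 6660, 11923, 195, 13840])))))) (.node (.node (.node (.node (.node (.node (.leaf [0, 0, 0, 2, 1, 0, -2]) (.leaf [-82, -38, 0, -927, 85, 217, 649, 1, -191, 35, -16, 14])) (.leaf [0, -7, 0, 266, -75, -94, -126, -1, 51, 7, 7, 13])) (.node (.leaf [43, 26, 0, -98, 123, 81, -61, 0, -18, -26, 0, -32]) (.leaf [-158, -160, 0, -1420, 106, 195, 1082, -2, -341, 157, 9, 67]))) (.node (.node (.leaf []) (.leaf [126, 92, 0, -1491, 726, 606, 401, 0, -312, -93, -16, -122])) (.node (.leaf [-13, -4, 0, -89, 16, 10, 64, 0, -14, 4, -1, 3]) (.leaf [75, 18, 0, 1174, -314, -288, -643, 7, 176, -16, -2, 46])))) (.node (.node (.node (.leaf []) (.leaf [-300, -190, 0, 261, -672, -464, 608, -1, 37, 193, 9, 197])) (.node (.leaf []) (.leaf [492, 257, 0, 381, 850, 449, -1326, 1, 41, -251, 16, -280]))) (.node (.node (.leaf []) (.leaf [203, 149, 0, -1241, 808, 648, 76, 1, -235, -148, -20, -179])) (.node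 (.leaf []) (.leaf [5526, 3275, 0, -11716, 16730, 9674, -9052, 15, -1857, -3260, 134, -4154]))))) (.node (.node (.node (.node (.node (.leaf []) (.leaf [-2822, -1544, 0, -1439, -4313, -2935, 6701, 8, 189, 1514, 34, 1355])) (.leaf [])) (.node (.leaf [51, 91, 0, -2046, 1107, 619, 581, -2, -281, -94, 1, -163]) (.leaf [-5, -4, 0, 13, -22, -10, 11, 0, 1, 4, -1, 6]))) (.node (.node (.leaf []) (.leaf [404, 225, 0, -449, 1047, 582, -810, 2, -82, -222, 13, -277])) (.node (.leaf []) (.leaf [25395, 14128, 0, -37730, 65738, 40422, -44589, 151, -7902, -14015, 372, -17214])))) (.node (.node (.node (.leaf []) (.leaf [1232, 746, 0, -3312, 4130, 2282, -1779, 6, -536, -743, 36, -940])) (.node (.leaf [8, 6, 0, -63, 50, 25, 1, 1, -9, -6, -1, -8]) (.leaf [85, 56, 0, 1024, -191, -188, -670, 1, 214, -56, -1, -13]))) (.node (.node (.leaf []) (.leaf [1, -1, 0, -6, 2, 3, 2, 0, -2])) (.node (.leaf [4, -1, 0, 13, 0, 0, -13, 0, 1]) (.leaf [1910, 1344, 0, -713, 9014, 718, -7326, -10, 1169, -1385, 475,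 -1579])))))))

def bigL50 : Janko.Tree (List ℤ) :=
  (.node (.node (.node (.node (.node (.node (.node (.leaf [-2, 0, 0, -13, 3, 1, 9, 0, -1]) (.leaf [-3588, -1863, 0, 20923, -13271, -10799, -1588, -49, 4633, 1917, 99, 2927])) (.leaf [48, 27, 0, -145, 138, 105, -47, 0, -29, -27, -1, -36])) (.node (.leaf [-3218, -2093, 0, 14878, -13252, -8009, 2137, -37, 2406, 2093, -81, 2978]) (.leaf [13, 0, 0, 288, -73, -83, -149, -1, 43, 3, 6, 8]))) (.node (.node (.leaf []) (.leaf [])) (.node (.leaf [125, 84, 0, 18, 131, 210, -255, 0, -5, -87, -15, -76]) (.leaf [338, 137, 0, 1702, -99, -91, -1434, 2, 244, -131, 4, -94])))) (.node (.node (.node (.node (.leaf []) (.leaf [0, 0, 0, -5, 0, 2, 4, 0, -1])) (.leaf [])) (.node (.leaf [406, 269, 0, -518, 1426, 537, -1036, 0, 45, -269, 38, -348]) (.leaf [-3, -3, 0, -26, 1, 3, 20, -1, -5, 3, 0, 2]))) (.node (.node (.leaf [-1, 0, 0, 6, -2, -2, -2, 0, 2]) (.leaf [334, 157, 0, 797, 440, 102, -1164, -2, 133, -147, 21, -160])) (.node (.leaf [-5090, -2874,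 0, -4712, -9696, -4137, 14933, -22, -1063, 2823, -154, 2940]) (.leaf [-14122, -7144, 0, 26600, -31507, -26078, 17822, -177, 7686, 7193, 436, 8734]))))) (.node (.node (.node (.node (.node (.leaf []) (.leaf [-16, -11, 0, 143, -83, -65, -23, 0, 25, 11, 0, 20])) (.leaf [])) (.node (.leaf []) (.leaf [-1692, -700, 0, -1696, -1014, -1866, 3608, -12, 332, 705, 104, 622]))) (.node (.node (.leaf [-2, 0, 0, -21, 7, 2, 12, 0, -2]) (.leaf [244, 158, 0, -1819, 1091, 843, 252, 0, -370, -158, -14, -215])) (.node (.leaf []) (.leaf [2874, 1393, 0, 2140, 5185, 2517, -7801, 25, 212, -1363, 137, -1653])))) (.node (.node (.node (.leaf []) (.leaf [-3, 0, 0, -38, 14, 9, 18, 0, -4, 0, 0, -2])) (.node (.leaf []) (.leaf [296, 183, 0, 115, 586, 329, -795, 1, 47, -182, 0, -191]))) (.node (.node (.leaf []) (.leaf [0, -1, 0, 1, 0, 0, -1, 0, 0, 1])) (.node (.leaf []) (.leaf [-490, -314, 0, 854, -1786, -719, 1141, 1, -5, 312, -45, 431])))))) (.node (.node (.node (.node (.node (.node (.leaf []) (.leaf [-4694,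 -2005, 0, -11280, -2017, -2818, 13868, -46, -782, 1941, 154, 1734])) (.leaf [83, 69, 0, -157, 472, 99, -310, 0, 68, -69, 19, -112])) (.node (.leaf []) (.leaf [6, 14, 0, -301, 134, 94, 111, 0, -54, -14, -2, -17]))) (.node (.node (.leaf []) (.leaf [])) (.node (.leaf [0, 0, 0, -5, 1, 1, 3, 0, -1]) (.leaf [-453, -284, 0, 3473, -2124, -1577, -470, -3, 691, 285, 16, 422])))) (.node (.node (.node (.leaf []) (.leaf [-573, -274, 0, 3697, -1819, -2031, -671, -20, 918, 280, 50, 502])) (.node (.leaf []) (.leaf [496, 289, 0, 103, 1167, 484, -1349, 2, 55, -277, 23, -325]))) (.node (.node (.leaf []) (.leaf [])) (.node (.leaf []) (.leaf [49, 25, 0, -301, 132, 145, 83, 5, -106, -19, -18, -9]))))) (.node (.node (.node (.node (.node (.leaf []) (.leaf [-11034, -5845, 0, -8539, -20584, -9437, 30870, -123, -1433, 5985, -441, 6071])) (.leaf [-1554, -970, 0, 3274, -5147, -2573, 2817, -8, 407, 965, -76, 1217])) (.node (.leaf []) (.leaf [1, 0, 0, -2, 0, 2, 1, 0, -2]))) (.node (.node (.leaf []) (.leaf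 [1647, 626, 0, 1747, -111, 2165, -2925, 34, -573, -683, -191, -475])) (.node (.leaf []) (.leaf [17866, 10222, 0, -45218, 54000, 33849, -23925, 111, -8706, -10193, 261, -13173])))) (.node (.node (.node (.leaf [1, 0, 0, 5, 1, -1, -5, 0, 1]) (.leaf [4534, 2373, 0, 2560, 8999, 4055, -12200, 26, 284, -2289, 237, -2690])) (.node (.leaf []) (.leaf [-26, -14, 0, 84, -77, -56, 23, 1, 17, 14, 0, 18]))) (.node (.node (.leaf []) (.leaf [])) (.node (.leaf [17, 13, 0, -171, 119, 67, 18, 0, -24, -13, 1, -23]) (.leaf [5306, 2877, 0, 1074, 13419, 4485, -14997, 30, 723, -2917, 420, -3219])))))))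

def bigL51 : Janko.Tree (List ℤ) :=
  (.node (.node (.node (.node (.node (.node (.node (.leaf []) (.leaf [534, 332, 0, -605, 1445, 760, -1092, 2, -97, -326, 16, -367])) (.leaf [-344, -238, 0, 1924, -1610, -917, 126, 0, 301, 238, -10, 323])) (.node (.leaf [-9, -4, 0, 4, -29, -7, 25, 0, -1, 4, -1, 6]) (.leaf [63, 35, 0, -116, 228, 76, -126, 6, -23, -35, 1, -37]))) (.node (.node (.leaf []) (.leaf [1896, 1175, 0, -4470, 6282, 3316, -3114, 2, -643, -1165, 81, -1476])) (.node (.leaf []) (.leaf [345, 243, 0, 1447, 671, -192, -1745, -2, 389, -232, 53, -192])))) (.node (.node (.node (.node (.leaf []) (.leaf [0, 0, 0, -8, 3, 2, 4, 0, -1])) (.leaf [-75, -63, 0, 1520, -732, -535, -468, 0, 283, 63, 4, 120])) (.node (.leaf [281, 153, 0, -552, 752, 501, -426, 2, -114, -153, 1, -198]) (.leaf [-10, 71, 0, -3652, 1629, 1044, 1366, 2, -541, -77, -3, -241]))) (.node (.node (.leaf [-1078, -695, 0, 4758, -4093, -2639, 642, 0, 845, 695, 7, 886]) (.leaf [477, 277, 0, -814, 1419, 760, -888, 3,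 -121, -273, 20, -360])) (.node (.leaf [-9, -11, 0, 323, -170, -99, -98, 0, 52, 11, -2, 27]) (.leaf [-1799, -1254, 0, 6574, -7782, -3608, 2576, -13, 736, 1239, -117, 1653]))))) (.node (.node (.node (.node (.node (.leaf [1, 0, 0, -1, 3, 1, -2, 0, -1]) (.leaf [5391, 2984, 0, -10464, 14142, 9618, -8057, 50, -2240, -3028, 2, -3701])) (.leaf [48, 25, 0, -147, 136, 106, -44, 1, -31, -26, -1, -36])) (.node (.leaf [1, 0, 0, 13, -3, -2, -8, 0, 2]) (.leaf [-1222, -549, 0, 150, -2348, -1471, 2685, -21, 205, 541, -57, 762]))) (.node (.node (.leaf []) (.leaf [0, 0, 0, 0, -1, 0, 1])) (.node (.leaf [0, 14, 0, -290, 165, 74, 85, 0, -32, -14, 0, -21]) (.leaf [-11, -17, 0, 224, -197, -51, -12, 0, 15, 17, -5, 26])))) (.node (.node (.node (.leaf []) (.leaf [])) (.node (.leaf []) (.leaf [0, -1, 0, 0, 0, 0, 0, 0, 0, 1]))) (.node (.node (.leaf []) (.leaf [-59, -37, 0, 207, -186, -135, 46, 0, 42, 37, 2, 44])) (.node (.leaf [-12, -11, 0, 291, -155, -98, -78, 0, 44, 12, 0, 26]) (.leaf [-22454, -12279,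 0, 31824, -53217, -36748, 37551, -189, 7758, 12252, 194, 14528])))))) (.node (.node (.node (.node (.node (.node (.leaf []) (.leaf [17, 0, 0, -47, -44, 78, 27, 1, -24, -3, -8, -12])) (.leaf [124, 68, 0, 158, 146, 124, -348, 0, 27, -68, -5, -68])) (.node (.leaf [3, -1, 0, 146, -48, -39, -70, 0, 27, 1, 1, 4]) (.leaf [-16, -3, 0, -13, -26, -11, 43, 0, -1, 3, -1, 8]))) (.node (.node (.leaf []) (.leaf [303, 193, 0, -1432, 1141, 785, -111, 0, -269, -193, -6, -249])) (.node (.leaf [268, 143, 0, 1208, 163, -70, -1199, 0, 233, -138, 17, -115]) (.leaf [14189, 8180, 0, -4272, 34810, 16426, -35017, 93, 141, -8126, 570, -9359])))) (.node (.node (.node (.leaf []) (.leaf [-50, -29, 0, 213, -169, -124, 21, 0, 44, 29, 1, 39])) (.node (.leaf []) (.leaf [429, 224, 0, 857, 617, 207, -1421, 0, 148, -215, 22, -224]))) (.node (.node (.leaf []) (.leaf [43, 41, 0, -567, 342, 212, 109, 0, -88, -41, -1, -60])) (.node (.leaf []) (.leaf [23, 11, 0, 18, 42, 21, -65, 1, 3, -11, 0, -13]))))) (.node (.node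 (.node (.node (.node (.leaf []) (.leaf [-6791, -4472, 0, 36457, -31608, -17658, 3533, -26, 5456, 4573, -368, 6541])) (.leaf [-876, -527, 0, -634, -2004, -704, 2666, -3, -237, 524, -60, 570])) (.node (.leaf []) (.leaf [-2, 0, 0, -8, 4, -1, 5, 0, 1]))) (.node (.node (.leaf []) (.leaf [-353, -290, 0, 1796, -1947, -812, 450, 0, 146, 293, -40, 389])) (.node (.leaf [-274, -127, 0, -1486, -23, 139, 1299, 0, -263, 121, -19, 99]) (.leaf [15978, 9090, 0, -37621, 46980, 29478, -22408, 106, -7380, -9060, 218, -11580])))) (.node (.node (.node (.leaf []) (.leaf [])) (.node (.leaf []) (.leaf [-18, 6, 0, -328, 139, 51, 162, -1, -54, -3, 2, -4]))) (.node (.node (.leaf []) (.leaf [0, 0, 0, -1, 0, 1, 1, 0, -1])) (.node (.leaf [12, 7, 0, -137, 75, 52, 31, 0, -27, -7, 0, -12]) (.leaf [39257, 22302, 0, -86639, 113078, 71086, -58235, 183, -16269, -22332, 300, -28088])))))))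

def bigL52 : Janko.Tree (List ℤ) :=
  (.node (.node (.node (.node (.node (.node (.node (.leaf []) (.leaf [437, 247, 0, 341, 791, 387, -1196, 1, 44, -241, 14, -247])) (.leaf [-1, 0, 0, 3, -3, -1, 1, 0, 1])) (.node (.leaf [-6, -4, 0, 12, -29, -6, 18, 0, -3, 4, -1, 6]) (.leaf []))) (.node (.node (.leaf [200, 114, 0, 84, 453, 181, -569, 1, 36, -114, 8, -122]) (.leaf [-3295, -2311, 0, -1910, -12164, -1395, 12517, 65, -2015, 2094, -590, 2818])) (.node (.leaf [1, 0, 0, 7, -3, -1, -4, -1, 1, 0, 1]) (.leaf [71, -440, 0, -1200, -2094, 869, 2586, 57, -1646, 552, -74, 246])))) (.node (.node (.node (.node (.leaf []) (.leaf [-9, -4, 0, -3, -27, -5, 29, 0, -2, 4, -1, 6])) (.leaf [-31, -22, 0, 659, -290, -234, -224, 0, 133, 22, 3, 46])) (.node (.leaf [0, 0, 0, 5, -2, -1, -2, 0, 1]) (.leaf [-108, -64, 0, 473, -414, -265, 72, 0, 81, 63, -2, 96]))) (.node (.node (.leaf [7, -10, 0, -105, -2, 48, 72, 0, -48, 10, 2, -3]) (.leaf [0, 0, 0, -11, 3, 2, 6, 0, -2])) (.node (.leaf [556, 336, 0, -2794,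 2277, 1506, -244, 1, -452, -339, 15, -547]) (.leaf [-410, -284, 0, 1826, -1770, -955, 369, 0, 262, 284, -16, 371]))))) (.node (.node (.node (.node (.node (.leaf []) (.leaf [-128, -40, 0, -1649, 438, 331, 943, -1, -256, 32, -6, -15])) (.leaf [0, 1, 0, 2, -1, 0, 0, 0, 0, -1])) (.node (.leaf []) (.leaf [836, 345, 0, 2301, 791, 233, -2920, 8, 324, -335, 51, -382]))) (.node (.node (.leaf [0, 0, 0, -7, 5, 1, 2, 0, -1]) (.leaf [])) (.node (.leaf []) (.leaf [-302, -197, 0, 1363, -1219, -732, 207, 0, 224, 198, -5, 260])))) (.node (.node (.node (.leaf []) (.leaf [])) (.node (.leaf []) (.leaf [-9206, -5359, 0, 12304, -24493, -13986, 17518, -36, 2195, 5290, -193, 6343]))) (.node (.node (.leaf []) (.leaf [75, 48, 0, -512, 380, 227, 20, 2, -91, -47, 1, -74])) (.node (.leaf [0, 1]) (.leaf [807, 404, 0, -6023, 3135, 2869, 1175, -2, -1422, -373, -80, -647])))))) (.node (.node (.node (.node (.node (.node (.leaf []) (.leaf [229, 217, 0, -4654, 2074, 1860, 1421, 9, -775, -235, -45, -462]))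 (.leaf [-5, -3, 0, -24, -2, 4, 20, 0, -1, 2])) (.node (.leaf [-42, -24, 0, 12, -72, -63, 88, 0, 5, 24, 2, 26]) (.leaf [49, 23, 0, -25, 57, 80, -73, 0, -23, -23, -3, -24]))) (.node (.node (.leaf []) (.leaf [1793, 1151, 0, -11308, 8468, 5430, 78, 15, -1857, -1139, 34, -1878])) (.node (.leaf [0, 0, 0, 0, -1, 0, 1]) (.leaf [-75, -46, 0, -34, -156, -79, 209, -1, -16, 46, -1, 51])))) (.node (.node (.node (.leaf []) (.leaf [709, 298, 0, 9817, -2267, -2224, -5814, -9, 1707, -289, 45, 191])) (.node (.leaf []) (.leaf [-114, -70, 0, -639, -140, 98, 640, 0, -158, 67, -16, 59]))) (.node (.node (.leaf []) (.leaf [-426, -278, 0, 2318, -1992, -1085, 187, 1, 371, 278, -20, 386])) (.node (.leaf []) (.leaf [-1039, -600, 0, 2887, -3488, -1956, 1426, -1, 495, 595, -54, 820]))))) (.node (.node (.node (.node (.node (.leaf []) (.leaf [2332, 492, 0, 21014, -7340, -2522, -11829, 23, 2411, -433, -217, 258])) (.leaf [17, 11, 0, -109, 78, 51, 4, 0, -20, -11, 0, -15])) (.node (.leaf []) (.leaf [-657,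 -335, 0, 1964, -1797, -1383, 557, -4, 478, 341, 19, 421]))) (.node (.node (.leaf [-610, -418, 0, 2131, -2047, -1449, 620, 0, 319, 422, 9, 546]) (.leaf [89, -12, 0, -762, -97, 477, 478, 2, -326, 15, -48, -11])) (.node (.leaf []) (.leaf [6521, 4189, 0, -18127, 25041, 11428, -10852, -26, -2207, -4024, 540, -5629])))) (.node (.node (.node (.leaf [1, 0, 0, -1, 2, 1, -1, 0, -1]) (.leaf [13408, 7708, 0, -38208, 40102, 27537, -15248, 99, -7488, -7782, -175, -9799])) (.node (.leaf [-73, -121, 0, 5705, -2355, -1811, -2179, 3, 983, 130, 20, 366]) (.leaf [-157, -84, 0, -482, -184, -24, 611, 1, -97, 81, -10, 78]))) (.node (.node (.leaf []) (.leaf [0, 0, 0, 32, -10, -7, -16, 0, 7])) (.node (.leaf [31, 15, 0, -34, 69, 47, -55, 0, -10, -15, 0, -19]) (.leaf [14581, 9396, 0, -47237, 49303, 31219, -16431, 85, -7890, -9435, 50, -11808])))))))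

def bigL53 : Janko.Tree (List ℤ) :=
  (.node (.node (.node (.node (.node (.node (.node (.leaf []) (.leaf [-9255, -5791, 0, 11854, -26800, -13418, 19445, -39, 1240, 5727, -317, 6719])) (.leaf [-2, 1, 0, -69, 33, 16, 26, 0, -8, -1, 0, -4])) (.node (.leaf []) (.leaf [85, 41, 0, -259, 317, 161, -133, -2, -29, -41, 6, -72]))) (.node (.node (.leaf [-446, -290, 0, 2299, -1747, -1188, 64, 2, 448, 290, 10, 352]) (.leaf [206, 123, 0, -228, 697, 257, -530, 0, 20, -123, 22, -171])) (.node (.leaf [106, 54, 0, 945, -206, -117, -633, 1, 173, -54, -8, -18]) (.leaf [-3808, -2110, 0, 4691, -9585, -5681, 7097, -5, 1038, 2057, -72, 2517])))) (.node (.node (.node (.node (.leaf []) (.leaf [2, 1, 0, -3, 5, 3, -3, 0, -1, 0, 0, -1])) (.leaf [1, 3, 0, 13, -4, 2, -7, 0, 3, -3, 1, -4])) (.node (.leaf [-8, -12, 0, 95, -84, -32, 0, 0, 6, 12, -1, 15]) (.leaf []))) (.node (.node (.leaf [5, 0, 0, 74, -23, -15, -39, 0, 10, 0, 0, 2]) (.leaf [25083, 14247, 0, -39444, 77829, 36323, -51463, 23, -4171, -14409,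 1357, -17903])) (.node (.leaf []) (.leaf [-314, -232, 0, 1847, -1571, -865, 129, -2, 259, 232, -10, 321]))))) (.node (.node (.node (.node (.node (.leaf []) (.leaf [-110, -43, 0, -511, 95, 13, 377, 1, -27, 36, 4, 10])) (.leaf [8498, 3820, 0, -60245, 30727, 30207, 11098, 168, -14202, -3962, -732, -6944])) (.node (.leaf [0, 0, 0, 13, -2, -3, -8, 0, 3]) (.leaf [21, 16, 0, -73, 97, 40, -36, 0, -6, -15, 2, -21]))) (.node (.node (.leaf []) (.leaf [0, -5, 0, 94, -47, -27, -30, 0, 10, 5, 1, 7])) (.node (.leaf []) (.leaf [334, 165, 0, -28, 653, 405, -761, 5, -33, -166, 12, -210])))) (.node (.node (.node (.leaf []) (.leaf [-1374, -812, 0, 532, -3430, -1646, 3357, 2, -16, 801, -66, 943])) (.node (.leaf [410, 286, 0, -1229, 1461, 830, -582, 1, -159, -286, 8, -349]) (.leaf [7600, 4536, 0, -736, 18392, 8333, -19613, 35, 492, -4476, 318, -5032]))) (.node (.node (.leaf [30, 16, 0, -39, 79, 46, -59, 0, -6, -16, 1, -21]) (.leaf [-107, -71, 0, 316, -386, -214, 161, 0, 37, 71, -3, 93])) (.node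 (.leaf [23, 11, 0, 29, 23, 21, -59, 0, 0, -10, 0, -11]) (.leaf [8410, 5049, 0, -22840, 28110, 15816, -11954, 46, -3725, -5012, 265, -6567])))))) (.node (.node (.node (.node (.node (.node (.leaf []) (.leaf [93, 32, 0, 207, 166, 19, -345, 3, 43, -32, 10, -50])) (.leaf [1, 0, 0, -6, 5, 1, 0, 0, -1])) (.node (.leaf []) (.leaf [432, 166, 0, 3991, -577, -741, -2744, -1, 702, -151, 35, -54]))) (.node (.node (.leaf []) (.leaf [-822, -400, 0, -8606, 1501, 1742, 5617, 10, -1510, 388, -48, -41])) (.node (.leaf [0, 0, 0, -5, 1, 1, 3, 0, -1]) (.leaf [-65, -41, 0, 526, -369, -213, -47, 1, 91, 40, -5, 68])))) (.node (.node (.node (.leaf []) (.leaf [])) (.node (.leaf []) (.leaf [473, 133, 0, 1887, 119, -89, -1776, 14, 181, -124, 32, -128]))) (.node (.node (.leaf []) (.leaf [74, 48, 0, -499, 363, 228, 18, 0, -85, -48, 1, -73])) (.node (.leaf [240, 153, 0, -966, 924, 543, -207, 0, -163, -150, 6, -203]) (.leaf [-3183, -1902, 0, 19053, -10107, -10800, -2616, -29, 4425, 1857, 387, 2718])))))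 (.node (.node (.node (.node (.node (.leaf []) (.leaf [27, 7, 0, 652, -169, -166, -359, 1, 128, -6, 4, 10])) (.leaf [-340, -212, 0, 749, -1113, -576, 580, -2, 108, 209, -14, 263])) (.node (.leaf [13, -4, 0, 186, -91, -30, -79, 0, 17, 4, -1, 8]) (.leaf [-1, 0, 0, 0, 0, -1, 1, 0, 1]))) (.node (.node (.leaf []) (.leaf [1901, 949, 0, -5074, 3149, 4577, -819, 38, -1668, -1009, -241, -1060])) (.node (.leaf [129, 66, 0, 641, 63, -53, -608, 0, 125, -63, 8, -53]) (.leaf [-3282, -1778, 0, -471, -6873, -3509, 8293, -6, -80, 1748, -114, 2020])))) (.node (.node (.node (.leaf []) (.leaf [])) (.node (.leaf []) (.leaf [25, 13, 0, 21, 32, 29, -64, 0, 3, -13, 0, -16]))) (.node (.node (.leaf []) (.leaf [8, 9, 0, -223, 106, 73, 73, 0, -40, -9, -1, -15])) (.node (.leaf [-47, -29, 0, 176, -157, -112, 37, 0, 33, 29, 1, 38]) (.leaf [4297, 2550, 0, 2963, 8554, 4046, -12559, -4, 1140, -2621, 43, -2545])))))))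

def bigL54 : Janko.Tree (List ℤ) :=
  (.node (.node (.node (.node (.node (.node (.node (.leaf []) (.leaf [-13704, -8287, 0, 1917, -34546, -14902, 35826, -36, -1122, 8133, -701, 9349])) (.leaf [0, 0, 0, 7, -1, -2, -4, 0, 2])) (.node (.leaf [199, 140, 0, -52, 677, 190, -628, 1, 76, -137, 19, -167]) (.leaf [0, 0, 0, 0, -1, 0, 1]))) (.node (.node (.leaf []) (.leaf [-12755, -6830, 0, 29459, -32065, -25008, 14962, -150, 7214, 6866, 368, 8517])) (.node (.leaf [-60, -38, 0, 134, -233, -96, 126, 0, 8, 38, -8, 56]) (.leaf [])))) (.node (.node (.node (.node (.leaf []) (.leaf [15, 12, 0, -152, 88, 63, 29, 0, -28, -11, -1, -16])) (.leaf [1320, 881, 0, -6038, 5688, 3113, -1046, 4, -930, -878, 60, -1192])) (.node (.leaf [166, 126, 0, -491, 483, 371, -189, -6, -72, -126, -17, -115]) (.leaf [-24, -10, 0, 36, -48, -40, 33, 1, 12, 10, -1, 14]))) (.node (.node (.leaf []) (.leaf [0, 0, 0, -2, 0, 1, 2, 0, -1])) (.node (.leaf [0, 0, 0, 9, -5, -2, -3, 0, 2]) (.leaf [-268, -35, 0, -1686, 1958,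 -354, 260, 15, 158, 52, 200, -250]))))) (.node (.node (.node (.node (.node (.leaf []) (.leaf [1912, 811, 0, -9374, 3128, 6395, 1967, 84, -2906, -914, -441, -1055])) (.leaf [-4771, -2451, 0, 1020, -8538, -6149, 10034, -44, 813, 2452, 104, 2577])) (.node (.leaf []) (.leaf []))) (.node (.node (.leaf []) (.leaf [1058, 622, 0, -2920, 3391, 2017, -1357, 0, -550, -617, 28, -783])) (.node (.leaf []) (.leaf [1864, 1111, 0, -2013, 4951, 2736, -3939, 19, -220, -1118, 41, -1337])))) (.node (.node (.node (.leaf [0, 0, 0, 1, -1]) (.leaf [1828, 1060, 0, -3152, 4934, 3057, -3062, 3, -610, -1048, 21, -1278])) (.node (.leaf []) (.leaf [-7, -3, 0, -40, 2, 4, 33, 0, -6, 3, -1, 2]))) (.node (.node (.leaf []) (.leaf [-11010, -5634, 0, 17761, -24723, -19069, 15858, -84, 5149, 5541, 174, 6965])) (.node (.leaf []) (.leaf [264, 125, 0, 692, 539, 20, -1097, 0, 194, -123, 45, -178])))))) (.node (.node (.node (.node (.node (.node (.leaf []) (.leaf [-268, -155, 0, -266, -356, -267, 701, 0, -23, 152,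 5, 142])) (.leaf [-2518, -2377, 0, 14652, -19655, -4665, 5422, 105, 91, 2149, -759, 3610])) (.node (.leaf [0, 0, 0, -4, 2, 1, 2, 0, -1]) (.leaf [213, 122, 0, -611, 728, 409, -292, 1, -100, -122, 11, -172]))) (.node (.node (.leaf [0, 0, 0, -1, 1]) (.leaf [-231, -122, 0, -7190, 2460, 1798, 3498, 7, -1286, 122, 25, -304])) (.node (.leaf [0, 0, 0, 1, -2, 0, 0, 0, 1]) (.leaf [65, -9, 0, 570, 330, -417, -534, -9, 68, 27, 66, 62])))) (.node (.node (.node (.leaf []) (.leaf [])) (.node (.leaf [1, 4, 0, 409, -135, -131, -180, -1, 74, -4, 5, 23]) (.leaf [-189, -130, 0, 1002, -860, -486, 84, 0, 163, 127, -5, 174]))) (.node (.node (.leaf []) (.leaf [4245, 2513, 0, -5255, 11595, 6151, -8550, 6, -797, -2480, 120, -2915])) (.node (.leaf []) (.leaf [-3020, -1401, 0, 431, -4339, -4067, 5738, -38, 865, 1406, 92, 1513]))))) (.node (.node (.node (.node (.node (.leaf []) (.leaf [83, -242, 0, 5161, -3929, -797, -1068, 35, 315, 194, -158, 498])) (.leaf [-7227, -3783, 0, -1534, -12607, -8221, 17045,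 -59, 393, 3765, 65, 3932])) (.node (.leaf [-602, -423, 0, 3479, -2785, -1661, 130, 0, 564, 423, -1, 550]) (.leaf [-1250, -669, 0, 3027, -3768, -2275, 1695, -17, 651, 665, -57, 929]))) (.node (.node (.leaf []) (.leaf [929, 498, 0, -2918, 2595, 2042, -729, 4, -687, -492, -27, -651])) (.node (.leaf [2118, 1332, 0, -7630, 7523, 4702, -2123, 8, -1261, -1351, 19, -1733]) (.leaf [-11635, -6608, 0, 13992, -31515, -16529, 23386, -82, 2399, 6621, -453, 7848])))) (.node (.node (.node (.leaf []) (.leaf [])) (.node (.leaf []) (.leaf [-3, 0, 0, -50, 14, 12, 27, 0, -7, 0, 0, -2]))) (.node (.node (.leaf [10, 6, 0, -42, 35, 26, -7, 0, -6, -7, 0, -9]) (.leaf [0, 0, 0, 1, 2, 0, -2])) (.node (.leaf []) (.leaf [-9728, -5015, 0, -11170, -16495, -7239, 28387, -46, -1669, 4913, -400, 5276])))))))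

def bigL55 : Janko.Tree (List ℤ) :=
  (.node (.node (.node (.node (.node (.node (.node (.leaf []) (.leaf [-6953, -4182, 0, 850, -17198, -7557, 18059, -30, -503, 4127, -305, 4615])) (.leaf [-892, -585, 0, 2104, -2751, -1734, 1400, 0, 277, 585, -9, 742])) (.node (.leaf [21, 7, 0, 95, -17, 3, -74, 1, 7, -7, -1, -5]) (.leaf []))) (.node (.node (.leaf [0, 0, 0, -1, 1]) (.leaf [1463, 755, 0, 4948, 1511, 37, -5787, 2, 894, -722, 109, -681])) (.node (.leaf []) (.leaf [-1172, -1360, 0, 4491, -8280, -1692, 3616, 31, -547, 1304, -286, 1586])))) (.node (.node (.node (.node (.leaf []) (.leaf [-67, -44, 0, 42, -228, -72, 195, 0, -17, 44, -7, 56])) (.leaf [-26, -6, 0, -113, 0, 2, 105, 1, -16, 6, -2, 9])) (.node (.leaf []) (.leaf [-1, 0, 0, 3, -2, -3, 1, 0, 1, 0, 0, 1]))) (.node (.node (.leaf []) (.leaf [27, 44, 0, -882, 336, 312, 344, 1, -174, -44, -19, -42])) (.node (.leaf [-1, -1, 0, -8, 2, 1, 5]) (.leaf [1289, 606, 0, -185, 2656, 1523, -2937, 21, -159, -597, 69, -830]))))) (.node (.node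 (.node (.node (.node (.leaf []) (.leaf [-65, -37, 0, -1327, 514, 250, 637, 5, -217, 35, 7, -31])) (.leaf [14184, 7397, 0, -53531, 44238, 33547, -8158, 186, -11835, -7433, -256, -10697])) (.node (.leaf []) (.leaf [13, 7, 0, -189, 71, 73, 68, 0, -46, -7, -5, -6]))) (.node (.node (.leaf []) (.leaf [])) (.node (.leaf [-357, -210, 0, 188, -900, -435, 834, 0, 20, 204, -15, 239]) (.leaf [1153, 594, 0, -1867, 2721, 1990, -1785, 4, -454, -599, -1, -765])))) (.node (.node (.node (.leaf []) (.leaf [])) (.node (.leaf [0, 0, 0, -1, 1]) (.leaf [-1085, -653, 0, 3014, -3614, -2076, 1497, -3, 495, 652, -34, 847]))) (.node (.node (.leaf []) (.leaf [6109, 2847, 0, 4634, 7114, 6538, -14240, 76, -576, -2817, -168, -2888])) (.node (.leaf [86, 45, 0, 767, -51, -147, -570, 0, 154, -42, 11, -24]) (.leaf [-698, -446, 0, 1132, -2090, -1079, 1338, -3, 157, 439, -19, 505])))))) (.node (.node (.node (.node (.node (.node (.leaf [0, 0, 0, 3, 0, 0, -2]) (.leaf [0, 0, 0, 14, -3, -4, -8, 0, 4])) (.leaf []))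 (.node (.leaf []) (.leaf [390, 234, 0, -826, 1175, 721, -652, 1, -112, -237, 17, -327]))) (.node (.node (.leaf [0, 0, 0, 0, -1, 1]) (.leaf [5293, 3287, 0, -10826, 15675, 9156, -8659, 10, -1792, -3272, 47, -3790])) (.node (.leaf [-1, 0, 0, 3, -3, -1, 1, 0, 1]) (.leaf [-171, -111, 0, 545, -635, -346, 234, 1, 74, 110, -9, 150])))) (.node (.node (.node (.leaf [0, 0, 0, -1, 0, 0, 1]) (.leaf [])) (.node (.leaf []) (.leaf [144, 64, 0, 926, -125, -89, -669, 5, 119, -59, 10, -45]))) (.node (.node (.leaf []) (.leaf [-345, -336, 0, 13744, -5181, -5024, -5244, -18, 2472, 383, 126, 1044])) (.node (.leaf [0, 0, 0, 3, -3, 0, 0, -1, 1]) (.leaf [-20821, -11289, 0, 22589, -55321, -28854, 43566, -32, 3215, 11325, -645, 13781]))))) (.node (.node (.node (.node (.node (.leaf []) (.leaf [-1320, -692, 0, 9721, -5899, -4330, -1441, -14, 2175, 677, 2, 1118])) (.leaf [0, 0, 0, 3, 0, -1, -2, 0, 1])) (.node (.leaf [-784, -432, 0, 1319, -2229, -1261, 1394, -8, 239, 429, -37, 583]) (.leaf [-2396, -1385,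 0, 5957, -7077, -4563, 3140, -22, 1215, 1374, -29, 1767]))) (.node (.node (.leaf []) (.leaf [1045, 623, 0, -3191, 3460, 2088, -1208, 0, -598, -617, 23, -788])) (.node (.leaf [-286, -206, 0, 1761, -1392, -789, 7, 3, 306, 196, -4, 258]) (.leaf [291, 99, 0, -372, 526, 476, -389, 6, -171, -88, -8, -166])))) (.node (.node (.node (.leaf []) (.leaf [272, 144, 0, -1097, 994, 625, -192, 6, -217, -145, 11, -228])) (.node (.leaf []) (.leaf []))) (.node (.node (.leaf []) (.leaf [])) (.node (.leaf [-1, 0, 0, -6, 1, 1, 5, 0, -1]) (.leaf [-9915, -4461, 0, -6722, -14843, -9697, 24544, -70, 398, 4365, -182, 5172])))))))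

def bigL56 : Janko.Tree (List ℤ) :=
  (.node (.node (.node (.node (.node (.node (.node (.leaf []) (.leaf [485, 278, 0, 386, 988, 405, -1415, 0, 98, -272, 27, -301])) (.leaf [])) (.node (.leaf []) (.leaf []))) (.node (.node (.leaf [0, 0, 0, 5, -2, -1, -2, 0, 1]) (.leaf [1597, 917, 0, 412, 3460, 1627, -4254, -1, 162, -896, 49, -998])) (.node (.leaf [-151, -112, 0, 899, -792, -407, 74, 0, 121, 112, -12, 161]) (.leaf [2959, 1487, 0, -3997, 5765, 5103, -4314, 31, -1322, -1507, -127, -1716])))) (.node (.node (.node (.node (.leaf []) (.leaf [-6, -3, 0, -36, 1, 4, 30, 0, -6, 3, 0, 2])) (.leaf [-1286, -700, 0, 1677, -3487, -1905, 2504, -16, 303, 684, -43, 913])) (.node (.leaf []) (.leaf [-7, -7, 0, 117, -58, -45, -32, 0, 20, 7, 1, 11]))) (.node (.node (.leaf [0, 0, 0, -5, 1, 1, 3, 0, -1]) (.leaf [])) (.node (.leaf []) (.leaf [1688, 562, 0, 16098, -2608, -3104, -10792, 5, 2718, -536, 157, -89]))))) (.node (.node (.node (.node (.node (.leaf [686, 328, 0, -171, 1459, 836, -1560, 10,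 -75, -325, 32, -448]) (.leaf [4327, 2652, 0, -2690, 11897, 5279, -10586, -13, 77, -2598, 245, -3107])) (.leaf [])) (.node (.leaf []) (.leaf []))) (.node (.node (.leaf []) (.leaf [-866, -563, 0, -158, -1969, -992, 2381, -9, -174, 563, -10, 612])) (.node (.leaf []) (.leaf [-3053, -1644, 0, 24714, -13906, -11240, -4306, -54, 5231, 1707, 97, 2846])))) (.node (.node (.node (.leaf [-1, 0, 0, -13, 6, 1, 6, 0, -1]) (.leaf [524, 275, 0, 254, 961, 524, -1349, 1, 17, -269, 16, -305])) (.node (.leaf [-270, -147, 0, 432, -830, -386, 531, 2, 63, 142, -17, 192]) (.leaf []))) (.node (.node (.leaf [30, 17, 0, 39, 46, 25, -88, 0, 7, -17, 2, -19]) (.leaf [1032, 629, 0, -2989, 3467, 1995, -1355, 5, -506, -626, 15, -779])) (.node (.leaf []) (.leaf [-457, -271, 0, 976, -1399, -789, 749, 0, 156, 268, -11, 338])))))) (.node (.node (.node (.node (.node (.node (.leaf []) (.leaf [15, 5, 0, -8, 11, 27, -20, 0, -7, -6, -1, -7])) (.leaf [-1337, -1014, 0, 8324, -7281, -3649, 557, 29, 1111, 966, -114,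 1468])) (.node (.leaf []) (.leaf [-1949, -552, 0, 1158, -1401, -3092, 2299, -97, 1292, 817, 152, 420]))) (.node (.node (.leaf [0, 0, 0, 1, 1, 0, -1]) (.leaf [])) (.node (.leaf [-1, 0, 0, 5, -2, -2, -1, 0, 2]) (.leaf [-249, -167, 0, 1142, -1067, -589, 182, 3, 185, 164, -19, 231])))) (.node (.node (.node (.leaf []) (.leaf [])) (.node (.leaf [63, 42, 0, 15, 211, 45, -216, 1, 29, -42, 8, -50]) (.leaf [-139, -68, 0, 387, -468, -266, 207, 1, 53, 69, -6, 113]))) (.node (.node (.leaf [-11, -2, 0, -36, -23, 4, 53, 0, -12, 3, -2, 6]) (.leaf [])) (.node (.leaf [-2038, -1167, 0, 1758, -4943, -2852, 4224, -4, 333, 1149, -39, 1351]) (.leaf [79, 97, 0, -1267, 801, 435, 242, 3, -176, -98, -2, -129]))))) (.node (.node (.node (.node (.node (.leaf []) (.leaf [-390, -270, 0, 2438, -1644, -1213, -132, 0, 456, 269, 27, 340])) (.leaf [3337, 2103, 0, -11350, 12400, 6896, -4060, 8, -1719, -2101, 125, -2791])) (.node (.leaf []) (.leaf [186, 87, 0, -1138, 822, 539, 41, 6, -228, -88, 12, -181]))) (.node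 (.node (.leaf []) (.leaf [0, 0, 0, 0, -1, 0, 1])) (.node (.leaf [65, 11, 0, 1274, -433, -262, -666, 0, 229, -14, -2, 24]) (.leaf [-3381, -1852, 0, 29700, -12840, -14537, -7607, -77, 6826, 1963, 601, 2903])))) (.node (.node (.node (.leaf []) (.leaf [-34570, -19689, 0, 67253, -95617, -59891, 54017, -227, 13565, 19624, -457, 24286])) (.node (.leaf []) (.leaf [-80, -59, 0, 148, -289, -123, 179, 0, 2, 59, -3, 65]))) (.node (.node (.leaf [0, 0, 0, -4, 0, 1, 3, 0, -1]) (.leaf [186, 131, 0, -1553, 973, 685, 210, 1, -285, -131, -3, -197])) (.node (.leaf []) (.leaf [-10566, -4960, 0, 783, -18821, -12815, 22836, -111, 1801, 4905, -108, 5918])))))))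

def bigL57 : Janko.Tree (List ℤ) :=
  (.node (.node (.node (.node (.node (.node (.node (.leaf [0, 0, 0, -1, 0, 0, 1]) (.leaf [114, 65, 0, -333, 361, 230, -135, 0, -62, -64, 2, -88])) (.leaf [-249, -144, 0, 417, -619, -442, 404, 0, 81, 143, 3, 177])) (.node (.leaf []) (.leaf [-216, -125, 0, -569, -239, -106, 791, -2, -128, 126, -1, 120]))) (.node (.node (.leaf [-1, 0, 0, 2, -2, 0, 1]) (.leaf [])) (.node (.leaf [16227, 8866, 0, -35779, 42242, 30689, -21039, 159, -8271, -8865, -260, -11059]) (.leaf [-82, -36, 0, -66, -152, -60, 221, -5, 3, 36, -2, 39])))) (.node (.node (.node (.node (.leaf []) (.leaf [12, 7, 0, -45, 40, 29, -10, 0, -7, -7, 0, -10])) (.leaf [107, 75, 0, -359, 424, 219, -155, 0, -39, -74, 4, -97])) (.node (.leaf [141, 98, 0, -1453, 730, 617, 355, 0, -308, -99, -16, -129]) (.leaf [0, 0, 0, -1, -3, 0, 3, 0, -1, 0, 0, 1]))) (.node (.node (.leaf [-1, 0, 0, -4, 1, -1, 3, 0, 1]) (.leaf [27, 41, 0, -713, 314, 256, 237, 1, -123, -41, -15, -45])) (.node (.leaf [-6, -3,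 0, -46, 13, 4, 30, 0, -7, 3, 1]) (.leaf [-1290, -734, 0, 3110, -3897, -2343, 1817, -2, 600, 725, -20, 918]))))) (.node (.node (.node (.node (.node (.leaf []) (.leaf [-58, -22, 0, -137, -240, 31, 313, -4, -72, 22, -15, 49])) (.leaf [-558, -291, 0, 1817, -1639, -1217, 427, -1, 430, 290, -5, 405])) (.node (.leaf []) (.leaf [948, 369, 0, 2746, 761, 256, -3335, 10, 383, -360, 47, -419]))) (.node (.node (.leaf []) (.leaf [-297, -178, 0, -2791, 63, 503, 2194, -12, -675, 178, -42, 167])) (.node (.leaf [24, 26, 0, 905, -145, -277, -535, 0, 210, -23, 13, 9]) (.leaf [-1563, -615, 0, 1871, -1994, -2822, 1733, -23, 1007, 636, 119, 733])))) (.node (.node (.node (.leaf []) (.leaf [-352, -230, 0, 2262, -1647, -1061, -68, 0, 397, 227, -3, 341])) (.node (.leaf [0, 3, 0, 0, 2, -1, 0, 0, 0, -2]) (.leaf [-9, -9, 0, 320, -141, -104, -114, 0, 60, 9, 1, 20]))) (.node (.node (.leaf []) (.leaf [109, 81, 0, 79, 194, 136, -335, -6, 59, -81, -10, -73])) (.node (.leaf [-892, -477, 0, -587, -1712, -802,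 2446, -2, -95, 465, -37, 525]) (.leaf [-804, -488, 0, 1507, -2225, -1392, 1310, -3, 275, 481, 4, 568])))))) (.node (.node (.node (.node (.node (.node (.leaf []) (.leaf [158, 58, 0, 1103, -16, -184, -891, -2, 208, -52, 22, -51])) (.leaf [-117, -77, 0, 296, -382, -211, 168, 2, 53, 76, -8, 89])) (.node (.leaf []) (.leaf [1211, 788, 0, -2734, 3793, 2238, -1975, 4, -375, -787, 31, -985]))) (.node (.node (.leaf [-324, -162, 0, -336, -538, -270, 916, -2, -44, 159, -16, 189]) (.leaf [])) (.node (.leaf [-13, -2, 0, 222, -63, -91, -93, 0, 56, 2, 5, 10]) (.leaf [0, 0, 0, -1, 0, 0, 1])))) (.node (.node (.node (.leaf [0, 0, 0, 1, 1, 0, -1]) (.leaf [169, -113, 0, -5633, -506, 2712, 3882, 51, -1954, 51, -294, 79])) (.node (.leaf []) (.leaf [-134, -64, 0, 156, -363, -193, 282, 0, 19, 64, -8, 99]))) (.node (.node (.leaf []) (.leaf [-729, -252, 0, -2865, -295, 48, 2867, -10, -409, 243, -45, 277])) (.node (.leaf []) (.leaf [44, 44, 0, -709, 426, 241, 151, 1, -109, -45, 0, -65]))))) (.node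 (.node (.node (.node (.node (.leaf []) (.leaf [767, 421, 0, -2141, 2527, 1440, -1000, 0, -404, -417, 46, -592])) (.leaf [0, 0, 0, 6, 1, -2, -5, 0, 2])) (.node (.leaf []) (.leaf [21, 19, 0, -149, 122, 64, -4, 0, -16, -19, 0, -24]))) (.node (.node (.leaf []) (.leaf [264, 96, 0, -346, 355, 507, -274, 7, -182, -96, -3, -168])) (.node (.leaf []) (.leaf [444, 191, 0, -530, 953, 691, -729, 6, -182, -180, 0, -280])))) (.node (.node (.node (.leaf [-14, -5, 0, -68, 5, 2, 57, 0, -9, 5, -1, 5]) (.leaf [348, 243, 0, -1603, 1534, 821, -296, 0, -230, -243, 15, -318])) (.node (.leaf [6581, 4145, 0, -1940, 15483, 8059, -16018, -21, 180, -4091, 78, -4286]) (.leaf [31, 19, 0, -188, 137, 94, 3, 0, -33, -19, 2, -33]))) (.node (.node (.leaf [0, -1, 0, -1, 1, 0, 0, 1]) (.leaf [-135, -76, 0, -376, -217, -15, 539, -1, -91, 75, -9, 69])) (.node (.leaf [3, 2, 0, 24, 0, -6, -17, 0, 3, -1]) (.leaf [920, 505, 0, -60, 1913, 1045, -2169, 2, -57, -496, 22, -543])))))))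

def bigL58 : Janko.Tree (List ℤ) :=
  (.node (.node (.node (.node (.node (.node (.node (.leaf []) (.leaf [1602, 1012, 0, -7574, 6126, 4201, -700, 20, -1342, -1030, -29, -1389])) (.leaf [-1, 0, 0, -10, 3, 0, 6])) (.node (.leaf [0, 0, 0, 3, 0, 0, -2]) (.leaf [116, 70, 0, -595, 479, 309, -40, 0, -104, -69, 2, -106]))) (.node (.node (.leaf []) (.leaf [-1442, -657, 0, 12482, -5217, -6057, -3362, -47, 3053, 716, 238, 1127])) (.node (.leaf [-736, -484, 0, 3449, -2825, -1868, 324, 6, 624, 485, 9, 598]) (.leaf [-2250, -1429, 0, 7156, -7799, -4666, 2736, -15, 1145, 1426, -23, 1822])))) (.node (.node (.node (.node (.leaf []) (.leaf [14, 6, 0, 95, -33, -1, -59, 0, 12, -6, -1, -3])) (.leaf [0, 1, 0, 0, 1, -1])) (.node (.leaf [0, 0, 0, -5, 1, 1, 3, 0, -1]) (.leaf [17, 9, 0, -114, 78, 50, 8, 0, -23, -9, -1, -12]))) (.node (.node (.leaf []) (.leaf [-33, -8, 0, -1259, 349, 361, 643, -1, -236, 4, -10, -40])) (.node (.leaf [-9, -4, 0, -8, -12, -8, 23, 0, 0, 4, -1, 5]) (.leaf [-2651, -1898,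 0, 6418, -9569, -4707, 4854, -3, 541, 1885, -110, 2272]))))) (.node (.node (.node (.node (.node (.leaf []) (.leaf [-14161, -8080, 0, 17001, -36580, -21220, 28134, -56, 2572, 8192, -182, 9513])) (.leaf [-358, -192, 0, 623, -1046, -563, 631, -7, 121, 192, -19, 260])) (.node (.leaf [0, 0, 0, 0, 2, 0, -1, 1, 0, 0, -1]) (.leaf [-69, -32, 0, -215, -37, -24, 244, 0, -32, 32, -2, 31]))) (.node (.node (.leaf []) (.leaf [15, 12, 0, -229, 94, 96, 74, 0, -46, -12, -3, -20])) (.node (.leaf []) (.leaf [-2107, -928, 0, -223, -2476, -2778, 4042, -19, 575, 934, 105, 964])))) (.node (.node (.node (.leaf []) (.leaf [-4646, -2263, 0, -4456, -6091, -4432, 11851, -58, -21, 2220, 23, 2343])) (.node (.leaf []) (.leaf [11, 4, 0, 90, -19, -12, -60, 0, 14, -4, 0, -1]))) (.node (.node (.leaf [-5, 1, 0, -96, 52, 17, 36, 0, -9, -1, 1, -6]) (.leaf [100, 77, 0, -55, 377, 101, -320, 0, 42, -77, 13, -91])) (.node (.leaf []) (.leaf [-782, -476, 0, 99, -2007, -836, 2078, -2, -82, 476, -50, 537])))))) (.node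 (.node (.node (.node (.node (.node (.leaf [0, 0, 0, -1, 0, 0, 1]) (.leaf [-1788, -1056, 0, 3467, -5476, -2903, 3109, -2, 569, 1041, -81, 1314])) (.leaf [1, 0, 0, -2, 4, 1, -3])) (.node (.leaf []) (.leaf [-439, -274, 0, 2415, -2032, -1129, 163, -2, 399, 278, -20, 392]))) (.node (.node (.leaf []) (.leaf [-27, -39, 0, 426, -318, -150, -44, 1, 36, 39, -8, 68])) (.node (.leaf [0, 0, 0, 9, -2, -2, -5, 0, 2]) (.leaf [-13, -10, 0, 131, -117, -44, 5, 0, 9, 10, -2, 21])))) (.node (.node (.node (.leaf []) (.leaf [9679, 4252, 0, -5223, 15650, 13995, -16907, 124, -3488, -4231, -196, -5177])) (.node (.leaf []) (.leaf [-75, -39, 0, 210, -240, -142, 96, 0, 40, 39, -2, 54]))) (.node (.node (.leaf []) (.leaf [4205, 2518, 0, 4708, 8144, 3139, -12995, 14, 1224, -2482, 147, -2476])) (.node (.leaf [-36, -17, 0, -4, -61, -44, 83, 0, 2, 17, -1, 22]) (.leaf [188, 110, 0, -1237, 737, 603, 164, -2, -282, -109, -4, -153]))))) (.node (.node (.node (.node (.node (.leaf []) (.leaf [-16827, -9628, 0, 39439,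 -49546, -31001, 23803, -108, 7644, 9597, -221, 12219])) (.leaf [-7225, -4187, 0, 366, -17061, -7838, 18604, -33, -417, 4139, -296, 4693])) (.node (.leaf [49, 51, 0, -500, 384, 200, 26, -1, -51, -51, 8, -85]) (.leaf [1060, 583, 0, 584, 1877, 1047, -2737, -1, 46, -568, 12, -585]))) (.node (.node (.leaf []) (.leaf [])) (.node (.leaf []) (.leaf [1147, 526, 0, -1734, 1283, 2352, -978, 25, -817, -550, -172, -511])))) (.node (.node (.node (.leaf []) (.leaf [435, 270, 0, -1475, 1567, 889, -482, -2, -257, -267, 17, -343])) (.node (.leaf [0, -1, 0, -1, -1, 0, 1, 0, 0, 1]) (.leaf [70, 47, 0, -548, 349, 245, 66, 0, -102, -47, -1, -70]))) (.node (.node (.leaf []) (.leaf [-356, -195, 0, 961, -1172, -667, 503, 2, 159, 192, -17, 281])) (.node (.leaf []) (.leaf [468, 288, 0, -1980, 1707, 1109, -266, 0, -392, -282, 1, -368])))))))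

def bigL59 : Janko.Tree (List ℤ) :=
  (.node (.node (.node (.node (.node (.node (.node (.leaf []) (.leaf [-50, -22, 0, -5, -70, -59, 99, 1, 14, 19, 0, 25])) (.leaf [])) (.node (.leaf []) (.leaf [578, 334, 0, -953, 1627, 929, -1044, 1, -158, -330, 14, -414]))) (.node (.node (.leaf []) (.leaf [3197, 1932, 0, -6910, 9969, 5660, -5480, 7, -873, -1962, 68, -2461])) (.node (.leaf []) (.leaf [-6173, -4640, 0, 31466, -32222, -14647, 6583, 56, 3257, 4486, -564, 6688])))) (.node (.node (.node (.node (.leaf [2, 0, 0, 12, -3, -1, -8, 0, 1]) (.leaf [-7, -6, 0, 5, -33, -4, 25, 0, -3, 6, -1, 6])) (.leaf [207, 85, 0, 1552, -197, -209, -1130, 2, 261, -81, 15, -57])) (.node (.leaf []) (.leaf [-7214, -3805, 0, 11009, -13743, -13062, 9420, -97, 3715, 3870, 467, 4021]))) (.node (.node (.leaf [-1, 0, 0, 4, -3, -2, 0, 0, 2]) (.leaf [-170, -97, 0, 87, -423, -212, 402, 1, 3, 96, -8, 117])) (.node (.leaf [-166, -126, 0, 486, -482, -370, 192, 6, 71, 126, 17, 115]) (.leaf [-1248, -812, 0, 8433, -5448,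 -4086, -728, -2, 1602, 815, 55, 1158]))))) (.node (.node (.node (.node (.node (.leaf [3, 0, 0, 12, 0, -1, -11, 0, 1]) (.leaf [80, 44, 0, -109, 129, 149, -94, -1, -46, -44, -2, -47])) (.leaf [])) (.node (.leaf [-424, -236, 0, 637, -1089, -666, 723, 0, 148, 230, -6, 277]) (.leaf []))) (.node (.node (.leaf []) (.leaf [1059, 632, 0, -3192, 3502, 2101, -1249, 0, -595, -626, 24, -798])) (.node (.leaf [41, 17, 0, 35, 60, 38, -107, 0, 1, -16, 1, -22]) (.leaf [-1457, -839, 0, 4049, -4718, -2836, 1910, -4, 720, 833, -55, 1156])))) (.node (.node (.node (.leaf []) (.leaf [])) (.node (.leaf [0, 1, 0, 0, 1, 0, 0, 0, 0, -1]) (.leaf [4, 5, 0, -22, 57, 1, -28, 0, 10, -5, 3, -10]))) (.node (.node (.leaf []) (.leaf [21, 8, 0, 52, 26, 4, -73, 0, 8, -8, 2, -9])) (.node (.leaf []) (.leaf [])))))) (.node (.node (.node (.node (.node (.node (.leaf []) (.leaf [-2987, -1805, 0, 9381, -10497, -5915, 3650, -12, 1626, 1785, -117, 2368])) (.leaf [0, 0, 0, 2, 0, 0, -1])) (.node (.leaf [-24, -17, 0, 203,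 -122, -90, -31, 0, 39, 17, 1, 24]) (.leaf []))) (.node (.node (.leaf [-259, -160, 0, 1454, -987, -753, -55, 0, 299, 160, 12, 209]) (.leaf [242, 101, 0, -568, 625, 442, -268, 7, -165, -102, 3, -152])) (.node (.leaf [-354, -293, 0, 2534, -2041, -1075, 33, 8, 323, 292, -8, 377]) (.leaf [])))) (.node (.node (.node (.leaf []) (.leaf [-1, 1, 0, -15, 7, 1, 7, 0, -2])) (.node (.leaf [11, 4, 0, 41, 25, -6, -57, 1, 13, -5, 2, -6]) (.leaf [1445, 839, 0, -4168, 4769, 2851, -1852, 4, -729, -833, 56, -1160]))) (.node (.node (.leaf [0, 2, 0, -1, 1, 0, 1, 0, 0, -2]) (.leaf [])) (.node (.leaf [-24, -15, 0, 125, -91, -68, 3, 0, 23, 15, 1, 21]) (.leaf [6688, 4739, 0, -186, 23526, 5029, -22135, -71, 2743, -4540, 957, -5513]))))) (.node (.node (.node (.node (.node (.leaf [0, 0, 0, -1, 1]) (.leaf [0, 0, 0, -1, 0, 0, 1])) (.leaf [102, 59, 0, 331, 112, 16, -406, 0, 70, -58, 6, -53])) (.node (.leaf [0, 0, 0, 1]) (.leaf [9113, 5112, 0, -22850, 27081, 17220, -12034, 59, -4559, -5125, 126, -6589])))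 (.node (.node (.leaf []) (.leaf [2892, 1478, 0, 778, 4871, 3266, -6834, -13, -134, -1461, 8, -1584])) (.node (.leaf [99, 54, 0, -357, 337, 226, -92, -1, -62, -54, 3, -85]) (.leaf [-203, -125, 0, -425, -287, -124, 706, -1, -104, 125, -2, 119])))) (.node (.node (.node (.leaf []) (.leaf [74, 71, 0, -2027, 1128, 602, 569, -1, -332, -68, 16, -162])) (.node (.leaf [0, 1, 0, -1, -1, 1, 1, 0, 0, 0, -1]) (.leaf [-806, -504, 0, -542, -1879, -637, 2439, 0, -208, 492, -41, 502]))) (.node (.node (.leaf [95, 55, 0, 469, 101, -56, -478, 1, 105, -52, 9, -44]) (.leaf [-6156, -3611, 0, -26204, -7555, 1973, 29127, -21, -6211, 3519, -559, 3127])) (.node (.leaf [-227, -152, 0, 1112, -1000, -565, 149, 0, 171, 152, -11, 213]) (.leaf [-1489, -532, 0, -4498, 328, -763, 4395, -23, -213, 535, 85, 391])))))))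

def bigL60 : Janko.Tree (List ℤ) :=
  (.node (.node (.node (.node (.node (.node (.node (.leaf []) (.leaf [-261, -130, 0, 450, -725, -415, 450, 0, 88, 127, -8, 180])) (.leaf [3, 0, 0, 10, 3, -2, -12, 0, 2])) (.node (.leaf []) (.leaf [-197, -155, 0, 2801, -1462, -1065, -719, 0, 515, 155, 9, 261]))) (.node (.node (.leaf [623, 299, 0, 98, 1285, 675, -1561, 10, -4, -296, 36, -409]) (.leaf [-4436, -2158, 0, -2825, -6323, -4644, 10669, -55, 273, 2119, 20, 2297])) (.node (.leaf [40, 29, 0, -475, 251, 190, 114, 0, -92, -29, -2, -46]) (.leaf [308, 125, 0, 677, 133, 209, -867, 1, 31, -122, -6, -117])))) (.node (.node (.node (.node (.leaf []) (.leaf [-4, -4, 0, 33, -32, -12, 4, 0, 2, 4, 0, 6])) (.leaf [0, -1, 0, 0, 0, 0, 0, 0, 0, 1])) (.node (.leaf [-556, -347, 0, 1705, -1968, -1098, 740, 0, 258, 346, -18, 448]) (.leaf [6, -1, 0, 37, -34, 6, -11, 0, -1, 0, -1, 1]))) (.node (.node (.leaf []) (.leaf [])) (.node (.leaf []) (.leaf []))))) (.node (.node (.node (.node (.node (.leaf [-1,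 0, 0, -1, 1, 0, 1]) (.leaf [-1624, -892, 0, 3420, -4898, -2795, 2620, -14, 609, 876, -58, 1225])) (.leaf [-3207, -1438, 0, -7652, -1328, -1948, 9423, -49, -518, 1447, 142, 1080])) (.node (.leaf []) (.leaf [-28, -14, 0, -210, 27, 21, 157, 0, -41, 14, -2, 13]))) (.node (.node (.leaf []) (.leaf [])) (.node (.leaf []) (.leaf [-3125, -1540, 0, 1593, -5681, -4360, 5973, -19, 822, 1534, 39, 1749])))) (.node (.node (.node (.leaf [0, 0, 0, -1, 1]) (.leaf [679, 412, 0, -1268, 1832, 1199, -1087, 1, -234, -409, -3, -484])) (.node (.leaf [0, 0, 0, 0, -1, 1]) (.leaf [5, 3, 0, 39, -9, -3, -25, 0, 5, -3, 0, -1]))) (.node (.node (.leaf []) (.leaf [-4619, -2788, 0, -2904, -9823, -4116, 13325, -14, -938, 2751, -158, 2840])) (.node (.leaf [-348, -177, 0, -493, -498, -253, 1019, 0, -62, 171, -11, 183]) (.leaf [-473, -346, 0, 4787, -3020, -1950, -697, -4, 762, 349, 3, 591])))))) (.node (.node (.node (.node (.node (.node (.leaf []) (.leaf [185, 146, 0, -5589, 2420, 1963, 1917, 2, -985, -161, -20,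 -440])) (.leaf [61, 39, 0, -299, 235, 163, -22, 0, -52, -39, -2, -52])) (.node (.leaf []) (.leaf [171, 77, 0, 847, 13, -52, -757, 0, 140, -75, 10, -62]))) (.node (.node (.leaf [-686, -381, 0, -3563, -324, 345, 3351, 8, -738, 362, -32, 261]) (.leaf [-1484, -938, 0, 5850, -5795, -3302, 1420, -6, 949, 935, -64, 1286])) (.node (.leaf []) (.leaf [-1829, -1018, 0, 2640, -4501, -2958, 3117, -17, 612, 1009, 7, 1202])))) (.node (.node (.node (.leaf [1, 0, 0, 3, -1, 1, -2, 0, -1]) (.leaf [0, 1])) (.node (.leaf []) (.leaf [1828, 710, 0, -1387, 1461, 3247, -2022, 33, -1178, -737, -215, -721]))) (.node (.node (.leaf [1095, 640, 0, -2233, 3024, 1968, -1668, 2, -425, -637, 1, -780]) (.leaf [-352, -196, 0, -46, -745, -371, 884, 0, -3, 190, -11, 213])) (.node (.leaf []) (.leaf [-1196, -102, 0, 9041, 731, -5999, -5014, -99, 3578, 244, 628, 205]))))) (.node (.node (.node (.node (.node (.leaf []) (.leaf [5682, 2704, 0, -18841, 9068, 15354, 156, 230, -6169, -2928, -1009, -3088])) (.leaf []))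 (.node (.leaf []) (.leaf [2725, 1429, 0, -12054, 6007, 8225, 1147, 26, -3392, -1377, -367, -1983]))) (.node (.node (.leaf []) (.leaf [1028, 722, 0, -3256, 4474, 1865, -1850, -4, -232, -717, 99, -966])) (.node (.leaf [-701, -356, 0, -5089, 727, 572, 3721, -2, -882, 326, 15, 180]) (.leaf [213, 113, 0, 773, 206, -10, -875, -1, 149, -110, 14, -94])))) (.node (.node (.node (.leaf []) (.leaf [])) (.node (.leaf [0, 0, 0, 1, -1, 0, 0, -1, 0, 1]) (.leaf [78, 32, 0, 312, 165, -35, -402, -1, 94, -32, 25, -65]))) (.node (.node (.leaf []) (.leaf [])) (.node (.leaf [-12, -5, 0, -25, -7, -10, 34, 0, -1, 5, -1, 7]) (.leaf [-579, -376, 0, 8299, -3860, -3444, -2307, -8, 1531, 400, 54, 852])))))))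

def bigL61 : Janko.Tree (List ℤ) :=
  (.node (.node (.node (.node (.node (.node (.node (.leaf []) (.leaf [-19, -11, 0, -37, -19, -12, 57, 0, -4, 10, 0, 9])) (.leaf [-183, -98, 0, 406, -595, -307, 307, -4, 68, 99, -10, 139])) (.node (.leaf [17, 14, 0, -284, 162, 101, 64, 0, -43, -15, 0, -28]) (.leaf [-281, -140, 0, -394, -152, -294, 675, -2, 8, 140, 23, 112]))) (.node (.node (.leaf []) (.leaf [439, 250, 0, -3464, 2126, 1543, 475, 2, -681, -256, 2, -428])) (.node (.leaf [-68, -41, 0, 143, -185, -126, 99, 0, 28, 41, 1, 48]) (.leaf [-119, -45, 0, -1404, 238, 299, 912, 0, -263, 42, -14, 8])))) (.node (.node (.node (.node (.leaf [3, 0, 0, 22, -6, -2, -14, 0, 2]) (.leaf [-6, -3, 0, -36, 1, 4, 30, 0, -6, 3, 0, 2])) (.leaf [51, 23, 0, 336, -47, -26, -256, 0, 60, -23, 1, -18])) (.node (.leaf [-348, -221, 0, 1727, -1295, -939, 58, 0, 342, 221, 8, 286]) (.leaf [-2363, -1244, 0, -28774, 2348, 7351, 19939, 61, -5957, 1109, -524, 200]))) (.node (.node (.leaf []) (.leaf [152, 140, 0, -1893,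 1276, 681, 269, 3, -261, -142, 7, -222])) (.node (.leaf [265, 133, 0, -717, 868, 495, -355, 6, -140, -133, 19, -215]) (.leaf [1904, 1435, 0, 3220, 8312, -559, -9349, -70, 2060, -1225, 535, -1763]))))) (.node (.node (.node (.node (.node (.leaf []) (.leaf [-206, -285, 0, 5743, -1409, -2518, -2466, -17, 1131, 337, 259, 253])) (.leaf [-711, 131, 0, -1318, 2411, -1184, 75, -29, 919, -98, 229, -217])) (.node (.leaf []) (.leaf [2, 1, 0, 21, -6, -3, -11, 0, 2, -1]))) (.node (.node (.leaf [-62, -73, 0, 401, -568, -145, 187, -2, -41, 73, -18, 123]) (.leaf [-509, -330, 0, 479, -1681, -648, 1350, 1, -83, 328, -47, 438])) (.node (.leaf [-109, -48, 0, -492, -80, 35, 494, 0, -94, 48, -17, 55]) (.leaf [])))) (.node (.node (.node (.leaf [0, 0, 0, 0, -1, 1]) (.leaf [5279, 3940, 0, -32203, 25929, 15440, -1248, -9, -4611, -3943, 125, -5584])) (.node (.leaf [0, 0, 0, 1, 1, 0, -1]) (.leaf [149, 105, 0, -880, 731, 411, -46, 0, -133, -105, 6, -148]))) (.node (.node (.leaf [1, 0, 0, 8, -2, -1, -5,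 0, 1]) (.leaf [-396, -251, 0, 1583, -1510, -898, 350, 0, 261, 251, -7, 329])) (.node (.leaf [-2, -13, 0, 270, -142, -75, -89, 1, 39, 10, 0, 21]) (.leaf [8663, 4523, 0, 11460, 14303, 5925, -26048, 28, 1838, -4427, 349, -4591])))))) (.node (.node (.node (.node (.node (.node (.leaf []) (.leaf [-324, -188, 0, -575, -554, -187, 1106, -1, -146, 185, -13, 192])) (.leaf [-5, -1, 0, -49, 9, 9, 31, 0, -7, 1])) (.node (.leaf [-425, -230, 0, -1261, -551, -89, 1676, -2, -285, 224, -23, 233]) (.leaf []))) (.node (.node (.leaf []) (.leaf [181, 111, 0, -225, 526, 251, -386, 1, -23, -111, 5, -123])) (.node (.leaf []) (.leaf [-523, -284, 0, 2263, -2017, -1204, 316, -5, 450, 281, -26, 429])))) (.node (.node (.node (.leaf []) (.leaf [-1, 1, 0, 2, 0, -1])) (.node (.leaf [556, 415, 0, -3390, 2490, 1721, 17, 1, -547, -415, -10, -573]) (.leaf [0, 0, 0, -1, 0, 0, 1]))) (.node (.node (.leaf []) (.leaf [])) (.node (.leaf [2, 0, 0, 1, 0, 2, -2, 0, -2]) (.leaf [-2385, -1391, 0, -10218, -3890, 1243,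 11834, 37, -2595, 1322, -375, 1287]))))) (.node (.node (.node (.node (.node (.leaf []) (.leaf [-9, -7, 0, 92, -54, -40, -15, 0, 14, 7, 0, 13])) (.leaf [1, 0, 0, -13, 8, 2, 3, 0, -2])) (.node (.leaf [0, 0, 0, 4, -2, 0, -1]) (.leaf [747, 305, 0, -6153, 983, 3593, 2558, 26, -1909, -343, -315, -351]))) (.node (.node (.leaf []) (.leaf [-628, 911, 0, 57713, -10084, -21359, -31287, -170, 14705, -699, 1164, 1518])) (.node (.leaf [13, 5, 0, 33, 8, 8, -42, 0, 4, -5, 1, -7]) (.leaf [18552, 10127, 0, -13229, 42101, 25346, -38318, 84, -3327, -9982, 254, -11734])))) (.node (.node (.node (.leaf [0, 0, 0, 0, -1, 0, 1]) (.leaf [0, -2, 0, 1, -2, 0, 0, 0, 0, 2])) (.node (.leaf [2771, 2032, 0, -921, 7077, 3460, -7169, -48, 430, -1996, -10, -1912]) (.leaf [1231, 792, 0, -5113, 5136, 2767, -1248, 7, -734, -801, 67, -1114]))) (.node (.node (.leaf [-13, -9, 0, 124, -75, -51, -22, 0, 24, 9, 0, 14]) (.leaf [19, 8, 0, 38, 14, 14, -56, 0, 4, -8, 0, -9])) (.node (.leaf [-1, 0, 0, -1, -2, 0, 3, -1, 1])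 (.leaf [-558, -341, 0, 3005, -2384, -1566, 173, -1, 485, 344, -17, 564])))))))

def bigL62 : Janko.Tree (List ℤ) :=
  (.node (.node (.node (.node (.node (.node (.node (.leaf []) (.leaf [33, 24, 0, -546, 308, 198, 125, 2, -85, -27, 2, -58])) (.leaf [-107, -136, 0, 3245, -1638, -1052, -983, 2, 515, 140, 4, 254])) (.node (.leaf [-76, -42, 0, 508, -346, -234, -37, 0, 100, 42, -2, 70]) (.leaf [-660, -348, 0, 56, -889, -909, 1252, -3, 172, 343, 42, 317]))) (.node (.node (.leaf []) (.leaf [31589, 18588, 0, -40037, 90769, 45414, -67219, 16, -3584, -18647, 1083, -22475])) (.node (.leaf [-5935, -3204, 0, 5817, -13927, -8599, 11427, -57, 1484, 3175, -97, 3831]) (.leaf [-74, -62, 0, 1365, -703, -500, -365, 0, 224, 64, 3, 131])))) (.node (.node (.node (.node (.leaf []) (.leaf [-7, -3, 0, -41, 3, 4, 33, 0, -6, 3, 0, 2])) (.leaf [0, -1, 0, 4, -3, 0, -1, 0, 0, 1])) (.node (.leaf [-79, -41, 0, -478, 10, 51, 400, 0, -90, 40, -4, 27]) (.leaf [-1140, -596, 0, 1826, -2800, -1920, 1838, -8, 425,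 600, -5, 761]))) (.node (.node (.leaf []) (.leaf [])) (.node (.leaf []) (.leaf [-239, -237, 0, -9677, 634, 3324, 6266, 37, -2509, 174, -295, 74]))))) (.node (.node (.node (.node (.node (.leaf []) (.leaf [-125, -131, 0, 3253, -1698, -1040, -957, 3, 542, 131, -10, 260])) (.leaf [0, 0, 0, 2, -3, 0, 1])) (.node (.leaf []) (.leaf [3, 0, 0, 22, -7, -1, -14, 0, 2]))) (.node (.node (.leaf [0, -1, 0, -2, 0, 0, 1, 0, 0, 1]) (.leaf [19, 10, 0, 31, -10, 32, -39, 0, -1, -10, -3, -11])) (.node (.leaf [0, 0, 0, 6, 0, -1, -5, 0, 2]) (.leaf [71, 17, 0, 263, -23, 18, -239, 0, 23, -17, 1, -22])))) (.node (.node (.node (.leaf [0, 0, 0, 1, 1, 0, -1]) (.leaf [400, 120, 0, 2959, -656, -331, -1987, 5, 408, -117, 1, -52])) (.node (.leaf [1386, 1226, 0, -12653, 10475, 4649, 178, -15, -1404, -1185, 193, -1951]) (.leaf []))) (.node (.node (.leaf []) (.leaf [-93, -52, 0, 380, -332, -223, 64, 0, 69, 52, -2, 80])) (.node (.leaf [0, 0, 0, -1, 1]) (.leaf [-11978, -7336, 0, 12802, -37790, -14896, 28561,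 38, 298, 7114, -935, 8978])))))) (.node (.node (.node (.node (.node (.node (.leaf []) (.leaf [-89, 58, 0, -3726, 1251, 1046, 1772, 1, -644, -67, -25, -151])) (.leaf [-55, -29, 0, 254, -174, -141, -3, 0, 64, 29, 2, 36])) (.node (.leaf [-468, -267, 0, -634, -911, -317, 1536, -2, -182, 261, -22, 295]) (.leaf []))) (.node (.node (.leaf [14, 19, 0, -302, 181, 98, 69, 0, -42, -19, 1, -29]) (.leaf [])) (.node (.leaf []) (.leaf [-667, -366, 0, 1663, -1999, -1237, 876, -7, 352, 362, -15, 482])))) (.node (.node (.node (.leaf []) (.leaf [-588, -334, 0, 923, -1666, -910, 1086, -2, 160, 328, -22, 420])) (.node (.leaf []) (.leaf [254, 187, 0, 31, 716, 228, -744, 2, 56, -182, 15, -175]))) (.node (.node (.leaf []) (.leaf [-1075, -676, 0, 7366, -4709, -3573, -661, -13, 1389, 700, 44, 1010])) (.node (.leaf []) (.leaf [-5154, -2487, 0, 19125, -12726, -12929, 792, -75, 5450, 2440, 331, 3426]))))) (.node (.node (.node (.node (.node (.leaf []) (.leaf [-415, -13, 0, -15868, 4895, 4507, 7855, 21,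 -2888, -4, -93, -676])) (.leaf [])) (.node (.leaf [-34, -33, 0, -192, -103, 42, 231, 0, -68, 32, -10, 29]) (.leaf []))) (.node (.node (.leaf []) (.leaf [4272, 2913, 0, -5043, 13555, 5817, -10016, 3, -37, -2847, 254, -3374])) (.node (.leaf [-144, -52, 0, 1718, -604, -720, -633, 3, 459, 46, 27, 94]) (.leaf [23007, 12721, 0, -11326, 52536, 29288, -51104, 66, -2502, -12513, 557, -14639])))) (.node (.node (.node (.leaf []) (.leaf [-587, -336, 0, 1487, -1754, -1106, 764, -3, 301, 334, -7, 420])) (.node (.leaf [-1483, -776, 0, -1572, -2419, -1260, 4224, -5, -245, 761, -44, 849]) (.leaf [921, 481, 0, 10020, -1493, -1939, -6820, 7, 2032, -471, 50, -147]))) (.node (.node (.leaf [-31, 33, 0, -1432, 445, 459, 675, 2, -229, -42, -15, -82]) (.leaf [186, 105, 0, -305, 509, 304, -327, 2, -56, -105, 4, -133])) (.node (.leaf [-132, -73, 0, 294, -373, -243, 185, 0, 62, 72, -5, 99]) (.leaf [345, 237, 0, 91, 903, 290, -993, -5, 61, -228, 25, -219])))))))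

def bigL63 : Janko.Tree (List ℤ) :=
  (.node (.node (.node (.node (.node (.node (.node (.leaf []) (.leaf [-29, 5, 0, 616, -226, -217, -238, 0, 143, -6, 3, 34])) (.leaf [])) (.node (.leaf []) (.leaf [4, 4, 0, -5, 11, 5, -6, 0, -3, -3, 0, -2]))) (.node (.node (.leaf [-373, -232, 0, 396, -1068, -511, 833, 0, 26, 229, -17, 272]) (.leaf [1501, 897, 0, -5317, 5223, 3285, -1452, 10, -956, -890, 13, -1209])) (.node (.leaf [297, 114, 0, 1867, 113, -257, -1640, 8, 387, -111, 54, -163]) (.leaf [23, 37, 0, -2065, 769, 669, 854, 0, -387, -40, -12, -118])))) (.node (.node (.node (.node (.leaf []) (.leaf [-7, -3, 0, -42, 4, 4, 33, 0, -6, 3, 0, 2])) (.leaf [-10, -4, 0, 21, -26, -20, 14, 0, 5, 4, -1, 9])) (.node (.leaf [-5023, -3010, 0, 3799, -12450, -6738, 10960, -8, 542, 2986, -96, 3290]) (.leaf [-1104, -597, 0, 2252, -2953, -1997, 1619, -4, 470, 602, -9, 776]))) (.node (.node (.leaf []) (.leaf [24, 146, 0, -3217, 1669, 919, 1001, -4, -399, -155, -9, -227])) (.node (.leaf []) (.leaf [-7893,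 -4168, 0, 592, -14366, -9784, 17505, -65, 891, 4150, 106, 4412]))))) (.node (.node (.node (.node (.node (.leaf [1, 0, 0, 0, 2, 1, -2, 0, -1]) (.leaf [0, 0, 0, -1, 0, 0, 1])) (.leaf [])) (.node (.leaf []) (.leaf [0, 0, 0, 2, 0, 0, -1]))) (.node (.node (.leaf []) (.leaf [0, 0, 0, 1])) (.node (.leaf [0, 0, 0, 0, 2, 0, -1]) (.leaf [219, 127, 0, -100, 519, 284, -509, 0, -8, -124, 8, -154])))) (.node (.node (.node (.leaf []) (.leaf [])) (.node (.leaf [2027, 1286, 0, -5321, 7165, 3675, -3274, 12, -694, -1274, 93, -1665]) (.leaf [-3371, -2160, 0, 9378, -12054, -6282, 5188, -15, 1257, 2154, -148, 2766]))) (.node (.node (.leaf [0, 0, 0, 9, -3, -2, -4, 0, 2]) (.leaf [-16, 71, 0, -4156, 1691, 1213, 1670, 3, -670, -77, -23, -232])) (.node (.leaf []) (.leaf [5526, 3561, 0, 9784, 8073, 3716, -17966, 4, 2163, -3538, -34, -2929])))))) (.node (.node (.node (.node (.node (.node (.leaf []) (.leaf [57, -34, 0, 5507, -1914, -1595, -2517, -4, 1025, 46, 20, 243])) (.leaf [0, 0, 0, 4, -1, -1, -2,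 0, 1])) (.node (.leaf [-482, -276, 0, -1166, -738, -183, 1805, -2, -290, 270, -19, 277]) (.leaf [301, 170, 0, 745, 433, 111, -1114, 2, 170, -167, 12, -166]))) (.node (.node (.leaf [-430, -274, 0, 463, -1419, -555, 1094, 0, -42, 274, -37, 354]) (.leaf [3411, 1930, 0, 4181, 5582, 2595, -10079, 1, 730, -1909, 72, -1804])) (.node (.leaf [-49, -25, 0, -522, 63, 103, 363, -1, -107, 25, -6, 13]) (.leaf [])))) (.node (.node (.node (.leaf []) (.leaf [-2524, -1234, 0, 5035, -4383, -5203, 2284, -28, 1732, 1252, 242, 1388])) (.node (.leaf [-120, -167, 0, 3830, -1655, -1373, -1316, -2, 647, 170, 42, 299]) (.leaf [-763, -426, 0, -2089, -910, -224, 2808, -2, -405, 414, -27, 376]))) (.node (.node (.leaf []) (.leaf [-18, -19, 0, 170, -136, -62, -7, 0, 20, 19, -1, 23])) (.node (.leaf [2, 0, 0, 5, -1, 1, -4, 0, -1]) (.leaf [-990, -610, 0, 3027, -3390, -1963, 1236, -5, 511, 608, -12, 755]))))) (.node (.node (.node (.node (.node (.leaf [0, 0, 0, -1, 1]) (.leaf [19582, 11031, 0, -38837, 51292,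 35355, -28548, 166, -8460, -11012, -175, -13462])) (.leaf [0, 0, 0, -3, 1, 1, 2, 0, -1])) (.node (.leaf [-65, -61, 0, 159, -324, -98, 176, 0, -16, 60, -8, 71]) (.leaf [1010, 562, 0, -4598, 3864, 2484, -514, 5, -859, -565, 21, -847]))) (.node (.node (.leaf [7, 20, 0, -402, 228, 113, 112, 0, -51, -20, 0, -31]) (.leaf [4607, 2524, 0, -1565, 9712, 5855, -10205, 34, -516, -2497, 46, -2829])) (.node (.leaf [2, 0, 0, -4, 5, 3, -3, 0, -1, 0, 0, -1]) (.leaf [-3867, -2350, 0, 31574, -18518, -14612, -4675, -29, 5943, 2365, 183, 4081])))) (.node (.node (.node (.leaf []) (.leaf [413, 228, 0, -186, 949, 513, -928, 2, -43, -225, 13, -262])) (.node (.leaf [-205, -118, 0, 1276, -870, -623, -71, 0, 249, 116, 0, 190]) (.leaf [-267, -186, 0, 245, -954, -322, 767, 2, -78, 184, -25, 238]))) (.node (.node (.leaf [0, 0, 0, 0, -1, 0, 1]) (.leaf [-16, -2, 0, -126, 27, 18, 85, 0, -19, 2, -1, 2])) (.node (.leaf [12, 2, 0, 224, -77, -47, -117, 0, 39, -3, -1, 7]) (.leaf [4195, 2526, 0, 4323, 8270, 3250,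 -12804, 14, 1154, -2490, 147, -2497])))))))

def bigL : Janko.Tree (List ℤ) := (.node (.node (.node (.node (.node (.node bigL0 bigL32) (.node bigL16 bigL48)) (.node (.node bigL8 bigL40) (.node bigL24 bigL56))) (.node (.node (.node bigL4 bigL36) (.node bigL20 bigL52)) (.node (.node bigL12 bigL44) (.node bigL28 bigL60)))) (.node (.node (.node (.node bigL2 bigL34) (.node bigL18 bigL50)) (.node (.node bigL10 bigL42) (.node bigL26 bigL58))) (.node (.node (.node bigL6 bigL38) (.node bigL22 bigL54)) (.node (.node bigL14 bigL46) (.node bigL30 bigL62))))) (.node (.node (.node (.node (.node bigL1 bigL33) (.node bigL17 bigL49)) (.node (.node bigL9 bigL41) (.node bigL25 bigL57))) (.node (.node (.node bigL5 bigL37) (.node bigL21 bigL53)) (.node (.node bigL13 bigL45) (.node bigL29 bigL61)))) (.node (.node (.node (.node bigL3 bigL35) (.node bigL19 bigL51)) (.node (.node bigL11 bigL43) (.node bigL27 bigL59))) (.node (.node (.node bigL7 bigL39) (.node bigL23 bigL55)) (.node (.node bigL15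 bigL47) (.node bigL31 bigL63))))))

def bigKind0 : Janko.Tree (ℕ) :=
  (.node (.node (.node (.node (.node (.node (.node (.leaf 0) (.leaf 3)) (.leaf 3)) (.node (.leaf 0) (.leaf 3))) (.node (.node (.leaf 0) (.leaf 3)) (.node (.leaf 3) (.leaf 3)))) (.node (.node (.node (.node (.leaf 3) (.leaf 3)) (.leaf 3)) (.node (.leaf 3) (.leaf 0))) (.node (.node (.leaf 0) (.leaf 3)) (.node (.leaf 0) (.leaf 3))))) (.node (.node (.node (.node (.node (.leaf 0) (.leaf 3)) (.leaf 3)) (.node (.leaf 0) (.leaf 3))) (.node (.node (.leaf 3) (.leaf 3)) (.node (.leaf 0) (.leaf 3)))) (.node (.node (.node (.leaf 0) (.leaf 3)) (.node (.leaf 3) (.leaf 3))) (.node (.node (.leaf 0) (.leaf 3)) (.node (.leaf 0) (.leaf 3)))))) (.node (.node (.node (.node (.node (.node (.leaf 0) (.leaf 3)) (.leaf 3)) (.node (.leaf 3) (.leaf 3))) (.node (.node (.leaf 3) (.leaf 3)) (.node (.leaf 3) (.leaf 3)))) (.node (.node (.node (.node (.leaf 0) (.leaf 3)) (.leaf 3)) (.node (.leaf 0) (.leaf 3))) (.node (.node (.leaf 3) (.leaf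 3)) (.node (.leaf 3) (.leaf 3))))) (.node (.node (.node (.node (.node (.leaf 3) (.leaf 3)) (.leaf 0)) (.node (.leaf 3) (.leaf 3))) (.node (.node (.leaf 0) (.leaf 3)) (.node (.leaf 3) (.leaf 3)))) (.node (.node (.node (.leaf 0) (.leaf 3)) (.node (.leaf 3) (.leaf 3))) (.node (.node (.leaf 0) (.leaf 3)) (.node (.leaf 3) (.leaf 3)))))))

def bigKind1 : Janko.Tree (ℕ) :=
  (.node (.node (.node (.node (.node (.node (.node (.leaf 0) (.leaf 3)) (.leaf 0)) (.node (.leaf 3) (.leaf 3))) (.node (.node (.leaf 3) (.leaf 3)) (.node (.leaf 0) (.leaf 3)))) (.node (.node (.node (.node (.leaf 3) (.leaf 3)) (.leaf 0)) (.node (.leaf 0) (.leaf 3))) (.node (.node (.leaf 3) (.leaf 3)) (.node (.leaf 0) (.leaf 3))))) (.node (.node (.node (.node (.node (.leaf 3) (.leaf 3)) (.leaf 3)) (.node (.leaf 0) (.leaf 3))) (.node (.node (.leaf 0) (.leaf 3)) (.node (.leaf 0) (.leaf 3)))) (.node (.node (.node (.leaf 3) (.leaf 3)) (.node (.leaf 0) (.leaf 3))) (.node (.node (.leaf 3) (.leaf 3)) (.node (.leaf 3)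 (.leaf 3)))))) (.node (.node (.node (.node (.node (.node (.leaf 0) (.leaf 3)) (.leaf 3)) (.node (.leaf 0) (.leaf 3))) (.node (.node (.leaf 0) (.leaf 3)) (.node (.leaf 3) (.leaf 0)))) (.node (.node (.node (.node (.leaf 0) (.leaf 3)) (.leaf 3)) (.node (.leaf 0) (.leaf 3))) (.node (.node (.leaf 0) (.leaf 3)) (.node (.leaf 3) (.leaf 3))))) (.node (.node (.node (.node (.node (.leaf 0) (.leaf 3)) (.leaf 0)) (.node (.leaf 0) (.leaf 3))) (.node (.node (.leaf 3) (.leaf 3)) (.node (.leaf 0) (.leaf 3)))) (.node (.node (.node (.leaf 3) (.leaf 0)) (.node (.leaf 3) (.leaf 3))) (.node (.node (.leaf 3) (.leaf 3)) (.node (.leaf 0) (.leaf 3)))))))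

def bigKind2 : Janko.Tree (ℕ) :=
  (.node (.node (.node (.node (.node (.node (.node (.leaf 0) (.leaf 3)) (.leaf 3)) (.node (.leaf 0) (.leaf 3))) (.node (.node (.leaf 3) (.leaf 0)) (.node (.leaf 3) (.leaf 3)))) (.node (.node (.node (.node (.leaf 0) (.leaf 3)) (.leaf 3)) (.node (.leaf 0) (.leaf 3))) (.node (.node (.leaf 3) (.leaf 3)) (.node (.leaf 3) (.leaf 3))))) (.node (.node (.node (.node (.node (.leaf 0) (.leaf 3)) (.leaf 3)) (.node (.leaf 3) (.leaf 3))) (.node (.node (.leaf 3) (.leaf 3)) (.node (.leaf 3) (.leaf 3)))) (.node (.node (.node (.leaf 0) (.leaf 3)) (.node (.leaf 3) (.leaf 0))) (.node (.node (.leaf 0) (.leaf 3)) (.node (.leaf 0) (.leaf 3)))))) (.node (.node (.node (.node (.node (.node (.leaf 0) (.leaf 3)) (.leaf 3)) (.node (.leaf 3) (.leaf 3))) (.node (.node (.leaf 0) (.leaf 3)) (.node (.leaf 0) (.leaf 3)))) (.node (.node (.node (.node (.leaf 3) (.leaf 3)) (.leaf 3)) (.node (.leaf 0) (.leaf 3))) (.node (.node (.leaf 0) (.leaf 3)) (.node (.leaf 3) (.leaf 3)))))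 (.node (.node (.node (.node (.node (.leaf 3) (.leaf 3)) (.leaf 3)) (.node (.leaf 3) (.leaf 3))) (.node (.node (.leaf 3) (.leaf 3)) (.node (.leaf 3) (.leaf 3)))) (.node (.node (.node (.leaf 3) (.leaf 3)) (.node (.leaf 3) (.leaf 3))) (.node (.node (.leaf 0) (.leaf 3)) (.node (.leaf 3) (.leaf 3)))))))

def bigKind3 : Janko.Tree (ℕ) :=
  (.node (.node (.node (.node (.node (.node (.node (.leaf 0) (.leaf 3)) (.leaf 3)) (.node (.leaf 0) (.leaf 3))) (.node (.node (.leaf 0) (.leaf 3)) (.node (.leaf 3) (.leaf 3)))) (.node (.node (.node (.node (.leaf 0) (.leaf 3)) (.leaf 3)) (.node (.leaf 0) (.leaf 3))) (.node (.node (.leaf 3) (.leaf 3)) (.node (.leaf 3) (.leaf 3))))) (.node (.node (.node (.node (.node (.leaf 3) (.leaf 3)) (.leaf 0)) (.node (.leaf 3) (.leaf 3))) (.node (.node (.leaf 3) (.leaf 3)) (.node (.leaf 0) (.leaf 3)))) (.node (.node (.node (.leaf 0) (.leaf 3)) (.node (.leaf 0) (.leaf 3))) (.node (.node (.leaf 0) (.leaf 0)) (.node (.leaf 0) (.leaf 3)))))) (.node (.node (.node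 (.node (.node (.node (.leaf 0) (.leaf 3)) (.leaf 3)) (.node (.leaf 0) (.leaf 3))) (.node (.node (.leaf 0) (.leaf 3)) (.node (.leaf 3) (.leaf 3)))) (.node (.node (.node (.node (.leaf 0) (.leaf 3)) (.leaf 3)) (.node (.leaf 3) (.leaf 3))) (.node (.node (.leaf 0) (.leaf 3)) (.node (.leaf 3) (.leaf 3))))) (.node (.node (.node (.node (.node (.leaf 0) (.leaf 3)) (.leaf 0)) (.node (.leaf 3) (.leaf 3))) (.node (.node (.leaf 3) (.leaf 3)) (.node (.leaf 3) (.leaf 3)))) (.node (.node (.node (.leaf 0) (.leaf 3)) (.node (.leaf 3) (.leaf 3))) (.node (.node (.leaf 0) (.leaf 3)) (.node (.leaf 3) (.leaf 3)))))))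

def bigKind4 : Janko.Tree (ℕ) :=
  (.node (.node (.node (.node (.node (.node (.node (.leaf 0) (.leaf 3)) (.leaf 3)) (.node (.leaf 3) (.leaf 0))) (.node (.node (.leaf 0) (.leaf 3)) (.node (.leaf 3) (.leaf 0)))) (.node (.node (.node (.node (.leaf 3) (.leaf 3)) (.leaf 3)) (.node (.leaf 0) (.leaf 3))) (.node (.node (.leaf 0) (.leaf 0)) (.node (.leaf 0) (.leaf 3))))) (.node (.node (.node (.node (.node (.leaf 0) (.leaf 3)) (.leaf 3)) (.node (.leaf 3) (.leaf 3))) (.node (.node (.leaf 3) (.leaf 3)) (.node (.leaf 3) (.leaf 3)))) (.node (.node (.node (.leaf 0) (.leaf 3)) (.node (.leaf 0) (.leaf 3))) (.node (.node (.leaf 0) (.leaf 3)) (.node (.leaf 0) (.leaf 3)))))) (.node (.node (.node (.node (.node (.node (.leaf 0) (.leaf 3)) (.leaf 3)) (.node (.leaf 3) (.leaf 3))) (.node (.node (.leaf 0) (.leaf 3)) (.node (.leaf 0) (.leaf 3)))) (.node (.node (.node (.node (.leaf 0) (.leaf 3)) (.leaf 3)) (.node (.leaf 3) (.leaf 3))) (.node (.node (.leaf 0) (.leaf 3)) (.node (.leaf 3) (.leaf 3)))))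 (.node (.node (.node (.node (.node (.leaf 0) (.leaf 3)) (.leaf 3)) (.node (.leaf 3) (.leaf 3))) (.node (.node (.leaf 3) (.leaf 3)) (.node (.leaf 0) (.leaf 3)))) (.node (.node (.node (.leaf 3) (.leaf 3)) (.node (.leaf 3) (.leaf 3))) (.node (.node (.leaf 3) (.leaf 3)) (.node (.leaf 3) (.leaf 3)))))))

def bigKind5 : Janko.Tree (ℕ) :=
  (.node (.node (.node (.node (.node (.node (.node (.leaf 0) (.leaf 3)) (.leaf 3)) (.node (.leaf 0) (.leaf 3))) (.node (.node (.leaf 0) (.leaf 0)) (.node (.leaf 3) (.leaf 3)))) (.node (.node (.node (.node (.leaf 3) (.leaf 3)) (.leaf 0)) (.node (.leaf 0) (.leaf 0))) (.node (.node (.leaf 3) (.leaf 3)) (.node (.leaf 0) (.leaf 3))))) (.node (.node (.node (.node (.node (.leaf 0) (.leaf 3)) (.leaf 3)) (.node (.leaf 3) (.leaf 3))) (.node (.node (.leaf 0) (.leaf 3)) (.node (.leaf 0) (.leaf 3)))) (.node (.node (.node (.leaf 3) (.leaf 3)) (.node (.leaf 3) (.leaf 3))) (.node (.node (.leaf 0) (.leaf 3)) (.node (.leaf 3) (.leaf 3)))))) (.node (.node (.node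 (.node (.node (.node (.leaf 0) (.leaf 3)) (.leaf 3)) (.node (.leaf 3) (.leaf 3))) (.node (.node (.leaf 0) (.leaf 0)) (.node (.leaf 3) (.leaf 3)))) (.node (.node (.node (.node (.leaf 3) (.leaf 3)) (.leaf 0)) (.node (.leaf 0) (.leaf 3))) (.node (.node (.leaf 0) (.leaf 3)) (.node (.leaf 3) (.leaf 3))))) (.node (.node (.node (.node (.node (.leaf 0) (.leaf 3)) (.leaf 3)) (.node (.leaf 3) (.leaf 3))) (.node (.node (.leaf 0) (.leaf 3)) (.node (.leaf 3) (.leaf 3)))) (.node (.node (.node (.leaf 3) (.leaf 3)) (.node (.leaf 3) (.leaf 3))) (.node (.node (.leaf 3) (.leaf 3)) (.node (.leaf 3) (.leaf 3)))))))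

def bigKind6 : Janko.Tree (ℕ) :=
  (.node (.node (.node (.node (.node (.node (.node (.leaf 0) (.leaf 3)) (.leaf 0)) (.node (.leaf 3) (.leaf 3))) (.node (.node (.leaf 0) (.leaf 3)) (.node (.leaf 3) (.leaf 3)))) (.node (.node (.node (.node (.leaf 0) (.leaf 3)) (.leaf 0)) (.node (.leaf 0) (.leaf 3))) (.node (.node (.leaf 0) (.leaf 0)) (.node (.leaf 0) (.leaf 3))))) (.node (.node (.node (.node (.node (.leaf 0) (.leaf 3)) (.leaf 0)) (.node (.leaf 0) (.leaf 3))) (.node (.node (.leaf 0) (.leaf 3)) (.node (.leaf 0) (.leaf 3)))) (.node (.node (.node (.leaf 3) (.leaf 3)) (.node (.leaf 0) (.leaf 3))) (.node (.node (.leaf 0) (.leaf 3)) (.node (.leaf 0) (.leaf 3)))))) (.node (.node (.node (.node (.node (.node (.leaf 0) (.leaf 3)) (.leaf 3)) (.node (.leaf 3) (.leaf 3))) (.node (.node (.leaf 3) (.leaf 3)) (.node (.leaf 3) (.leaf 3)))) (.node (.node (.node (.node (.leaf 0) (.leaf 3)) (.leaf 3)) (.node (.leaf 0) (.leaf 0))) (.node (.node (.leaf 0) (.leaf 3)) (.node (.leaf 3) (.leaf 3)))))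 (.node (.node (.node (.node (.node (.leaf 3) (.leaf 3)) (.leaf 3)) (.node (.leaf 3) (.leaf 3))) (.node (.node (.leaf 0) (.leaf 3)) (.node (.leaf 3) (.leaf 3)))) (.node (.node (.node (.leaf 3) (.leaf 3)) (.node (.leaf 3) (.leaf 3))) (.node (.node (.leaf 3) (.leaf 3)) (.node (.leaf 0) (.leaf 3)))))))

def bigKind7 : Janko.Tree (ℕ) :=
  (.node (.node (.node (.node (.node (.node (.node (.leaf 0) (.leaf 3)) (.leaf 3)) (.node (.leaf 0) (.leaf 3))) (.node (.node (.leaf 3) (.leaf 3)) (.node (.leaf 0) (.leaf 3)))) (.node (.node (.node (.node (.leaf 3) (.leaf 3)) (.leaf 0)) (.node (.leaf 3) (.leaf 0))) (.node (.node (.leaf 0) (.leaf 3)) (.node (.leaf 0) (.leaf 3))))) (.node (.node (.node (.node (.node (.leaf 0) (.leaf 3)) (.leaf 3)) (.node (.leaf 0) (.leaf 3))) (.node (.node (.leaf 0) (.leaf 3)) (.node (.leaf 0) (.leaf 3)))) (.node (.node (.node (.leaf 0) (.leaf 3)) (.node (.leaf 3) (.leaf 3))) (.node (.node (.leaf 3) (.leaf 3)) (.node (.leaf 3) (.leaf 3)))))) (.node (.node (.node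 (.node (.node (.node (.leaf 0) (.leaf 3)) (.leaf 3)) (.node (.leaf 3) (.leaf 3))) (.node (.node (.leaf 0) (.leaf 3)) (.node (.leaf 0) (.leaf 3)))) (.node (.node (.node (.node (.leaf 3) (.leaf 3)) (.leaf 0)) (.node (.leaf 0) (.leaf 3))) (.node (.node (.leaf 3) (.leaf 3)) (.node (.leaf 0) (.leaf 3))))) (.node (.node (.node (.node (.node (.leaf 0) (.leaf 3)) (.leaf 3)) (.node (.leaf 3) (.leaf 3))) (.node (.node (.leaf 3) (.leaf 3)) (.node (.leaf 3) (.leaf 3)))) (.node (.node (.node (.leaf 3) (.leaf 3)) (.node (.leaf 0) (.leaf 3))) (.node (.node (.leaf 0) (.leaf 3)) (.node (.leaf 3) (.leaf 3)))))))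

def bigKind8 : Janko.Tree (ℕ) :=
  (.node (.node (.node (.node (.node (.node (.node (.leaf 0) (.leaf 3)) (.leaf 3)) (.node (.leaf 3) (.leaf 0))) (.node (.node (.leaf 0) (.leaf 3)) (.node (.leaf 3) (.leaf 3)))) (.node (.node (.node (.node (.leaf 3) (.leaf 3)) (.leaf 3)) (.node (.leaf 0) (.leaf 3))) (.node (.node (.leaf 0) (.leaf 3)) (.node (.leaf 3) (.leaf 3))))) (.node (.node (.node (.node (.node (.leaf 0) (.leaf 3)) (.leaf 0)) (.node (.leaf 3) (.leaf 3))) (.node (.node (.leaf 3) (.leaf 3)) (.node (.leaf 3) (.leaf 3)))) (.node (.node (.node (.leaf 3) (.leaf 3)) (.node (.leaf 0) (.leaf 3))) (.node (.node (.leaf 0) (.leaf 3)) (.node (.leaf 3) (.leaf 3)))))) (.node (.node (.node (.node (.node (.node (.leaf 0) (.leaf 3)) (.leaf 3)) (.node (.leaf 0) (.leaf 3))) (.node (.node (.leaf 3) (.leaf 3)) (.node (.leaf 3) (.leaf 3)))) (.node (.node (.node (.node (.leaf 0) (.leaf 3)) (.leaf 3)) (.node (.leaf 3) (.leaf 3))) (.node (.node (.leaf 0) (.leaf 3)) (.node (.leaf 3) (.leaf 3)))))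 (.node (.node (.node (.node (.node (.leaf 0) (.leaf 3)) (.leaf 0)) (.node (.leaf 3) (.leaf 3))) (.node (.node (.leaf 3) (.leaf 3)) (.node (.leaf 3) (.leaf 3)))) (.node (.node (.node (.leaf 3) (.leaf 0)) (.node (.leaf 3) (.leaf 3))) (.node (.node (.leaf 3) (.leaf 3)) (.node (.leaf 3) (.leaf 3)))))))

def bigKind9 : Janko.Tree (ℕ) :=
  (.node (.node (.node (.node (.node (.node (.node (.leaf 0) (.leaf 3)) (.leaf 3)) (.node (.leaf 0) (.leaf 3))) (.node (.node (.leaf 0) (.leaf 3)) (.node (.leaf 3) (.leaf 3)))) (.node (.node (.node (.node (.leaf 3) (.leaf 3)) (.leaf 3)) (.node (.leaf 0) (.leaf 3))) (.node (.node (.leaf 3) (.leaf 3)) (.node (.leaf 3) (.leaf 3))))) (.node (.node (.node (.node (.node (.leaf 0) (.leaf 3)) (.leaf 0)) (.node (.leaf 3) (.leaf 3))) (.node (.node (.leaf 0) (.leaf 3)) (.node (.leaf 3) (.leaf 3)))) (.node (.node (.node (.leaf 0) (.leaf 3)) (.node (.leaf 0) (.leaf 0))) (.node (.node (.leaf 3) (.leaf 3)) (.node (.leaf 0) (.leaf 3)))))) (.node (.node (.node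 (.node (.node (.node (.leaf 0) (.leaf 3)) (.leaf 3)) (.node (.leaf 3) (.leaf 3))) (.node (.node (.leaf 0) (.leaf 3)) (.node (.leaf 3) (.leaf 3)))) (.node (.node (.node (.node (.leaf 3) (.leaf 3)) (.leaf 0)) (.node (.leaf 3) (.leaf 3))) (.node (.node (.leaf 0) (.leaf 3)) (.node (.leaf 0) (.leaf 3))))) (.node (.node (.node (.node (.node (.leaf 0) (.leaf 3)) (.leaf 3)) (.node (.leaf 3) (.leaf 3))) (.node (.node (.leaf 3) (.leaf 3)) (.node (.leaf 3) (.leaf 3)))) (.node (.node (.node (.leaf 0) (.leaf 3)) (.node (.leaf 0) (.leaf 3))) (.node (.node (.leaf 0) (.leaf 3)) (.node (.leaf 3) (.leaf 3)))))))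

def bigKind10 : Janko.Tree (ℕ) :=
  (.node (.node (.node (.node (.node (.node (.node (.leaf 0) (.leaf 3)) (.leaf 3)) (.node (.leaf 0) (.leaf 3))) (.node (.node (.leaf 3) (.leaf 3)) (.node (.leaf 0) (.leaf 3)))) (.node (.node (.node (.node (.leaf 0) (.leaf 3)) (.leaf 3)) (.node (.leaf 3) (.leaf 0))) (.node (.node (.leaf 3) (.leaf 3)) (.node (.leaf 3) (.leaf 3))))) (.node (.node (.node (.node (.node (.leaf 3) (.leaf 3)) (.leaf 3)) (.node (.leaf 3) (.leaf 3))) (.node (.node (.leaf 3) (.leaf 3)) (.node (.leaf 3) (.leaf 3)))) (.node (.node (.node (.leaf 0) (.leaf 3)) (.node (.leaf 3) (.leaf 3))) (.node (.node (.leaf 3) (.leaf 3)) (.node (.leaf 0) (.leaf 3)))))) (.node (.node (.node (.node (.node (.node (.leaf 0) (.leaf 3)) (.leaf 3)) (.node (.leaf 3) (.leaf 3))) (.node (.node (.leaf 0) (.leaf 3)) (.node (.leaf 3) (.leaf 3)))) (.node (.node (.node (.node (.leaf 0) (.leaf 3)) (.leaf 0)) (.node (.leaf 0) (.leaf 3))) (.node (.node (.leaf 0) (.leaf 3)) (.node (.leaf 3) (.leaf 3)))))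 (.node (.node (.node (.node (.node (.leaf 0) (.leaf 3)) (.leaf 3)) (.node (.leaf 3) (.leaf 3))) (.node (.node (.leaf 3) (.leaf 3)) (.node (.leaf 0) (.leaf 3)))) (.node (.node (.node (.leaf 3) (.leaf 0)) (.node (.leaf 3) (.leaf 3))) (.node (.node (.leaf 0) (.leaf 0)) (.node (.leaf 3) (.leaf 3)))))))

def bigKind11 : Janko.Tree (ℕ) :=
  (.node (.node (.node (.node (.node (.node (.node (.leaf 0) (.leaf 3)) (.leaf 3)) (.node (.leaf 0) (.leaf 3))) (.node (.node (.leaf 0) (.leaf 0)) (.node (.leaf 3) (.leaf 3)))) (.node (.node (.node (.node (.leaf 3) (.leaf 3)) (.leaf 3)) (.node (.leaf 0) (.leaf 3))) (.node (.node (.leaf 3) (.leaf 3)) (.node (.leaf 3) (.leaf 3))))) (.node (.node (.node (.node (.node (.leaf 0) (.leaf 3)) (.leaf 3)) (.node (.leaf 0) (.leaf 3))) (.node (.node (.leaf 0) (.leaf 0)) (.node (.leaf 0) (.leaf 3)))) (.node (.node (.node (.leaf 0) (.leaf 0)) (.node (.leaf 0) (.leaf 3))) (.node (.node (.leaf 3) (.leaf 3)) (.node (.leaf 0) (.leaf 3)))))) (.node (.node (.node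 (.node (.node (.node (.leaf 0) (.leaf 3)) (.leaf 0)) (.node (.leaf 3) (.leaf 3))) (.node (.node (.leaf 3) (.leaf 3)) (.node (.leaf 3) (.leaf 3)))) (.node (.node (.node (.node (.leaf 0) (.leaf 3)) (.leaf 0)) (.node (.leaf 0) (.leaf 3))) (.node (.node (.leaf 0) (.leaf 3)) (.node (.leaf 0) (.leaf 3))))) (.node (.node (.node (.node (.node (.leaf 0) (.leaf 3)) (.leaf 0)) (.node (.leaf 3) (.leaf 3))) (.node (.node (.leaf 0) (.leaf 3)) (.node (.leaf 3) (.leaf 3)))) (.node (.node (.node (.leaf 0) (.leaf 3)) (.node (.leaf 0) (.leaf 3))) (.node (.node (.leaf 0) (.leaf 3)) (.node (.leaf 3) (.leaf 3)))))))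

def bigKind12 : Janko.Tree (ℕ) :=
  (.node (.node (.node (.node (.node (.node (.node (.leaf 0) (.leaf 3)) (.leaf 0)) (.node (.leaf 0) (.leaf 0))) (.node (.node (.leaf 0) (.leaf 0)) (.node (.leaf 3) (.leaf 3)))) (.node (.node (.node (.node (.leaf 0) (.leaf 3)) (.leaf 3)) (.node (.leaf 3) (.leaf 3))) (.node (.node (.leaf 3) (.leaf 3)) (.node (.leaf 3) (.leaf 3))))) (.node (.node (.node (.node (.node (.leaf 0) (.leaf 3)) (.leaf 3)) (.node (.leaf 3) (.leaf 3))) (.node (.node (.leaf 0) (.leaf 0)) (.node (.leaf 3) (.leaf 3)))) (.node (.node (.node (.leaf 3) (.leaf 3)) (.node (.leaf 3) (.leaf 3))) (.node (.node (.leaf 3) (.leaf 0)) (.node (.leaf 3) (.leaf 3)))))) (.node (.node (.node (.node (.node (.node (.leaf 0) (.leaf 3)) (.leaf 0)) (.node (.leaf 3) (.leaf 3))) (.node (.node (.leaf 0) (.leaf 3)) (.node (.leaf 3) (.leaf 3)))) (.node (.node (.node (.node (.leaf 0) (.leaf 3)) (.leaf 3)) (.node (.leaf 3) (.leaf 3))) (.node (.node (.leaf 3) (.leaf 3)) (.node (.leaf 3) (.leaf 3)))))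 (.node (.node (.node (.node (.node (.leaf 3) (.leaf 3)) (.leaf 3)) (.node (.leaf 0) (.leaf 3))) (.node (.node (.leaf 3) (.leaf 3)) (.node (.leaf 3) (.leaf 3)))) (.node (.node (.node (.leaf 0) (.leaf 3)) (.node (.leaf 3) (.leaf 3))) (.node (.node (.leaf 3) (.leaf 0)) (.node (.leaf 3) (.leaf 3)))))))

def bigKind13 : Janko.Tree (ℕ) :=
  (.node (.node (.node (.node (.node (.node (.node (.leaf 0) (.leaf 3)) (.leaf 0)) (.node (.leaf 0) (.leaf 3))) (.node (.node (.leaf 0) (.leaf 3)) (.node (.leaf 0) (.leaf 3)))) (.node (.node (.node (.node (.leaf 3) (.leaf 3)) (.leaf 3)) (.node (.leaf 0) (.leaf 3))) (.node (.node (.leaf 0) (.leaf 3)) (.node (.leaf 0) (.leaf 3))))) (.node (.node (.node (.node (.node (.leaf 0) (.leaf 3)) (.leaf 0)) (.node (.leaf 3) (.leaf 3))) (.node (.node (.leaf 3) (.leaf 0)) (.node (.leaf 3) (.leaf 3)))) (.node (.node (.node (.leaf 0) (.leaf 3)) (.node (.leaf 3) (.leaf 3))) (.node (.node (.leaf 3) (.leaf 0)) (.node (.leaf 3) (.leaf 3)))))) (.node (.node (.node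 (.node (.node (.node (.leaf 0) (.leaf 3)) (.leaf 0)) (.node (.leaf 0) (.leaf 3))) (.node (.node (.leaf 0) (.leaf 3)) (.node (.leaf 0) (.leaf 3)))) (.node (.node (.node (.node (.leaf 3) (.leaf 3)) (.leaf 3)) (.node (.leaf 0) (.leaf 3))) (.node (.node (.leaf 0) (.leaf 3)) (.node (.leaf 3) (.leaf 3))))) (.node (.node (.node (.node (.node (.leaf 0) (.leaf 3)) (.leaf 3)) (.node (.leaf 3) (.leaf 3))) (.node (.node (.leaf 0) (.leaf 3)) (.node (.leaf 0) (.leaf 3)))) (.node (.node (.node (.leaf 0) (.leaf 3)) (.node (.leaf 0) (.leaf 3))) (.node (.node (.leaf 3) (.leaf 3)) (.node (.leaf 3) (.leaf 3)))))))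

def bigKind14 : Janko.Tree (ℕ) :=
  (.node (.node (.node (.node (.node (.node (.node (.leaf 0) (.leaf 3)) (.leaf 0)) (.node (.leaf 0) (.leaf 0))) (.node (.node (.leaf 0) (.leaf 3)) (.node (.leaf 3) (.leaf 3)))) (.node (.node (.node (.node (.leaf 0) (.leaf 3)) (.leaf 3)) (.node (.leaf 0) (.leaf 3))) (.node (.node (.leaf 3) (.leaf 3)) (.node (.leaf 0) (.leaf 3))))) (.node (.node (.node (.node (.node (.leaf 0) (.leaf 3)) (.leaf 3)) (.node (.leaf 3) (.leaf 3))) (.node (.node (.leaf 3) (.leaf 3)) (.node (.leaf 3) (.leaf 3)))) (.node (.node (.node (.leaf 3) (.leaf 3)) (.node (.leaf 3) (.leaf 3))) (.node (.node (.leaf 3) (.leaf 3)) (.node (.leaf 0) (.leaf 3)))))) (.node (.node (.node (.node (.node (.node (.leaf 0) (.leaf 3)) (.leaf 3)) (.node (.leaf 0) (.leaf 3))) (.node (.node (.leaf 3) (.leaf 0)) (.node (.leaf 3) (.leaf 3)))) (.node (.node (.node (.node (.leaf 0) (.leaf 3)) (.leaf 0)) (.node (.leaf 0) (.leaf 3))) (.node (.node (.leaf 0) (.leaf 3)) (.node (.leaf 3) (.leaf 3)))))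 (.node (.node (.node (.node (.node (.leaf 3) (.leaf 3)) (.leaf 3)) (.node (.leaf 3) (.leaf 3))) (.node (.node (.leaf 0) (.leaf 3)) (.node (.leaf 3) (.leaf 3)))) (.node (.node (.node (.leaf 3) (.leaf 3)) (.node (.leaf 0) (.leaf 3))) (.node (.node (.leaf 3) (.leaf 3)) (.node (.leaf 3) (.leaf 3)))))))

def bigKind15 : Janko.Tree (ℕ) :=
  (.node (.node (.node (.node (.node (.node (.node (.leaf 0) (.leaf 3)) (.leaf 0)) (.node (.leaf 3) (.leaf 3))) (.node (.node (.leaf 0) (.leaf 3)) (.node (.leaf 3) (.leaf 3)))) (.node (.node (.node (.node (.leaf 0) (.leaf 3)) (.leaf 3)) (.node (.leaf 0) (.leaf 3))) (.node (.node (.leaf 0) (.leaf 3)) (.node (.leaf 3) (.leaf 3))))) (.node (.node (.node (.node (.node (.leaf 0) (.leaf 3)) (.leaf 3)) (.node (.leaf 3) (.leaf 3))) (.node (.node (.leaf 0) (.leaf 3)) (.node (.leaf 3) (.leaf 3)))) (.node (.node (.node (.leaf 0) (.leaf 0)) (.node (.leaf 3) (.leaf 3))) (.node (.node (.leaf 3) (.leaf 3)) (.node (.leaf 3) (.leaf 3)))))) (.node (.node (.node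 (.node (.node (.node (.leaf 0) (.leaf 3)) (.leaf 3)) (.node (.leaf 3) (.leaf 3))) (.node (.node (.leaf 3) (.leaf 3)) (.node (.leaf 0) (.leaf 3)))) (.node (.node (.node (.leaf 3) (.leaf 0)) (.node (.leaf 0) (.leaf 3))) (.node (.node (.leaf 3) (.leaf 0)) (.node (.leaf 0) (.leaf 3))))) (.node (.node (.node (.node (.node (.leaf 0) (.leaf 3)) (.leaf 3)) (.node (.leaf 0) (.leaf 3))) (.node (.node (.leaf 3) (.leaf 3)) (.node (.leaf 3) (.leaf 3)))) (.node (.node (.node (.leaf 0) (.leaf 3)) (.node (.leaf 3) (.leaf 3))) (.node (.node (.leaf 3) (.leaf 3)) (.node (.leaf 3) (.leaf 3)))))))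

def bigKind16 : Janko.Tree (ℕ) :=
  (.node (.node (.node (.node (.node (.node (.node (.leaf 0) (.leaf 3)) (.leaf 3)) (.node (.leaf 0) (.leaf 3))) (.node (.node (.leaf 3) (.leaf 3)) (.node (.leaf 3) (.leaf 3)))) (.node (.node (.node (.node (.leaf 0) (.leaf 3)) (.leaf 0)) (.node (.leaf 0) (.leaf 3))) (.node (.node (.leaf 0) (.leaf 3)) (.node (.leaf 0) (.leaf 3))))) (.node (.node (.node (.node (.node (.leaf 3) (.leaf 3)) (.leaf 0)) (.node (.leaf 3) (.leaf 3))) (.node (.node (.leaf 3) (.leaf 3)) (.node (.leaf 3) (.leaf 3)))) (.node (.node (.node (.leaf 0) (.leaf 3)) (.node (.leaf 0) (.leaf 3))) (.node (.node (.leaf 3) (.leaf 3)) (.node (.leaf 0) (.leaf 3)))))) (.node (.node (.node (.node (.node (.node (.leaf 0) (.leaf 3)) (.leaf 3)) (.node (.leaf 0) (.leaf 3))) (.node (.node (.leaf 0) (.leaf 3)) (.node (.leaf 0) (.leaf 3)))) (.node (.node (.node (.leaf 0) (.leaf 0)) (.node (.leaf 0) (.leaf 3))) (.node (.node (.leaf 0) (.leaf 3)) (.node (.leaf 3) (.leaf 3))))) (.node (.node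 (.node (.node (.node (.leaf 0) (.leaf 3)) (.leaf 3)) (.node (.leaf 3) (.leaf 0))) (.node (.node (.leaf 0) (.leaf 3)) (.node (.leaf 3) (.leaf 3)))) (.node (.node (.node (.leaf 3) (.leaf 3)) (.node (.leaf 3) (.leaf 3))) (.node (.node (.leaf 0) (.leaf 0)) (.node (.leaf 3) (.leaf 3)))))))

def bigKind17 : Janko.Tree (ℕ) :=
  (.node (.node (.node (.node (.node (.node (.node (.leaf 0) (.leaf 3)) (.leaf 0)) (.node (.leaf 3) (.leaf 3))) (.node (.node (.leaf 0) (.leaf 3)) (.node (.leaf 0) (.leaf 3)))) (.node (.node (.node (.node (.leaf 3) (.leaf 3)) (.leaf 3)) (.node (.leaf 0) (.leaf 3))) (.node (.node (.leaf 0) (.leaf 3)) (.node (.leaf 3) (.leaf 3))))) (.node (.node (.node (.node (.node (.leaf 0) (.leaf 3)) (.leaf 3)) (.node (.leaf 0) (.leaf 3))) (.node (.node (.leaf 0) (.leaf 3)) (.node (.leaf 0) (.leaf 3)))) (.node (.node (.node (.leaf 0) (.leaf 3)) (.node (.leaf 3) (.leaf 3))) (.node (.node (.leaf 3) (.leaf 0)) (.node (.leaf 0) (.leaf 3)))))) (.node (.node (.node (.node (.node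 (.node (.leaf 0) (.leaf 3)) (.leaf 3)) (.node (.leaf 3) (.leaf 0))) (.node (.node (.leaf 0) (.leaf 3)) (.node (.leaf 3) (.leaf 3)))) (.node (.node (.node (.leaf 0) (.leaf 3)) (.node (.leaf 0) (.leaf 3))) (.node (.node (.leaf 3) (.leaf 0)) (.node (.leaf 3) (.leaf 3))))) (.node (.node (.node (.node (.node (.leaf 0) (.leaf 3)) (.leaf 3)) (.node (.leaf 0) (.leaf 3))) (.node (.node (.leaf 0) (.leaf 3)) (.node (.leaf 0) (.leaf 3)))) (.node (.node (.node (.leaf 3) (.leaf 0)) (.node (.leaf 0) (.leaf 0))) (.node (.node (.leaf 0) (.leaf 3)) (.node (.leaf 3) (.leaf 3)))))))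

def bigKind18 : Janko.Tree (ℕ) :=
  (.node (.node (.node (.node (.node (.node (.node (.leaf 0) (.leaf 3)) (.leaf 0)) (.node (.leaf 3) (.leaf 3))) (.node (.node (.leaf 0) (.leaf 3)) (.node (.leaf 3) (.leaf 0)))) (.node (.node (.node (.node (.leaf 0) (.leaf 3)) (.leaf 3)) (.node (.leaf 0) (.leaf 3))) (.node (.node (.leaf 3) (.leaf 3)) (.node (.leaf 0) (.leaf 3))))) (.node (.node (.node (.node (.node (.leaf 0) (.leaf 3)) (.leaf 0)) (.node (.leaf 0) (.leaf 3))) (.node (.node (.leaf 0) (.leaf 3)) (.node (.leaf 0) (.leaf 3)))) (.node (.node (.node (.leaf 3) (.leaf 3)) (.node (.leaf 3) (.leaf 3))) (.node (.node (.leaf 3) (.leaf 3)) (.node (.leaf 0) (.leaf 3)))))) (.node (.node (.node (.node (.node (.node (.leaf 0) (.leaf 3)) (.leaf 0)) (.node (.leaf 0) (.leaf 3))) (.node (.node (.leaf 0) (.leaf 3)) (.node (.leaf 3) (.leaf 3)))) (.node (.node (.node (.leaf 0) (.leaf 3)) (.node (.leaf 3) (.leaf 3))) (.node (.node (.leaf 0) (.leaf 3)) (.node (.leaf 0) (.leaf 3))))) (.node (.node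 (.node (.node (.node (.leaf 0) (.leaf 3)) (.leaf 3)) (.node (.leaf 0) (.leaf 3))) (.node (.node (.leaf 0) (.leaf 3)) (.node (.leaf 0) (.leaf 3)))) (.node (.node (.node (.leaf 0) (.leaf 3)) (.node (.leaf 3) (.leaf 3))) (.node (.node (.leaf 3) (.leaf 3)) (.node (.leaf 0) (.leaf 3)))))))

def bigKind19 : Janko.Tree (ℕ) :=
  (.node (.node (.node (.node (.node (.node (.node (.leaf 0) (.leaf 3)) (.leaf 3)) (.node (.leaf 3) (.leaf 3))) (.node (.node (.leaf 0) (.leaf 3)) (.node (.leaf 3) (.leaf 3)))) (.node (.node (.node (.node (.leaf 3) (.leaf 3)) (.leaf 3)) (.node (.leaf 3) (.leaf 3))) (.node (.node (.leaf 0) (.leaf 3)) (.node (.leaf 3) (.leaf 3))))) (.node (.node (.node (.node (.node (.leaf 0) (.leaf 3)) (.leaf 0)) (.node (.leaf 0) (.leaf 3))) (.node (.node (.leaf 0) (.leaf 3)) (.node (.leaf 0) (.leaf 3)))) (.node (.node (.node (.leaf 0) (.leaf 3)) (.node (.leaf 3) (.leaf 3))) (.node (.node (.leaf 3) (.leaf 0)) (.node (.leaf 0) (.leaf 3)))))) (.node (.node (.node (.node (.node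 (.node (.leaf 0) (.leaf 3)) (.leaf 0)) (.node (.leaf 3) (.leaf 0))) (.node (.node (.leaf 0) (.leaf 3)) (.node (.leaf 3) (.leaf 3)))) (.node (.node (.node (.leaf 0) (.leaf 0)) (.node (.leaf 0) (.leaf 3))) (.node (.node (.leaf 0) (.leaf 0)) (.node (.leaf 3) (.leaf 3))))) (.node (.node (.node (.node (.node (.leaf 0) (.leaf 3)) (.leaf 3)) (.node (.leaf 0) (.leaf 3))) (.node (.node (.leaf 0) (.leaf 3)) (.node (.leaf 3) (.leaf 3)))) (.node (.node (.node (.leaf 3) (.leaf 3)) (.node (.leaf 0) (.leaf 3))) (.node (.node (.leaf 0) (.leaf 3)) (.node (.leaf 3) (.leaf 3)))))))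

def bigKind20 : Janko.Tree (ℕ) :=
  (.node (.node (.node (.node (.node (.node (.node (.leaf 0) (.leaf 3)) (.leaf 3)) (.node (.leaf 0) (.leaf 3))) (.node (.node (.leaf 0) (.leaf 3)) (.node (.leaf 3) (.leaf 3)))) (.node (.node (.node (.node (.leaf 0) (.leaf 3)) (.leaf 0)) (.node (.leaf 3) (.leaf 3))) (.node (.node (.leaf 3) (.leaf 3)) (.node (.leaf 0) (.leaf 3))))) (.node (.node (.node (.node (.node (.leaf 0) (.leaf 3)) (.leaf 3)) (.node (.leaf 0) (.leaf 3))) (.node (.node (.leaf 0) (.leaf 3)) (.node (.leaf 3) (.leaf 3)))) (.node (.node (.node (.leaf 3) (.leaf 3)) (.node (.leaf 3) (.leaf 3))) (.node (.node (.leaf 0) (.leaf 3)) (.node (.leaf 0) (.leaf 3)))))) (.node (.node (.node (.node (.node (.node (.leaf 0) (.leaf 3)) (.leaf 3)) (.node (.leaf 3) (.leaf 3))) (.node (.node (.leaf 0) (.leaf 3)) (.node (.leaf 3) (.leaf 3)))) (.node (.node (.node (.leaf 0) (.leaf 3)) (.node (.leaf 0) (.leaf 3))) (.node (.node (.leaf 0) (.leaf 3)) (.node (.leaf 3) (.leaf 3))))) (.node (.node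 (.node (.node (.node (.leaf 0) (.leaf 3)) (.leaf 3)) (.node (.leaf 3) (.leaf 3))) (.node (.node (.leaf 3) (.leaf 3)) (.node (.leaf 3) (.leaf 3)))) (.node (.node (.node (.leaf 0) (.leaf 0)) (.node (.leaf 0) (.leaf 3))) (.node (.node (.leaf 3) (.leaf 3)) (.node (.leaf 3) (.leaf 3)))))))

def bigKind21 : Janko.Tree (ℕ) :=
  (.node (.node (.node (.node (.node (.node (.node (.leaf 0) (.leaf 3)) (.leaf 3)) (.node (.leaf 3) (.leaf 3))) (.node (.node (.leaf 0) (.leaf 3)) (.node (.leaf 3) (.leaf 3)))) (.node (.node (.node (.node (.leaf 0) (.leaf 3)) (.leaf 3)) (.node (.leaf 0) (.leaf 3))) (.node (.node (.leaf 3) (.leaf 3)) (.node (.leaf 3) (.leaf 3))))) (.node (.node (.node (.node (.node (.leaf 0) (.leaf 3)) (.leaf 0)) (.node (.leaf 3) (.leaf 3))) (.node (.node (.leaf 3) (.leaf 3)) (.node (.leaf 3) (.leaf 3)))) (.node (.node (.node (.leaf 0) (.leaf 0)) (.node (.leaf 0) (.leaf 0))) (.node (.node (.leaf 3) (.leaf 3)) (.node (.leaf 3) (.leaf 3)))))) (.node (.node (.node (.node (.node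 (.node (.leaf 0) (.leaf 3)) (.leaf 3)) (.node (.leaf 3) (.leaf 3))) (.node (.node (.leaf 0) (.leaf 3)) (.node (.leaf 3) (.leaf 3)))) (.node (.node (.node (.leaf 0) (.leaf 3)) (.node (.leaf 3) (.leaf 3))) (.node (.node (.leaf 3) (.leaf 3)) (.node (.leaf 3) (.leaf 3))))) (.node (.node (.node (.node (.node (.leaf 3) (.leaf 3)) (.leaf 3)) (.node (.leaf 3) (.leaf 0))) (.node (.node (.leaf 0) (.leaf 0)) (.node (.leaf 3) (.leaf 3)))) (.node (.node (.node (.leaf 0) (.leaf 3)) (.node (.leaf 0) (.leaf 3))) (.node (.node (.leaf 3) (.leaf 3)) (.node (.leaf 0) (.leaf 3)))))))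

def bigKind22 : Janko.Tree (ℕ) :=
  (.node (.node (.node (.node (.node (.node (.node (.leaf 0) (.leaf 3)) (.leaf 3)) (.node (.leaf 0) (.leaf 3))) (.node (.node (.leaf 0) (.leaf 3)) (.node (.leaf 0) (.leaf 3)))) (.node (.node (.node (.node (.leaf 3) (.leaf 2)) (.leaf 3)) (.node (.leaf 0) (.leaf 3))) (.node (.node (.leaf 0) (.leaf 3)) (.node (.leaf 3) (.leaf 3))))) (.node (.node (.node (.node (.node (.leaf 0) (.leaf 3)) (.leaf 0)) (.node (.leaf 0) (.leaf 3))) (.node (.node (.leaf 3) (.leaf 3)) (.node (.leaf 3) (.leaf 3)))) (.node (.node (.node (.leaf 0) (.leaf 3)) (.node (.leaf 3) (.leaf 3))) (.node (.node (.leaf 0) (.leaf 3)) (.node (.leaf 0) (.leaf 3)))))) (.node (.node (.node (.node (.node (.node (.leaf 0) (.leaf 3)) (.leaf 3)) (.node (.leaf 0) (.leaf 3))) (.node (.node (.leaf 3) (.leaf 3)) (.node (.leaf 3) (.leaf 3)))) (.node (.node (.node (.leaf 3) (.leaf 3)) (.node (.leaf 3) (.leaf 3))) (.node (.node (.leaf 0) (.leaf 3)) (.node (.leaf 3) (.leaf 3))))) (.node (.node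 (.node (.node (.node (.leaf 0) (.leaf 3)) (.leaf 3)) (.node (.leaf 3) (.leaf 0))) (.node (.node (.leaf 0) (.leaf 3)) (.node (.leaf 3) (.leaf 3)))) (.node (.node (.node (.leaf 0) (.leaf 3)) (.node (.leaf 0) (.leaf 3))) (.node (.node (.leaf 0) (.leaf 0)) (.node (.leaf 3) (.leaf 3)))))))

def bigKind23 : Janko.Tree (ℕ) :=
  (.node (.node (.node (.node (.node (.node (.node (.leaf 0) (.leaf 3)) (.leaf 3)) (.node (.leaf 0) (.leaf 3))) (.node (.node (.leaf 0) (.leaf 3)) (.node (.leaf 0) (.leaf 3)))) (.node (.node (.node (.node (.leaf 3) (.leaf 2)) (.leaf 3)) (.node (.leaf 0) (.leaf 3))) (.node (.node (.leaf 3) (.leaf 0)) (.node (.leaf 3) (.leaf 3))))) (.node (.node (.node (.node (.node (.leaf 0) (.leaf 3)) (.leaf 0)) (.node (.leaf 0) (.leaf 3))) (.node (.node (.leaf 3) (.leaf 3)) (.node (.leaf 0) (.leaf 3)))) (.node (.node (.node (.leaf 0) (.leaf 3)) (.node (.leaf 3) (.leaf 3))) (.node (.node (.leaf 0) (.leaf 3)) (.node (.leaf 3) (.leaf 3)))))) (.node (.node (.node (.node (.node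 (.node (.leaf 0) (.leaf 3)) (.leaf 3)) (.node (.leaf 0) (.leaf 3))) (.node (.node (.leaf 0) (.leaf 3)) (.node (.leaf 3) (.leaf 3)))) (.node (.node (.node (.leaf 3) (.leaf 3)) (.node (.leaf 0) (.leaf 3))) (.node (.node (.leaf 3) (.leaf 3)) (.node (.leaf 0) (.leaf 3))))) (.node (.node (.node (.node (.node (.leaf 0) (.leaf 3)) (.leaf 3)) (.node (.leaf 3) (.leaf 3))) (.node (.node (.leaf 3) (.leaf 3)) (.node (.leaf 0) (.leaf 0)))) (.node (.node (.node (.leaf 0) (.leaf 0)) (.node (.leaf 3) (.leaf 3))) (.node (.node (.leaf 0) (.leaf 0)) (.node (.leaf 3) (.leaf 3)))))))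

def bigKind24 : Janko.Tree (ℕ) :=
  (.node (.node (.node (.node (.node (.node (.node (.leaf 0) (.leaf 3)) (.leaf 3)) (.node (.leaf 0) (.leaf 3))) (.node (.node (.leaf 0) (.leaf 3)) (.node (.leaf 3) (.leaf 3)))) (.node (.node (.node (.node (.leaf 0) (.leaf 2)) (.leaf 3)) (.node (.leaf 0) (.leaf 3))) (.node (.node (.leaf 0) (.leaf 3)) (.node (.leaf 0) (.leaf 3))))) (.node (.node (.node (.node (.node (.leaf 0) (.leaf 3)) (.leaf 0)) (.node (.leaf 3) (.leaf 3))) (.node (.node (.leaf 0) (.leaf 3)) (.node (.leaf 3) (.leaf 3)))) (.node (.node (.node (.leaf 0) (.leaf 3)) (.node (.leaf 0) (.leaf 3))) (.node (.node (.leaf 3) (.leaf 3)) (.node (.leaf 0) (.leaf 3)))))) (.node (.node (.node (.node (.node (.node (.leaf 0) (.leaf 3)) (.leaf 0)) (.node (.leaf 0) (.leaf 3))) (.node (.node (.leaf 3) (.leaf 0)) (.node (.leaf 3) (.leaf 3)))) (.node (.node (.node (.leaf 3) (.leaf 3)) (.node (.leaf 0) (.leaf 3))) (.node (.node (.leaf 0) (.leaf 3)) (.node (.leaf 3) (.leaf 0))))) (.node (.node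 (.node (.node (.node (.leaf 0) (.leaf 3)) (.leaf 3)) (.node (.leaf 0) (.leaf 0))) (.node (.node (.leaf 0) (.leaf 3)) (.node (.leaf 3) (.leaf 3)))) (.node (.node (.node (.leaf 0) (.leaf 3)) (.node (.leaf 3) (.leaf 3))) (.node (.node (.leaf 3) (.leaf 3)) (.node (.leaf 3) (.leaf 3)))))))

def bigKind25 : Janko.Tree (ℕ) :=
  (.node (.node (.node (.node (.node (.node (.node (.leaf 0) (.leaf 3)) (.leaf 3)) (.node (.leaf 0) (.leaf 3))) (.node (.node (.leaf 0) (.leaf 0)) (.node (.leaf 3) (.leaf 3)))) (.node (.node (.node (.node (.leaf 3) (.leaf 2)) (.leaf 3)) (.node (.leaf 0) (.leaf 3))) (.node (.node (.leaf 0) (.leaf 3)) (.node (.leaf 3) (.leaf 3))))) (.node (.node (.node (.node (.node (.leaf 0) (.leaf 3)) (.leaf 0)) (.node (.leaf 0) (.leaf 3))) (.node (.node (.leaf 3) (.leaf 3)) (.node (.leaf 0) (.leaf 3)))) (.node (.node (.node (.leaf 0) (.leaf 3)) (.node (.leaf 3) (.leaf 3))) (.node (.node (.leaf 3) (.leaf 3)) (.node (.leaf 3) (.leaf 3)))))) (.node (.node (.node (.node (.node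 (.node (.leaf 0) (.leaf 3)) (.leaf 0)) (.node (.leaf 0) (.leaf 3))) (.node (.node (.leaf 0) (.leaf 3)) (.node (.leaf 3) (.leaf 3)))) (.node (.node (.node (.leaf 0) (.leaf 3)) (.node (.leaf 0) (.leaf 3))) (.node (.node (.leaf 3) (.leaf 3)) (.node (.leaf 3) (.leaf 3))))) (.node (.node (.node (.node (.node (.leaf 0) (.leaf 3)) (.leaf 3)) (.node (.leaf 3) (.leaf 3))) (.node (.node (.leaf 3) (.leaf 3)) (.node (.leaf 3) (.leaf 3)))) (.node (.node (.node (.leaf 0) (.leaf 0)) (.node (.leaf 3) (.leaf 3))) (.node (.node (.leaf 0) (.leaf 3)) (.node (.leaf 3) (.leaf 3)))))))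

def bigKind26 : Janko.Tree (ℕ) :=
  (.node (.node (.node (.node (.node (.node (.node (.leaf 0) (.leaf 3)) (.leaf 0)) (.node (.leaf 3) (.leaf 3))) (.node (.node (.leaf 0) (.leaf 3)) (.node (.leaf 3) (.leaf 3)))) (.node (.node (.node (.node (.leaf 0) (.leaf 2)) (.leaf 0)) (.node (.leaf 0) (.leaf 3))) (.node (.node (.leaf 0) (.leaf 3)) (.node (.leaf 3) (.leaf 3))))) (.node (.node (.node (.node (.node (.leaf 0) (.leaf 3)) (.leaf 0)) (.node (.leaf 0) (.leaf 3))) (.node (.node (.leaf 3) (.leaf 3)) (.node (.leaf 3) (.leaf 3)))) (.node (.node (.node (.leaf 0) (.leaf 3)) (.node (.leaf 0) (.leaf 0))) (.node (.node (.leaf 0) (.leaf 3)) (.node (.leaf 3) (.leaf 3)))))) (.node (.node (.node (.node (.node (.node (.leaf 0) (.leaf 3)) (.leaf 3)) (.node (.leaf 3) (.leaf 3))) (.node (.node (.leaf 0) (.leaf 3)) (.node (.leaf 0) (.leaf 3)))) (.node (.node (.node (.leaf 0) (.leaf 3)) (.node (.leaf 3) (.leaf 0))) (.node (.node (.leaf 0) (.leaf 3)) (.node (.leaf 3) (.leaf 3))))) (.node (.node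 (.node (.node (.node (.leaf 0) (.leaf 3)) (.leaf 3)) (.node (.leaf 0) (.leaf 3))) (.node (.node (.leaf 3) (.leaf 3)) (.node (.leaf 3) (.leaf 3)))) (.node (.node (.node (.leaf 0) (.leaf 3)) (.node (.leaf 3) (.leaf 3))) (.node (.node (.leaf 3) (.leaf 3)) (.node (.leaf 3) (.leaf 3)))))))

def bigKind27 : Janko.Tree (ℕ) :=
  (.node (.node (.node (.node (.node (.node (.node (.leaf 0) (.leaf 3)) (.leaf 0)) (.node (.leaf 0) (.leaf 3))) (.node (.node (.leaf 0) (.leaf 3)) (.node (.leaf 0) (.leaf 3)))) (.node (.node (.node (.node (.leaf 0) (.leaf 2)) (.leaf 3)) (.node (.leaf 0) (.leaf 3))) (.node (.node (.leaf 0) (.leaf 3)) (.node (.leaf 3) (.leaf 3))))) (.node (.node (.node (.node (.node (.leaf 0) (.leaf 3)) (.leaf 0)) (.node (.leaf 3) (.leaf 3))) (.node (.node (.leaf 0) (.leaf 0)) (.node (.leaf 0) (.leaf 3)))) (.node (.node (.node (.leaf 3) (.leaf 0)) (.node (.leaf 0) (.leaf 3))) (.node (.node (.leaf 3) (.leaf 3)) (.node (.leaf 3) (.leaf 3)))))) (.node (.node (.node (.node (.node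 (.node (.leaf 0) (.leaf 3)) (.leaf 3)) (.node (.leaf 3) (.leaf 3))) (.node (.node (.leaf 0) (.leaf 3)) (.node (.leaf 0) (.leaf 3)))) (.node (.node (.node (.leaf 0) (.leaf 3)) (.node (.leaf 3) (.leaf 3))) (.node (.node (.leaf 0) (.leaf 3)) (.node (.leaf 3) (.leaf 3))))) (.node (.node (.node (.node (.node (.leaf 0) (.leaf 3)) (.leaf 3)) (.node (.leaf 0) (.leaf 3))) (.node (.node (.leaf 3) (.leaf 3)) (.node (.leaf 0) (.leaf 3)))) (.node (.node (.node (.leaf 0) (.leaf 3)) (.node (.leaf 3) (.leaf 3))) (.node (.node (.leaf 0) (.leaf 3)) (.node (.leaf 3) (.leaf 3)))))))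

def bigKind28 : Janko.Tree (ℕ) :=
  (.node (.node (.node (.node (.node (.node (.node (.leaf 0) (.leaf 3)) (.leaf 3)) (.node (.leaf 0) (.leaf 3))) (.node (.node (.leaf 0) (.leaf 3)) (.node (.leaf 0) (.leaf 3)))) (.node (.node (.node (.node (.leaf 0) (.leaf 2)) (.leaf 3)) (.node (.leaf 3) (.leaf 3))) (.node (.node (.leaf 3) (.leaf 3)) (.node (.leaf 3) (.leaf 3))))) (.node (.node (.node (.node (.node (.leaf 0) (.leaf 3)) (.leaf 3)) (.node (.leaf 3) (.leaf 3))) (.node (.node (.leaf 0) (.leaf 3)) (.node (.leaf 3) (.leaf 3)))) (.node (.node (.node (.leaf 0) (.leaf 3)) (.node (.leaf 3) (.leaf 3))) (.node (.node (.leaf 3) (.leaf 3)) (.node (.leaf 0) (.leaf 3)))))) (.node (.node (.node (.node (.node (.node (.leaf 0) (.leaf 3)) (.leaf 0)) (.node (.leaf 3) (.leaf 3))) (.node (.node (.leaf 0) (.leaf 3)) (.node (.leaf 0) (.leaf 3)))) (.node (.node (.node (.leaf 3) (.leaf 3)) (.node (.leaf 3) (.leaf 3))) (.node (.node (.leaf 0) (.leaf 3)) (.node (.leaf 3) (.leaf 3))))) (.node (.node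 (.node (.node (.node (.leaf 0) (.leaf 3)) (.leaf 0)) (.node (.leaf 3) (.leaf 3))) (.node (.node (.leaf 0) (.leaf 3)) (.node (.leaf 0) (.leaf 3)))) (.node (.node (.node (.leaf 3) (.leaf 3)) (.node (.leaf 0) (.leaf 3))) (.node (.node (.leaf 0) (.leaf 3)) (.node (.leaf 3) (.leaf 3)))))))

def bigKind29 : Janko.Tree (ℕ) :=
  (.node (.node (.node (.node (.node (.node (.node (.leaf 0) (.leaf 3)) (.leaf 3)) (.node (.leaf 0) (.leaf 3))) (.node (.node (.leaf 0) (.leaf 3)) (.node (.leaf 3) (.leaf 3)))) (.node (.node (.node (.node (.leaf 0) (.leaf 3)) (.leaf 3)) (.node (.leaf 0) (.leaf 3))) (.node (.node (.leaf 0) (.leaf 3)) (.node (.leaf 3) (.leaf 3))))) (.node (.node (.node (.node (.node (.leaf 0) (.leaf 3)) (.leaf 3)) (.node (.leaf 3) (.leaf 0))) (.node (.node (.leaf 0) (.leaf 0)) (.node (.leaf 3) (.leaf 3)))) (.node (.node (.node (.leaf 0) (.leaf 3)) (.node (.leaf 3) (.leaf 3))) (.node (.node (.leaf 0) (.leaf 0)) (.node (.leaf 3) (.leaf 3)))))) (.node (.node (.node (.node (.node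 (.node (.leaf 3) (.leaf 3)) (.leaf 0)) (.node (.leaf 3) (.leaf 0))) (.node (.node (.leaf 0) (.leaf 0)) (.node (.leaf 0) (.leaf 3)))) (.node (.node (.node (.leaf 0) (.leaf 3)) (.node (.leaf 3) (.leaf 0))) (.node (.node (.leaf 0) (.leaf 0)) (.node (.leaf 3) (.leaf 3))))) (.node (.node (.node (.node (.node (.leaf 0) (.leaf 3)) (.leaf 3)) (.node (.leaf 3) (.leaf 3))) (.node (.node (.leaf 0) (.leaf 3)) (.node (.leaf 0) (.leaf 3)))) (.node (.node (.node (.leaf 0) (.leaf 3)) (.node (.leaf 3) (.leaf 3))) (.node (.node (.leaf 3) (.leaf 3)) (.node (.leaf 0) (.leaf 3)))))))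

def bigKind30 : Janko.Tree (ℕ) :=
  (.node (.node (.node (.node (.node (.node (.node (.leaf 0) (.leaf 3)) (.leaf 3)) (.node (.leaf 0) (.leaf 3))) (.node (.node (.leaf 0) (.leaf 3)) (.node (.leaf 3) (.leaf 3)))) (.node (.node (.node (.node (.leaf 0) (.leaf 3)) (.leaf 0)) (.node (.leaf 0) (.leaf 0))) (.node (.node (.leaf 0) (.leaf 3)) (.node (.leaf 0) (.leaf 3))))) (.node (.node (.node (.node (.node (.leaf 0) (.leaf 3)) (.leaf 3)) (.node (.leaf 3) (.leaf 3))) (.node (.node (.leaf 0) (.leaf 3)) (.node (.leaf 3) (.leaf 3)))) (.node (.node (.node (.leaf 0) (.leaf 3)) (.node (.leaf 3) (.leaf 3))) (.node (.node (.leaf 3) (.leaf 3)) (.node (.leaf 3) (.leaf 3)))))) (.node (.node (.node (.node (.node (.node (.leaf 0) (.leaf 3)) (.leaf 0)) (.node (.leaf 0) (.leaf 3))) (.node (.node (.leaf 0) (.leaf 3)) (.node (.leaf 3) (.leaf 3)))) (.node (.node (.node (.leaf 3) (.leaf 0)) (.node (.leaf 3) (.leaf 3))) (.node (.node (.leaf 3) (.leaf 3)) (.node (.leaf 3) (.leaf 3))))) (.node (.node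 (.node (.node (.node (.leaf 3) (.leaf 3)) (.leaf 3)) (.node (.leaf 0) (.leaf 3))) (.node (.node (.leaf 3) (.leaf 0)) (.node (.leaf 0) (.leaf 3)))) (.node (.node (.node (.leaf 0) (.leaf 3)) (.node (.leaf 3) (.leaf 3))) (.node (.node (.leaf 0) (.leaf 3)) (.node (.leaf 0) (.leaf 3)))))))

def bigKind31 : Janko.Tree (ℕ) :=
  (.node (.node (.node (.node (.node (.node (.node (.leaf 0) (.leaf 3)) (.leaf 3)) (.node (.leaf 0) (.leaf 3))) (.node (.node (.leaf 0) (.leaf 3)) (.node (.leaf 3) (.leaf 3)))) (.node (.node (.node (.node (.leaf 0) (.leaf 3)) (.leaf 3)) (.node (.leaf 0) (.leaf 3))) (.node (.node (.leaf 0) (.leaf 0)) (.node (.leaf 3) (.leaf 3))))) (.node (.node (.node (.node (.node (.leaf 0) (.leaf 3)) (.leaf 0)) (.node (.leaf 0) (.leaf 3))) (.node (.node (.leaf 3) (.leaf 3)) (.node (.leaf 3) (.leaf 3)))) (.node (.node (.node (.leaf 0) (.leaf 3)) (.node (.leaf 3) (.leaf 3))) (.node (.node (.leaf 0) (.leaf 3)) (.node (.leaf 3) (.leaf 3)))))) (.node (.node (.node (.node (.node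 (.node (.leaf 3) (.leaf 3)) (.leaf 0)) (.node (.leaf 0) (.leaf 3))) (.node (.node (.leaf 0) (.leaf 3)) (.node (.leaf 0) (.leaf 3)))) (.node (.node (.node (.leaf 0) (.leaf 0)) (.node (.leaf 0) (.leaf 3))) (.node (.node (.leaf 0) (.leaf 3)) (.node (.leaf 3) (.leaf 3))))) (.node (.node (.node (.node (.node (.leaf 0) (.leaf 3)) (.leaf 3)) (.node (.leaf 3) (.leaf 3))) (.node (.node (.leaf 3) (.leaf 3)) (.node (.leaf 3) (.leaf 3)))) (.node (.node (.node (.leaf 0) (.leaf 3)) (.node (.leaf 3) (.leaf 3))) (.node (.node (.leaf 3) (.leaf 3)) (.node (.leaf 0) (.leaf 3)))))))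

def bigKind32 : Janko.Tree (ℕ) :=
  (.node (.node (.node (.node (.node (.node (.node (.leaf 0) (.leaf 3)) (.leaf 3)) (.node (.leaf 3) (.leaf 0))) (.node (.node (.leaf 0) (.leaf 3)) (.node (.leaf 0) (.leaf 3)))) (.node (.node (.node (.node (.leaf 0) (.leaf 3)) (.leaf 3)) (.node (.leaf 3) (.leaf 3))) (.node (.node (.leaf 0) (.leaf 3)) (.node (.leaf 0) (.leaf 3))))) (.node (.node (.node (.node (.node (.leaf 0) (.leaf 3)) (.leaf 3)) (.node (.leaf 0) (.leaf 3))) (.node (.node (.leaf 0) (.leaf 0)) (.node (.leaf 0) (.leaf 3)))) (.node (.node (.node (.leaf 0) (.leaf 3)) (.node (.leaf 0) (.leaf 3))) (.node (.node (.leaf 0) (.leaf 3)) (.node (.leaf 3) (.leaf 3)))))) (.node (.node (.node (.node (.node (.node (.leaf 0) (.leaf 3)) (.leaf 3)) (.node (.leaf 0) (.leaf 3))) (.node (.node (.leaf 0) (.leaf 3)) (.node (.leaf 3) (.leaf 3)))) (.node (.node (.node (.leaf 0) (.leaf 3)) (.node (.leaf 0) (.leaf 0))) (.node (.node (.leaf 0) (.leaf 3)) (.node (.leaf 3) (.leaf 3))))) (.node (.node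 (.node (.node (.node (.leaf 0) (.leaf 3)) (.leaf 3)) (.node (.leaf 3) (.leaf 3))) (.node (.node (.leaf 3) (.leaf 3)) (.node (.leaf 0) (.leaf 3)))) (.node (.node (.node (.leaf 0) (.leaf 3)) (.node (.leaf 3) (.leaf 3))) (.node (.node (.leaf 0) (.leaf 3)) (.node (.leaf 3) (.leaf 3)))))))

def bigKind33 : Janko.Tree (ℕ) :=
  (.node (.node (.node (.node (.node (.node (.node (.leaf 0) (.leaf 3)) (.leaf 3)) (.node (.leaf 0) (.leaf 3))) (.node (.node (.leaf 0) (.leaf 3)) (.node (.leaf 0) (.leaf 3)))) (.node (.node (.node (.node (.leaf 0) (.leaf 2)) (.leaf 3)) (.node (.leaf 0) (.leaf 3))) (.node (.node (.leaf 0) (.leaf 3)) (.node (.leaf 0) (.leaf 3))))) (.node (.node (.node (.node (.node (.leaf 0) (.leaf 3)) (.leaf 0)) (.node (.leaf 3) (.leaf 3))) (.node (.node (.leaf 0) (.leaf 3)) (.node (.leaf 3) (.leaf 3)))) (.node (.node (.node (.leaf 0) (.leaf 3)) (.node (.leaf 0) (.leaf 3))) (.node (.node (.leaf 0) (.leaf 3)) (.node (.leaf 3) (.leaf 3)))))) (.node (.node (.node (.node (.node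 (.node (.leaf 0) (.leaf 3)) (.leaf 0)) (.node (.leaf 0) (.leaf 3))) (.node (.node (.leaf 3) (.leaf 3)) (.node (.leaf 0) (.leaf 3)))) (.node (.node (.node (.leaf 0) (.leaf 3)) (.node (.leaf 0) (.leaf 3))) (.node (.node (.leaf 0) (.leaf 3)) (.node (.leaf 3) (.leaf 3))))) (.node (.node (.node (.node (.node (.leaf 0) (.leaf 3)) (.leaf 3)) (.node (.leaf 0) (.leaf 3))) (.node (.node (.leaf 3) (.leaf 3)) (.node (.leaf 3) (.leaf 3)))) (.node (.node (.node (.leaf 0) (.leaf 3)) (.node (.leaf 3) (.leaf 3))) (.node (.node (.leaf 0) (.leaf 0)) (.node (.leaf 3) (.leaf 3)))))))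

def bigKind34 : Janko.Tree (ℕ) :=
  (.node (.node (.node (.node (.node (.node (.node (.leaf 0) (.leaf 3)) (.leaf 3)) (.node (.leaf 3) (.leaf 3))) (.node (.node (.leaf 0) (.leaf 3)) (.node (.leaf 0) (.leaf 0)))) (.node (.node (.node (.node (.leaf 0) (.leaf 3)) (.leaf 0)) (.node (.leaf 3) (.leaf 3))) (.node (.node (.leaf 0) (.leaf 3)) (.node (.leaf 0) (.leaf 3))))) (.node (.node (.node (.node (.node (.leaf 0) (.leaf 3)) (.leaf 0)) (.node (.leaf 3) (.leaf 3))) (.node (.node (.leaf 3) (.leaf 3)) (.node (.leaf 0) (.leaf 3)))) (.node (.node (.node (.leaf 0) (.leaf 0)) (.node (.leaf 3) (.leaf 3))) (.node (.node (.leaf 0) (.leaf 3)) (.node (.leaf 3) (.leaf 3)))))) (.node (.node (.node (.node (.node (.node (.leaf 0) (.leaf 3)) (.leaf 0)) (.node (.leaf 0) (.leaf 3))) (.node (.node (.leaf 3) (.leaf 3)) (.node (.leaf 0) (.leaf 3)))) (.node (.node (.node (.leaf 0) (.leaf 3)) (.node (.leaf 3) (.leaf 3))) (.node (.node (.leaf 3) (.leaf 3)) (.node (.leaf 3) (.leaf 3))))) (.node (.node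 (.node (.node (.node (.leaf 0) (.leaf 3)) (.leaf 3)) (.node (.leaf 0) (.leaf 0))) (.node (.node (.leaf 0) (.leaf 0)) (.node (.leaf 3) (.leaf 3)))) (.node (.node (.node (.leaf 0) (.leaf 3)) (.node (.leaf 3) (.leaf 3))) (.node (.node (.leaf 0) (.leaf 3)) (.node (.leaf 3) (.leaf 3)))))))

def bigKind35 : Janko.Tree (ℕ) :=
  (.node (.node (.node (.node (.node (.node (.node (.leaf 0) (.leaf 3)) (.leaf 3)) (.node (.leaf 0) (.leaf 3))) (.node (.node (.leaf 0) (.leaf 3)) (.node (.leaf 3) (.leaf 3)))) (.node (.node (.node (.node (.leaf 0) (.leaf 2)) (.leaf 0)) (.node (.leaf 0) (.leaf 3))) (.node (.node (.leaf 3) (.leaf 3)) (.node (.leaf 3) (.leaf 3))))) (.node (.node (.node (.node (.node (.leaf 0) (.leaf 3)) (.leaf 0)) (.node (.leaf 3) (.leaf 3))) (.node (.node (.leaf 0) (.leaf 3)) (.node (.leaf 0) (.leaf 3)))) (.node (.node (.node (.leaf 0) (.leaf 0)) (.node (.leaf 0) (.leaf 3))) (.node (.node (.leaf 0) (.leaf 3)) (.node (.leaf 3) (.leaf 3)))))) (.node (.node (.node (.node (.node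 (.node (.leaf 3) (.leaf 3)) (.leaf 0)) (.node (.leaf 0) (.leaf 0))) (.node (.node (.leaf 3) (.leaf 3)) (.node (.leaf 0) (.leaf 3)))) (.node (.node (.node (.leaf 0) (.leaf 0)) (.node (.leaf 3) (.leaf 3))) (.node (.node (.leaf 3) (.leaf 3)) (.node (.leaf 3) (.leaf 3))))) (.node (.node (.node (.node (.node (.leaf 0) (.leaf 3)) (.leaf 0)) (.node (.leaf 3) (.leaf 3))) (.node (.node (.leaf 0) (.leaf 3)) (.node (.leaf 3) (.leaf 3)))) (.node (.node (.node (.leaf 0) (.leaf 3)) (.node (.leaf 3) (.leaf 3))) (.node (.node (.leaf 0) (.leaf 0)) (.node (.leaf 3) (.leaf 3)))))))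

def bigKind36 : Janko.Tree (ℕ) :=
  (.node (.node (.node (.node (.node (.node (.node (.leaf 0) (.leaf 3)) (.leaf 3)) (.node (.leaf 0) (.leaf 0))) (.node (.node (.leaf 0) (.leaf 3)) (.node (.leaf 0) (.leaf 3)))) (.node (.node (.node (.node (.leaf 0) (.leaf 3)) (.leaf 3)) (.node (.leaf 3) (.leaf 3))) (.node (.node (.leaf 0) (.leaf 3)) (.node (.leaf 0) (.leaf 3))))) (.node (.node (.node (.node (.node (.leaf 0) (.leaf 3)) (.leaf 0)) (.node (.leaf 3) (.leaf 3))) (.node (.node (.leaf 0) (.leaf 3)) (.node (.leaf 0) (.leaf 3)))) (.node (.node (.node (.leaf 0) (.leaf 3)) (.node (.leaf 0) (.leaf 3))) (.node (.node (.leaf 3) (.leaf 3)) (.node (.leaf 0) (.leaf 3)))))) (.node (.node (.node (.node (.node (.node (.leaf 0) (.leaf 3)) (.leaf 3)) (.node (.leaf 3) (.leaf 3))) (.node (.node (.leaf 0) (.leaf 3)) (.node (.leaf 0) (.leaf 3)))) (.node (.node (.node (.leaf 0) (.leaf 3)) (.node (.leaf 0) (.leaf 0))) (.node (.node (.leaf 0) (.leaf 3)) (.node (.leaf 3) (.leaf 3))))) (.node (.node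 (.node (.node (.node (.leaf 0) (.leaf 3)) (.leaf 3)) (.node (.leaf 0) (.leaf 3))) (.node (.node (.leaf 3) (.leaf 3)) (.node (.leaf 0) (.leaf 3)))) (.node (.node (.node (.leaf 0) (.leaf 3)) (.node (.leaf 3) (.leaf 3))) (.node (.node (.leaf 0) (.leaf 3)) (.node (.leaf 0) (.leaf 3)))))))

def bigKind37 : Janko.Tree (ℕ) :=
  (.node (.node (.node (.node (.node (.node (.node (.leaf 0) (.leaf 3)) (.leaf 3)) (.node (.leaf 0) (.leaf 3))) (.node (.node (.leaf 0) (.leaf 0)) (.node (.leaf 3) (.leaf 3)))) (.node (.node (.node (.node (.leaf 0) (.leaf 3)) (.leaf 3)) (.node (.leaf 0) (.leaf 3))) (.node (.node (.leaf 0) (.leaf 0)) (.node (.leaf 3) (.leaf 3))))) (.node (.node (.node (.node (.node (.leaf 0) (.leaf 3)) (.leaf 3)) (.node (.leaf 0) (.leaf 3))) (.node (.node (.leaf 0) (.leaf 3)) (.node (.leaf 0) (.leaf 3)))) (.node (.node (.node (.leaf 0) (.leaf 3)) (.node (.leaf 3) (.leaf 3))) (.node (.node (.leaf 0) (.leaf 3)) (.node (.leaf 0) (.leaf 3)))))) (.node (.node (.node (.node (.node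 (.node (.leaf 3) (.leaf 3)) (.leaf 3)) (.node (.leaf 3) (.leaf 3))) (.node (.node (.leaf 3) (.leaf 3)) (.node (.leaf 3) (.leaf 3)))) (.node (.node (.node (.leaf 0) (.leaf 0)) (.node (.leaf 0) (.leaf 0))) (.node (.node (.leaf 3) (.leaf 3)) (.node (.leaf 3) (.leaf 3))))) (.node (.node (.node (.node (.node (.leaf 0) (.leaf 3)) (.leaf 3)) (.node (.leaf 0) (.leaf 3))) (.node (.node (.leaf 0) (.leaf 3)) (.node (.leaf 0) (.leaf 3)))) (.node (.node (.node (.leaf 0) (.leaf 3)) (.node (.leaf 0) (.leaf 3))) (.node (.node (.leaf 0) (.leaf 3)) (.node (.leaf 0) (.leaf 3)))))))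

def bigKind38 : Janko.Tree (ℕ) :=
  (.node (.node (.node (.node (.node (.node (.node (.leaf 0) (.leaf 3)) (.leaf 3)) (.node (.leaf 3) (.leaf 3))) (.node (.node (.leaf 0) (.leaf 3)) (.node (.leaf 0) (.leaf 3)))) (.node (.node (.node (.node (.leaf 0) (.leaf 2)) (.leaf 3)) (.node (.leaf 0) (.leaf 3))) (.node (.node (.leaf 0) (.leaf 3)) (.node (.leaf 0) (.leaf 3))))) (.node (.node (.node (.node (.node (.leaf 0) (.leaf 3)) (.leaf 3)) (.node (.leaf 3) (.leaf 3))) (.node (.node (.leaf 3) (.leaf 3)) (.node (.leaf 0) (.leaf 3)))) (.node (.node (.node (.leaf 0) (.leaf 3)) (.node (.leaf 3) (.leaf 3))) (.node (.node (.leaf 0) (.leaf 3)) (.node (.leaf 3) (.leaf 3)))))) (.node (.node (.node (.node (.node (.node (.leaf 0) (.leaf 3)) (.leaf 3)) (.node (.leaf 0) (.leaf 3))) (.node (.node (.leaf 0) (.leaf 3)) (.node (.leaf 0) (.leaf 3)))) (.node (.node (.node (.leaf 0) (.leaf 3)) (.node (.leaf 0) (.leaf 0))) (.node (.node (.leaf 0) (.leaf 3)) (.node (.leaf 0) (.leaf 3))))) (.node (.node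 (.node (.node (.node (.leaf 0) (.leaf 3)) (.leaf 0)) (.node (.leaf 3) (.leaf 3))) (.node (.node (.leaf 0) (.leaf 3)) (.node (.leaf 3) (.leaf 3)))) (.node (.node (.node (.leaf 0) (.leaf 3)) (.node (.leaf 3) (.leaf 3))) (.node (.node (.leaf 0) (.leaf 3)) (.node (.leaf 0) (.leaf 3)))))))

def bigKind39 : Janko.Tree (ℕ) :=
  (.node (.node (.node (.node (.node (.node (.node (.leaf 0) (.leaf 3)) (.leaf 0)) (.node (.leaf 3) (.leaf 3))) (.node (.node (.leaf 0) (.leaf 0)) (.node (.leaf 0) (.leaf 3)))) (.node (.node (.node (.node (.leaf 0) (.leaf 2)) (.leaf 3)) (.node (.leaf 0) (.leaf 3))) (.node (.node (.leaf 0) (.leaf 3)) (.node (.leaf 3) (.leaf 3))))) (.node (.node (.node (.node (.node (.leaf 0) (.leaf 3)) (.leaf 3)) (.node (.leaf 0) (.leaf 3))) (.node (.node (.leaf 3) (.leaf 3)) (.node (.leaf 0) (.leaf 3)))) (.node (.node (.node (.leaf 3) (.leaf 3)) (.node (.leaf 0) (.leaf 0))) (.node (.node (.leaf 3) (.leaf 3)) (.node (.leaf 0) (.leaf 3)))))) (.node (.node (.node (.node (.node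 (.node (.leaf 0) (.leaf 3)) (.leaf 0)) (.node (.leaf 0) (.leaf 3))) (.node (.node (.leaf 0) (.leaf 3)) (.node (.leaf 0) (.leaf 3)))) (.node (.node (.node (.leaf 0) (.leaf 0)) (.node (.leaf 3) (.leaf 0))) (.node (.node (.leaf 0) (.leaf 3)) (.node (.leaf 3) (.leaf 3))))) (.node (.node (.node (.node (.node (.leaf 0) (.leaf 3)) (.leaf 3)) (.node (.leaf 0) (.leaf 3))) (.node (.node (.leaf 0) (.leaf 3)) (.node (.leaf 0) (.leaf 3)))) (.node (.node (.node (.leaf 0) (.leaf 3)) (.node (.leaf 3) (.leaf 0))) (.node (.node (.leaf 0) (.leaf 3)) (.node (.leaf 3) (.leaf 3)))))))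

def bigKind40 : Janko.Tree (ℕ) :=
  (.node (.node (.node (.node (.node (.node (.node (.leaf 0) (.leaf 3)) (.leaf 3)) (.node (.leaf 3) (.leaf 3))) (.node (.node (.leaf 0) (.leaf 3)) (.node (.leaf 0) (.leaf 3)))) (.node (.node (.node (.node (.leaf 0) (.leaf 3)) (.leaf 3)) (.node (.leaf 3) (.leaf 3))) (.node (.node (.leaf 0) (.leaf 3)) (.node (.leaf 0) (.leaf 0))))) (.node (.node (.node (.node (.node (.leaf 0) (.leaf 3)) (.leaf 3)) (.node (.leaf 0) (.leaf 3))) (.node (.node (.leaf 3) (.leaf 3)) (.node (.leaf 3) (.leaf 3)))) (.node (.node (.node (.leaf 0) (.leaf 3)) (.node (.leaf 0) (.leaf 3))) (.node (.node (.leaf 0) (.leaf 3)) (.node (.leaf 3) (.leaf 3)))))) (.node (.node (.node (.node (.node (.node (.leaf 3) (.leaf 3)) (.leaf 3)) (.node (.leaf 3) (.leaf 0))) (.node (.node (.leaf 0) (.leaf 3)) (.node (.leaf 0) (.leaf 3)))) (.node (.node (.node (.leaf 0) (.leaf 3)) (.node (.leaf 3) (.leaf 3))) (.node (.node (.leaf 0) (.leaf 3)) (.node (.leaf 3) (.leaf 3))))) (.node (.node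 (.node (.node (.node (.leaf 0) (.leaf 3)) (.leaf 0)) (.node (.leaf 3) (.leaf 3))) (.node (.node (.leaf 3) (.leaf 3)) (.node (.leaf 0) (.leaf 3)))) (.node (.node (.node (.leaf 0) (.leaf 3)) (.node (.leaf 0) (.leaf 3))) (.node (.node (.leaf 0) (.leaf 3)) (.node (.leaf 3) (.leaf 3)))))))

def bigKind41 : Janko.Tree (ℕ) :=
  (.node (.node (.node (.node (.node (.node (.node (.leaf 0) (.leaf 3)) (.leaf 0)) (.node (.leaf 3) (.leaf 0))) (.node (.node (.leaf 0) (.leaf 3)) (.node (.leaf 0) (.leaf 3)))) (.node (.node (.node (.node (.leaf 0) (.leaf 3)) (.leaf 3)) (.node (.leaf 3) (.leaf 3))) (.node (.node (.leaf 0) (.leaf 3)) (.node (.leaf 0) (.leaf 3))))) (.node (.node (.node (.node (.node (.leaf 0) (.leaf 3)) (.leaf 3)) (.node (.leaf 0) (.leaf 0))) (.node (.node (.leaf 0) (.leaf 3)) (.node (.leaf 3) (.leaf 3)))) (.node (.node (.node (.leaf 0) (.leaf 0)) (.node (.leaf 3) (.leaf 3))) (.node (.node (.leaf 3) (.leaf 0)) (.node (.leaf 0) (.leaf 3)))))) (.node (.node (.node (.node (.node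 (.node (.leaf 0) (.leaf 3)) (.leaf 0)) (.node (.leaf 3) (.leaf 3))) (.node (.node (.leaf 0) (.leaf 3)) (.node (.leaf 0) (.leaf 3)))) (.node (.node (.node (.leaf 0) (.leaf 3)) (.node (.leaf 0) (.leaf 0))) (.node (.node (.leaf 0) (.leaf 3)) (.node (.leaf 3) (.leaf 3))))) (.node (.node (.node (.node (.node (.leaf 0) (.leaf 3)) (.leaf 3)) (.node (.leaf 0) (.leaf 3))) (.node (.node (.leaf 0) (.leaf 3)) (.node (.leaf 3) (.leaf 3)))) (.node (.node (.node (.leaf 0) (.leaf 3)) (.node (.leaf 3) (.leaf 3))) (.node (.node (.leaf 0) (.leaf 3)) (.node (.leaf 3) (.leaf 3)))))))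

def bigKind42 : Janko.Tree (ℕ) :=
  (.node (.node (.node (.node (.node (.node (.node (.leaf 0) (.leaf 3)) (.leaf 3)) (.node (.leaf 0) (.leaf 3))) (.node (.node (.leaf 0) (.leaf 3)) (.node (.leaf 0) (.leaf 3)))) (.node (.node (.node (.node (.leaf 0) (.leaf 3)) (.leaf 3)) (.node (.leaf 3) (.leaf 3))) (.node (.node (.leaf 0) (.leaf 3)) (.node (.leaf 0) (.leaf 3))))) (.node (.node (.node (.node (.node (.leaf 0) (.leaf 3)) (.leaf 3)) (.node (.leaf 3) (.leaf 3))) (.node (.node (.leaf 0) (.leaf 3)) (.node (.leaf 3) (.leaf 3)))) (.node (.node (.node (.leaf 0) (.leaf 3)) (.node (.leaf 3) (.leaf 3))) (.node (.node (.leaf 3) (.leaf 0)) (.node (.leaf 3) (.leaf 3)))))) (.node (.node (.node (.node (.node (.node (.leaf 0) (.leaf 3)) (.leaf 0)) (.node (.leaf 3) (.leaf 3))) (.node (.node (.leaf 3) (.leaf 3)) (.node (.leaf 3) (.leaf 3)))) (.node (.node (.node (.leaf 0) (.leaf 3)) (.node (.leaf 3) (.leaf 3))) (.node (.node (.leaf 3) (.leaf 3)) (.node (.leaf 3) (.leaf 3))))) (.node (.node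 (.node (.node (.node (.leaf 3) (.leaf 3)) (.leaf 3)) (.node (.leaf 3) (.leaf 3))) (.node (.node (.leaf 0) (.leaf 3)) (.node (.leaf 3) (.leaf 3)))) (.node (.node (.node (.leaf 3) (.leaf 0)) (.node (.leaf 0) (.leaf 3))) (.node (.node (.leaf 3) (.leaf 3)) (.node (.leaf 0) (.leaf 3)))))))

def bigKind43 : Janko.Tree (ℕ) :=
  (.node (.node (.node (.node (.node (.node (.node (.leaf 0) (.leaf 3)) (.leaf 0)) (.node (.leaf 3) (.leaf 3))) (.node (.node (.leaf 3) (.leaf 3)) (.node (.leaf 3) (.leaf 3)))) (.node (.node (.node (.node (.leaf 0) (.leaf 3)) (.leaf 3)) (.node (.leaf 0) (.leaf 3))) (.node (.node (.leaf 3) (.leaf 3)) (.node (.leaf 0) (.leaf 0))))) (.node (.node (.node (.node (.node (.leaf 0) (.leaf 3)) (.leaf 3)) (.node (.leaf 3) (.leaf 3))) (.node (.node (.leaf 0) (.leaf 0)) (.node (.leaf 3) (.leaf 3)))) (.node (.node (.node (.leaf 0) (.leaf 0)) (.node (.leaf 0) (.leaf 3))) (.node (.node (.leaf 0) (.leaf 3)) (.node (.leaf 0) (.leaf 3)))))) (.node (.node (.node (.node (.node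 (.node (.leaf 0) (.leaf 3)) (.leaf 3)) (.node (.leaf 3) (.leaf 3))) (.node (.node (.leaf 0) (.leaf 3)) (.node (.leaf 0) (.leaf 3)))) (.node (.node (.node (.leaf 0) (.leaf 3)) (.node (.leaf 3) (.leaf 3))) (.node (.node (.leaf 0) (.leaf 3)) (.node (.leaf 0) (.leaf 3))))) (.node (.node (.node (.node (.node (.leaf 0) (.leaf 3)) (.leaf 0)) (.node (.leaf 0) (.leaf 3))) (.node (.node (.leaf 3) (.leaf 0)) (.node (.leaf 0) (.leaf 3)))) (.node (.node (.node (.leaf 0) (.leaf 0)) (.node (.leaf 3) (.leaf 3))) (.node (.node (.leaf 0) (.leaf 3)) (.node (.leaf 0) (.leaf 3)))))))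

def bigKind44 : Janko.Tree (ℕ) :=
  (.node (.node (.node (.node (.node (.node (.node (.leaf 0) (.leaf 3)) (.leaf 0)) (.node (.leaf 3) (.leaf 3))) (.node (.node (.leaf 0) (.leaf 3)) (.node (.leaf 0) (.leaf 3)))) (.node (.node (.node (.node (.leaf 0) (.leaf 2)) (.leaf 3)) (.node (.leaf 3) (.leaf 3))) (.node (.node (.leaf 0) (.leaf 3)) (.node (.leaf 0) (.leaf 3))))) (.node (.node (.node (.node (.node (.leaf 0) (.leaf 3)) (.leaf 3)) (.node (.leaf 3) (.leaf 3))) (.node (.node (.leaf 0) (.leaf 3)) (.node (.leaf 3) (.leaf 3)))) (.node (.node (.node (.leaf 0) (.leaf 0)) (.node (.leaf 0) (.leaf 3))) (.node (.node (.leaf 0) (.leaf 3)) (.node (.leaf 3) (.leaf 3)))))) (.node (.node (.node (.node (.node (.node (.leaf 0) (.leaf 3)) (.leaf 0)) (.node (.leaf 0) (.leaf 3))) (.node (.node (.leaf 0) (.leaf 3)) (.node (.leaf 0) (.leaf 3)))) (.node (.node (.node (.leaf 3) (.leaf 3)) (.node (.leaf 0) (.leaf 3))) (.node (.node (.leaf 3) (.leaf 0)) (.node (.leaf 0) (.leaf 3))))) (.node (.node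 (.node (.node (.node (.leaf 0) (.leaf 3)) (.leaf 3)) (.node (.leaf 3) (.leaf 0))) (.node (.node (.leaf 3) (.leaf 3)) (.node (.leaf 0) (.leaf 3)))) (.node (.node (.node (.leaf 0) (.leaf 3)) (.node (.leaf 3) (.leaf 3))) (.node (.node (.leaf 3) (.leaf 0)) (.node (.leaf 3) (.leaf 3)))))))

def bigKind45 : Janko.Tree (ℕ) :=
  (.node (.node (.node (.node (.node (.node (.node (.leaf 0) (.leaf 3)) (.leaf 0)) (.node (.leaf 0) (.leaf 3))) (.node (.node (.leaf 3) (.leaf 3)) (.node (.leaf 0) (.leaf 3)))) (.node (.node (.node (.node (.leaf 0) (.leaf 3)) (.leaf 0)) (.node (.leaf 3) (.leaf 3))) (.node (.node (.leaf 0) (.leaf 3)) (.node (.leaf 0) (.leaf 3))))) (.node (.node (.node (.node (.node (.leaf 0) (.leaf 3)) (.leaf 0)) (.node (.leaf 3) (.leaf 3))) (.node (.node (.leaf 3) (.leaf 3)) (.node (.leaf 0) (.leaf 3)))) (.node (.node (.node (.leaf 0) (.leaf 0)) (.node (.leaf 3) (.leaf 3))) (.node (.node (.leaf 0) (.leaf 0)) (.node (.leaf 0) (.leaf 3)))))) (.node (.node (.node (.node (.node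 (.node (.leaf 3) (.leaf 3)) (.leaf 3)) (.node (.leaf 0) (.leaf 3))) (.node (.node (.leaf 0) (.leaf 0)) (.node (.leaf 3) (.leaf 3)))) (.node (.node (.node (.leaf 0) (.leaf 0)) (.node (.leaf 3) (.leaf 3))) (.node (.node (.leaf 0) (.leaf 3)) (.node (.leaf 3) (.leaf 3))))) (.node (.node (.node (.node (.node (.leaf 0) (.leaf 3)) (.leaf 3)) (.node (.leaf 0) (.leaf 3))) (.node (.node (.leaf 0) (.leaf 0)) (.node (.leaf 3) (.leaf 3)))) (.node (.node (.node (.leaf 0) (.leaf 3)) (.node (.leaf 0) (.leaf 3))) (.node (.node (.leaf 0) (.leaf 3)) (.node (.leaf 3) (.leaf 3)))))))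

def bigKind46 : Janko.Tree (ℕ) :=
  (.node (.node (.node (.node (.node (.node (.node (.leaf 0) (.leaf 3)) (.leaf 0)) (.node (.leaf 3) (.leaf 3))) (.node (.node (.leaf 0) (.leaf 0)) (.node (.leaf 0) (.leaf 3)))) (.node (.node (.node (.node (.leaf 0) (.leaf 3)) (.leaf 3)) (.node (.leaf 3) (.leaf 3))) (.node (.node (.leaf 0) (.leaf 0)) (.node (.leaf 3) (.leaf 3))))) (.node (.node (.node (.node (.node (.leaf 3) (.leaf 3)) (.leaf 3)) (.node (.leaf 0) (.leaf 3))) (.node (.node (.leaf 0) (.leaf 3)) (.node (.leaf 0) (.leaf 3)))) (.node (.node (.node (.leaf 0) (.leaf 3)) (.node (.leaf 0) (.leaf 3))) (.node (.node (.leaf 0) (.leaf 3)) (.node (.leaf 3) (.leaf 3)))))) (.node (.node (.node (.node (.node (.node (.leaf 0) (.leaf 3)) (.leaf 0)) (.node (.leaf 3) (.leaf 3))) (.node (.node (.leaf 0) (.leaf 3)) (.node (.leaf 3) (.leaf 3)))) (.node (.node (.node (.leaf 3) (.leaf 3)) (.node (.leaf 0) (.leaf 3))) (.node (.node (.leaf 0) (.leaf 3)) (.node (.leaf 0) (.leaf 3))))) (.node (.node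 (.node (.node (.node (.leaf 0) (.leaf 3)) (.leaf 3)) (.node (.leaf 3) (.leaf 0))) (.node (.node (.leaf 0) (.leaf 3)) (.node (.leaf 3) (.leaf 3)))) (.node (.node (.node (.leaf 0) (.leaf 3)) (.node (.leaf 3) (.leaf 3))) (.node (.node (.leaf 0) (.leaf 3)) (.node (.leaf 3) (.leaf 3)))))))

def bigKind47 : Janko.Tree (ℕ) :=
  (.node (.node (.node (.node (.node (.node (.node (.leaf 0) (.leaf 3)) (.leaf 3)) (.node (.leaf 3) (.leaf 3))) (.node (.node (.leaf 0) (.leaf 3)) (.node (.leaf 3) (.leaf 3)))) (.node (.node (.node (.node (.leaf 0) (.leaf 3)) (.leaf 3)) (.node (.leaf 3) (.leaf 3))) (.node (.node (.leaf 3) (.leaf 3)) (.node (.leaf 0) (.leaf 3))))) (.node (.node (.node (.node (.node (.leaf 0) (.leaf 3)) (.leaf 3)) (.node (.leaf 3) (.leaf 3))) (.node (.node (.leaf 3) (.leaf 3)) (.node (.leaf 0) (.leaf 3)))) (.node (.node (.node (.leaf 0) (.leaf 3)) (.node (.leaf 3) (.leaf 3))) (.node (.node (.leaf 0) (.leaf 3)) (.node (.leaf 0) (.leaf 3)))))) (.node (.node (.node (.node (.node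 (.node (.leaf 3) (.leaf 3)) (.leaf 3)) (.node (.leaf 3) (.leaf 3))) (.node (.node (.leaf 0) (.leaf 3)) (.node (.leaf 0) (.leaf 3)))) (.node (.node (.node (.leaf 0) (.leaf 3)) (.node (.leaf 0) (.leaf 3))) (.node (.node (.leaf 0) (.leaf 3)) (.node (.leaf 3) (.leaf 3))))) (.node (.node (.node (.node (.node (.leaf 0) (.leaf 3)) (.leaf 3)) (.node (.leaf 0) (.leaf 3))) (.node (.node (.leaf 0) (.leaf 0)) (.node (.leaf 3) (.leaf 3)))) (.node (.node (.node (.leaf 0) (.leaf 3)) (.node (.leaf 0) (.leaf 3))) (.node (.node (.leaf 0) (.leaf 3)) (.node (.leaf 3) (.leaf 3)))))))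

def bigKind48 : Janko.Tree (ℕ) :=
  (.node (.node (.node (.node (.node (.node (.node (.leaf 0) (.leaf 3)) (.leaf 3)) (.node (.leaf 3) (.leaf 3))) (.node (.node (.leaf 3) (.leaf 3)) (.node (.leaf 3) (.leaf 3)))) (.node (.node (.node (.node (.leaf 0) (.leaf 3)) (.leaf 3)) (.node (.leaf 3) (.leaf 3))) (.node (.node (.leaf 3) (.leaf 0)) (.node (.leaf 3) (.leaf 3))))) (.node (.node (.node (.node (.node (.leaf 3) (.leaf 3)) (.leaf 0)) (.node (.leaf 0) (.leaf 3))) (.node (.node (.leaf 3) (.leaf 3)) (.node (.leaf 0) (.leaf 3)))) (.node (.node (.node (.leaf 0) (.leaf 3)) (.node (.leaf 3) (.leaf 3))) (.node (.node (.leaf 0) (.leaf 3)) (.node (.leaf 0) (.leaf 3)))))) (.node (.node (.node (.node (.node (.node (.leaf 0) (.leaf 3)) (.leaf 0)) (.node (.leaf 3) (.leaf 3))) (.node (.node (.leaf 3) (.leaf 3)) (.node (.leaf 0) (.leaf 3)))) (.node (.node (.node (.leaf 0) (.leaf 3)) (.node (.leaf 3) (.leaf 3))) (.node (.node (.leaf 3) (.leaf 3)) (.node (.leaf 3) (.leaf 3))))) (.node (.node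 (.node (.node (.node (.leaf 0) (.leaf 3)) (.leaf 3)) (.node (.leaf 3) (.leaf 3))) (.node (.node (.leaf 0) (.leaf 0)) (.node (.leaf 3) (.leaf 3)))) (.node (.node (.node (.leaf 0) (.leaf 3)) (.node (.leaf 3) (.leaf 3))) (.node (.node (.leaf 3) (.leaf 3)) (.node (.leaf 3) (.leaf 3)))))))

def bigKind49 : Janko.Tree (ℕ) :=
  (.node (.node (.node (.node (.node (.node (.node (.leaf 0) (.leaf 3)) (.leaf 3)) (.node (.leaf 0) (.leaf 3))) (.node (.node (.leaf 0) (.leaf 3)) (.node (.leaf 3) (.leaf 3)))) (.node (.node (.node (.node (.leaf 0) (.leaf 3)) (.leaf 3)) (.node (.leaf 3) (.leaf 3))) (.node (.node (.leaf 3) (.leaf 3)) (.node (.leaf 3) (.leaf 3))))) (.node (.node (.node (.node (.node (.leaf 0) (.leaf 3)) (.leaf 3)) (.node (.leaf 3) (.leaf 3))) (.node (.node (.leaf 0) (.leaf 3)) (.node (.leaf 3) (.leaf 3)))) (.node (.node (.node (.leaf 0) (.leaf 3)) (.node (.leaf 0) (.leaf 3))) (.node (.node (.leaf 0) (.leaf 0)) (.node (.leaf 3) (.leaf 3)))))) (.node (.node (.node (.node (.node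 (.node (.leaf 3) (.leaf 3)) (.leaf 3)) (.node (.leaf 3) (.leaf 3))) (.node (.node (.leaf 0) (.leaf 3)) (.node (.leaf 3) (.leaf 3)))) (.node (.node (.node (.leaf 0) (.leaf 3)) (.node (.leaf 0) (.leaf 3))) (.node (.node (.leaf 0) (.leaf 3)) (.node (.leaf 0) (.leaf 3))))) (.node (.node (.node (.node (.node (.leaf 0) (.leaf 3)) (.leaf 0)) (.node (.leaf 3) (.leaf 3))) (.node (.node (.leaf 0) (.leaf 3)) (.node (.leaf 0) (.leaf 3)))) (.node (.node (.node (.leaf 0) (.leaf 3)) (.node (.leaf 3) (.leaf 3))) (.node (.node (.leaf 0) (.leaf 3)) (.node (.leaf 3) (.leaf 3)))))))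

def bigKind50 : Janko.Tree (ℕ) :=
  (.node (.node (.node (.node (.node (.node (.node (.leaf 3) (.leaf 3)) (.leaf 3)) (.node (.leaf 3) (.leaf 3))) (.node (.node (.leaf 0) (.leaf 0)) (.node (.leaf 3) (.leaf 3)))) (.node (.node (.node (.node (.leaf 0) (.leaf 3)) (.leaf 0)) (.node (.leaf 3) (.leaf 3))) (.node (.node (.leaf 3) (.leaf 3)) (.node (.leaf 3) (.leaf 3))))) (.node (.node (.node (.node (.node (.leaf 0) (.leaf 3)) (.leaf 0)) (.node (.leaf 0) (.leaf 3))) (.node (.node (.leaf 3) (.leaf 3)) (.node (.leaf 0) (.leaf 3)))) (.node (.node (.node (.leaf 0) (.leaf 3)) (.node (.leaf 0) (.leaf 3))) (.node (.node (.leaf 0) (.leaf 3)) (.node (.leaf 0) (.leaf 3)))))) (.node (.node (.node (.node (.node (.node (.leaf 0) (.leaf 3)) (.leaf 3)) (.node (.leaf 0) (.leaf 3))) (.node (.node (.leaf 3) (.leaf 0)) (.node (.leaf 3) (.leaf 3)))) (.node (.node (.node (.leaf 0) (.leaf 3)) (.node (.leaf 0) (.leaf 3))) (.node (.node (.leaf 0) (.leaf 0)) (.node (.leaf 0) (.leaf 3))))) (.node (.node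 (.node (.node (.node (.leaf 0) (.leaf 3)) (.leaf 3)) (.node (.leaf 0) (.leaf 3))) (.node (.node (.leaf 0) (.leaf 3)) (.node (.leaf 0) (.leaf 3)))) (.node (.node (.node (.leaf 3) (.leaf 3)) (.node (.leaf 0) (.leaf 3))) (.node (.node (.leaf 0) (.leaf 0)) (.node (.leaf 3) (.leaf 3)))))))

def bigKind51 : Janko.Tree (ℕ) :=
  (.node (.node (.node (.node (.node (.node (.node (.leaf 0) (.leaf 3)) (.leaf 3)) (.node (.leaf 3) (.leaf 3))) (.node (.node (.leaf 0) (.leaf 3)) (.node (.leaf 0) (.leaf 3)))) (.node (.node (.node (.node (.leaf 0) (.leaf 3)) (.leaf 3)) (.node (.leaf 3) (.leaf 3))) (.node (.node (.leaf 3) (.leaf 3)) (.node (.leaf 3) (.leaf 3))))) (.node (.node (.node (.node (.node (.leaf 3) (.leaf 3)) (.leaf 3)) (.node (.leaf 3) (.leaf 3))) (.node (.node (.leaf 0) (.leaf 3)) (.node (.leaf 3) (.leaf 3)))) (.node (.node (.node (.leaf 0) (.leaf 0)) (.node (.leaf 0) (.leaf 3))) (.node (.node (.leaf 0) (.leaf 3)) (.node (.leaf 3) (.leaf 3)))))) (.node (.node (.node (.node (.node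 (.node (.leaf 0) (.leaf 3)) (.leaf 3)) (.node (.leaf 3) (.leaf 3))) (.node (.node (.leaf 0) (.leaf 3)) (.node (.leaf 3) (.leaf 3)))) (.node (.node (.node (.leaf 0) (.leaf 3)) (.node (.leaf 0) (.leaf 3))) (.node (.node (.leaf 0) (.leaf 3)) (.node (.leaf 0) (.leaf 3))))) (.node (.node (.node (.node (.node (.leaf 0) (.leaf 3)) (.leaf 3)) (.node (.leaf 0) (.leaf 3))) (.node (.node (.leaf 0) (.leaf 3)) (.node (.leaf 3) (.leaf 3)))) (.node (.node (.node (.leaf 0) (.leaf 0)) (.node (.leaf 0) (.leaf 3))) (.node (.node (.leaf 0) (.leaf 3)) (.node (.leaf 3) (.leaf 3)))))))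

def bigKind52 : Janko.Tree (ℕ) :=
  (.node (.node (.node (.node (.node (.node (.node (.leaf 0) (.leaf 3)) (.leaf 3)) (.node (.leaf 3) (.leaf 0))) (.node (.node (.leaf 3) (.leaf 3)) (.node (.leaf 3) (.leaf 3)))) (.node (.node (.node (.node (.leaf 0) (.leaf 3)) (.leaf 3)) (.node (.leaf 3) (.leaf 3))) (.node (.node (.leaf 3) (.leaf 3)) (.node (.leaf 3) (.leaf 3))))) (.node (.node (.node (.node (.node (.leaf 0) (.leaf 3)) (.leaf 3)) (.node (.leaf 0) (.leaf 3))) (.node (.node (.leaf 3) (.leaf 0)) (.node (.leaf 0) (.leaf 3)))) (.node (.node (.node (.leaf 0) (.leaf 0)) (.node (.leaf 0) (.leaf 3))) (.node (.node (.leaf 0) (.leaf 3)) (.node (.leaf 3) (.leaf 3)))))) (.node (.node (.node (.node (.node (.node (.leaf 0) (.leaf 3)) (.leaf 3)) (.node (.leaf 3) (.leaf 3))) (.node (.node (.leaf 0) (.leaf 3)) (.node (.leaf 3) (.leaf 3)))) (.node (.node (.node (.leaf 0) (.leaf 3)) (.node (.leaf 0) (.leaf 3))) (.node (.node (.leaf 0) (.leaf 3)) (.node (.leaf 0) (.leaf 3))))) (.node (.node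 (.node (.node (.node (.leaf 0) (.leaf 3)) (.leaf 3)) (.node (.leaf 0) (.leaf 3))) (.node (.node (.leaf 3) (.leaf 3)) (.node (.leaf 0) (.leaf 3)))) (.node (.node (.node (.leaf 3) (.leaf 3)) (.node (.leaf 3) (.leaf 3))) (.node (.node (.leaf 0) (.leaf 3)) (.node (.leaf 3) (.leaf 3)))))))

def bigKind53 : Janko.Tree (ℕ) :=
  (.node (.node (.node (.node (.node (.node (.node (.leaf 0) (.leaf 3)) (.leaf 3)) (.node (.leaf 0) (.leaf 3))) (.node (.node (.leaf 3) (.leaf 3)) (.node (.leaf 3) (.leaf 3)))) (.node (.node (.node (.node (.leaf 0) (.leaf 3)) (.leaf 3)) (.node (.leaf 3) (.leaf 0))) (.node (.node (.leaf 3) (.leaf 3)) (.node (.leaf 0) (.leaf 3))))) (.node (.node (.node (.node (.node (.leaf 0) (.leaf 3)) (.leaf 3)) (.node (.leaf 3) (.leaf 3))) (.node (.node (.leaf 0) (.leaf 3)) (.node (.leaf 0) (.leaf 3)))) (.node (.node (.node (.leaf 0) (.leaf 3)) (.node (.leaf 3) (.leaf 3))) (.node (.node (.leaf 3) (.leaf 3)) (.node (.leaf 3) (.leaf 3)))))) (.node (.node (.node (.node (.node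 (.node (.leaf 3) (.leaf 3)) (.leaf 3)) (.node (.leaf 0) (.leaf 3))) (.node (.node (.leaf 0) (.leaf 3)) (.node (.leaf 3) (.leaf 3)))) (.node (.node (.node (.leaf 0) (.leaf 0)) (.node (.leaf 0) (.leaf 3))) (.node (.node (.leaf 0) (.leaf 3)) (.node (.leaf 3) (.leaf 3))))) (.node (.node (.node (.node (.node (.leaf 0) (.leaf 3)) (.leaf 3)) (.node (.leaf 3) (.leaf 3))) (.node (.node (.leaf 0) (.leaf 3)) (.node (.leaf 3) (.leaf 3)))) (.node (.node (.node (.leaf 0) (.leaf 0)) (.node (.leaf 0) (.leaf 3))) (.node (.node (.leaf 0) (.leaf 3)) (.node (.leaf 3) (.leaf 3)))))))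

def bigKind54 : Janko.Tree (ℕ) :=
  (.node (.node (.node (.node (.node (.node (.node (.leaf 0) (.leaf 3)) (.leaf 3)) (.node (.leaf 3) (.leaf 3))) (.node (.node (.leaf 0) (.leaf 3)) (.node (.leaf 3) (.leaf 0)))) (.node (.node (.node (.node (.leaf 0) (.leaf 3)) (.leaf 3)) (.node (.leaf 3) (.leaf 3))) (.node (.node (.leaf 0) (.leaf 3)) (.node (.leaf 3) (.leaf 3))))) (.node (.node (.node (.node (.node (.leaf 0) (.leaf 3)) (.leaf 3)) (.node (.leaf 0) (.leaf 0))) (.node (.node (.leaf 0) (.leaf 3)) (.node (.leaf 0) (.leaf 3)))) (.node (.node (.node (.leaf 3) (.leaf 3)) (.node (.leaf 0) (.leaf 3))) (.node (.node (.leaf 0) (.leaf 3)) (.node (.leaf 0) (.leaf 3)))))) (.node (.node (.node (.node (.node (.node (.leaf 0) (.leaf 3)) (.leaf 3)) (.node (.leaf 3) (.leaf 3))) (.node (.node (.leaf 3) (.leaf 3)) (.node (.leaf 3) (.leaf 3)))) (.node (.node (.node (.leaf 0) (.leaf 0)) (.node (.leaf 3) (.leaf 3))) (.node (.node (.leaf 0) (.leaf 3)) (.node (.leaf 0) (.leaf 3))))) (.node (.node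 (.node (.node (.node (.leaf 0) (.leaf 3)) (.leaf 3)) (.node (.leaf 3) (.leaf 3))) (.node (.node (.leaf 0) (.leaf 3)) (.node (.leaf 3) (.leaf 3)))) (.node (.node (.node (.leaf 0) (.leaf 0)) (.node (.leaf 0) (.leaf 3))) (.node (.node (.leaf 3) (.leaf 3)) (.node (.leaf 0) (.leaf 3)))))))

def bigKind55 : Janko.Tree (ℕ) :=
  (.node (.node (.node (.node (.node (.node (.node (.leaf 0) (.leaf 3)) (.leaf 3)) (.node (.leaf 3) (.leaf 0))) (.node (.node (.leaf 3) (.leaf 3)) (.node (.leaf 0) (.leaf 3)))) (.node (.node (.node (.node (.leaf 0) (.leaf 3)) (.leaf 3)) (.node (.leaf 0) (.leaf 3))) (.node (.node (.leaf 0) (.leaf 3)) (.node (.leaf 3) (.leaf 3))))) (.node (.node (.node (.node (.node (.leaf 0) (.leaf 3)) (.leaf 3)) (.node (.leaf 0) (.leaf 3))) (.node (.node (.leaf 0) (.leaf 0)) (.node (.leaf 3) (.leaf 3)))) (.node (.node (.node (.leaf 0) (.leaf 0)) (.node (.leaf 3) (.leaf 3))) (.node (.node (.leaf 0) (.leaf 3)) (.node (.leaf 3) (.leaf 3)))))) (.node (.node (.node (.node (.node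 (.node (.leaf 3) (.leaf 3)) (.leaf 0)) (.node (.leaf 0) (.leaf 3))) (.node (.node (.leaf 3) (.leaf 3)) (.node (.leaf 3) (.leaf 3)))) (.node (.node (.node (.leaf 3) (.leaf 0)) (.node (.leaf 0) (.leaf 3))) (.node (.node (.leaf 0) (.leaf 3)) (.node (.leaf 3) (.leaf 3))))) (.node (.node (.node (.node (.node (.leaf 0) (.leaf 3)) (.leaf 3)) (.node (.leaf 3) (.leaf 3))) (.node (.node (.leaf 0) (.leaf 3)) (.node (.leaf 3) (.leaf 3)))) (.node (.node (.node (.leaf 0) (.leaf 3)) (.node (.leaf 0) (.leaf 0))) (.node (.node (.leaf 0) (.leaf 0)) (.node (.leaf 3) (.leaf 3)))))))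

def bigKind56 : Janko.Tree (ℕ) :=
  (.node (.node (.node (.node (.node (.node (.node (.leaf 0) (.leaf 3)) (.leaf 0)) (.node (.leaf 3) (.leaf 0))) (.node (.node (.leaf 3) (.leaf 3)) (.node (.leaf 3) (.leaf 3)))) (.node (.node (.node (.node (.leaf 0) (.leaf 3)) (.leaf 3)) (.node (.leaf 0) (.leaf 3))) (.node (.node (.leaf 3) (.leaf 0)) (.node (.leaf 0) (.leaf 3))))) (.node (.node (.node (.node (.node (.leaf 3) (.leaf 3)) (.leaf 0)) (.node (.leaf 0) (.leaf 0))) (.node (.node (.leaf 0) (.leaf 3)) (.node (.leaf 0) (.leaf 3)))) (.node (.node (.node (.leaf 3) (.leaf 3)) (.node (.leaf 3) (.leaf 0))) (.node (.node (.leaf 3) (.leaf 3)) (.node (.leaf 0) (.leaf 3)))))) (.node (.node (.node (.node (.node (.node (.leaf 0) (.leaf 3)) (.leaf 3)) (.node (.leaf 0) (.leaf 3))) (.node (.node (.leaf 3) (.leaf 0)) (.node (.leaf 3) (.leaf 3)))) (.node (.node (.node (.leaf 0) (.leaf 0)) (.node (.leaf 3) (.leaf 3))) (.node (.node (.leaf 3) (.leaf 0)) (.node (.leaf 3) (.leaf 3))))) (.node (.node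 (.node (.node (.node (.leaf 0) (.leaf 3)) (.leaf 3)) (.node (.leaf 0) (.leaf 3))) (.node (.node (.leaf 0) (.leaf 3)) (.node (.leaf 3) (.leaf 3)))) (.node (.node (.node (.leaf 0) (.leaf 3)) (.node (.leaf 0) (.leaf 3))) (.node (.node (.leaf 3) (.leaf 3)) (.node (.leaf 0) (.leaf 3)))))))

def bigKind57 : Janko.Tree (ℕ) :=
  (.node (.node (.node (.node (.node (.node (.node (.leaf 3) (.leaf 3)) (.leaf 3)) (.node (.leaf 0) (.leaf 3))) (.node (.node (.leaf 3) (.leaf 0)) (.node (.leaf 3) (.leaf 3)))) (.node (.node (.node (.node (.leaf 0) (.leaf 3)) (.leaf 3)) (.node (.leaf 3) (.leaf 3))) (.node (.node (.leaf 3) (.leaf 3)) (.node (.leaf 3) (.leaf 3))))) (.node (.node (.node (.node (.node (.leaf 0) (.leaf 3)) (.leaf 3)) (.node (.leaf 0) (.leaf 3))) (.node (.node (.leaf 0) (.leaf 3)) (.node (.leaf 3) (.leaf 3)))) (.node (.node (.node (.leaf 0) (.leaf 3)) (.node (.leaf 3) (.leaf 3))) (.node (.node (.leaf 0) (.leaf 3)) (.node (.leaf 3) (.leaf 3)))))) (.node (.node (.node (.node (.node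 (.node (.leaf 0) (.leaf 3)) (.leaf 3)) (.node (.leaf 0) (.leaf 3))) (.node (.node (.leaf 3) (.leaf 0)) (.node (.leaf 3) (.leaf 3)))) (.node (.node (.node (.leaf 3) (.leaf 3)) (.node (.leaf 0) (.leaf 3))) (.node (.node (.leaf 0) (.leaf 3)) (.node (.leaf 0) (.leaf 3))))) (.node (.node (.node (.node (.node (.leaf 3) (.leaf 3)) (.leaf 3)) (.node (.leaf 0) (.leaf 3))) (.node (.node (.leaf 0) (.leaf 3)) (.node (.leaf 0) (.leaf 3)))) (.node (.node (.node (.leaf 3) (.leaf 3)) (.node (.leaf 3) (.leaf 3))) (.node (.node (.leaf 3) (.leaf 3)) (.node (.leaf 3) (.leaf 3)))))))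

def bigKind58 : Janko.Tree (ℕ) :=
  (.node (.node (.node (.node (.node (.node (.node (.leaf 0) (.leaf 3)) (.leaf 3)) (.node (.leaf 3) (.leaf 3))) (.node (.node (.leaf 0) (.leaf 3)) (.node (.leaf 3) (.leaf 3)))) (.node (.node (.node (.node (.leaf 0) (.leaf 3)) (.leaf 3)) (.node (.leaf 3) (.leaf 3))) (.node (.node (.leaf 0) (.leaf 3)) (.node (.leaf 3) (.leaf 3))))) (.node (.node (.node (.node (.node (.leaf 3) (.leaf 3)) (.leaf 3)) (.node (.leaf 3) (.leaf 3))) (.node (.node (.leaf 0) (.leaf 3)) (.node (.leaf 0) (.leaf 3)))) (.node (.node (.node (.leaf 0) (.leaf 3)) (.node (.leaf 0) (.leaf 3))) (.node (.node (.leaf 3) (.leaf 3)) (.node (.leaf 0) (.leaf 3)))))) (.node (.node (.node (.node (.node (.node (.leaf 3) (.leaf 3)) (.leaf 3)) (.node (.leaf 0) (.leaf 3))) (.node (.node (.leaf 0) (.leaf 3)) (.node (.leaf 3) (.leaf 3)))) (.node (.node (.node (.leaf 0) (.leaf 3)) (.node (.leaf 0) (.leaf 3))) (.node (.node (.leaf 0) (.leaf 3)) (.node (.leaf 3) (.leaf 3))))) (.node (.node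 (.node (.node (.node (.leaf 0) (.leaf 3)) (.leaf 3)) (.node (.leaf 3) (.leaf 3))) (.node (.node (.leaf 0) (.leaf 0)) (.node (.leaf 0) (.leaf 3)))) (.node (.node (.node (.leaf 0) (.leaf 3)) (.node (.leaf 3) (.leaf 3))) (.node (.node (.leaf 0) (.leaf 3)) (.node (.leaf 0) (.leaf 3)))))))

def bigKind59 : Janko.Tree (ℕ) :=
  (.node (.node (.node (.node (.node (.node (.node (.leaf 0) (.leaf 3)) (.leaf 0)) (.node (.leaf 0) (.leaf 3))) (.node (.node (.leaf 0) (.leaf 3)) (.node (.leaf 0) (.leaf 3)))) (.node (.node (.node (.node (.leaf 3) (.leaf 3)) (.leaf 3)) (.node (.leaf 0) (.leaf 3))) (.node (.node (.leaf 3) (.leaf 3)) (.node (.leaf 3) (.leaf 3))))) (.node (.node (.node (.node (.node (.leaf 3) (.leaf 3)) (.leaf 0)) (.node (.leaf 3) (.leaf 0))) (.node (.node (.leaf 0) (.leaf 3)) (.node (.leaf 3) (.leaf 3)))) (.node (.node (.node (.leaf 0) (.leaf 0)) (.node (.leaf 3) (.leaf 3))) (.node (.node (.leaf 0) (.leaf 3)) (.node (.leaf 0) (.leaf 0)))))) (.node (.node (.node (.node (.node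 (.node (.leaf 0) (.leaf 3)) (.leaf 3)) (.node (.leaf 3) (.leaf 0))) (.node (.node (.leaf 3) (.leaf 3)) (.node (.leaf 3) (.leaf 0)))) (.node (.node (.node (.leaf 0) (.leaf 3)) (.node (.leaf 3) (.leaf 3))) (.node (.node (.leaf 3) (.leaf 0)) (.node (.leaf 3) (.leaf 3))))) (.node (.node (.node (.node (.node (.leaf 3) (.leaf 3)) (.leaf 3)) (.node (.leaf 3) (.leaf 3))) (.node (.node (.leaf 0) (.leaf 3)) (.node (.leaf 3) (.leaf 3)))) (.node (.node (.node (.leaf 0) (.leaf 3)) (.node (.leaf 3) (.leaf 3))) (.node (.node (.leaf 3) (.leaf 3)) (.node (.leaf 3) (.leaf 3)))))))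

def bigKind60 : Janko.Tree (ℕ) :=
  (.node (.node (.node (.node (.node (.node (.node (.leaf 0) (.leaf 3)) (.leaf 3)) (.node (.leaf 0) (.leaf 3))) (.node (.node (.leaf 3) (.leaf 3)) (.node (.leaf 3) (.leaf 3)))) (.node (.node (.node (.node (.leaf 0) (.leaf 3)) (.leaf 3)) (.node (.leaf 3) (.leaf 3))) (.node (.node (.leaf 0) (.leaf 0)) (.node (.leaf 0) (.leaf 0))))) (.node (.node (.node (.node (.node (.leaf 3) (.leaf 3)) (.leaf 3)) (.node (.leaf 0) (.leaf 3))) (.node (.node (.leaf 0) (.leaf 0)) (.node (.leaf 0) (.leaf 3)))) (.node (.node (.node (.leaf 3) (.leaf 3)) (.node (.leaf 3) (.leaf 3))) (.node (.node (.leaf 0) (.leaf 3)) (.node (.leaf 3) (.leaf 3)))))) (.node (.node (.node (.node (.node (.node (.leaf 0) (.leaf 3)) (.leaf 3)) (.node (.leaf 0) (.leaf 3))) (.node (.node (.leaf 3) (.leaf 3)) (.node (.leaf 0) (.leaf 3)))) (.node (.node (.node (.leaf 3) (.leaf 3)) (.node (.leaf 0) (.leaf 3))) (.node (.node (.leaf 3) (.leaf 3)) (.node (.leaf 0) (.leaf 3))))) (.node (.node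 (.node (.node (.node (.leaf 0) (.leaf 3)) (.leaf 0)) (.node (.leaf 0) (.leaf 3))) (.node (.node (.leaf 0) (.leaf 3)) (.node (.leaf 3) (.leaf 3)))) (.node (.node (.node (.leaf 0) (.leaf 0)) (.node (.leaf 3) (.leaf 3))) (.node (.node (.leaf 0) (.leaf 0)) (.node (.leaf 3) (.leaf 3)))))))

def bigKind61 : Janko.Tree (ℕ) :=
  (.node (.node (.node (.node (.node (.node (.node (.leaf 0) (.leaf 3)) (.leaf 3)) (.node (.leaf 3) (.leaf 3))) (.node (.node (.leaf 3) (.leaf 3)) (.node (.leaf 3) (.leaf 3)))) (.node (.node (.node (.node (.leaf 3) (.leaf 3)) (.leaf 3)) (.node (.leaf 3) (.leaf 3))) (.node (.node (.leaf 0) (.leaf 3)) (.node (.leaf 3) (.leaf 3))))) (.node (.node (.node (.node (.node (.leaf 0) (.leaf 3)) (.leaf 3)) (.node (.leaf 0) (.leaf 3))) (.node (.node (.leaf 3) (.leaf 3)) (.node (.leaf 3) (.leaf 0)))) (.node (.node (.node (.leaf 3) (.leaf 3)) (.node (.leaf 3) (.leaf 3))) (.node (.node (.leaf 3) (.leaf 3)) (.node (.leaf 3) (.leaf 3)))))) (.node (.node (.node (.node (.node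 (.node (.leaf 0) (.leaf 3)) (.leaf 3)) (.node (.leaf 3) (.leaf 0))) (.node (.node (.leaf 0) (.leaf 3)) (.node (.leaf 0) (.leaf 3)))) (.node (.node (.node (.leaf 0) (.leaf 3)) (.node (.leaf 3) (.leaf 3))) (.node (.node (.leaf 0) (.leaf 0)) (.node (.leaf 3) (.leaf 3))))) (.node (.node (.node (.node (.node (.leaf 0) (.leaf 3)) (.leaf 3)) (.node (.leaf 3) (.leaf 3))) (.node (.node (.leaf 0) (.leaf 3)) (.node (.leaf 3) (.leaf 3)))) (.node (.node (.node (.leaf 3) (.leaf 3)) (.node (.leaf 3) (.leaf 3))) (.node (.node (.leaf 3) (.leaf 3)) (.node (.leaf 3) (.leaf 3)))))))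

def bigKind62 : Janko.Tree (ℕ) :=
  (.node (.node (.node (.node (.node (.node (.node (.leaf 0) (.leaf 3)) (.leaf 3)) (.node (.leaf 3) (.leaf 3))) (.node (.node (.leaf 0) (.leaf 3)) (.node (.leaf 3) (.leaf 3)))) (.node (.node (.node (.node (.leaf 0) (.leaf 3)) (.leaf 3)) (.node (.leaf 3) (.leaf 3))) (.node (.node (.leaf 0) (.leaf 0)) (.node (.leaf 0) (.leaf 3))))) (.node (.node (.node (.node (.node (.leaf 0) (.leaf 3)) (.leaf 3)) (.node (.leaf 0) (.leaf 3))) (.node (.node (.leaf 3) (.leaf 3)) (.node (.leaf 3) (.leaf 3)))) (.node (.node (.node (.leaf 3) (.leaf 3)) (.node (.leaf 3) (.leaf 0))) (.node (.node (.leaf 0) (.leaf 3)) (.node (.leaf 3) (.leaf 3)))))) (.node (.node (.node (.node (.node (.node (.leaf 0) (.leaf 3)) (.leaf 3)) (.node (.leaf 3) (.leaf 0))) (.node (.node (.leaf 3) (.leaf 0)) (.node (.leaf 0) (.leaf 3)))) (.node (.node (.node (.leaf 0) (.leaf 3)) (.node (.leaf 0) (.leaf 3))) (.node (.node (.leaf 0) (.leaf 3)) (.node (.leaf 0) (.leaf 3))))) (.node (.node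 (.node (.node (.node (.leaf 0) (.leaf 3)) (.leaf 0)) (.node (.leaf 3) (.leaf 0))) (.node (.node (.leaf 0) (.leaf 3)) (.node (.leaf 3) (.leaf 3)))) (.node (.node (.node (.leaf 0) (.leaf 3)) (.node (.leaf 3) (.leaf 3))) (.node (.node (.leaf 3) (.leaf 3)) (.node (.leaf 3) (.leaf 3)))))))

def bigKind63 : Janko.Tree (ℕ) :=
  (.node (.node (.node (.node (.node (.node (.node (.leaf 0) (.leaf 3)) (.leaf 0)) (.node (.leaf 0) (.leaf 3))) (.node (.node (.leaf 3) (.leaf 3)) (.node (.leaf 3) (.leaf 3)))) (.node (.node (.node (.node (.leaf 0) (.leaf 3)) (.leaf 3)) (.node (.leaf 3) (.leaf 3))) (.node (.node (.leaf 0) (.leaf 3)) (.node (.leaf 0) (.leaf 3))))) (.node (.node (.node (.node (.node (.leaf 3) (.leaf 3)) (.leaf 0)) (.node (.leaf 0) (.leaf 3))) (.node (.node (.leaf 0) (.leaf 3)) (.node (.leaf 3) (.leaf 3)))) (.node (.node (.node (.leaf 0) (.leaf 0)) (.node (.leaf 3) (.leaf 3))) (.node (.node (.leaf 3) (.leaf 3)) (.node (.leaf 0) (.leaf 3)))))) (.node (.node (.node (.node (.node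 (.node (.leaf 0) (.leaf 3)) (.leaf 3)) (.node (.leaf 3) (.leaf 3))) (.node (.node (.leaf 3) (.leaf 3)) (.node (.leaf 3) (.leaf 0)))) (.node (.node (.node (.leaf 0) (.leaf 3)) (.node (.leaf 3) (.leaf 3))) (.node (.node (.leaf 0) (.leaf 3)) (.node (.leaf 3) (.leaf 3))))) (.node (.node (.node (.node (.node (.leaf 3) (.leaf 3)) (.leaf 3)) (.node (.leaf 3) (.leaf 3))) (.node (.node (.leaf 3) (.leaf 3)) (.node (.leaf 3) (.leaf 3)))) (.node (.node (.node (.leaf 0) (.leaf 3)) (.node (.leaf 3) (.leaf 3))) (.node (.node (.leaf 3) (.leaf 3)) (.node (.leaf 3) (.leaf 3)))))))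

def bigKind : Janko.Tree (ℕ) := (.node (.node (.node (.node (.node (.node bigKind0 bigKind32) (.node bigKind16 bigKind48)) (.node (.node bigKind8 bigKind40) (.node bigKind24 bigKind56))) (.node (.node (.node bigKind4 bigKind36) (.node bigKind20 bigKind52)) (.node (.node bigKind12 bigKind44) (.node bigKind28 bigKind60)))) (.node (.node (.node (.node bigKind2 bigKind34) (.node bigKind18 bigKind50)) (.node (.node bigKind10 bigKind42) (.node bigKind26 bigKind58))) (.node (.node (.node bigKind6 bigKind38) (.node bigKind22 bigKind54)) (.node (.node bigKind14 bigKind46) (.node bigKind30 bigKind62))))) (.node (.node (.node (.node (.node bigKind1 bigKind33) (.node bigKind17 bigKind49)) (.node (.node bigKind9 bigKind41) (.node bigKind25 bigKind57))) (.node (.node (.node bigKind5 bigKind37) (.node bigKind21 bigKind53)) (.node (.node bigKind13 bigKind45) (.node bigKind29 bigKind61)))) (.node (.node (.node (.node bigKind3 bigKind35) (.node bigKind19 bigKind51)) (.node (.node bigKind11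 bigKind43) (.node bigKind27 bigKind59))) (.node (.node (.node bigKind7 bigKind39) (.node bigKind23 bigKind55)) (.node (.node bigKind15 bigKind47) (.node bigKind31 bigKind63))))))

def bigRank0 : Janko.Tree (ℕ) :=
  (.node (.node (.node (.node (.node (.node (.node (.leaf 0) (.leaf 3937)) (.leaf 3086)) (.node (.leaf 735) (.leaf 3511))) (.node (.node (.leaf 411) (.leaf 2672)) (.node (.leaf 3614) (.leaf 3325)))) (.node (.node (.node (.node (.leaf 1499) (.leaf 4153)) (.leaf 4082)) (.node (.leaf 2792) (.leaf 1418))) (.node (.node (.leaf 577) (.leaf 3451)) (.node (.leaf 1078) (.leaf 4179))))) (.node (.node (.node (.node (.node (.leaf 115) (.leaf 3033)) (.leaf 2377)) (.node (.leaf 797) (.leaf 1828))) (.node (.node (.leaf 3863) (.leaf 1738)) (.node (.leaf 1024) (.leaf 3905)))) (.node (.node (.node (.leaf 316) (.leaf 2835)) (.node (.leaf 3172) (.leaf 3754))) (.node (.node (.leaf 661) (.leaf 2846)) (.node (.leaf 1126) (.leaf 4389)))))) (.node (.node (.node (.node (.node (.node (.leaf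 62) (.leaf 2589)) (.leaf 2142)) (.node (.leaf 2264) (.leaf 3915))) (.node (.node (.leaf 2899) (.leaf 4203)) (.node (.leaf 2926) (.leaf 3619)))) (.node (.node (.node (.node (.leaf 268) (.leaf 2007)) (.leaf 2632)) (.node (.leaf 887) (.leaf 2030))) (.node (.node (.leaf 2196) (.leaf 1891)) (.node (.leaf 4065) (.leaf 2294))))) (.node (.node (.node (.node (.node (.leaf 1478) (.leaf 2839)) (.leaf 1238)) (.node (.leaf 2847) (.leaf 2733))) (.node (.node (.leaf 538) (.leaf 2233)) (.node (.leaf 2705) (.leaf 2821)))) (.node (.node (.node (.leaf 365) (.leaf 3644)) (.node (.leaf 3677) (.leaf 3681))) (.node (.node (.leaf 697) (.leaf 3186)) (.node (.leaf 2367) (.leaf 3991)))))))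

def bigRank1 : Janko.Tree (ℕ) :=
  (.node (.node (.node (.node (.node (.node (.node (.leaf 1) (.leaf 3737)) (.leaf 1172)) (.node (.leaf 3722) (.leaf 2334))) (.node (.node (.leaf 2507) (.leaf 2502)) (.node (.leaf 974) (.leaf 2169)))) (.node (.node (.node (.node (.leaf 1588) (.leaf 3371)) (.leaf 1251)) (.node (.leaf 853) (.leaf 3622))) (.node (.node (.leaf 4361) (.leaf 3719)) (.node (.leaf 1079) (.leaf 4311))))) (.node (.node (.node (.node (.node (.leaf 1668) (.leaf 2268)) (.leaf 2951)) (.node (.leaf 798) (.leaf 2385))) (.node (.node (.leaf 500) (.leaf 3278)) (.node (.leaf 1025) (.leaf 4340)))) (.node (.node (.node (.leaf 2605) (.leaf 3669)) (.node (.leaf 925) (.leaf 2734))) (.node (.node (.leaf 2739) (.leaf 2844)) (.node (.leaf 1894) (.leaf 3530)))))) (.node (.node (.node (.node (.node (.node (.leaf 63) (.leaf 3729)) (.leaf 2161)) (.node (.leaf 769) (.leaf 2133))) (.node (.node (.leaf 459) (.leaf 4369)) (.node (.leaf 2745) (.leaf 1447)))) (.node (.node (.node (.node (.leaf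 269) (.leaf 1996)) (.leaf 2056)) (.node (.leaf 888) (.leaf 4047))) (.node (.node (.leaf 615) (.leaf 2678)) (.node (.leaf 3711) (.leaf 3883))))) (.node (.node (.node (.node (.node (.leaf 167) (.leaf 2022)) (.leaf 1239)) (.node (.leaf 828) (.leaf 3623))) (.node (.node (.leaf 3532) (.leaf 1550)) (.node (.leaf 1055) (.leaf 4403)))) (.node (.node (.node (.leaf 2978) (.leaf 1297)) (.node (.leaf 3682) (.leaf 3331))) (.node (.node (.leaf 1913) (.leaf 3636)) (.node (.leaf 1157) (.leaf 4407)))))))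

def bigRank2 : Janko.Tree (ℕ) :=
  (.node (.node (.node (.node (.node (.node (.node (.leaf 2) (.leaf 3635)) (.leaf 4224)) (.node (.leaf 736) (.leaf 3406))) (.node (.node (.leaf 1736) (.leaf 1310)) (.node (.leaf 4296) (.leaf 3296)))) (.node (.node (.node (.node (.leaf 220) (.leaf 4313)) (.leaf 3355)) (.node (.leaf 854) (.leaf 3093))) (.node (.node (.leaf 2701) (.leaf 3989)) (.node (.leaf 2815) (.leaf 4177))))) (.node (.node (.node (.node (.node (.leaf 116) (.leaf 2285)) (.leaf 1872)) (.node (.leaf 2193) (.leaf 3628))) (.node (.node (.leaf 1552) (.leaf 2728)) (.node (.leaf 3402) (.leaf 3349)))) (.node (.node (.node (.leaf 317) (.leaf 3036)) (.node (.leaf 3133) (.leaf 1433))) (.node (.node (.leaf 662) (.leaf 4121)) (.node (.leaf 1127) (.leaf 2552)))))) (.node (.node (.node (.node (.node (.node (.leaf 64) (.leaf 2660)) (.leaf 2180)) (.node (.leaf 3150) (.leaf 4149))) (.node (.node (.leaf 460) (.leaf 1819)) (.node (.leaf 998) (.leaf 3330)))) (.node (.node (.node (.node (.leaf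 2227) (.leaf 1630)) (.leaf 2426)) (.node (.leaf 889) (.leaf 3501))) (.node (.node (.leaf 616) (.leaf 1888)) (.node (.leaf 2693) (.leaf 2812))))) (.node (.node (.node (.node (.node (.leaf 1568) (.leaf 4221)) (.leaf 2446)) (.node (.leaf 1832) (.leaf 2209))) (.node (.node (.leaf 3680) (.leaf 4048)) (.node (.leaf 2412) (.leaf 4264)))) (.node (.node (.node (.leaf 2830) (.leaf 3646)) (.node (.leaf 4168) (.leaf 2425))) (.node (.node (.leaf 698) (.leaf 1459)) (.node (.leaf 2965) (.leaf 3726)))))))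

def bigRank3 : Janko.Tree (ℕ) :=
  (.node (.node (.node (.node (.node (.node (.node (.leaf 3) (.leaf 3753)) (.leaf 2128)) (.node (.leaf 737) (.leaf 2332))) (.node (.node (.leaf 412) (.leaf 3943)) (.node (.leaf 3117) (.leaf 1703)))) (.node (.node (.node (.node (.leaf 221) (.leaf 3373)) (.leaf 4055)) (.node (.leaf 855) (.leaf 4081))) (.node (.node (.leaf 1646) (.leaf 3717)) (.node (.leaf 2974) (.leaf 4175))))) (.node (.node (.node (.node (.node (.leaf 1652) (.leaf 4315)) (.leaf 1212)) (.node (.leaf 2633) (.leaf 2831))) (.node (.node (.leaf 2242) (.leaf 3081)) (.node (.leaf 1026) (.leaf 2525)))) (.node (.node (.node (.leaf 318) (.leaf 2906)) (.node (.leaf 926) (.leaf 2616))) (.node (.node (.leaf 663) (.leaf 1366)) (.node (.leaf 1128) (.leaf 4059)))))) (.node (.node (.node (.node (.node (.node (.leaf 65) (.leaf 3312)) (.leaf 3815)) (.node (.leaf 770) (.leaf 4147))) (.node (.node (.leaf 461) (.leaf 1607)) (.node (.leaf 4216) (.leaf 2096)))) (.node (.node (.node (.node (.leaf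 270) (.leaf 1628)) (.leaf 1510)) (.node (.leaf 2931) (.leaf 3660))) (.node (.node (.leaf 617) (.leaf 2973)) (.node (.leaf 2480) (.leaf 2183))))) (.node (.node (.node (.node (.node (.leaf 168) (.leaf 4005)) (.leaf 1240)) (.node (.leaf 3003) (.leaf 1730))) (.node (.node (.leaf 2514) (.leaf 4010)) (.node (.leaf 2832) (.leaf 4261)))) (.node (.node (.node (.leaf 366) (.leaf 3962)) (.node (.leaf 3652) (.leaf 3442))) (.node (.node (.leaf 699) (.leaf 2361)) (.node (.leaf 1663) (.leaf 3290)))))))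

def bigRank4 : Janko.Tree (ℕ) :=
  (.node (.node (.node (.node (.node (.node (.node (.leaf 4) (.leaf 3749)) (.leaf 2112)) (.node (.leaf 3714) (.leaf 1387))) (.node (.node (.leaf 413) (.leaf 4146)) (.node (.leaf 2902) (.leaf 1443)))) (.node (.node (.node (.node (.leaf 2597) (.leaf 4396)) (.leaf 3307)) (.node (.leaf 856) (.leaf 3919))) (.node (.node (.leaf 578) (.leaf 1347)) (.node (.leaf 1080) (.leaf 4162))))) (.node (.node (.node (.node (.node (.leaf 117) (.leaf 3281)) (.leaf 2018)) (.node (.leaf 2571) (.leaf 2079))) (.node (.node (.leaf 3605) (.leaf 3007)) (.node (.leaf 3264) (.leaf 3827)))) (.node (.node (.node (.leaf 319) (.leaf 4043)) (.node (.leaf 927) (.leaf 2293))) (.node (.node (.leaf 664) (.leaf 4119)) (.node (.leaf 1129) (.leaf 3871)))))) (.node (.node (.node (.node (.node (.node (.leaf 66) (.leaf 3129)) (.leaf 3098)) (.node (.leaf 2185) (.leaf 4151))) (.node (.node (.leaf 462) (.leaf 2690)) (.node (.leaf 999) (.leaf 2016)))) (.node (.node (.node (.node (.leaf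 271) (.leaf 1626)) (.leaf 1835)) (.node (.leaf 2638) (.leaf 4256))) (.node (.node (.leaf 618) (.leaf 3013)) (.node (.leaf 3610) (.leaf 2254))))) (.node (.node (.node (.node (.node (.leaf 169) (.leaf 4008)) (.leaf 2646)) (.node (.leaf 1834) (.leaf 2122))) (.node (.node (.leaf 3160) (.leaf 3509)) (.node (.leaf 1056) (.leaf 2135)))) (.node (.node (.node (.leaf 2489) (.leaf 3960)) (.node (.leaf 1936) (.leaf 3378))) (.node (.node (.leaf 2075) (.leaf 2347)) (.node (.leaf 1685) (.leaf 3008)))))))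

def bigRank5 : Janko.Tree (ℕ) :=
  (.node (.node (.node (.node (.node (.node (.node (.leaf 5) (.leaf 4128)) (.leaf 2188)) (.node (.leaf 738) (.leaf 2685))) (.node (.node (.leaf 414) (.leaf 1311)) (.node (.leaf 2900) (.leaf 2563)))) (.node (.node (.node (.node (.leaf 2683) (.leaf 3171)) (.leaf 1252)) (.node (.leaf 857) (.leaf 1419))) (.node (.node (.leaf 1649) (.leaf 3632)) (.node (.leaf 1081) (.leaf 4160))))) (.node (.node (.node (.node (.node (.leaf 118) (.leaf 2884)) (.leaf 2375)) (.node (.leaf 2573) (.leaf 4332))) (.node (.node (.leaf 501) (.leaf 3625)) (.node (.leaf 1027) (.leaf 2441)))) (.node (.node (.node (.leaf 1758) (.leaf 1772)) (.node (.leaf 2235) (.leaf 3071))) (.node (.node (.leaf 665) (.leaf 4117)) (.node (.leaf 2032) (.leaf 4213)))))) (.node (.node (.node (.node (.node (.node (.leaf 67) (.leaf 3051)) (.leaf 2842)) (.node (.leaf 2187) (.leaf 3005))) (.node (.node (.leaf 463) (.leaf 1320)) (.node (.leaf 3580) (.leaf 2159)))) (.node (.node (.node (.node (.leaf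 2472) (.leaf 2315)) (.leaf 1263)) (.node (.leaf 890) (.leaf 2544))) (.node (.node (.leaf 619) (.leaf 2975)) (.node (.leaf 3606) (.leaf 2826))))) (.node (.node (.node (.node (.node (.leaf 170) (.leaf 3130)) (.leaf 2641)) (.node (.leaf 2160) (.leaf 1964))) (.node (.node (.leaf 539) (.leaf 3966)) (.node (.leaf 3961) (.leaf 2391)))) (.node (.node (.node (.leaf 3273) (.leaf 3954)) (.node (.leaf 3206) (.leaf 2173))) (.node (.node (.leaf 2738) (.leaf 3944)) (.node (.leaf 2983) (.leaf 3611)))))))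

def bigRank6 : Janko.Tree (ℕ) :=
  (.node (.node (.node (.node (.node (.node (.node (.leaf 6) (.leaf 4125)) (.leaf 1173)) (.node (.leaf 2009) (.leaf 4053))) (.node (.node (.leaf 415) (.leaf 2699)) (.node (.leaf 3565) (.leaf 2793)))) (.node (.node (.node (.node (.leaf 222) (.leaf 4002)) (.leaf 1253)) (.node (.leaf 858) (.leaf 4285))) (.node (.node (.leaf 579) (.leaf 1348)) (.node (.leaf 1082) (.leaf 4426))))) (.node (.node (.node (.node (.node (.leaf 119) (.leaf 2336)) (.leaf 1213)) (.node (.leaf 799) (.leaf 3014))) (.node (.node (.leaf 502) (.leaf 4326)) (.node (.leaf 1028) (.leaf 3856)))) (.node (.node (.node (.leaf 1477) (.leaf 1776)) (.node (.leaf 928) (.leaf 2376))) (.node (.node (.leaf 666) (.leaf 4115)) (.node (.leaf 1130) (.leaf 3869)))))) (.node (.node (.node (.node (.node (.node (.leaf 68) (.leaf 4387)) (.leaf 2073)) (.node (.leaf 2579) (.leaf 1857))) (.node (.node (.leaf 3602) (.leaf 1984)) (.node (.leaf 2568) (.leaf 1516)))) (.node (.node (.node (.node (.leaf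 272) (.leaf 1640)) (.leaf 3286)) (.node (.leaf 891) (.leaf 1424))) (.node (.node (.leaf 620) (.leaf 4323)) (.node (.leaf 3608) (.leaf 2205))))) (.node (.node (.node (.node (.node (.leaf 2070) (.leaf 3128)) (.leaf 2562)) (.node (.leaf 3488) (.leaf 2609))) (.node (.node (.leaf 540) (.leaf 3968)) (.node (.leaf 3366) (.leaf 4127)))) (.node (.node (.node (.leaf 2487) (.leaf 3642)) (.node (.leaf 3647) (.leaf 2171))) (.node (.node (.leaf 1691) (.leaf 2718)) (.node (.leaf 1158) (.leaf 3234)))))))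

def bigRank7 : Janko.Tree (ℕ) :=
  (.node (.node (.node (.node (.node (.node (.node (.leaf 7) (.leaf 4123)) (.leaf 2289)) (.node (.leaf 739) (.leaf 4051))) (.node (.node (.leaf 3489) (.leaf 2697)) (.node (.leaf 975) (.leaf 4290)))) (.node (.node (.node (.node (.leaf 2680) (.leaf 3932)) (.leaf 1254)) (.node (.leaf 3810) (.leaf 1420))) (.node (.node (.leaf 580) (.leaf 4023)) (.node (.leaf 1083) (.leaf 4169))))) (.node (.node (.node (.node (.node (.leaf 120) (.leaf 3294)) (.leaf 3004)) (.node (.leaf 800) (.leaf 3414))) (.node (.node (.leaf 503) (.leaf 4427)) (.node (.leaf 1029) (.leaf 1904)))) (.node (.node (.node (.leaf 320) (.leaf 3562)) (.node (.leaf 1524) (.leaf 2730))) (.node (.node (.leaf 1650) (.leaf 4113)) (.node (.leaf 2687) (.leaf 3412)))))) (.node (.node (.node (.node (.node (.node (.leaf 69) (.leaf 4056)) (.leaf 3430)) (.node (.leaf 2406) (.leaf 1862))) (.node (.node (.leaf 464) (.leaf 2757)) (.node (.leaf 1000) (.leaf 3311)))) (.node (.node (.node (.node (.leaf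 1480) (.leaf 1606)) (.leaf 1264)) (.node (.leaf 892) (.leaf 4071))) (.node (.node (.leaf 3604) (.leaf 3247)) (.node (.leaf 1108) (.leaf 2740))))) (.node (.node (.node (.node (.node (.leaf 171) (.leaf 3126)) (.leaf 2439)) (.node (.leaf 2066) (.leaf 3596))) (.node (.node (.leaf 2864) (.leaf 3987)) (.node (.leaf 2323) (.leaf 3001)))) (.node (.node (.node (.leaf 2601) (.leaf 3010)) (.node (.leaf 952) (.leaf 2577))) (.node (.node (.leaf 700) (.leaf 2801)) (.node (.leaf 2708) (.leaf 3670)))))))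

def bigRank8 : Janko.Tree (ℕ) :=
  (.node (.node (.node (.node (.node (.node (.node (.leaf 8) (.leaf 3854)) (.leaf 2286)) (.node (.leaf 2928) (.leaf 1388))) (.node (.node (.leaf 416) (.leaf 2531)) (.node (.leaf 1944) (.leaf 4429)))) (.node (.node (.node (.node (.leaf 3268) (.leaf 3834)) (.leaf 2452)) (.node (.leaf 859) (.leaf 3948))) (.node (.node (.leaf 581) (.leaf 4021)) (.node (.leaf 4020) (.leaf 4328))))) (.node (.node (.node (.node (.node (.leaf 121) (.leaf 2721)) (.leaf 1214)) (.node (.leaf 3763) (.leaf 4090))) (.node (.node (.leaf 1472) (.leaf 4277)) (.node (.leaf 2977) (.leaf 1899)))) (.node (.node (.node (.leaf 1577) (.leaf 2548)) (.node (.leaf 929) (.leaf 2423))) (.node (.node (.leaf 667) (.leaf 2822)) (.node (.leaf 2990) (.leaf 3147)))))) (.node (.node (.node (.node (.node (.node (.leaf 70) (.leaf 4374)) (.leaf 2071)) (.node (.leaf 771) (.leaf 1855))) (.node (.node (.leaf 1618) (.leaf 3692)) (.node (.leaf 3651) (.leaf 2262)))) (.node (.node (.node (.node (.leaf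 273) (.leaf 2074)) (.leaf 2758)) (.node (.leaf 2516) (.leaf 1690))) (.node (.node (.leaf 621) (.leaf 4325)) (.node (.leaf 2127) (.leaf 2992))))) (.node (.node (.node (.node (.node (.leaf 172) (.leaf 3689)) (.leaf 1241)) (.node (.leaf 1476) (.leaf 2118))) (.node (.node (.leaf 2313) (.leaf 4046)) (.node (.leaf 3055) (.leaf 3337)))) (.node (.node (.node (.leaf 1719) (.leaf 1298)) (.node (.leaf 2768) (.leaf 1808))) (.node (.node (.leaf 1578) (.leaf 2798)) (.node (.leaf 2971) (.leaf 3847)))))))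

def bigRank9 : Janko.Tree (ℕ) :=
  (.node (.node (.node (.node (.node (.node (.node (.leaf 9) (.leaf 3401)) (.leaf 2282)) (.node (.leaf 740) (.leaf 4061))) (.node (.node (.leaf 417) (.leaf 1945)) (.node (.leaf 2595) (.leaf 4286)))) (.node (.node (.node (.node (.leaf 3862) (.leaf 3832)) (.leaf 2450)) (.node (.leaf 860) (.leaf 2982))) (.node (.node (.leaf 3066) (.leaf 4170)) (.node (.leaf 1737) (.leaf 4136))))) (.node (.node (.node (.node (.node (.leaf 122) (.leaf 3322)) (.leaf 1215)) (.node (.leaf 3561) (.leaf 2174))) (.node (.node (.leaf 504) (.leaf 4358)) (.node (.leaf 2707) (.leaf 2481)))) (.node (.node (.node (.leaf 321) (.leaf 2747)) (.node (.leaf 930) (.leaf 1434))) (.node (.node (.leaf 1655) (.leaf 2825)) (.node (.leaf 1131) (.leaf 4376)))))) (.node (.node (.node (.node (.node (.node (.leaf 71) (.leaf 4091)) (.leaf 2314)) (.node (.leaf 2404) (.leaf 2415))) (.node (.node (.leaf 465) (.leaf 2788)) (.node (.leaf 2476) (.leaf 3422)))) (.node (.node (.node (.node (.leaf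 1565) (.leaf 1977)) (.leaf 1265)) (.node (.leaf 3216) (.leaf 2962))) (.node (.node (.leaf 622) (.leaf 2932)) (.node (.leaf 1109) (.leaf 4401))))) (.node (.node (.node (.node (.node (.leaf 173) (.leaf 3691)) (.leaf 2779)) (.node (.leaf 1734) (.leaf 2567))) (.node (.node (.leaf 2310) (.leaf 4404)) (.node (.leaf 3668) (.leaf 2535)))) (.node (.node (.node (.leaf 367) (.leaf 4074)) (.node (.leaf 953) (.leaf 2989))) (.node (.node (.leaf 701) (.leaf 3156)) (.node (.leaf 2737) (.leaf 1915)))))))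

def bigRank10 : Janko.Tree (ℕ) :=
  (.node (.node (.node (.node (.node (.node (.node (.leaf 10) (.leaf 3399)) (.leaf 4380)) (.node (.leaf 741) (.leaf 3016))) (.node (.node (.leaf 1585) (.leaf 2648)) (.node (.leaf 976) (.leaf 3263)))) (.node (.node (.node (.node (.leaf 223) (.leaf 4207)) (.leaf 2447)) (.node (.leaf 2855) (.leaf 1421))) (.node (.node (.leaf 1497) (.leaf 3389)) (.node (.leaf 3858) (.leaf 3440))))) (.node (.node (.node (.node (.node (.leaf 1559) (.leaf 3324)) (.leaf 2014)) (.node (.leaf 2478) (.leaf 3927))) (.node (.node (.leaf 1527) (.leaf 4355)) (.node (.leaf 3959) (.leaf 2435)))) (.node (.node (.node (.leaf 322) (.leaf 3521)) (.node (.leaf 3667) (.leaf 3309))) (.node (.node (.leaf 1670) (.leaf 3429)) (.node (.leaf 1132) (.leaf 2636)))))) (.node (.node (.node (.node (.node (.node (.leaf 72) (.leaf 3727)) (.leaf 2606)) (.node (.leaf 2782) (.leaf 1865))) (.node (.node (.leaf 466) (.leaf 3789)) (.node (.leaf 3139) (.leaf 3640)))) (.node (.node (.node (.node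 (.leaf 274) (.leaf 1974)) (.leaf 1266)) (.node (.leaf 893) (.leaf 3403))) (.node (.node (.leaf 623) (.leaf 2470)) (.node (.leaf 3836) (.leaf 3222))))) (.node (.node (.node (.node (.node (.leaf 174) (.leaf 3822)) (.leaf 1992)) (.node (.leaf 1535) (.leaf 1994))) (.node (.node (.leaf 3484) (.leaf 4257)) (.node (.leaf 1057) (.leaf 4130)))) (.node (.node (.node (.leaf 1579) (.leaf 1299)) (.node (.leaf 1929) (.leaf 2255))) (.node (.node (.leaf 702) (.leaf 1376)) (.node (.leaf 2706) (.leaf 3674)))))))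

def bigRank11 : Janko.Tree (ℕ) :=
  (.node (.node (.node (.node (.node (.node (.node (.leaf 11) (.leaf 3579)) (.leaf 3957)) (.node (.leaf 742) (.leaf 3404))) (.node (.node (.leaf 418) (.leaf 1312)) (.node (.leaf 2599) (.leaf 3648)))) (.node (.node (.node (.node (.leaf 1490) (.leaf 4209)) (.leaf 3573)) (.node (.leaf 861) (.leaf 2533))) (.node (.node (.leaf 1603) (.leaf 3253)) (.node (.leaf 2303) (.leaf 3518))))) (.node (.node (.node (.node (.node (.leaf 123) (.leaf 4052)) (.leaf 2618)) (.node (.leaf 801) (.leaf 3925))) (.node (.node (.leaf 505) (.leaf 1329)) (.node (.leaf 1030) (.leaf 1906)))) (.node (.node (.node (.leaf 323) (.leaf 1282)) (.node (.leaf 931) (.leaf 2776))) (.node (.node (.leaf 1564) (.leaf 2554)) (.node (.leaf 1133) (.leaf 4345)))))) (.node (.node (.node (.node (.node (.node (.leaf 73) (.leaf 3702)) (.leaf 1191)) (.node (.leaf 2506) (.leaf 3796))) (.node (.node (.leaf 2422) (.leaf 2780)) (.node (.leaf 4050) (.leaf 3305)))) (.node (.node (.node (.node (.leaf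 275) (.leaf 2055)) (.leaf 1267)) (.node (.leaf 894) (.leaf 3458))) (.node (.node (.leaf 624) (.leaf 2888)) (.node (.leaf 1110) (.leaf 2765))))) (.node (.node (.node (.node (.node (.leaf 175) (.leaf 4155)) (.leaf 1242)) (.node (.leaf 4075) (.leaf 3432))) (.node (.node (.leaf 541) (.leaf 2182)) (.node (.leaf 2346) (.leaf 4298)))) (.node (.node (.node (.leaf 368) (.leaf 2809)) (.node (.leaf 954) (.leaf 2052))) (.node (.node (.leaf 703) (.leaf 4260)) (.node (.leaf 3370) (.leaf 3641)))))))

def bigRank12 : Janko.Tree (ℕ) :=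
  (.node (.node (.node (.node (.node (.node (.node (.leaf 12) (.leaf 4238)) (.leaf 1174)) (.node (.leaf 743) (.leaf 1389))) (.node (.node (.leaf 419) (.leaf 1313)) (.node (.leaf 3975) (.leaf 3261)))) (.node (.node (.node (.node (.leaf 224) (.leaf 4211)) (.leaf 2400)) (.node (.leaf 2838) (.leaf 3843))) (.node (.node (.leaf 1667) (.leaf 3251)) (.node (.leaf 2150) (.leaf 3035))))) (.node (.node (.node (.node (.node (.leaf 124) (.leaf 2341)) (.leaf 2170)) (.node (.leaf 4297) (.leaf 3923))) (.node (.node (.leaf 506) (.leaf 1330)) (.node (.leaf 2318) (.leaf 2769)))) (.node (.node (.node (.leaf 3269) (.leaf 3523)) (.node (.leaf 2650) (.leaf 1852))) (.node (.node (.leaf 1666) (.leaf 1367)) (.node (.leaf 4196) (.leaf 2634)))))) (.node (.node (.node (.node (.node (.node (.leaf 74) (.leaf 3505)) (.leaf 1192)) (.node (.leaf 2491) (.leaf 3396))) (.node (.node (.leaf 467) (.leaf 3576)) (.node (.leaf 3078) (.leaf 2337)))) (.node (.node (.node (.node (.leaf 276) (.leaf 2017)) (.leaf 3179))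 (.node (.leaf 3617) (.leaf 4395))) (.node (.node (.leaf 2541) (.leaf 3088)) (.node (.leaf 3654) (.leaf 1999))))) (.node (.node (.node (.node (.node (.leaf 2640) (.leaf 4288)) (.leaf 1909)) (.node (.leaf 829) (.leaf 2950))) (.node (.node (.leaf 2468) (.leaf 1610)) (.node (.leaf 3800) (.leaf 4132)))) (.node (.node (.node (.leaf 369) (.leaf 2292)) (.node (.leaf 1935) (.leaf 2223))) (.node (.node (.leaf 3720) (.leaf 1377)) (.node (.leaf 2387) (.leaf 4346)))))))

def bigRank13 : Janko.Tree (ℕ) :=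
  (.node (.node (.node (.node (.node (.node (.node (.leaf 13) (.leaf 4240)) (.leaf 1175)) (.node (.leaf 744) (.leaf 4195))) (.node (.node (.leaf 420) (.leaf 2795)) (.node (.leaf 977) (.leaf 3219)))) (.node (.node (.node (.node (.leaf 1595) (.leaf 2930)) (.leaf 2427)) (.node (.leaf 862) (.leaf 3841))) (.node (.node (.leaf 582) (.leaf 3912)) (.node (.leaf 1084) (.leaf 2475))))) (.node (.node (.node (.node (.node (.leaf 125) (.leaf 3645)) (.leaf 1216)) (.node (.leaf 2517) (.leaf 3582))) (.node (.node (.leaf 2561) (.leaf 1331)) (.node (.leaf 2411) (.leaf 2221)))) (.node (.node (.node (.leaf 324) (.leaf 2232)) (.node (.leaf 2661) (.leaf 3358))) (.node (.node (.leaf 2192) (.leaf 1368)) (.node (.leaf 2080) (.leaf 2316)))))) (.node (.node (.node (.node (.node (.node (.leaf 75) (.leaf 4406)) (.leaf 1193)) (.node (.leaf 772) (.leaf 3398))) (.node (.node (.leaf 468) (.leaf 3053)) (.node (.leaf 1001) (.leaf 3463)))) (.node (.node (.node (.node (.leaf 1765) (.leaf 2057)) (.leaf 3351))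 (.node (.leaf 895) (.leaf 2715))) (.node (.node (.leaf 625) (.leaf 2995)) (.node (.leaf 3465) (.leaf 2763))))) (.node (.node (.node (.node (.node (.leaf 176) (.leaf 2526)) (.leaf 3148)) (.node (.leaf 2800) (.leaf 4150))) (.node (.node (.leaf 542) (.leaf 1802)) (.node (.leaf 1058) (.leaf 2117)))) (.node (.node (.node (.leaf 370) (.leaf 2108)) (.node (.leaf 955) (.leaf 2152))) (.node (.node (.leaf 1708) (.leaf 3114)) (.node (.leaf 2967) (.leaf 4156)))))))

def bigRank14 : Janko.Tree (ℕ) :=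
  (.node (.node (.node (.node (.node (.node (.node (.leaf 14) (.leaf 4414)) (.leaf 1176)) (.node (.leaf 745) (.leaf 1390))) (.node (.node (.leaf 421) (.leaf 2777)) (.node (.leaf 3973) (.leaf 3831)))) (.node (.node (.node (.node (.leaf 225) (.leaf 2840)) (.leaf 2402)) (.node (.leaf 863) (.leaf 3517))) (.node (.node (.leaf 1602) (.leaf 3308)) (.node (.leaf 1085) (.leaf 2909))))) (.node (.node (.node (.node (.node (.leaf 126) (.leaf 2033)) (.leaf 1539)) (.node (.leaf 4299) (.leaf 4182))) (.node (.node (.leaf 4300) (.leaf 4280)) (.node (.leaf 3426) (.leaf 4094)))) (.node (.node (.node (.leaf 2100) (.leaf 2230)) (.node (.leaf 2908) (.leaf 2527))) (.node (.node (.leaf 2870) (.leaf 3750)) (.node (.leaf 1134) (.leaf 1827)))))) (.node (.node (.node (.node (.node (.node (.leaf 76) (.leaf 3503)) (.leaf 3185)) (.node (.leaf 773) (.leaf 1871))) (.node (.node (.leaf 3477) (.leaf 1321)) (.node (.leaf 3512) (.leaf 3301)))) (.node (.node (.node (.node (.leaf 277) (.leaf 1638)) (.leaf 1268))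 (.node (.leaf 896) (.leaf 3992))) (.node (.node (.leaf 626) (.leaf 2997)) (.node (.leaf 1572) (.leaf 3771))))) (.node (.node (.node (.node (.node (.leaf 1817) (.leaf 1851)) (.leaf 1895)) (.node (.leaf 3196) (.leaf 2145))) (.node (.node (.leaf 543) (.leaf 3755)) (.node (.leaf 3798) (.leaf 3372)))) (.node (.node (.node (.leaf 1717) (.leaf 2110)) (.node (.leaf 956) (.leaf 2585))) (.node (.node (.leaf 1706) (.leaf 2246)) (.node (.leaf 3861) (.leaf 4348)))))))

def bigRank15 : Janko.Tree (ℕ) :=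
  (.node (.node (.node (.node (.node (.node (.node (.leaf 15) (.leaf 2645)) (.leaf 1177)) (.node (.leaf 2569) (.leaf 3304))) (.node (.node (.leaf 422) (.leaf 1885)) (.node (.leaf 3735) (.leaf 3221)))) (.node (.node (.node (.node (.leaf 226) (.leaf 2550)) (.leaf 3782)) (.node (.leaf 864) (.leaf 3916))) (.node (.node (.leaf 583) (.leaf 1919)) (.node (.leaf 3452) (.leaf 2206))))) (.node (.node (.node (.node (.node (.leaf 127) (.leaf 3466)) (.leaf 2012)) (.node (.leaf 2536) (.leaf 4184))) (.node (.node (.leaf 507) (.leaf 2837)) (.node (.leaf 2836) (.leaf 3151)))) (.node (.node (.node (.leaf 325) (.leaf 1283)) (.node (.leaf 2511) (.leaf 3543))) (.node (.node (.leaf 2194) (.leaf 2556)) (.node (.leaf 2659) (.leaf 1829)))))) (.node (.node (.node (.node (.node (.node (.leaf 77) (.leaf 3295)) (.leaf 3381)) (.node (.leaf 3067) (.leaf 3785))) (.node (.node (.leaf 1530) (.leaf 4018)) (.node (.leaf 1002) (.leaf 2429)))) (.node (.node (.node (.leaf 1757) (.leaf 1269)) (.node (.leaf 897)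 (.leaf 3663))) (.node (.node (.leaf 1775) (.leaf 1357)) (.node (.leaf 1111) (.leaf 4258))))) (.node (.node (.node (.node (.node (.leaf 177) (.leaf 4337)) (.leaf 3899)) (.node (.leaf 830) (.leaf 3189))) (.node (.node (.leaf 1777) (.leaf 3748)) (.node (.leaf 3885) (.leaf 2129)))) (.node (.node (.node (.leaf 371) (.leaf 3259)) (.node (.leaf 3600) (.leaf 2121))) (.node (.node (.leaf 2069) (.leaf 2572)) (.node (.leaf 3566) (.leaf 4354)))))))

def bigRank16 : Janko.Tree (ℕ) :=
  (.node (.node (.node (.node (.node (.node (.node (.leaf 16) (.leaf 4408)) (.leaf 2448)) (.node (.leaf 746) (.leaf 1656))) (.node (.node (.leaf 1536) (.leaf 2754)) (.node (.leaf 3733) (.leaf 4107)))) (.node (.node (.node (.node (.leaf 227) (.leaf 4092)) (.leaf 1255)) (.node (.leaf 865) (.leaf 3620))) (.node (.node (.leaf 584) (.leaf 2875)) (.node (.leaf 1086) (.leaf 2067))))) (.node (.node (.node (.node (.node (.leaf 1566) (.leaf 3510)) (.leaf 1217)) (.node (.leaf 3590) (.leaf 2727))) (.node (.node (.leaf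 4040) (.leaf 1739)) (.node (.leaf 2409) (.leaf 3578)))) (.node (.node (.node (.leaf 326) (.leaf 3676)) (.node (.leaf 932) (.leaf 3631))) (.node (.node (.leaf 2604) (.leaf 3057)) (.node (.leaf 1135) (.leaf 1846)))))) (.node (.node (.node (.node (.node (.node (.leaf 78) (.leaf 4067)) (.leaf 2098)) (.node (.leaf 774) (.leaf 2020))) (.node (.node (.leaf 469) (.leaf 4312)) (.node (.leaf 1003) (.leaf 2811)))) (.node (.node (.node (.leaf 278) (.leaf 1270)) (.node (.leaf 898) (.leaf 2271))) (.node (.node (.leaf 627) (.leaf 1962)) (.node (.leaf 1848) (.leaf 3397))))) (.node (.node (.node (.node (.node (.leaf 178) (.leaf 2954)) (.leaf 1893)) (.node (.leaf 3194) (.leaf 1410))) (.node (.node (.leaf 544) (.leaf 3746)) (.node (.leaf 3283) (.leaf 2399)))) (.node (.node (.node (.leaf 1699) (.leaf 2994)) (.node (.leaf 4044) (.leaf 2444))) (.node (.node (.leaf 704) (.leaf 1378)) (.node (.leaf 3564) (.leaf 1916)))))))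

def bigRank17 : Janko.Tree (ℕ) :=
  (.node (.node (.node (.node (.node (.node (.node (.leaf 17) (.leaf 4415)) (.leaf 1178)) (.node (.leaf 3864) (.leaf 1678))) (.node (.node (.leaf 423) (.leaf 1882)) (.node (.leaf 978) (.leaf 3475)))) (.node (.node (.node (.node (.leaf 1475) (.leaf 4078)) (.leaf 3784)) (.node (.leaf 866) (.leaf 2500))) (.node (.node (.leaf 585) (.leaf 4428)) (.node (.leaf 2139) (.leaf 3434))))) (.node (.node (.node (.node (.node (.leaf 128) (.leaf 2300)) (.leaf 4111)) (.node (.leaf 802) (.leaf 1511))) (.node (.node (.leaf 508) (.leaf 1744)) (.node (.leaf 1031) (.leaf 4343)))) (.node (.node (.node (.leaf 327) (.leaf 3480)) (.node (.leaf 1548) (.leaf 2856))) (.node (.node (.leaf 3274) (.leaf 1369)) (.node (.leaf 1136) (.leaf 3174)))))) (.node (.node (.node (.node (.node (.node (.leaf 79) (.leaf 3169)) (.leaf 3076)) (.node (.leaf 3427) (.leaf 1397))) (.node (.node (.leaf 470) (.leaf 4269)) (.node (.leaf 1911) (.leaf 2722)))) (.node (.node (.node (.leaf 279)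 (.leaf 3336)) (.node (.leaf 899) (.leaf 3515))) (.node (.node (.leaf 2488) (.leaf 1358)) (.node (.leaf 4041) (.leaf 4243))))) (.node (.node (.node (.node (.node (.leaf 179) (.leaf 2396)) (.leaf 1545)) (.node (.leaf 831) (.leaf 4105))) (.node (.node (.leaf 545) (.leaf 4284)) (.node (.leaf 1059) (.leaf 2089)))) (.node (.node (.node (.leaf 2428) (.leaf 1300)) (.node (.leaf 957) (.leaf 1440))) (.node (.node (.leaf 705) (.leaf 2408)) (.node (.leaf 3167) (.leaf 1934)))))))

def bigRank18 : Janko.Tree (ℕ) :=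
  (.node (.node (.node (.node (.node (.node (.node (.leaf 18) (.leaf 4225)) (.leaf 1179)) (.node (.leaf 1463) (.leaf 3638))) (.node (.node (.leaf 424) (.leaf 2163)) (.node (.leaf 2309) (.leaf 1444)))) (.node (.node (.node (.node (.leaf 228) (.leaf 4012)) (.leaf 3390)) (.node (.leaf 867) (.leaf 2495))) (.node (.node (.leaf 1669) (.leaf 2873)) (.node (.leaf 1087) (.leaf 2802))))) (.node (.node (.node (.node (.node (.leaf 129) (.leaf 3108)) (.leaf 1218)) (.node (.leaf 803) (.leaf 2136))) (.node (.node (.leaf 509) (.leaf 3047)) (.node (.leaf 1032) (.leaf 3233)))) (.node (.node (.node (.leaf 2124) (.leaf 2911)) (.node (.leaf 1926) (.leaf 3085))) (.node (.node (.leaf 3271) (.leaf 4248)) (.node (.leaf 1137) (.leaf 1971)))))) (.node (.node (.node (.node (.node (.node (.leaf 80) (.leaf 3569)) (.leaf 1194)) (.node (.leaf 775) (.leaf 4278))) (.node (.node (.leaf 471) (.leaf 2813)) (.node (.leaf 3522) (.leaf 1467)))) (.node (.node (.node (.leaf 280) (.leaf 2895)) (.node (.leaf 3241)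 (.leaf 2291))) (.node (.node (.leaf 628) (.leaf 3203)) (.node (.leaf 1112) (.leaf 3581))))) (.node (.node (.node (.node (.node (.leaf 180) (.leaf 2529)) (.leaf 1902)) (.node (.leaf 832) (.leaf 3595))) (.node (.node (.leaf 546) (.leaf 4282)) (.node (.leaf 1060) (.leaf 2113)))) (.node (.node (.node (.leaf 372) (.leaf 4172)) (.node (.leaf 3550) (.leaf 3673))) (.node (.node (.leaf 1701) (.leaf 1781)) (.node (.leaf 1159) (.leaf 3344)))))))

def bigRank19 : Janko.Tree (ℕ) :=
  (.node (.node (.node (.node (.node (.node (.node (.leaf 19) (.leaf 4223)) (.leaf 2803)) (.node (.leaf 2560) (.leaf 3364))) (.node (.node (.leaf 425) (.leaf 2772)) (.node (.leaf 2226) (.leaf 1724)))) (.node (.node (.node (.node (.leaf 1590) (.leaf 3821)) (.leaf 3377)) (.node (.leaf 3599) (.leaf 2493))) (.node (.node (.leaf 586) (.leaf 1925)) (.node (.leaf 2401) (.leaf 2642))))) (.node (.node (.node (.node (.node (.leaf 130) (.leaf 2968)) (.leaf 1219)) (.node (.leaf 804) (.leaf 1854))) (.node (.node (.leaf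 510) (.leaf 3655)) (.node (.leaf 1033) (.leaf 3031)))) (.node (.node (.node (.leaf 328) (.leaf 2607)) (.node (.leaf 3609) (.leaf 2365))) (.node (.node (.leaf 1661) (.leaf 1370)) (.node (.leaf 1138) (.leaf 4089)))))) (.node (.node (.node (.node (.node (.node (.leaf 81) (.leaf 3376)) (.leaf 1195)) (.node (.leaf 1721) (.leaf 1398))) (.node (.node (.leaf 472) (.leaf 2760)) (.node (.leaf 1924) (.leaf 2120)))) (.node (.node (.node (.leaf 281) (.leaf 1271)) (.node (.leaf 900) (.leaf 2657))) (.node (.node (.leaf 629) (.leaf 1359)) (.node (.leaf 2241) (.leaf 3688))))) (.node (.node (.node (.node (.node (.leaf 181) (.leaf 3893)) (.leaf 2175)) (.node (.leaf 833) (.leaf 2156))) (.node (.node (.leaf 547) (.leaf 4292)) (.node (.leaf 2076) (.leaf 3094)))) (.node (.node (.node (.leaf 1833) (.leaf 2797)) (.node (.leaf 958) (.leaf 3671))) (.node (.node (.leaf 706) (.leaf 1889)) (.node (.leaf 1680) (.leaf 3346)))))))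

def bigRank20 : Janko.Tree (ℕ) :=
  (.node (.node (.node (.node (.node (.node (.node (.leaf 20) (.leaf 3921)) (.leaf 2894)) (.node (.leaf 747) (.leaf 2818))) (.node (.node (.leaf 426) (.leaf 3900)) (.node (.leaf 2490) (.leaf 3199)))) (.node (.node (.node (.node (.leaf 229) (.leaf 3823)) (.leaf 1256)) (.node (.leaf 3601) (.leaf 3958))) (.node (.node (.leaf 1662) (.leaf 2871)) (.node (.leaf 1088) (.leaf 2785))))) (.node (.node (.node (.node (.node (.leaf 131) (.leaf 2970)) (.leaf 1523)) (.node (.leaf 805) (.leaf 2021))) (.node (.node (.leaf 511) (.leaf 3468)) (.node (.leaf 3496) (.leaf 3910)))) (.node (.node (.node (.leaf 1726) (.leaf 2064)) (.node (.leaf 1471) (.leaf 2945))) (.node (.node (.leaf 668) (.leaf 4251)) (.node (.leaf 1139) (.leaf 3876)))))) (.node (.node (.node (.node (.node (.node (.leaf 82) (.leaf 3773)) (.leaf 1843)) (.node (.leaf 2528) (.leaf 3445))) (.node (.node (.leaf 473) (.leaf 3761)) (.node (.leaf 3875) (.leaf 1542)))) (.node (.node (.node (.leaf 282)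 (.leaf 1641)) (.node (.leaf 901) (.leaf 1665))) (.node (.node (.leaf 630) (.leaf 3914)) (.node (.leaf 2239) (.leaf 4250))))) (.node (.node (.node (.node (.node (.leaf 182) (.leaf 3456)) (.leaf 2686)) (.node (.leaf 3838) (.leaf 2147))) (.node (.node (.leaf 2308) (.leaf 3201)) (.node (.leaf 3924) (.leaf 2111)))) (.node (.node (.node (.leaf 373) (.leaf 1301)) (.node (.leaf 959) (.leaf 3936))) (.node (.node (.leaf 1698) (.leaf 2035)) (.node (.leaf 3952) (.leaf 3535)))))))

def bigRank21 : Janko.Tree (ℕ) :=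
  (.node (.node (.node (.node (.node (.node (.node (.leaf 21) (.leaf 2805)) (.leaf 2799)) (.node (.leaf 3572) (.leaf 1849))) (.node (.node (.leaf 427) (.leaf 4181)) (.node (.leaf 2709) (.leaf 3135)))) (.node (.node (.node (.node (.leaf 230) (.leaf 4413)) (.leaf 3485)) (.node (.leaf 868) (.leaf 3551))) (.node (.node (.leaf 2979) (.leaf 3262)) (.node (.leaf 3420) (.leaf 3980))))) (.node (.node (.node (.node (.node (.leaf 132) (.leaf 4099)) (.leaf 1220)) (.node (.leaf 4164) (.leaf 4148))) (.node (.node (.leaf 2492) (.leaf 4033)) (.node (.leaf 3317) (.leaf 2029)))) (.node (.node (.node (.leaf 329) (.leaf 1284)) (.node (.leaf 933) (.leaf 1435))) (.node (.node (.leaf 1648) (.leaf 3820)) (.node (.leaf 2600) (.leaf 4086)))))) (.node (.node (.node (.node (.node (.node (.leaf 83) (.leaf 3360)) (.leaf 1867)) (.node (.leaf 1723) (.leaf 2615))) (.node (.node (.leaf 474) (.leaf 4234)) (.node (.leaf 4324) (.leaf 4110)))) (.node (.node (.node (.leaf 283) (.leaf 3896)) (.node (.leaf 1937)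 (.leaf 1673))) (.node (.node (.leaf 2639) (.leaf 3549)) (.node (.leaf 2474) (.leaf 4096))))) (.node (.node (.node (.node (.node (.leaf 1508) (.leaf 2985)) (.leaf 3555)) (.node (.leaf 2744) (.leaf 1411))) (.node (.node (.leaf 548) (.leaf 1339)) (.node (.leaf 3438) (.leaf 3082)))) (.node (.node (.node (.leaf 374) (.leaf 2458)) (.node (.leaf 960) (.leaf 3034))) (.node (.node (.leaf 3091) (.leaf 2350)) (.node (.leaf 1160) (.leaf 2717)))))))

def bigRank22 : Janko.Tree (ℕ) :=
  (.node (.node (.node (.node (.node (.node (.node (.leaf 22) (.leaf 2551)) (.leaf 2304)) (.node (.leaf 748) (.leaf 3310))) (.node (.node (.leaf 428) (.leaf 3898)) (.node (.leaf 979) (.leaf 3995)))) (.node (.node (.node (.node (.leaf 1697) (.leaf 1457)) (.leaf 2679)) (.node (.leaf 869) (.leaf 3955))) (.node (.node (.leaf 587) (.leaf 1928)) (.node (.leaf 2162) (.leaf 3297))))) (.node (.node (.node (.node (.node (.leaf 133) (.leaf 4058)) (.leaf 1221)) (.node (.leaf 806) (.leaf 2658))) (.node (.node (.leaf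 2477) (.leaf 4289)) (.node (.leaf 1687) (.leaf 3447)))) (.node (.node (.node (.leaf 330) (.leaf 3694)) (.node (.leaf 2240) (.leaf 3983))) (.node (.node (.leaf 669) (.leaf 4199)) (.node (.leaf 1140) (.leaf 4353)))))) (.node (.node (.node (.node (.node (.node (.leaf 84) (.leaf 2698)) (.leaf 2850)) (.node (.leaf 776) (.leaf 1868))) (.node (.node (.leaf 2245) (.leaf 4247)) (.node (.leaf 3209) (.leaf 4001)))) (.node (.node (.node (.leaf 1567) (.leaf 1598)) (.node (.leaf 2540) (.leaf 3464))) (.node (.node (.leaf 631) (.leaf 3141)) (.node (.leaf 2234) (.leaf 4222))))) (.node (.node (.node (.node (.node (.leaf 183) (.leaf 2987)) (.leaf 3988)) (.node (.leaf 3180) (.leaf 1412))) (.node (.node (.leaf 549) (.leaf 1620)) (.node (.leaf 2103) (.leaf 4241)))) (.node (.node (.node (.leaf 375) (.leaf 2669)) (.node (.leaf 961) (.leaf 2482))) (.node (.node (.leaf 707) (.leaf 1379)) (.node (.leaf 2980) (.leaf 2712)))))))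

def bigRank23 : Janko.Tree (ℕ) :=
  (.node (.node (.node (.node (.node (.node (.node (.leaf 23) (.leaf 2575)) (.leaf 2302)) (.node (.leaf 749) (.leaf 2907))) (.node (.node (.leaf 429) (.leaf 3816)) (.node (.leaf 980) (.leaf 2382)))) (.node (.node (.node (.node (.leaf 2742) (.leaf 1458)) (.leaf 2677)) (.node (.leaf 870) (.leaf 3724))) (.node (.node (.leaf 1741) (.leaf 1349)) (.node (.leaf 1694) (.leaf 3299))))) (.node (.node (.node (.node (.node (.leaf 134) (.leaf 4198)) (.leaf 1222)) (.node (.leaf 807) (.leaf 3744))) (.node (.node (.leaf 3492) (.leaf 4030)) (.node (.leaf 1034) (.leaf 3040)))) (.node (.node (.node (.leaf 331) (.leaf 2574)) (.node (.leaf 2513) (.leaf 3659))) (.node (.node (.leaf 670) (.leaf 3495)) (.node (.leaf 3637) (.leaf 4333)))))) (.node (.node (.node (.node (.node (.node (.leaf 85) (.leaf 4352)) (.leaf 1875)) (.node (.leaf 777) (.leaf 3170))) (.node (.node (.leaf 475) (.leaf 4009)) (.node (.leaf 2903) (.leaf 3994)))) (.node (.node (.node (.leaf 1637)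 (.leaf 1750)) (.node (.leaf 902) (.leaf 2654))) (.node (.node (.leaf 1778) (.leaf 4163)) (.node (.leaf 1113) (.leaf 4266))))) (.node (.node (.node (.node (.node (.leaf 184) (.leaf 2025)) (.leaf 2483)) (.node (.leaf 1514) (.leaf 1940))) (.node (.node (.leaf 1683) (.leaf 3591)) (.node (.leaf 1061) (.leaf 1451)))) (.node (.node (.node (.leaf 376) (.leaf 1302)) (.node (.leaf 4034) (.leaf 2689))) (.node (.node (.leaf 708) (.leaf 1380)) (.node (.leaf 2496) (.leaf 2986)))))))

def bigRank24 : Janko.Tree (ℕ) :=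
  (.node (.node (.node (.node (.node (.node (.node (.leaf 24) (.leaf 2434)) (.leaf 2260)) (.node (.leaf 750) (.leaf 4363))) (.node (.node (.leaf 430) (.leaf 3812)) (.node (.leaf 3435) (.leaf 4103)))) (.node (.node (.node (.node (.leaf 231) (.leaf 1465)) (.leaf 2827)) (.node (.leaf 871) (.leaf 4383))) (.node (.node (.leaf 588) (.leaf 3342)) (.node (.leaf 1089) (.leaf 4393))))) (.node (.node (.node (.node (.node (.leaf 135) (.leaf 3963)) (.leaf 1223)) (.node (.leaf 3662) (.leaf 2852))) (.node (.node (.leaf 512) (.leaf 3352)) (.node (.leaf 2416) (.leaf 3940)))) (.node (.node (.node (.leaf 332) (.leaf 2748)) (.node (.leaf 934) (.leaf 3931))) (.node (.node (.leaf 1973) (.leaf 2546)) (.node (.leaf 1141) (.leaf 4347)))))) (.node (.node (.node (.node (.node (.node (.leaf 86) (.leaf 2371)) (.leaf 1196)) (.node (.leaf 778) (.leaf 2326))) (.node (.node (.leaf 3953) (.leaf 1322)) (.node (.leaf 1556) (.leaf 3575)))) (.node (.node (.node (.leaf 1563) (.leaf 1752)) (.node (.leaf 903) (.leaf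 2343))) (.node (.node (.leaf 632) (.leaf 2256)) (.node (.leaf 2236) (.leaf 1455))))) (.node (.node (.node (.node (.node (.leaf 185) (.leaf 3061)) (.leaf 2583)) (.node (.leaf 834) (.leaf 1413))) (.node (.node (.leaf 550) (.leaf 1526)) (.node (.leaf 1675) (.leaf 2750)))) (.node (.node (.node (.leaf 377) (.leaf 2203)) (.node (.leaf 4317) (.leaf 2437))) (.node (.node (.leaf 1581) (.leaf 2719)) (.node (.leaf 2498) (.leaf 4310)))))))

def bigRank25 : Janko.Tree (ℕ) :=
  (.node (.node (.node (.node (.node (.node (.node (.leaf 25) (.leaf 2436)) (.leaf 2991)) (.node (.leaf 751) (.leaf 3758))) (.node (.node (.leaf 431) (.leaf 1314)) (.node (.leaf 3491) (.leaf 4412)))) (.node (.node (.node (.node (.leaf 1837) (.leaf 1466)) (.leaf 2675)) (.node (.leaf 872) (.leaf 3514))) (.node (.node (.leaf 589) (.leaf 1939)) (.node (.leaf 1712) (.leaf 4062))))) (.node (.node (.node (.node (.node (.leaf 136) (.leaf 3417)) (.leaf 1224)) (.node (.leaf 808) (.leaf 3058))) (.node (.node (.leaf 2920) (.leaf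 3208)) (.node (.leaf 1035) (.leaf 2383)))) (.node (.node (.node (.leaf 333) (.leaf 3698)) (.node (.leaf 3198) (.leaf 2857))) (.node (.node (.leaf 1674) (.leaf 2549)) (.node (.leaf 3367) (.leaf 3941)))))) (.node (.node (.node (.node (.node (.node (.leaf 87) (.leaf 2393)) (.leaf 1197)) (.node (.leaf 779) (.leaf 2555))) (.node (.node (.leaf 476) (.leaf 3707)) (.node (.leaf 1839) (.leaf 3768)))) (.node (.node (.node (.leaf 284) (.leaf 1762)) (.node (.leaf 904) (.leaf 3825))) (.node (.node (.leaf 1782) (.leaf 3448)) (.node (.leaf 1755) (.leaf 4014))))) (.node (.node (.node (.node (.node (.leaf 186) (.leaf 3107)) (.leaf 1908)) (.node (.leaf 1481) (.leaf 3165))) (.node (.node (.leaf 3266) (.leaf 1621)) (.node (.leaf 2872) (.leaf 4019)))) (.node (.node (.node (.leaf 378) (.leaf 1303)) (.node (.leaf 3428) (.leaf 4178))) (.node (.node (.leaf 709) (.leaf 3235)) (.node (.leaf 2820) (.leaf 3777)))))))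

def bigRank26 : Janko.Tree (ℕ) :=
  (.node (.node (.node (.node (.node (.node (.node (.leaf 26) (.leaf 2647)) (.leaf 1180)) (.node (.leaf 2442) (.leaf 3760))) (.node (.node (.leaf 432) (.leaf 1605)) (.node (.leaf 3433) (.leaf 4430)))) (.node (.node (.node (.node (.leaf 232) (.leaf 1485)) (.leaf 1257)) (.node (.leaf 873) (.leaf 2037))) (.node (.node (.leaf 590) (.leaf 1920)) (.node (.leaf 1700) (.leaf 4054))))) (.node (.node (.node (.node (.node (.leaf 137) (.leaf 2272)) (.leaf 1225)) (.node (.leaf 809) (.leaf 1571))) (.node (.node (.leaf 2710) (.leaf 3210)) (.node (.leaf 3256) (.leaf 2530)))) (.node (.node (.node (.leaf 334) (.leaf 2243)) (.node (.leaf 935) (.leaf 1436))) (.node (.node (.leaf 671) (.leaf 2753)) (.node (.leaf 2854) (.leaf 3939)))))) (.node (.node (.node (.node (.node (.node (.leaf 88) (.leaf 3930)) (.leaf 3444)) (.node (.leaf 2088) (.leaf 3743))) (.node (.node (.leaf 477) (.leaf 3860)) (.node (.leaf 1004) (.leaf 3766)))) (.node (.node (.node (.leaf 285)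 (.leaf 1770)) (.node (.leaf 3178) (.leaf 1425))) (.node (.node (.leaf 633) (.leaf 2248)) (.node (.leaf 2225) (.leaf 1969))))) (.node (.node (.node (.node (.node (.leaf 187) (.leaf 3502)) (.leaf 2151)) (.node (.leaf 835) (.leaf 2966))) (.node (.node (.leaf 2557) (.leaf 2510)) (.node (.leaf 2345) (.leaf 2752)))) (.node (.node (.node (.leaf 379) (.leaf 2378)) (.node (.leaf 1960) (.leaf 2276))) (.node (.node (.leaf 1715) (.leaf 2386)) (.node (.leaf 1671) (.leaf 1923)))))))

def bigRank27 : Janko.Tree (ℕ) :=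
  (.node (.node (.node (.node (.node (.node (.node (.leaf 27) (.leaf 2627)) (.leaf 1181)) (.node (.leaf 752) (.leaf 4360))) (.node (.node (.leaf 433) (.leaf 2653)) (.node (.leaf 981) (.leaf 4410)))) (.node (.node (.node (.node (.leaf 233) (.leaf 1494)) (.leaf 3686)) (.node (.leaf 874) (.leaf 3065))) (.node (.node (.leaf 591) (.leaf 2031)) (.node (.leaf 1505) (.leaf 2353))))) (.node (.node (.node (.node (.node (.leaf 138) (.leaf 3849)) (.leaf 1226)) (.node (.leaf 3951) (.leaf 1743))) (.node (.node (.leaf 513) (.leaf 1332)) (.node (.leaf 1036) (.leaf 3069)))) (.node (.node (.node (.leaf 2269) (.leaf 1285)) (.node (.leaf 936) (.leaf 3418))) (.node (.node (.leaf 1644) (.leaf 2756)) (.node (.leaf 4267) (.leaf 4322)))))) (.node (.node (.node (.node (.node (.node (.leaf 89) (.leaf 2939)) (.leaf 3217)) (.node (.leaf 1976) (.leaf 4309))) (.node (.node (.leaf 478) (.leaf 3709)) (.node (.leaf 1005) (.leaf 4003)))) (.node (.node (.node (.leaf 286) (.leaf 2191)) (.node (.leaf 2466) (.leaf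 3246))) (.node (.node (.leaf 634) (.leaf 4405)) (.node (.leaf 1760) (.leaf 1946))))) (.node (.node (.node (.node (.node (.leaf 188) (.leaf 2287)) (.leaf 2433)) (.node (.leaf 836) (.leaf 2853))) (.node (.node (.leaf 2596) (.leaf 3472)) (.node (.leaf 1062) (.leaf 3400)))) (.node (.node (.node (.leaf 380) (.leaf 3335)) (.node (.leaf 2104) (.leaf 1803))) (.node (.node (.leaf 710) (.leaf 2384)) (.node (.leaf 3842) (.leaf 4351)))))))

def bigRank28 : Janko.Tree (ℕ) :=
  (.node (.node (.node (.node (.node (.node (.node (.leaf 28) (.leaf 2432)) (.leaf 2211)) (.node (.leaf 753) (.leaf 3321))) (.node (.node (.leaf 434) (.leaf 1611)) (.node (.leaf 982) (.leaf 4202)))) (.node (.node (.node (.node (.leaf 234) (.leaf 1501)) (.leaf 3478)) (.node (.leaf 1950) (.leaf 2841))) (.node (.node (.leaf 2312) (.leaf 3950)) (.node (.leaf 1718) (.leaf 2655))))) (.node (.node (.node (.node (.node (.leaf 139) (.leaf 3029)) (.leaf 1978)) (.node (.leaf 3195) (.leaf 3643))) (.node (.node (.leaf 514) (.leaf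 3184)) (.node (.leaf 3111) (.leaf 2630)))) (.node (.node (.node (.leaf 335) (.leaf 3524)) (.node (.leaf 1918) (.leaf 4385))) (.node (.node (.leaf 1742) (.leaf 3870)) (.node (.leaf 1142) (.leaf 3945)))))) (.node (.node (.node (.node (.node (.node (.leaf 90) (.leaf 3539)) (.leaf 1198)) (.node (.leaf 2277) (.leaf 3277))) (.node (.node (.leaf 479) (.leaf 3873)) (.node (.leaf 1006) (.leaf 3455)))) (.node (.node (.node (.leaf 1570) (.leaf 1759)) (.node (.leaf 2101) (.leaf 1979))) (.node (.node (.leaf 635) (.leaf 4394)) (.node (.leaf 1768) (.leaf 2231))))) (.node (.node (.node (.node (.node (.leaf 189) (.leaf 3313)) (.leaf 1243)) (.node (.leaf 2460) (.leaf 2023))) (.node (.node (.leaf 551) (.leaf 2515)) (.node (.leaf 1063) (.leaf 3183)))) (.node (.node (.node (.leaf 2867) (.leaf 3675)) (.node (.leaf 962) (.leaf 1810))) (.node (.node (.leaf 711) (.leaf 3803)) (.node (.leaf 2981) (.leaf 2770)))))))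

def bigRank29 : Janko.Tree (ℕ) :=
  (.node (.node (.node (.node (.node (.node (.node (.leaf 29) (.leaf 3227)) (.leaf 3049)) (.node (.leaf 754) (.leaf 2736))) (.node (.node (.leaf 435) (.leaf 1608)) (.node (.leaf 3486) (.leaf 4236)))) (.node (.node (.node (.node (.leaf 235) (.leaf 1543)) (.leaf 3880)) (.node (.leaf 875) (.leaf 2370))) (.node (.node (.leaf 592) (.leaf 4272)) (.node (.leaf 1716) (.leaf 2876))))) (.node (.node (.node (.node (.node (.leaf 140) (.leaf 2771)) (.leaf 2329)) (.node (.leaf 4276) (.leaf 1405))) (.node (.node (.leaf 515) (.leaf 1333)) (.node (.leaf 2044) (.leaf 3897)))) (.node (.node (.node (.leaf 336) (.leaf 3942)) (.node (.leaf 4294) (.leaf 3421))) (.node (.node (.leaf 672) (.leaf 1371)) (.node (.leaf 3693) (.leaf 3947)))))) (.node (.node (.node (.node (.node (.node (.leaf 1484) (.leaf 3848)) (.leaf 1199)) (.node (.leaf 2275) (.leaf 1399))) (.node (.node (.leaf 480) (.leaf 1323)) (.node (.leaf 1007) (.leaf 4187)))) (.node (.node (.node (.leaf 287)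 (.leaf 4180)) (.node (.leaf 2598) (.leaf 1426))) (.node (.node (.leaf 636) (.leaf 1360)) (.node (.leaf 1575) (.leaf 4144))))) (.node (.node (.node (.node (.node (.leaf 190) (.leaf 2146)) (.leaf 2369)) (.node (.leaf 2184) (.leaf 3783))) (.node (.node (.leaf 552) (.leaf 2608)) (.node (.leaf 1064) (.leaf 3181)))) (.node (.node (.node (.leaf 381) (.leaf 3182)) (.node (.leaf 3790) (.leaf 3087))) (.node (.node (.leaf 1863) (.leaf 3774)) (.node (.leaf 1161) (.leaf 4349)))))))

def bigRank30 : Janko.Tree (ℕ) :=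
  (.node (.node (.node (.node (.node (.node (.node (.leaf 30) (.leaf 3829)) (.leaf 2249)) (.node (.leaf 755) (.leaf 4076))) (.node (.node (.leaf 436) (.leaf 2889)) (.node (.leaf 3431) (.leaf 4200)))) (.node (.node (.node (.node (.leaf 236) (.leaf 1515)) (.leaf 1258)) (.node (.leaf 876) (.leaf 1422))) (.node (.node (.leaf 593) (.leaf 1941)) (.node (.leaf 1090) (.leaf 3392))))) (.node (.node (.node (.node (.node (.leaf 141) (.leaf 4102)) (.leaf 3044)) (.node (.leaf 3683) (.leaf 2972))) (.node (.node (.leaf 516) (.leaf 1844)) (.node (.leaf 2039) (.leaf 4069)))) (.node (.node (.node (.leaf 337) (.leaf 3212)) (.node (.leaf 2946) (.leaf 3556))) (.node (.node (.leaf 1746) (.leaf 4206)) (.node (.leaf 4215) (.leaf 3949)))))) (.node (.node (.node (.node (.node (.node (.leaf 91) (.leaf 4152)) (.leaf 1200)) (.node (.leaf 780) (.leaf 2956))) (.node (.node (.leaf 481) (.leaf 3867)) (.node (.leaf 3493) (.leaf 3839)))) (.node (.node (.node (.leaf 1483) (.leaf 1272)) (.node (.leaf 2006)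 (.leaf 3946))) (.node (.node (.leaf 2464) (.leaf 4100)) (.node (.leaf 1766) (.leaf 4142))))) (.node (.node (.node (.node (.node (.leaf 2238) (.leaf 2134)) (.leaf 4303)) (.node (.leaf 837) (.leaf 2952))) (.node (.node (.leaf 2829) (.leaf 1340)) (.node (.leaf 1065) (.leaf 3520)))) (.node (.node (.node (.leaf 382) (.leaf 2471)) (.node (.leaf 3817) (.leaf 2116))) (.node (.node (.leaf 712) (.leaf 3801)) (.node (.leaf 1162) (.leaf 4334)))))))

def bigRank31 : Janko.Tree (ℕ) :=
  (.node (.node (.node (.node (.node (.node (.node (.leaf 31) (.leaf 3223)) (.leaf 1792)) (.node (.leaf 756) (.leaf 3146))) (.node (.node (.leaf 437) (.leaf 3166)) (.node (.leaf 2896) (.leaf 4204)))) (.node (.node (.node (.node (.leaf 237) (.leaf 1521)) (.leaf 3665)) (.node (.leaf 877) (.leaf 3106))) (.node (.node (.leaf 594) (.leaf 1350)) (.node (.leaf 1709) (.leaf 2027))))) (.node (.node (.node (.node (.node (.leaf 142) (.leaf 4378)) (.leaf 1227)) (.node (.leaf 810) (.leaf 3917))) (.node (.node (.leaf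 3721) (.leaf 2093)) (.node (.leaf 3258) (.leaf 3895)))) (.node (.node (.node (.leaf 338) (.leaf 3043)) (.node (.leaf 1932) (.leaf 3971))) (.node (.node (.leaf 673) (.leaf 4242)) (.node (.leaf 2324) (.leaf 4400)))))) (.node (.node (.node (.node (.node (.node (.leaf 1574) (.leaf 3541)) (.leaf 1201)) (.node (.leaf 781) (.leaf 3747))) (.node (.node (.leaf 482) (.leaf 1883)) (.node (.leaf 1008) (.leaf 2046)))) (.node (.node (.node (.leaf 288) (.leaf 1273)) (.node (.leaf 905) (.leaf 2319))) (.node (.node (.leaf 637) (.leaf 2759)) (.node (.leaf 2459) (.leaf 4171))))) (.node (.node (.node (.node (.node (.leaf 191) (.leaf 2732)) (.leaf 1907)) (.node (.leaf 2284) (.leaf 2372))) (.node (.node (.leaf 2360) (.leaf 2610)) (.node (.leaf 2229) (.leaf 3650)))) (.node (.node (.node (.leaf 383) (.leaf 2467)) (.node (.leaf 3176) (.leaf 3224))) (.node (.node (.leaf 3022) (.leaf 4259)) (.node (.leaf 1163) (.leaf 3891)))))))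

def bigRank32 : Janko.Tree (ℕ) :=
  (.node (.node (.node (.node (.node (.node (.node (.leaf 32) (.leaf 2714)) (.leaf 2132)) (.node (.leaf 2149) (.leaf 1391))) (.node (.node (.leaf 438) (.leaf 3508)) (.node (.leaf 983) (.leaf 4246)))) (.node (.node (.node (.node (.leaf 238) (.leaf 1538)) (.leaf 3410)) (.node (.leaf 3570) (.leaf 3092))) (.node (.node (.leaf 595) (.leaf 3531)) (.node (.leaf 1091) (.leaf 3544))))) (.node (.node (.node (.node (.node (.leaf 143) (.leaf 3795)) (.leaf 2288)) (.node (.leaf 811) (.leaf 3214))) (.node (.node (.leaf 517) (.leaf 1334)) (.node (.leaf 1037) (.leaf 3894)))) (.node (.node (.node (.leaf 339) (.leaf 2662)) (.node (.leaf 937) (.leaf 3554))) (.node (.node (.leaf 674) (.leaf 1624)) (.node (.leaf 3762) (.leaf 4398)))))) (.node (.node (.node (.node (.node (.node (.leaf 92) (.leaf 1873)) (.leaf 2619)) (.node (.leaf 782) (.leaf 2674))) (.node (.node (.leaf 483) (.leaf 2265)) (.node (.leaf 3038) (.leaf 4274)))) (.node (.node (.node (.leaf 289) (.leaf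 3571)) (.node (.leaf 906) (.leaf 1427))) (.node (.node (.leaf 638) (.leaf 2963)) (.node (.leaf 2523) (.leaf 3778))))) (.node (.node (.node (.node (.node (.leaf 192) (.leaf 2084)) (.leaf 2637)) (.node (.leaf 2167) (.leaf 3025))) (.node (.node (.leaf 3666) (.leaf 3877)) (.node (.leaf 1066) (.leaf 4350)))) (.node (.node (.node (.leaf 384) (.leaf 2915)) (.node (.leaf 3483) (.leaf 2143))) (.node (.node (.leaf 713) (.leaf 4068)) (.node (.leaf 3318) (.leaf 4174)))))))

def bigRank33 : Janko.Tree (ℕ) :=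
  (.node (.node (.node (.node (.node (.node (.node (.leaf 33) (.leaf 3453)) (.leaf 1794)) (.node (.leaf 757) (.leaf 3788))) (.node (.node (.leaf 439) (.leaf 3476)) (.node (.leaf 984) (.leaf 4244)))) (.node (.node (.node (.node (.leaf 239) (.leaf 1604)) (.leaf 3328)) (.node (.leaf 878) (.leaf 2862))) (.node (.node (.leaf 596) (.leaf 2664)) (.node (.leaf 1092) (.leaf 3934))))) (.node (.node (.node (.node (.node (.leaf 144) (.leaf 4371)) (.leaf 1228)) (.node (.leaf 2868) (.leaf 4399))) (.node (.node (.leaf 518) (.leaf 2097)) (.node (.leaf 1864) (.leaf 2247)))) (.node (.node (.node (.leaf 340) (.leaf 2042)) (.node (.leaf 938) (.leaf 3998))) (.node (.node (.leaf 675) (.leaf 2457)) (.node (.leaf 1684) (.leaf 4402)))))) (.node (.node (.node (.node (.node (.node (.leaf 93) (.leaf 1870)) (.leaf 1202)) (.node (.leaf 783) (.leaf 1955))) (.node (.node (.leaf 2843) (.leaf 2814)) (.node (.leaf 1009) (.leaf 3030)))) (.node (.node (.node (.leaf 290) (.leaf 3563)) (.node (.leaf 907) (.leaf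 2321))) (.node (.node (.leaf 639) (.leaf 3329)) (.node (.leaf 2461) (.leaf 3090))))) (.node (.node (.node (.node (.node (.leaf 193) (.leaf 2665)) (.leaf 1897)) (.node (.leaf 838) (.leaf 3879))) (.node (.node (.leaf 1676) (.leaf 3188)) (.node (.leaf 3558) (.leaf 1970)))) (.node (.node (.node (.leaf 385) (.leaf 2197)) (.node (.leaf 3872) (.leaf 2267))) (.node (.node (.leaf 714) (.leaf 1381)) (.node (.leaf 1968) (.leaf 3109)))))))

def bigRank34 : Janko.Tree (ℕ) :=
  (.node (.node (.node (.node (.node (.node (.node (.leaf 34) (.leaf 3504)) (.leaf 2524)) (.node (.leaf 1541) (.leaf 3112))) (.node (.node (.leaf 440) (.leaf 2545)) (.node (.leaf 985) (.leaf 1445)))) (.node (.node (.node (.node (.leaf 240) (.leaf 1519)) (.leaf 1259)) (.node (.leaf 2783) (.leaf 2860))) (.node (.node (.leaf 597) (.leaf 2047)) (.node (.leaf 1093) (.leaf 3122))))) (.node (.node (.node (.node (.node (.leaf 145) (.leaf 3703)) (.leaf 1229)) (.node (.leaf 3338) (.leaf 4409))) (.node (.node (.leaf 2403) (.leaf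 3439)) (.node (.leaf 1038) (.leaf 2631)))) (.node (.node (.node (.leaf 341) (.leaf 1286)) (.node (.leaf 3715) (.leaf 4233))) (.node (.node (.leaf 676) (.leaf 3154)) (.node (.leaf 4237) (.leaf 3616)))))) (.node (.node (.node (.node (.node (.node (.leaf 94) (.leaf 2394)) (.leaf 1203)) (.node (.leaf 784) (.leaf 1995))) (.node (.node (.leaf 1464) (.leaf 4161)) (.node (.leaf 1010) (.leaf 3032)))) (.node (.node (.node (.leaf 291) (.leaf 3792)) (.node (.leaf 3054) (.leaf 1686))) (.node (.node (.leaf 1801) (.leaf 3028)) (.node (.leaf 2463) (.leaf 3361))))) (.node (.node (.node (.node (.node (.leaf 194) (.leaf 2086)) (.leaf 1953)) (.node (.leaf 839) (.leaf 1414))) (.node (.node (.leaf 553) (.leaf 1341)) (.node (.leaf 2614) (.leaf 3424)))) (.node (.node (.node (.leaf 386) (.leaf 2201)) (.node (.leaf 1617) (.leaf 2137))) (.node (.node (.leaf 715) (.leaf 3888)) (.node (.leaf 2410) (.leaf 3446)))))))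

def bigRank35 : Janko.Tree (ℕ) :=
  (.node (.node (.node (.node (.node (.node (.node (.leaf 35) (.leaf 3116)) (.leaf 1532)) (.node (.leaf 758) (.leaf 2887))) (.node (.node (.leaf 441) (.leaf 4217)) (.node (.leaf 3568) (.leaf 4386)))) (.node (.node (.node (.node (.leaf 241) (.leaf 1612)) (.leaf 1260)) (.node (.leaf 879) (.leaf 2858))) (.node (.node (.leaf 1729) (.leaf 2342)) (.node (.leaf 1783) (.leaf 2628))))) (.node (.node (.node (.node (.node (.leaf 146) (.leaf 4079)) (.leaf 1230)) (.node (.leaf 3173) (.leaf 4423))) (.node (.node (.leaf 519) (.leaf 2099)) (.node (.leaf 1039) (.leaf 3382)))) (.node (.node (.node (.leaf 342) (.leaf 1287)) (.node (.leaf 939) (.leaf 3993))) (.node (.node (.leaf 677) (.leaf 1826)) (.node (.leaf 3368) (.leaf 2543)))))) (.node (.node (.node (.node (.node (.node (.leaf 1491) (.leaf 2278)) (.leaf 1204)) (.node (.leaf 785) (.leaf 1400))) (.node (.node (.leaf 1507) (.leaf 2430)) (.node (.leaf 1011) (.leaf 3633)))) (.node (.node (.node (.leaf 292)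 (.leaf 1274)) (.node (.leaf 2692) (.leaf 2351))) (.node (.node (.leaf 2034) (.leaf 3026)) (.node (.leaf 2603) (.leaf 3713))))) (.node (.node (.node (.node (.node (.leaf 195) (.leaf 2725)) (.leaf 1244)) (.node (.leaf 2469) (.leaf 3881))) (.node (.node (.leaf 554) (.leaf 4029)) (.node (.leaf 2354) (.leaf 1584)))) (.node (.node (.node (.leaf 387) (.leaf 2199)) (.node (.leaf 3809) (.leaf 2790))) (.node (.node (.leaf 716) (.leaf 1382)) (.node (.leaf 3557) (.leaf 3105)))))))

def bigRank36 : Janko.Tree (ℕ) :=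
  (.node (.node (.node (.node (.node (.node (.node (.leaf 36) (.leaf 3494)) (.leaf 1807)) (.node (.leaf 759) (.leaf 1392))) (.node (.node (.leaf 442) (.leaf 2008)) (.node (.leaf 986) (.leaf 4421)))) (.node (.node (.node (.node (.leaf 242) (.leaf 1623)) (.leaf 3027)) (.node (.leaf 1625) (.leaf 3799))) (.node (.node (.leaf 598) (.leaf 2666)) (.node (.leaf 1094) (.leaf 3922))))) (.node (.node (.node (.node (.node (.leaf 147) (.leaf 4159)) (.leaf 1231)) (.node (.leaf 1751) (.leaf 3587))) (.node (.node (.leaf 520) (.leaf 3859)) (.node (.leaf 1040) (.leaf 3136)))) (.node (.node (.node (.leaf 343) (.leaf 2834)) (.node (.leaf 940) (.leaf 3050))) (.node (.node (.leaf 2413) (.leaf 1504)) (.node (.leaf 1143) (.leaf 3409)))))) (.node (.node (.node (.node (.node (.node (.leaf 95) (.leaf 4141)) (.leaf 3244)) (.node (.leaf 2578) (.leaf 2328))) (.node (.node (.leaf 484) (.leaf 4287)) (.node (.leaf 1012) (.leaf 2299)))) (.node (.node (.node (.leaf 293) (.leaf 4101)) (.node (.leaf 908) (.leaf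 1428))) (.node (.node (.leaf 640) (.leaf 3384)) (.node (.leaf 2465) (.leaf 3974))))) (.node (.node (.node (.node (.node (.leaf 196) (.leaf 3634)) (.leaf 2586)) (.node (.leaf 840) (.leaf 2521))) (.node (.node (.leaf 1952) (.leaf 4031)) (.node (.leaf 1067) (.leaf 2590)))) (.node (.node (.node (.leaf 388) (.leaf 2824)) (.node (.leaf 1830) (.leaf 2778))) (.node (.node (.leaf 717) (.leaf 3890)) (.node (.leaf 1164) (.leaf 4139)))))))

def bigRank37 : Janko.Tree (ℕ) :=
  (.node (.node (.node (.node (.node (.node (.node (.leaf 37) (.leaf 3316)) (.leaf 3089)) (.node (.leaf 760) (.leaf 2944))) (.node (.node (.leaf 443) (.leaf 1315)) (.node (.leaf 4197) (.leaf 4226)))) (.node (.node (.node (.node (.leaf 243) (.leaf 1616)) (.leaf 1860)) (.node (.leaf 880) (.leaf 2418))) (.node (.node (.leaf 599) (.leaf 1351)) (.node (.leaf 1780) (.leaf 2419))))) (.node (.node (.node (.node (.node (.leaf 148) (.leaf 4173)) (.leaf 2164)) (.node (.leaf 812) (.leaf 2083))) (.node (.node (.leaf 521) (.leaf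 3850)) (.node (.leaf 1041) (.leaf 2520)))) (.node (.node (.node (.leaf 344) (.leaf 2588)) (.node (.leaf 3630) (.leaf 3048))) (.node (.node (.leaf 678) (.leaf 1822)) (.node (.leaf 1144) (.leaf 1841)))))) (.node (.node (.node (.node (.node (.node (.leaf 1533) (.leaf 3833)) (.leaf 2178)) (.node (.leaf 1898) (.leaf 2711))) (.node (.node (.leaf 4166) (.leaf 4235)) (.node (.leaf 3776) (.leaf 1517)))) (.node (.node (.node (.leaf 294) (.leaf 1275)) (.node (.leaf 909) (.leaf 1429))) (.node (.node (.leaf 1672) (.leaf 4084)) (.node (.leaf 1771) (.leaf 2281))))) (.node (.node (.node (.node (.node (.leaf 197) (.leaf 3546)) (.leaf 3740)) (.node (.leaf 841) (.leaf 2119))) (.node (.node (.leaf 555) (.leaf 4022)) (.node (.leaf 1068) (.leaf 1847)))) (.node (.node (.node (.leaf 389) (.leaf 2819)) (.node (.leaf 963) (.leaf 3120))) (.node (.node (.leaf 718) (.leaf 3386)) (.node (.leaf 1165) (.leaf 3846)))))))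

def bigRank38 : Janko.Tree (ℕ) :=
  (.node (.node (.node (.node (.node (.node (.node (.leaf 38) (.leaf 3797)) (.leaf 3019)) (.node (.leaf 1486) (.leaf 2948))) (.node (.node (.leaf 444) (.leaf 4190)) (.node (.leaf 987) (.leaf 3791)))) (.node (.node (.node (.node (.leaf 244) (.leaf 1840)) (.leaf 1858)) (.node (.leaf 881) (.leaf 3363))) (.node (.node (.leaf 600) (.leaf 3348)) (.node (.leaf 1095) (.leaf 3063))))) (.node (.node (.node (.node (.node (.leaf 149) (.leaf 4157)) (.leaf 2050)) (.node (.leaf 1754) (.leaf 2424))) (.node (.node (.leaf 1818) (.leaf 3857)) (.node (.leaf 1042) (.leaf 2257)))) (.node (.node (.node (.leaf 345) (.leaf 2060)) (.node (.leaf 1921) (.leaf 3416))) (.node (.node (.leaf 679) (.leaf 1816)) (.node (.leaf 3103) (.leaf 2095)))))) (.node (.node (.node (.node (.node (.node (.leaf 96) (.leaf 3756)) (.leaf 2176)) (.node (.leaf 786) (.leaf 3454))) (.node (.node (.leaf 485) (.leaf 3999)) (.node (.leaf 1013) (.leaf 1615)))) (.node (.node (.node (.leaf 295)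 (.leaf 2925)) (.node (.leaf 910) (.leaf 1430))) (.node (.node (.leaf 641) (.leaf 4134)) (.node (.leaf 1114) (.leaf 2941))))) (.node (.node (.node (.node (.node (.leaf 198) (.leaf 4188)) (.leaf 1245)) (.node (.leaf 2195) (.leaf 1975))) (.node (.node (.leaf 556) (.leaf 2539)) (.node (.leaf 3042) (.leaf 3177)))) (.node (.node (.node (.leaf 390) (.leaf 2670)) (.node (.leaf 3000) (.leaf 3813))) (.node (.node (.leaf 719) (.leaf 1597)) (.node (.leaf 1166) (.leaf 2940)))))))

def bigRank39 : Janko.Tree (ℕ) :=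
  (.node (.node (.node (.node (.node (.node (.node (.leaf 39) (.leaf 2929)) (.leaf 1182)) (.node (.leaf 1705) (.leaf 2368))) (.node (.node (.leaf 445) (.leaf 1316)) (.node (.leaf 988) (.leaf 4006)))) (.node (.node (.node (.node (.leaf 245) (.leaf 1943)) (.leaf 2263)) (.node (.leaf 882) (.leaf 2390))) (.node (.node (.leaf 601) (.leaf 4283)) (.node (.leaf 1856) (.leaf 3362))))) (.node (.node (.node (.node (.node (.leaf 150) (.leaf 4176)) (.leaf 2762)) (.node (.leaf 813) (.leaf 4118))) (.node (.node (.leaf 2222) (.leaf 3159)) (.node (.leaf 1043) (.leaf 2058)))) (.node (.node (.node (.leaf 2781) (.leaf 3423)) (.node (.leaf 941) (.leaf 1437))) (.node (.node (.leaf 2207) (.leaf 2479)) (.node (.leaf 1145) (.leaf 2216)))))) (.node (.node (.node (.node (.node (.node (.leaf 97) (.leaf 2774)) (.leaf 1205)) (.node (.leaf 787) (.leaf 4245))) (.node (.node (.leaf 486) (.leaf 4183)) (.node (.leaf 1014) (.leaf 2593)))) (.node (.node (.node (.leaf 296) (.leaf 1276)) (.node (.leaf 2918) (.leaf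 1431))) (.node (.node (.leaf 642) (.leaf 4320)) (.node (.leaf 1753) (.leaf 2279))))) (.node (.node (.node (.node (.node (.leaf 199) (.leaf 4193)) (.leaf 2258)) (.node (.leaf 842) (.leaf 2165))) (.node (.node (.leaf 557) (.leaf 2537)) (.node (.leaf 1069) (.leaf 3837)))) (.node (.node (.node (.leaf 391) (.leaf 2564)) (.node (.leaf 3002) (.leaf 1441))) (.node (.node (.leaf 720) (.leaf 3220)) (.node (.leaf 3767) (.leaf 3236)))))))

def bigRank40 : Janko.Tree (ℕ) :=
  (.node (.node (.node (.node (.node (.node (.node (.leaf 40) (.leaf 3560)) (.leaf 1805)) (.node (.leaf 1518) (.leaf 2881))) (.node (.node (.leaf 446) (.leaf 4231)) (.node (.leaf 989) (.leaf 4087)))) (.node (.node (.node (.node (.leaf 246) (.leaf 1503)) (.leaf 4122)) (.node (.leaf 3152) (.leaf 3365))) (.node (.node (.leaf 602) (.leaf 2061)) (.node (.leaf 1096) (.leaf 1452))))) (.node (.node (.node (.node (.node (.leaf 151) (.leaf 3826)) (.leaf 2789)) (.node (.leaf 814) (.leaf 2085))) (.node (.node (.leaf 1820) (.leaf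 3161)) (.node (.leaf 1806) (.leaf 2449)))) (.node (.node (.node (.leaf 346) (.leaf 2355)) (.node (.leaf 942) (.leaf 2934))) (.node (.node (.leaf 680) (.leaf 1824)) (.node (.leaf 2078) (.leaf 3704)))))) (.node (.node (.node (.node (.node (.node (.leaf 1664) (.leaf 3745)) (.leaf 3095)) (.node (.leaf 2451) (.leaf 1401))) (.node (.node (.leaf 487) (.leaf 3710)) (.node (.leaf 1015) (.leaf 1947)))) (.node (.node (.node (.leaf 297) (.leaf 4073)) (.node (.leaf 2904) (.leaf 3319))) (.node (.node (.leaf 643) (.leaf 4331)) (.node (.leaf 1763) (.leaf 3537))))) (.node (.node (.node (.node (.node (.leaf 200) (.leaf 4186)) (.leaf 1246)) (.node (.leaf 2311) (.leaf 1988))) (.node (.node (.leaf 2417) (.leaf 3649)) (.node (.leaf 1070) (.leaf 3481)))) (.node (.node (.node (.leaf 392) (.leaf 2566)) (.node (.leaf 964) (.leaf 3577))) (.node (.node (.leaf 721) (.leaf 1877)) (.node (.leaf 2702) (.leaf 3690)))))))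

def bigRank41 : Janko.Tree (ℕ) :=
  (.node (.node (.node (.node (.node (.node (.node (.leaf 41) (.leaf 1639)) (.leaf 1183)) (.node (.leaf 2005) (.leaf 1393))) (.node (.node (.leaf 447) (.leaf 3467)) (.node (.leaf 990) (.leaf 3020)))) (.node (.node (.node (.node (.leaf 247) (.leaf 1546)) (.leaf 2443)) (.node (.leaf 1586) (.leaf 2043))) (.node (.node (.leaf 603) (.leaf 4032)) (.node (.leaf 1097) (.leaf 3830))))) (.node (.node (.node (.node (.node (.leaf 152) (.leaf 3828)) (.leaf 1540)) (.node (.leaf 815) (.leaf 1406))) (.node (.node (.leaf 522) (.leaf 3157)) (.node (.leaf 1462) (.leaf 2026)))) (.node (.node (.node (.leaf 347) (.leaf 1288)) (.node (.leaf 3469) (.leaf 2340))) (.node (.node (.leaf 2102) (.leaf 1372)) (.node (.leaf 1146) (.leaf 3706)))))) (.node (.node (.node (.node (.node (.node (.leaf 98) (.leaf 3884)) (.leaf 1206)) (.node (.leaf 2115) (.leaf 4000))) (.node (.node (.leaf 488) (.leaf 2961)) (.node (.leaf 1016) (.leaf 2663)))) (.node (.node (.node (.leaf 298)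 (.leaf 3588)) (.node (.leaf 911) (.leaf 1432))) (.node (.node (.leaf 644) (.leaf 4318)) (.node (.leaf 4301) (.leaf 3814))))) (.node (.node (.node (.node (.node (.leaf 201) (.leaf 2220)) (.leaf 2766)) (.node (.leaf 843) (.leaf 1986))) (.node (.node (.leaf 558) (.leaf 3672)) (.node (.leaf 3929) (.leaf 3334)))) (.node (.node (.node (.leaf 393) (.leaf 2676)) (.node (.leaf 3138) (.leaf 3121))) (.node (.node (.leaf 722) (.leaf 2937)) (.node (.leaf 1880) (.leaf 3015)))))))

def bigRank42 : Janko.Tree (ℕ) :=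
  (.node (.node (.node (.node (.node (.node (.node (.leaf 42) (.leaf 2667)) (.leaf 2114)) (.node (.leaf 761) (.leaf 2703))) (.node (.node (.leaf 448) (.leaf 3407)) (.node (.leaf 991) (.leaf 3125)))) (.node (.node (.node (.node (.leaf 248) (.leaf 1531)) (.leaf 3077)) (.node (.leaf 1823) (.leaf 3708))) (.node (.node (.leaf 604) (.leaf 3237)) (.node (.leaf 1098) (.leaf 3781))))) (.node (.node (.node (.node (.node (.leaf 153) (.leaf 1980)) (.leaf 1900)) (.node (.leaf 2869) (.leaf 1842))) (.node (.node (.leaf 523) (.leaf 4016)) (.node (.leaf 1798) (.leaf 4341)))) (.node (.node (.node (.leaf 348) (.leaf 2652)) (.node (.leaf 2879) (.leaf 2317))) (.node (.node (.leaf 2109) (.leaf 1373)) (.node (.leaf 3282) (.leaf 3793)))))) (.node (.node (.node (.node (.node (.node (.leaf 99) (.leaf 3284)) (.leaf 1207)) (.node (.leaf 2155) (.leaf 4072))) (.node (.node (.leaf 3679) (.leaf 4013)) (.node (.leaf 2828) (.leaf 3728)))) (.node (.node (.node (.leaf 299) (.leaf 3204)) (.node (.leaf 1547)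 (.leaf 2019))) (.node (.node (.leaf 2358) (.leaf 4302)) (.node (.leaf 1749) (.leaf 4370))))) (.node (.node (.node (.node (.node (.leaf 2045) (.leaf 2695)) (.leaf 2691)) (.node (.leaf 3437) (.leaf 3965))) (.node (.node (.leaf 559) (.leaf 2694)) (.node (.leaf 1869) (.leaf 3175)))) (.node (.node (.node (.leaf 3140) (.leaf 1304)) (.node (.leaf 965) (.leaf 3901))) (.node (.node (.leaf 4129) (.leaf 1879)) (.node (.leaf 1167) (.leaf 1619)))))))

def bigRank43 : Janko.Tree (ℕ) :=
  (.node (.node (.node (.node (.node (.node (.node (.leaf 43) (.leaf 1506)) (.leaf 1184)) (.node (.leaf 2158) (.leaf 4093))) (.node (.node (.leaf 1489) (.leaf 3405)) (.node (.leaf 1821) (.leaf 4227)))) (.node (.node (.node (.node (.leaf 249) (.leaf 1513)) (.leaf 3097)) (.node (.leaf 883) (.leaf 2364))) (.node (.node (.leaf 1711) (.leaf 1931)) (.node (.leaf 1099) (.leaf 1453))))) (.node (.node (.node (.node (.node (.leaf 154) (.leaf 3039)) (.leaf 1987)) (.node (.leaf 1498) (.leaf 3459))) (.node (.node (.leaf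 524) (.leaf 1335)) (.node (.leaf 2189) (.leaf 2366)))) (.node (.node (.node (.leaf 349) (.leaf 1289)) (.node (.leaf 943) (.leaf 2348))) (.node (.node (.leaf 681) (.leaf 2438)) (.node (.leaf 1147) (.leaf 4104)))))) (.node (.node (.node (.node (.node (.node (.leaf 100) (.leaf 3245)) (.leaf 3018)) (.node (.leaf 2015) (.leaf 3805))) (.node (.node (.leaf 489) (.leaf 4230)) (.node (.leaf 1017) (.leaf 2186)))) (.node (.node (.node (.leaf 300) (.leaf 3200)) (.node (.leaf 2508) (.leaf 2621))) (.node (.node (.leaf 645) (.leaf 4304)) (.node (.leaf 1115) (.leaf 4208))))) (.node (.node (.node (.node (.node (.leaf 202) (.leaf 2440)) (.leaf 1247)) (.node (.leaf 844) (.leaf 3553))) (.node (.node (.leaf 4205) (.leaf 1342)) (.node (.leaf 1071) (.leaf 4239)))) (.node (.node (.node (.leaf 394) (.leaf 1305)) (.node (.leaf 4279) (.leaf 2764))) (.node (.node (.leaf 723) (.leaf 3928)) (.node (.leaf 1168) (.leaf 4189)))))))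

def bigRank44 : Janko.Tree (ℕ) :=
  (.node (.node (.node (.node (.node (.node (.node (.leaf 44) (.leaf 3661)) (.leaf 1185)) (.node (.leaf 2421) (.leaf 2936))) (.node (.node (.leaf 449) (.leaf 3985)) (.node (.leaf 992) (.leaf 1722)))) (.node (.node (.node (.node (.leaf 250) (.leaf 1961)) (.leaf 3075)) (.node (.leaf 3607) (.leaf 2200))) (.node (.node (.leaf 605) (.leaf 2943)) (.node (.leaf 1100) (.leaf 3779))))) (.node (.node (.node (.node (.node (.leaf 155) (.leaf 2656)) (.leaf 1468)) (.node (.leaf 1600) (.leaf 2213))) (.node (.node (.leaf 525) (.leaf 3759)) (.node (.leaf 3889) (.leaf 3794)))) (.node (.node (.node (.leaf 350) (.leaf 1290)) (.node (.leaf 944) (.leaf 2077))) (.node (.node (.leaf 682) (.leaf 3225)) (.node (.leaf 3280) (.leaf 4106)))))) (.node (.node (.node (.node (.node (.node (.leaf 101) (.leaf 2576)) (.leaf 1208)) (.node (.leaf 788) (.leaf 3232))) (.node (.node (.leaf 490) (.leaf 4364)) (.node (.leaf 1018) (.leaf 2381)))) (.node (.node (.node (.leaf 1688)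 (.leaf 1774)) (.node (.leaf 912) (.leaf 2210))) (.node (.node (.leaf 3369) (.leaf 1361)) (.node (.leaf 1116) (.leaf 4210))))) (.node (.node (.node (.node (.node (.leaf 203) (.leaf 2253)) (.leaf 2212)) (.node (.leaf 1589) (.leaf 1415))) (.node (.node (.leaf 2749) (.leaf 3639)) (.node (.leaf 1072) (.leaf 4411)))) (.node (.node (.node (.leaf 395) (.leaf 2755)) (.node (.leaf 2048) (.leaf 3626))) (.node (.node (.leaf 2208) (.leaf 1383)) (.node (.leaf 2700) (.leaf 3597)))))))

def bigRank45 : Janko.Tree (ℕ) :=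
  (.node (.node (.node (.node (.node (.node (.node (.leaf 45) (.leaf 2380)) (.leaf 1186)) (.node (.leaf 762) (.leaf 3254))) (.node (.node (.leaf 1537) (.leaf 4218)) (.node (.leaf 993) (.leaf 1725)))) (.node (.node (.node (.node (.leaf 251) (.leaf 1509)) (.leaf 1261)) (.node (.leaf 3865) (.leaf 1553))) (.node (.node (.leaf 606) (.leaf 1933)) (.node (.leaf 1101) (.leaf 3395))))) (.node (.node (.node (.node (.node (.leaf 156) (.leaf 3736)) (.leaf 1232)) (.node (.leaf 1761) (.leaf 3462))) (.node (.node (.leaf 3482) (.leaf 3697)) (.node (.leaf 1044) (.leaf 3982)))) (.node (.node (.node (.leaf 351) (.leaf 1291)) (.node (.leaf 4038) (.leaf 3275))) (.node (.node (.leaf 683) (.leaf 1374)) (.node (.leaf 1148) (.leaf 4131)))))) (.node (.node (.node (.node (.node (.node (.leaf 2407) (.leaf 2330)) (.leaf 1948)) (.node (.leaf 789) (.leaf 3230))) (.node (.node (.leaf 491) (.leaf 1324)) (.node (.leaf 2322) (.leaf 2723)))) (.node (.node (.node (.leaf 301) (.leaf 1277)) (.node (.leaf 4080)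 (.leaf 1887))) (.node (.node (.leaf 646) (.leaf 3845)) (.node (.leaf 2874) (.leaf 3052))))) (.node (.node (.node (.node (.node (.leaf 204) (.leaf 3347)) (.leaf 2453)) (.node (.leaf 845) (.leaf 3716))) (.node (.node (.leaf 560) (.leaf 1343)) (.node (.leaf 3229) (.leaf 2553)))) (.node (.node (.node (.leaf 396) (.leaf 2810)) (.node (.leaf 966) (.leaf 3211))) (.node (.node (.leaf 724) (.leaf 3394)) (.node (.leaf 2036) (.leaf 3287)))))))

def bigRank46 : Janko.Tree (ℕ) :=
  (.node (.node (.node (.node (.node (.node (.node (.leaf 46) (.leaf 3990)) (.leaf 1187)) (.node (.leaf 2522) (.leaf 2431))) (.node (.node (.leaf 450) (.leaf 1317)) (.node (.leaf 994) (.leaf 3101)))) (.node (.node (.node (.node (.leaf 252) (.leaf 1528)) (.leaf 4391)) (.node (.leaf 2866) (.leaf 1786))) (.node (.node (.leaf 607) (.leaf 1352)) (.node (.leaf 1990) (.leaf 2880))))) (.node (.node (.node (.node (.node (.leaf 1492) (.leaf 3534)) (.leaf 4116)) (.node (.leaf 816) (.leaf 3149))) (.node (.node (.leaf 526)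 (.leaf 2922)) (.node (.leaf 1045) (.leaf 3408)))) (.node (.node (.node (.leaf 352) (.leaf 2091)) (.node (.leaf 945) (.leaf 2038))) (.node (.node (.leaf 684) (.leaf 3379)) (.node (.leaf 4330) (.leaf 3359)))))) (.node (.node (.node (.node (.node (.node (.leaf 102) (.leaf 3314)) (.leaf 1209)) (.node (.leaf 2063) (.leaf 3228))) (.node (.node (.leaf 492) (.leaf 4060)) (.node (.leaf 1495) (.leaf 2172)))) (.node (.node (.node (.leaf 3265) (.leaf 3613)) (.node (.leaf 913) (.leaf 1681))) (.node (.node (.leaf 647) (.leaf 3840)) (.node (.leaf 1117) (.leaf 3584))))) (.node (.node (.node (.node (.node (.leaf 205) (.leaf 3450)) (.leaf 2499)) (.node (.leaf 1587) (.leaf 1416))) (.node (.node (.leaf 561) (.leaf 3425)) (.node (.leaf 2362) (.leaf 4214)))) (.node (.node (.node (.leaf 397) (.leaf 2808)) (.node (.leaf 1635) (.leaf 3213))) (.node (.node (.leaf 725) (.leaf 2349)) (.node (.leaf 2357) (.leaf 3878)))))))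

def bigRank47 : Janko.Tree (ℕ) :=
  (.node (.node (.node (.node (.node (.node (.node (.leaf 47) (.leaf 3457)) (.leaf 1949)) (.node (.leaf 2486) (.leaf 2625))) (.node (.node (.leaf 451) (.leaf 3603)) (.node (.leaf 3145) (.leaf 4359)))) (.node (.node (.node (.node (.leaf 253) (.leaf 1534)) (.leaf 3124)) (.node (.leaf 3267) (.leaf 1890))) (.node (.node (.leaf 2681) (.leaf 4321)) (.node (.leaf 1102) (.leaf 3775))))) (.node (.node (.node (.node (.node (.leaf 157) (.leaf 4026)) (.leaf 2154)) (.node (.leaf 1599) (.leaf 2261))) (.node (.node (.leaf 3339) (.leaf 3695)) (.node (.leaf 1046) (.leaf 3302)))) (.node (.node (.node (.leaf 353) (.leaf 1733)) (.node (.leaf 3658) (.leaf 3059))) (.node (.node (.leaf 685) (.leaf 3984)) (.node (.leaf 1149) (.leaf 4308)))))) (.node (.node (.node (.node (.node (.node (.leaf 1493) (.leaf 2344)) (.leaf 2620)) (.node (.leaf 2863) (.leaf 2935))) (.node (.node (.leaf 493) (.leaf 2746)) (.node (.leaf 1019) (.leaf 3700)))) (.node (.node (.node (.leaf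 302) (.leaf 4137)) (.node (.leaf 914) (.leaf 2735))) (.node (.node (.leaf 648) (.leaf 3612)) (.node (.leaf 4098) (.leaf 4185))))) (.node (.node (.node (.node (.node (.leaf 206) (.leaf 3473)) (.leaf 1959)) (.node (.leaf 846) (.leaf 2773))) (.node (.node (.leaf 562) (.leaf 1344)) (.node (.leaf 2704) (.leaf 3855)))) (.node (.node (.node (.leaf 398) (.leaf 3158)) (.node (.leaf 967) (.leaf 3127))) (.node (.node (.leaf 726) (.leaf 3559)) (.node (.leaf 2320) (.leaf 1622)))))))

def bigRank48 : Janko.Tree (ℕ) :=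
  (.node (.node (.node (.node (.node (.node (.node (.leaf 48) (.leaf 3315)) (.leaf 3479)) (.node (.leaf 2484) (.leaf 2649))) (.node (.node (.leaf 3009) (.leaf 3687)) (.node (.leaf 4275) (.leaf 2090)))) (.node (.node (.node (.node (.leaf 254) (.leaf 1642)) (.leaf 3288)) (.node (.leaf 2743) (.leaf 3804))) (.node (.node (.leaf 1836) (.leaf 1353)) (.node (.leaf 1748) (.leaf 3323))))) (.node (.node (.node (.node (.node (.leaf 1554) (.leaf 2219)) (.leaf 1233)) (.node (.leaf 817) (.leaf 2259))) (.node (.node (.leaf 4042) (.leaf 2473)) (.node (.leaf 1047) (.leaf 2270)))) (.node (.node (.node (.leaf 354) (.leaf 2949)) (.node (.leaf 1972) (.leaf 3279))) (.node (.node (.leaf 686) (.leaf 2716)) (.node (.leaf 1150) (.leaf 3383)))))) (.node (.node (.node (.node (.node (.node (.leaf 103) (.leaf 2988)) (.leaf 1210)) (.node (.leaf 2865) (.leaf 3064))) (.node (.node (.leaf 2542) (.leaf 4097)) (.node (.leaf 1020) (.leaf 4145)))) (.node (.node (.node (.leaf 303) (.leaf 3341)) (.node (.leaf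 1551) (.leaf 2969))) (.node (.node (.leaf 3764) (.leaf 2886)) (.node (.leaf 3056) (.leaf 4017))))) (.node (.node (.node (.node (.node (.leaf 207) (.leaf 4228)) (.leaf 2065)) (.node (.leaf 2806) (.leaf 1795))) (.node (.node (.leaf 563) (.leaf 1345)) (.node (.leaf 2877) (.leaf 3852)))) (.node (.node (.node (.leaf 399) (.leaf 4070)) (.node (.leaf 1814) (.leaf 3471))) (.node (.node (.leaf 2157) (.leaf 2352)) (.node (.leaf 3393) (.leaf 4368)))))))

def bigRank49 : Janko.Tree (ℕ) :=
  (.node (.node (.node (.node (.node (.node (.node (.leaf 49) (.leaf 4011)) (.leaf 4425)) (.node (.leaf 763) (.leaf 3192))) (.node (.node (.leaf 452) (.leaf 3411)) (.node (.leaf 3874) (.leaf 3527)))) (.node (.node (.node (.node (.leaf 255) (.leaf 1632)) (.leaf 2397)) (.node (.leaf 2741) (.leaf 1787))) (.node (.node (.leaf 2892) (.leaf 3249)) (.node (.leaf 1884) (.leaf 3327))))) (.node (.node (.node (.node (.node (.leaf 158) (.leaf 1963)) (.leaf 2053)) (.node (.leaf 2890) (.leaf 3547))) (.node (.node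 (.leaf 527) (.leaf 2897)) (.node (.leaf 2363) (.leaf 2338)))) (.node (.node (.node (.leaf 355) (.leaf 2859)) (.node (.leaf 946) (.leaf 1583))) (.node (.node (.leaf 687) (.leaf 1375)) (.node (.leaf 2392) (.leaf 4273)))))) (.node (.node (.node (.node (.node (.node (.leaf 1562) (.leaf 3300)) (.leaf 2519)) (.node (.leaf 2296) (.leaf 3802))) (.node (.node (.leaf 494) (.leaf 2761)) (.node (.leaf 2198) (.leaf 3255)))) (.node (.node (.node (.leaf 304) (.leaf 3207)) (.node (.leaf 915) (.leaf 2849))) (.node (.node (.leaf 649) (.leaf 3073)) (.node (.leaf 1118) (.leaf 4015))))) (.node (.node (.node (.node (.node (.leaf 208) (.leaf 4088)) (.leaf 1248)) (.node (.leaf 2804) (.leaf 1982))) (.node (.node (.leaf 564) (.leaf 3012)) (.node (.leaf 1073) (.leaf 4232)))) (.node (.node (.node (.leaf 400) (.leaf 3583)) (.node (.leaf 2325) (.leaf 3023))) (.node (.node (.leaf 727) (.leaf 1779)) (.node (.leaf 1740) (.leaf 4382)))))))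

def bigRank50 : Janko.Tree (ℕ) :=
  (.node (.node (.node (.node (.node (.node (.node (.leaf 1693) (.leaf 4066)) (.leaf 2504)) (.node (.leaf 4112) (.leaf 2532))) (.node (.node (.leaf 453) (.leaf 1318)) (.node (.leaf 3678) (.leaf 3380)))) (.node (.node (.node (.node (.leaf 256) (.leaf 1634)) (.leaf 1262)) (.node (.leaf 3119) (.leaf 1997))) (.node (.node (.leaf 1838) (.leaf 3046)) (.node (.leaf 4114) (.leaf 4263))))) (.node (.node (.node (.node (.node (.leaf 159) (.leaf 2138)) (.leaf 1234)) (.node (.leaf 818) (.leaf 3545))) (.node (.node (.leaf 1695) (.leaf 2893)) (.node (.leaf 1048) (.leaf 3732)))) (.node (.node (.node (.leaf 356) (.leaf 2024)) (.node (.leaf 947) (.leaf 2999))) (.node (.node (.leaf 688) (.leaf 1881)) (.node (.leaf 1151) (.leaf 3289)))))) (.node (.node (.node (.node (.node (.node (.leaf 104) (.leaf 4418)) (.leaf 3190)) (.node (.leaf 790) (.leaf 2105))) (.node (.node (.leaf 1549) (.leaf 1325)) (.node (.leaf 1643) (.leaf 3252)))) (.node (.node (.node (.leaf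 305) (.leaf 3653)) (.node (.leaf 916) (.leaf 3168))) (.node (.node (.leaf 650) (.leaf 1362)) (.node (.leaf 1119) (.leaf 3470))))) (.node (.node (.node (.node (.node (.leaf 209) (.leaf 4390)) (.leaf 3528)) (.node (.leaf 847) (.leaf 1811))) (.node (.node (.leaf 565) (.leaf 4194)) (.node (.leaf 1074) (.leaf 4109)))) (.node (.node (.node (.leaf 1651) (.leaf 3806)) (.node (.leaf 968) (.leaf 2301))) (.node (.node (.leaf 728) (.leaf 1384)) (.node (.leaf 2202) (.leaf 4366)))))))

def bigRank51 : Janko.Tree (ℕ) :=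
  (.node (.node (.node (.node (.node (.node (.node (.leaf 50) (.leaf 3772)) (.leaf 3143)) (.node (.leaf 1985) (.leaf 2629))) (.node (.node (.leaf 454) (.leaf 3516)) (.node (.leaf 995) (.leaf 3131)))) (.node (.node (.node (.node (.leaf 257) (.leaf 1636)) (.leaf 2584)) (.node (.leaf 2901) (.leaf 3525))) (.node (.node (.leaf 2905) (.leaf 3041)) (.node (.leaf 2148) (.leaf 3685))))) (.node (.node (.node (.node (.node (.leaf 1764) (.leaf 4077)) (.leaf 2398)) (.node (.leaf 1767) (.leaf 3903))) (.node (.node (.leaf 528) (.leaf 1525)) (.node (.leaf 2960) (.leaf 2454)))) (.node (.node (.node (.leaf 357) (.leaf 1292)) (.node (.leaf 948) (.leaf 1850))) (.node (.node (.leaf 689) (.leaf 2252)) (.node (.leaf 2485) (.leaf 4271)))))) (.node (.node (.node (.node (.node (.node (.leaf 105) (.leaf 3292)) (.leaf 2682)) (.node (.leaf 2094) (.leaf 2107))) (.node (.node (.leaf 495) (.leaf 2751)) (.node (.leaf 3242) (.leaf 4416)))) (.node (.node (.node (.leaf 306) (.leaf 2512)) (.node (.leaf 917)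 (.leaf 2851))) (.node (.node (.leaf 651) (.leaf 2501)) (.node (.leaf 1120) (.leaf 2327))))) (.node (.node (.node (.node (.node (.leaf 210) (.leaf 4419)) (.leaf 3218)) (.node (.leaf 848) (.leaf 1804))) (.node (.node (.leaf 566) (.leaf 3123)) (.node (.leaf 2845) (.leaf 4229)))) (.node (.node (.node (.leaf 401) (.leaf 1306)) (.node (.leaf 969) (.leaf 3243))) (.node (.node (.leaf 729) (.leaf 1629)) (.node (.leaf 2062) (.leaf 4392)))))))

def bigRank52 : Janko.Tree (ℕ) :=
  (.node (.node (.node (.node (.node (.node (.node (.leaf 51) (.leaf 3770)) (.leaf 1745)) (.node (.leaf 1989) (.leaf 1394))) (.node (.node (.leaf 2910) (.leaf 4219)) (.node (.leaf 1958) (.leaf 4253)))) (.node (.node (.node (.node (.leaf 258) (.leaf 1983)) (.leaf 2582)) (.node (.leaf 1815) (.leaf 2612))) (.node (.node (.leaf 2405) (.leaf 1633)) (.node (.leaf 3976) (.leaf 3202))))) (.node (.node (.node (.node (.node (.leaf 160) (.leaf 2933)) (.leaf 1903)) (.node (.leaf 819) (.leaf 3730))) (.node (.node (.leaf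 1704) (.leaf 1336)) (.node (.leaf 1049) (.leaf 2635)))) (.node (.node (.node (.leaf 358) (.leaf 1293)) (.node (.leaf 949) (.leaf 3780))) (.node (.node (.leaf 690) (.leaf 2280)) (.node (.leaf 1461) (.leaf 4262)))))) (.node (.node (.node (.node (.node (.node (.leaf 106) (.leaf 3656)) (.leaf 1874)) (.node (.leaf 2559) (.leaf 2494))) (.node (.node (.leaf 496) (.leaf 4037)) (.node (.leaf 1601) (.leaf 2339)))) (.node (.node (.node (.leaf 307) (.leaf 4036)) (.node (.leaf 918) (.leaf 2356))) (.node (.node (.leaf 652) (.leaf 3866)) (.node (.leaf 1121) (.leaf 3499))))) (.node (.node (.node (.node (.node (.leaf 211) (.leaf 4388)) (.leaf 2087)) (.node (.leaf 849) (.leaf 3436))) (.node (.node (.leaf 3592) (.leaf 3134)) (.node (.leaf 1075) (.leaf 4192)))) (.node (.node (.node (.leaf 1658) (.leaf 4252)) (.node (.leaf 3332) (.leaf 2331))) (.node (.node (.leaf 730) (.leaf 1788)) (.node (.leaf 2059) (.leaf 4372)))))))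

def bigRank53 : Janko.Tree (ℕ) :=
  (.node (.node (.node (.node (.node (.node (.node (.leaf 52) (.leaf 3892)) (.leaf 2003)) (.node (.leaf 764) (.leaf 2623))) (.node (.node (.leaf 3197) (.leaf 3115)) (.node (.leaf 2996) (.leaf 4045)))) (.node (.node (.node (.node (.leaf 259) (.leaf 1967)) (.leaf 2580)) (.node (.leaf 2224) (.leaf 1423))) (.node (.node (.leaf 2106) (.leaf 4420)) (.node (.leaf 1103) (.leaf 3137))))) (.node (.node (.node (.node (.node (.leaf 161) (.leaf 3326)) (.leaf 4338)) (.node (.leaf 1769) (.leaf 2266))) (.node (.node (.leaf 529) (.leaf 2534)) (.node (.leaf 1050) (.leaf 2775)))) (.node (.node (.node (.leaf 359) (.leaf 3497)) (.node (.leaf 3011) (.leaf 3887))) (.node (.node (.leaf 2054) (.leaf 2644)) (.node (.leaf 2125) (.leaf 4424)))))) (.node (.node (.node (.node (.node (.node (.leaf 1479) (.leaf 2816)) (.leaf 1859)) (.node (.leaf 791) (.leaf 3306))) (.node (.node (.leaf 497) (.leaf 4035)) (.node (.leaf 1645) (.leaf 2713)))) (.node (.node (.node (.leaf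 308) (.leaf 1278)) (.node (.leaf 919) (.leaf 3811))) (.node (.node (.leaf 653) (.leaf 2503)) (.node (.leaf 2388) (.leaf 4377))))) (.node (.node (.node (.node (.node (.leaf 212) (.leaf 3017)) (.leaf 2671)) (.node (.leaf 2786) (.leaf 1793))) (.node (.node (.leaf 567) (.leaf 4083)) (.node (.leaf 2668) (.leaf 3807)))) (.node (.node (.node (.leaf 402) (.leaf 1307)) (.node (.leaf 970) (.leaf 2153))) (.node (.node (.leaf 731) (.leaf 2068)) (.node (.leaf 3487) (.leaf 4254)))))))

def bigRank54 : Janko.Tree (ℕ) :=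
  (.node (.node (.node (.node (.node (.node (.node (.leaf 53) (.leaf 4024)) (.leaf 1747)) (.node (.leaf 2976) (.leaf 1866))) (.node (.node (.leaf 455) (.leaf 4265)) (.node (.leaf 2305) (.leaf 1446)))) (.node (.node (.node (.node (.leaf 260) (.leaf 2092)) (.leaf 3460)) (.node (.leaf 3162) (.leaf 2081))) (.node (.node (.leaf 608) (.leaf 1631)) (.node (.leaf 1809) (.leaf 3904))))) (.node (.node (.node (.node (.node (.leaf 162) (.leaf 4028)) (.leaf 4342)) (.node (.leaf 820) (.leaf 1407))) (.node (.node (.leaf 530) (.leaf 3356)) (.node (.leaf 1051) (.leaf 3388)))) (.node (.node (.node (.leaf 1707) (.leaf 3751)) (.node (.leaf 950) (.leaf 2001))) (.node (.node (.leaf 691) (.leaf 4362)) (.node (.leaf 1152) (.leaf 3705)))))) (.node (.node (.node (.node (.node (.node (.leaf 107) (.leaf 3419)) (.leaf 4085)) (.node (.leaf 1813) (.leaf 2720))) (.node (.node (.leaf 1487) (.leaf 4039)) (.node (.leaf 1647) (.leaf 3657)))) (.node (.node (.node (.leaf 309) (.leaf 1279)) (.node (.leaf 3096)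 (.leaf 2389))) (.node (.node (.leaf 654) (.leaf 4384)) (.node (.leaf 1122) (.leaf 4375))))) (.node (.node (.node (.node (.node (.leaf 213) (.leaf 3920)) (.leaf 4120)) (.node (.leaf 2916) (.leaf 3574))) (.node (.node (.leaf 568) (.leaf 3615)) (.node (.leaf 3882) (.leaf 4367)))) (.node (.node (.node (.leaf 403) (.leaf 1308)) (.node (.leaf 971) (.leaf 1991))) (.node (.node (.leaf 2177) (.leaf 1596)) (.node (.leaf 1169) (.leaf 4306)))))))

def bigRank55 : Janko.Tree (ℕ) :=
  (.node (.node (.node (.node (.node (.node (.node (.leaf 54) (.leaf 3886)) (.leaf 3443)) (.node (.leaf 2333) (.leaf 1395))) (.node (.node (.leaf 1593) (.leaf 4004)) (.node (.leaf 996) (.leaf 3908)))) (.node (.node (.node (.node (.leaf 261) (.leaf 2306)) (.leaf 2833)) (.node (.leaf 884) (.leaf 1965))) (.node (.node (.leaf 609) (.leaf 2731)) (.node (.leaf 1569) (.leaf 3902))))) (.node (.node (.node (.node (.node (.leaf 163) (.leaf 3935)) (.leaf 4336)) (.node (.leaf 821) (.leaf 2251))) (.node (.node (.leaf 531)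 (.leaf 1337)) (.node (.leaf 3060) (.leaf 3345)))) (.node (.node (.node (.leaf 360) (.leaf 1294)) (.node (.leaf 1927) (.leaf 3589))) (.node (.node (.leaf 692) (.leaf 3787)) (.node (.leaf 2420) (.leaf 2938)))))) (.node (.node (.node (.node (.node (.node (.leaf 1558) (.leaf 1677)) (.leaf 1211)) (.node (.leaf 792) (.leaf 3970))) (.node (.node (.leaf 1496) (.leaf 3844)) (.node (.leaf 1659) (.leaf 2290)))) (.node (.node (.node (.leaf 1557) (.leaf 1280)) (.node (.leaf 920) (.leaf 2696))) (.node (.node (.leaf 655) (.leaf 3981)) (.node (.leaf 1784) (.leaf 4397))))) (.node (.node (.node (.node (.node (.leaf 214) (.leaf 4049)) (.leaf 1613)) (.node (.leaf 2924) (.leaf 3757))) (.node (.node (.leaf 569) (.leaf 3215)) (.node (.leaf 2947) (.leaf 3701)))) (.node (.node (.node (.leaf 404) (.leaf 2784)) (.node (.leaf 972) (.leaf 1442))) (.node (.node (.leaf 732) (.leaf 1385)) (.node (.leaf 1812) (.leaf 4316)))))))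

def bigRank56 : Janko.Tree (ℕ) :=
  (.node (.node (.node (.node (.node (.node (.node (.leaf 55) (.leaf 3387)) (.leaf 1188)) (.node (.leaf 1469) (.leaf 1396))) (.node (.node (.leaf 1831) (.leaf 3808)) (.node (.leaf 2445) (.leaf 3548)))) (.node (.node (.node (.node (.leaf 262) (.leaf 2004)) (.leaf 3967)) (.node (.leaf 885) (.leaf 2082))) (.node (.node (.leaf 1627) (.leaf 1354)) (.node (.leaf 1104) (.leaf 4154))))) (.node (.node (.node (.node (.node (.leaf 2921) (.leaf 3933)) (.leaf 1235)) (.node (.leaf 822) (.leaf 1408))) (.node (.node (.leaf 532) (.leaf 3385)) (.node (.leaf 1052) (.leaf 4064)))) (.node (.node (.node (.leaf 1710) (.leaf 2958)) (.node (.leaf 3045) (.leaf 1438))) (.node (.node (.leaf 2214) (.leaf 3585)) (.node (.leaf 1153) (.leaf 2726)))))) (.node (.node (.node (.node (.node (.node (.leaf 108) (.leaf 3343)) (.leaf 3918)) (.node (.leaf 793) (.leaf 4365))) (.node (.node (.leaf 1520) (.leaf 1326)) (.node (.leaf 1657) (.leaf 3298)))) (.node (.node (.node (.leaf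 310) (.leaf 1281)) (.node (.leaf 2617) (.leaf 2622))) (.node (.node (.leaf 2373) (.leaf 1363)) (.node (.leaf 3752) (.leaf 3513))))) (.node (.node (.node (.node (.node (.leaf 215) (.leaf 3498)) (.leaf 4007)) (.node (.leaf 850) (.leaf 3155))) (.node (.node (.leaf 570) (.leaf 1922)) (.node (.leaf 3594) (.leaf 4158)))) (.node (.node (.node (.leaf 405) (.leaf 4201)) (.node (.leaf 973) (.leaf 2307))) (.node (.node (.leaf 1614) (.leaf 2587)) (.node (.leaf 1170) (.leaf 4314)))))))

def bigRank57 : Janko.Tree (ℕ) :=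
  (.node (.node (.node (.node (.node (.node (.node (.leaf 1512) (.leaf 3084)) (.leaf 2861)) (.node (.leaf 765) (.leaf 2993))) (.node (.node (.leaf 1591) (.leaf 1319)) (.node (.leaf 4268) (.leaf 2885)))) (.node (.node (.node (.node (.leaf 263) (.leaf 2049)) (.leaf 2643)) (.node (.leaf 2791) (.leaf 2144))) (.node (.node (.leaf 1791) (.leaf 2729)) (.node (.leaf 2123) (.leaf 3627))))) (.node (.node (.node (.node (.node (.leaf 164) (.leaf 2817)) (.leaf 3257)) (.node (.leaf 823) (.leaf 3734))) (.node (.node (.leaf 533) (.leaf 3441)) (.node (.leaf 3062) (.leaf 3818)))) (.node (.node (.node (.leaf 361) (.leaf 2882)) (.node (.leaf 1914) (.leaf 2181))) (.node (.node (.leaf 693) (.leaf 3164)) (.node (.leaf 2957) (.leaf 3231)))))) (.node (.node (.node (.node (.node (.node (.leaf 109) (.leaf 3552)) (.leaf 3132)) (.node (.leaf 794) (.leaf 3996))) (.node (.node (.leaf 2767) (.leaf 1327)) (.node (.leaf 2565) (.leaf 1905)))) (.node (.node (.node (.leaf 1555) (.leaf 4167)) (.node (.leaf 921)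 (.leaf 2624))) (.node (.node (.leaf 656) (.leaf 3731)) (.node (.leaf 1123) (.leaf 3413))))) (.node (.node (.node (.node (.node (.leaf 1482) (.leaf 3500)) (.leaf 1954)) (.node (.leaf 851) (.leaf 2547))) (.node (.node (.leaf 571) (.leaf 3350)) (.node (.leaf 1076) (.leaf 3699)))) (.node (.node (.node (.leaf 2010) (.leaf 3142)) (.node (.leaf 4329) (.leaf 2190))) (.node (.node (.leaf 1609) (.leaf 2651)) (.node (.leaf 1886) (.leaf 3070)))))))

def bigRank58 : Janko.Tree (ℕ) :=
  (.node (.node (.node (.node (.node (.node (.node (.leaf 56) (.leaf 3391)) (.leaf 1728)) (.node (.leaf 1522) (.leaf 2613))) (.node (.node (.leaf 456) (.leaf 3997)) (.node (.leaf 3696) (.leaf 4133)))) (.node (.node (.node (.node (.leaf 264) (.leaf 2028)) (.leaf 1500)) (.node (.leaf 1825) (.leaf 2168))) (.node (.node (.leaf 610) (.leaf 2883)) (.node (.leaf 2166) (.leaf 3906))))) (.node (.node (.node (.node (.node (.leaf 1576) (.leaf 4255)) (.leaf 3102)) (.node (.leaf 1951) (.leaf 2215))) (.node (.node (.leaf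 534) (.leaf 2518)) (.node (.leaf 1053) (.leaf 3786)))) (.node (.node (.node (.leaf 362) (.leaf 3769)) (.node (.leaf 951) (.leaf 2179))) (.node (.node (.leaf 2204) (.leaf 2787)) (.node (.leaf 1154) (.leaf 3474)))))) (.node (.node (.node (.node (.node (.node (.leaf 1561) (.leaf 3461)) (.leaf 1713)) (.node (.leaf 795) (.leaf 3986))) (.node (.node (.leaf 498) (.leaf 2914)) (.node (.leaf 1654) (.leaf 2274)))) (.node (.node (.node (.leaf 311) (.leaf 4319)) (.node (.leaf 922) (.leaf 2395))) (.node (.node (.leaf 657) (.leaf 3741)) (.node (.leaf 2072) (.leaf 3415))))) (.node (.node (.node (.node (.node (.leaf 216) (.leaf 4108)) (.leaf 3742)) (.node (.leaf 2913) (.leaf 3567))) (.node (.node (.leaf 572) (.leaf 1346)) (.node (.leaf 1077) (.leaf 3824)))) (.node (.node (.node (.leaf 406) (.leaf 3193)) (.node (.leaf 1942) (.leaf 2497))) (.node (.node (.leaf 733) (.leaf 3664)) (.node (.leaf 1171) (.leaf 3068)))))))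

def bigRank59 : Janko.Tree (ℕ) :=
  (.node (.node (.node (.node (.node (.node (.node (.leaf 57) (.leaf 3037)) (.leaf 1189)) (.node (.leaf 766) (.leaf 2611))) (.node (.node (.leaf 457) (.leaf 4212)) (.node (.leaf 997) (.leaf 4135)))) (.node (.node (.node (.node (.leaf 1692) (.leaf 1993)) (.leaf 2807)) (.node (.leaf 886) (.leaf 4281))) (.node (.node (.leaf 1797) (.leaf 2724)) (.node (.leaf 3163) (.leaf 3629))))) (.node (.node (.node (.node (.node (.leaf 1735) (.leaf 2335)) (.leaf 1236)) (.node (.leaf 3100) (.leaf 1409))) (.node (.node (.leaf 535) (.leaf 3354)) (.node (.leaf 2953) (.leaf 3375)))) (.node (.node (.node (.leaf 363) (.leaf 1295)) (.node (.leaf 1912) (.leaf 2273))) (.node (.node (.leaf 694) (.leaf 2244)) (.node (.leaf 1155) (.leaf 1456)))))) (.node (.node (.node (.node (.node (.node (.leaf 110) (.leaf 3964)) (.leaf 1727)) (.node (.leaf 2509) (.leaf 1402))) (.node (.node (.leaf 2898) (.leaf 2917)) (.node (.leaf 3239) (.leaf 1448)))) (.node (.node (.node (.leaf 312)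 (.leaf 1789)) (.node (.leaf 2374) (.leaf 3374))) (.node (.node (.leaf 1878) (.leaf 1364)) (.node (.leaf 2359) (.leaf 4025))))) (.node (.node (.node (.node (.node (.leaf 1592) (.leaf 1896)) (.leaf 2456)) (.node (.leaf 1473) (.leaf 4095))) (.node (.node (.leaf 573) (.leaf 4140)) (.node (.leaf 3079) (.leaf 3024)))) (.node (.node (.node (.leaf 407) (.leaf 3205)) (.node (.leaf 1956) (.leaf 3519))) (.node (.node (.leaf 2984) (.leaf 4417)) (.node (.leaf 2379) (.leaf 3540)))))))

def bigRank60 : Janko.Tree (ℕ) :=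
  (.node (.node (.node (.node (.node (.node (.node (.leaf 58) (.leaf 3293)) (.leaf 1731)) (.node (.leaf 767) (.leaf 3072))) (.node (.node (.leaf 2919) (.leaf 3765)) (.node (.leaf 2298) (.leaf 3006)))) (.node (.node (.node (.node (.leaf 265) (.leaf 1981)) (.leaf 1892)) (.node (.leaf 2891) (.leaf 2237))) (.node (.node (.leaf 611) (.leaf 1355)) (.node (.leaf 1105) (.leaf 1454))))) (.node (.node (.node (.node (.node (.leaf 1573) (.leaf 3969)) (.leaf 3911)) (.node (.leaf 824) (.leaf 2217))) (.node (.node (.leaf 536) (.leaf 1338)) (.node (.leaf 1054) (.leaf 3542)))) (.node (.node (.node (.leaf 1582) (.leaf 3113)) (.node (.leaf 1529) (.leaf 2141))) (.node (.node (.leaf 695) (.leaf 3738)) (.node (.leaf 2848) (.leaf 3526)))))) (.node (.node (.node (.node (.node (.node (.leaf 111) (.leaf 3978)) (.leaf 2558)) (.node (.leaf 796) (.leaf 3248))) (.node (.node (.leaf 3712) (.leaf 3868)) (.node (.leaf 1021) (.leaf 3260)))) (.node (.node (.node (.leaf 1790) (.leaf 1460)) (.node (.leaf 923)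 (.leaf 3938))) (.node (.node (.leaf 3276) (.leaf 2959)) (.node (.leaf 1124) (.leaf 4027))))) (.node (.node (.node (.node (.node (.leaf 217) (.leaf 4357)) (.leaf 1249)) (.node (.leaf 852) (.leaf 4381))) (.node (.node (.leaf 574) (.leaf 4138)) (.node (.leaf 4126) (.leaf 3021)))) (.node (.node (.node (.leaf 408) (.leaf 1309)) (.node (.leaf 1938) (.leaf 3187))) (.node (.node (.leaf 734) (.leaf 1386)) (.node (.leaf 2013) (.leaf 3979)))))))

def bigRank61 : Janko.Tree (ℕ) :=
  (.node (.node (.node (.node (.node (.node (.node (.leaf 59) (.leaf 2040)) (.leaf 2626)) (.node (.leaf 2126) (.leaf 3099))) (.node (.node (.leaf 1474) (.leaf 4063)) (.node (.leaf 2250) (.leaf 2998)))) (.node (.node (.node (.node (.leaf 1696) (.leaf 2002)) (.leaf 2218)) (.node (.leaf 3853) (.leaf 4295))) (.node (.node (.leaf 612) (.leaf 3238)) (.node (.leaf 3153) (.leaf 4220))))) (.node (.node (.node (.node (.node (.leaf 165) (.leaf 4249)) (.leaf 3907)) (.node (.leaf 825) (.leaf 1845))) (.node (.node (.leaf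 3191) (.leaf 3291)) (.node (.leaf 3320) (.leaf 1450)))) (.node (.node (.node (.leaf 1560) (.leaf 4057)) (.node (.leaf 1917) (.leaf 2295))) (.node (.node (.leaf 1756) (.leaf 2570)) (.node (.leaf 2964) (.leaf 4305)))))) (.node (.node (.node (.node (.node (.node (.leaf 112) (.leaf 2688)) (.leaf 1876)) (.node (.leaf 3272) (.leaf 1403))) (.node (.node (.leaf 499) (.leaf 2912)) (.node (.leaf 1022) (.leaf 3226)))) (.node (.node (.node (.leaf 313) (.leaf 1785)) (.node (.leaf 3593) (.leaf 1853))) (.node (.node (.leaf 658) (.leaf 1365)) (.node (.leaf 1796) (.leaf 4143))))) (.node (.node (.node (.node (.node (.leaf 218) (.leaf 2051)) (.leaf 1861)) (.node (.leaf 1594) (.leaf 4191))) (.node (.node (.leaf 575) (.leaf 4339)) (.node (.leaf 2011) (.leaf 4293)))) (.node (.node (.node (.leaf 1502) (.leaf 1957)) (.node (.leaf 4327) (.leaf 3618))) (.node (.node (.leaf 2297) (.leaf 2041)) (.node (.leaf 1800) (.leaf 3977)))))))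

def bigRank62 : Janko.Tree (ℕ) :=
  (.node (.node (.node (.node (.node (.node (.node (.leaf 60) (.leaf 2591)) (.leaf 2927)) (.node (.leaf 2283) (.leaf 3110))) (.node (.node (.leaf 458) (.leaf 4422)) (.node (.leaf 3718) (.leaf 2955)))) (.node (.node (.node (.node (.leaf 266) (.leaf 2000)) (.leaf 1910)) (.node (.leaf 2455) (.leaf 3536))) (.node (.node (.leaf 613) (.leaf 1356)) (.node (.leaf 1106) (.leaf 3819))))) (.node (.node (.node (.node (.node (.leaf 166) (.leaf 3303)) (.leaf 1901)) (.node (.leaf 826) (.leaf 1702))) (.node (.node (.leaf 1930) (.leaf 2538)) (.node (.leaf 1660) (.leaf 2673)))) (.node (.node (.node (.leaf 1580) (.leaf 3598)) (.node (.leaf 3913) (.leaf 1439))) (.node (.node (.leaf 696) (.leaf 3080)) (.node (.leaf 1682) (.leaf 4344)))))) (.node (.node (.node (.node (.node (.node (.leaf 113) (.leaf 3725)) (.leaf 2462)) (.node (.leaf 3490) (.leaf 1404))) (.node (.node (.leaf 3144) (.leaf 1328)) (.node (.leaf 1023) (.leaf 3104)))) (.node (.node (.node (.leaf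 314) (.leaf 2878)) (.node (.leaf 924) (.leaf 2942))) (.node (.node (.leaf 659) (.leaf 3926)) (.node (.leaf 1125) (.leaf 4379))))) (.node (.node (.node (.node (.node (.leaf 219) (.leaf 4307)) (.leaf 1250)) (.node (.leaf 2796) (.leaf 1417))) (.node (.node (.leaf 576) (.leaf 3909)) (.node (.leaf 3357) (.leaf 4291)))) (.node (.node (.node (.leaf 409) (.leaf 3353)) (.node (.leaf 4165) (.leaf 4373))) (.node (.node (.leaf 3972) (.leaf 2594)) (.node (.leaf 3083) (.leaf 3723)))))))

def bigRank63 : Janko.Tree (ℕ) :=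
  (.node (.node (.node (.node (.node (.node (.node (.leaf 61) (.leaf 3250)) (.leaf 1190)) (.node (.leaf 768) (.leaf 2131))) (.node (.node (.leaf 2505) (.leaf 3529)) (.node (.leaf 2923) (.leaf 3074)))) (.node (.node (.node (.node (.leaf 267) (.leaf 1998)) (.leaf 2140)) (.node (.leaf 3851) (.leaf 3538))) (.node (.node (.leaf 614) (.leaf 3240)) (.node (.leaf 1107) (.leaf 4124))))) (.node (.node (.node (.node (.node (.leaf 1653) (.leaf 1679)) (.leaf 1237)) (.node (.leaf 827) (.leaf 1732))) (.node (.node (.leaf 537) (.leaf 1470)) (.node (.leaf 1689) (.leaf 2823)))) (.node (.node (.node (.leaf 364) (.leaf 1296)) (.node (.leaf 3684) (.leaf 3621))) (.node (.node (.leaf 1773) (.leaf 3333)) (.node (.leaf 1156) (.leaf 4335)))))) (.node (.node (.node (.node (.node (.node (.leaf 114) (.leaf 3506)) (.leaf 1720)) (.node (.leaf 3270) (.leaf 2684))) (.node (.node (.leaf 3118) (.leaf 3835)) (.node (.leaf 2581) (.leaf 1449)))) (.node (.node (.node (.leaf 315) (.leaf 3956)) (.node (.leaf 3340)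 (.leaf 3285))) (.node (.node (.leaf 660) (.leaf 2228)) (.node (.leaf 1799) (.leaf 3586))))) (.node (.node (.node (.node (.node (.leaf 1488) (.leaf 4270)) (.leaf 1714)) (.node (.leaf 2794) (.leaf 3624))) (.node (.node (.leaf 2414) (.leaf 3449)) (.node (.leaf 1966) (.leaf 4356)))) (.node (.node (.node (.leaf 410) (.leaf 2602)) (.node (.leaf 3533) (.leaf 3507))) (.node (.node (.leaf 1544) (.leaf 2592)) (.node (.leaf 2130) (.leaf 3739)))))))

def bigRank : Janko.Tree (ℕ) := (.node (.node (.node (.node (.node (.node bigRank0 bigRank32) (.node bigRank16 bigRank48)) (.node (.node bigRank8 bigRank40) (.node bigRank24 bigRank56))) (.node (.node (.node bigRank4 bigRank36) (.node bigRank20 bigRank52)) (.node (.node bigRank12 bigRank44) (.node bigRank28 bigRank60)))) (.node (.node (.node (.node bigRank2 bigRank34) (.node bigRank18 bigRank50)) (.node (.node bigRank10 bigRank42) (.node bigRank26 bigRank58))) (.node (.node (.node bigRank6 bigRank38) (.node bigRank22 bigRank54)) (.node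 (.node bigRank14 bigRank46) (.node bigRank30 bigRank62))))) (.node (.node (.node (.node (.node bigRank1 bigRank33) (.node bigRank17 bigRank49)) (.node (.node bigRank9 bigRank41) (.node bigRank25 bigRank57))) (.node (.node (.node bigRank5 bigRank37) (.node bigRank21 bigRank53)) (.node (.node bigRank13 bigRank45) (.node bigRank29 bigRank61)))) (.node (.node (.node (.node bigRank3 bigRank35) (.node bigRank19 bigRank51)) (.node (.node bigRank11 bigRank43) (.node bigRank27 bigRank59))) (.node (.node (.node bigRank7 bigRank39) (.node bigRank23 bigRank55)) (.node (.node bigRank15 bigRank47) (.node bigRank31 bigRank63))))))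

def bigVia0 : Janko.Tree (ℕ × ℕ) :=
  (.node (.node (.node (.node (.node (.node (.node (.leaf (0, 0)) (.leaf (52, 1180))) (.leaf (55, 361))) (.node (.leaf (0, 0)) (.leaf (56, 1296)))) (.node (.node (.leaf (0, 0)) (.leaf (54, 694))) (.node (.leaf (56, 956)) (.leaf (50, 1296))))) (.node (.node (.node (.node (.leaf (5, 58)) (.leaf (56, 1314))) (.leaf (55, 841))) (.node (.leaf (48, 23)) (.leaf (0, 0)))) (.node (.node (.leaf (0, 0)) (.leaf (52, 1178))) (.node (.leaf (0, 0)) (.leaf (56, 480)))))) (.node (.node (.node (.node (.node (.leaf (0, 0)) (.leaf (51, 400))) (.leaf (34, 1154))) (.node (.leaf (0, 0)) (.leaf (48, 11)))) (.node (.node (.leaf (52, 132)) (.leaf (49, 72))) (.node (.leaf (0, 0)) (.leaf (56, 1366))))) (.node (.node (.node (.leaf (0, 0)) (.leaf (51, 63))) (.node (.leaf (32, 1006)) (.leaf (56, 1152)))) (.node (.node (.leaf (0, 0)) (.leaf (56, 1192))) (.node (.leaf (0, 0)) (.leaf (56, 1415))))))) (.node (.node (.node (.node (.node (.node (.leaf (0, 0)) (.leaf (46,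 823))) (.leaf (41, 21))) (.node (.leaf (48, 18)) (.leaf (56, 709)))) (.node (.node (.leaf (56, 192)) (.leaf (55, 1204))) (.node (.leaf (48, 601)) (.leaf (56, 1216))))) (.node (.node (.node (.node (.leaf (0, 0)) (.leaf (42, 458))) (.leaf (55, 1218))) (.node (.leaf (0, 0)) (.leaf (17, 1271)))) (.node (.node (.leaf (55, 418)) (.leaf (7, 1125))) (.node (.leaf (55, 1256)) (.leaf (53, 658)))))) (.node (.node (.node (.node (.node (.leaf (3, 64)) (.leaf (55, 69))) (.leaf (0, 0))) (.node (.leaf (55, 593)) (.leaf (39, 323)))) (.node (.node (.leaf (0, 0)) (.leaf (38, 815))) (.node (.leaf (55, 576)) (.leaf (48, 255))))) (.node (.node (.node (.leaf (0, 0)) (.leaf (46, 411))) (.node (.leaf (52, 482)) (.leaf (54, 206)))) (.node (.node (.leaf (0, 0)) (.leaf (55, 502))) (.node (.leaf (54, 719)) (.leaf (56, 1022))))))))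

def bigVia1 : Janko.Tree (ℕ × ℕ) :=
  (.node (.node (.node (.node (.node (.node (.node (.leaf (0, 0)) (.leaf (52, 1423))) (.leaf (0, 0))) (.node (.leaf (55, 1449)) (.leaf (24, 554)))) (.node (.node (.leaf (56, 913)) (.leaf (46, 977))) (.node (.leaf (0, 0)) (.leaf (53, 1195))))) (.node (.node (.node (.node (.leaf (25, 70)) (.leaf (56, 825))) (.leaf (0, 0))) (.node (.leaf (0, 0)) (.leaf (48, 112)))) (.node (.node (.leaf (56, 1273)) (.leaf (56, 939))) (.node (.leaf (0, 0)) (.leaf (49, 1440)))))) (.node (.node (.node (.node (.node (.leaf (20, 103)) (.leaf (55, 51))) (.leaf (54, 1092))) (.node (.leaf (0, 0)) (.leaf (54, 1067)))) (.node (.node (.leaf (0, 0)) (.leaf (56, 1126))) (.node (.leaf (0, 0)) (.leaf (56, 1441))))) (.node (.node (.node (.leaf (55, 304)) (.leaf (48, 98))) (.node (.leaf (0, 0)) (.leaf (54, 1037)))) (.node (.node (.leaf (56, 647)) (.leaf (55, 203))) (.node (.leaf (16, 752)) (.leaf (50, 1323))))))) (.node (.node (.node (.node (.node (.node (.leaf (0, 0)) (.leaf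 (48, 739))) (.leaf (46, 1335))) (.node (.leaf (0, 0)) (.leaf (52, 740)))) (.node (.node (.leaf (0, 0)) (.leaf (56, 1454))) (.node (.leaf (42, 1192)) (.leaf (0, 0))))) (.node (.node (.node (.node (.leaf (0, 0)) (.leaf (43, 637))) (.leaf (53, 1127))) (.node (.leaf (0, 0)) (.leaf (56, 1447)))) (.node (.node (.leaf (0, 0)) (.leaf (56, 1115))) (.node (.leaf (51, 888)) (.leaf (56, 1260)))))) (.node (.node (.node (.node (.node (.leaf (0, 0)) (.leaf (25, 1146))) (.leaf (0, 0))) (.node (.leaf (0, 0)) (.leaf (56, 1334)))) (.node (.node (.leaf (49, 1323)) (.leaf (10, 475))) (.node (.leaf (0, 0)) (.leaf (56, 1288))))) (.node (.node (.node (.leaf (54, 706)) (.leaf (0, 0))) (.node (.leaf (56, 683)) (.leaf (42, 1151)))) (.node (.node (.leaf (16, 489)) (.leaf (49, 1003))) (.node (.leaf (0, 0)) (.leaf (52, 1391))))))))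

def bigVia2 : Janko.Tree (ℕ × ℕ) :=
  (.node (.node (.node (.node (.node (.node (.node (.leaf (0, 0)) (.leaf (49, 1366))) (.leaf (56, 1432))) (.node (.leaf (0, 0)) (.leaf (55, 1010)))) (.node (.node (.leaf (56, 83)) (.leaf (0, 0))) (.node (.leaf (54, 412)) (.leaf (56, 1159))))) (.node (.node (.node (.node (.leaf (0, 0)) (.leaf (37, 855))) (.leaf (52, 424))) (.node (.leaf (0, 0)) (.leaf (54, 1120)))) (.node (.node (.leaf (52, 1394)) (.leaf (53, 754))) (.node (.leaf (35, 598)) (.leaf (55, 1421)))))) (.node (.node (.node (.node (.node (.leaf (0, 0)) (.leaf (55, 704))) (.leaf (19, 567))) (.node (.leaf (38, 615)) (.leaf (51, 188)))) (.node (.node (.leaf (6, 913)) (.leaf (46, 1072))) (.node (.leaf (49, 523)) (.leaf (48, 346))))) (.node (.node (.node (.leaf (0, 0)) (.leaf (50, 1284))) (.node (.leaf (48, 466)) (.leaf (0, 0)))) (.node (.node (.leaf (0, 0)) (.leaf (56, 982))) (.node (.leaf (0, 0)) (.leaf (51, 70))))))) (.node (.node (.node (.node (.node (.node (.leaf (0, 0)) (.leaf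 (43, 645))) (.leaf (54, 1218))) (.node (.leaf (56, 1082)) (.leaf (56, 1210)))) (.node (.node (.leaf (0, 0)) (.leaf (20, 183))) (.node (.leaf (0, 0)) (.leaf (55, 971))))) (.node (.node (.node (.node (.leaf (55, 224)) (.leaf (44, 241))) (.leaf (46, 1079))) (.node (.leaf (0, 0)) (.leaf (55, 642)))) (.node (.node (.leaf (0, 0)) (.leaf (16, 862))) (.node (.leaf (53, 41)) (.leaf (50, 1302)))))) (.node (.node (.node (.node (.node (.leaf (24, 114)) (.leaf (55, 1430))) (.leaf (56, 1443))) (.node (.leaf (15, 168)) (.leaf (53, 5)))) (.node (.node (.leaf (55, 408)) (.leaf (46, 465))) (.node (.leaf (54, 559)) (.leaf (55, 1223))))) (.node (.node (.node (.leaf (56, 262)) (.leaf (56, 1095))) (.node (.leaf (52, 806)) (.leaf (53, 1174)))) (.node (.node (.leaf (0, 0)) (.leaf (1, 1003))) (.node (.leaf (49, 891)) (.leaf (55, 1405))))))))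

def bigVia3 : Janko.Tree (ℕ × ℕ) :=
  (.node (.node (.node (.node (.node (.node (.node (.leaf (0, 0)) (.leaf (50, 986))) (.leaf (52, 47))) (.node (.leaf (0, 0)) (.leaf (56, 1025)))) (.node (.node (.leaf (0, 0)) (.leaf (55, 900))) (.node (.leaf (22, 1006)) (.leaf (27, 230))))) (.node (.node (.node (.node (.leaf (0, 0)) (.leaf (56, 1158))) (.leaf (56, 864))) (.node (.leaf (0, 0)) (.leaf (49, 67)))) (.node (.node (.leaf (3, 102)) (.leaf (56, 1103))) (.node (.leaf (55, 961)) (.leaf (55, 1180)))))) (.node (.node (.node (.node (.node (.leaf (20, 63)) (.leaf (56, 1179))) (.leaf (0, 0))) (.node (.leaf (50, 1128)) (.leaf (55, 204)))) (.node (.node (.leaf (21, 464)) (.leaf (56, 1047))) (.node (.leaf (0, 0)) (.leaf (49, 297))))) (.node (.node (.node (.leaf (0, 0)) (.leaf (50, 1040))) (.node (.leaf (0, 0)) (.leaf (33, 1153)))) (.node (.node (.leaf (0, 0)) (.leaf (0, 0))) (.node (.leaf (0, 0)) (.leaf (55, 1220))))))) (.node (.node (.node (.node (.node (.node (.leaf (0, 0)) (.leaf (55,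 685))) (.leaf (56, 879))) (.node (.leaf (0, 0)) (.leaf (56, 1350)))) (.node (.node (.leaf (0, 0)) (.leaf (49, 862))) (.node (.leaf (55, 650)) (.leaf (53, 1217))))) (.node (.node (.node (.node (.leaf (0, 0)) (.leaf (45, 543))) (.leaf (23, 37))) (.node (.leaf (55, 449)) (.leaf (54, 1063)))) (.node (.node (.leaf (0, 0)) (.leaf (56, 952))) (.node (.leaf (56, 527)) (.leaf (52, 921)))))) (.node (.node (.node (.node (.node (.leaf (0, 0)) (.leaf (55, 1143))) (.leaf (0, 0))) (.node (.leaf (55, 727)) (.leaf (8, 604)))) (.node (.node (.leaf (53, 73)) (.leaf (55, 465))) (.node (.leaf (48, 1141)) (.leaf (51, 1013))))) (.node (.node (.node (.leaf (0, 0)) (.leaf (56, 1230))) (.node (.leaf (56, 482)) (.leaf (52, 915)))) (.node (.node (.leaf (0, 0)) (.leaf (56, 245))) (.node (.leaf (24, 552)) (.leaf (32, 933))))))))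

def bigVia4 : Janko.Tree (ℕ × ℕ) :=
  (.node (.node (.node (.node (.node (.node (.node (.leaf (0, 0)) (.leaf (55, 1096))) (.leaf (24, 47))) (.node (.leaf (56, 1313)) (.leaf (0, 0)))) (.node (.node (.leaf (0, 0)) (.leaf (56, 1321))) (.node (.leaf (55, 396)) (.leaf (0, 0))))) (.node (.node (.node (.node (.leaf (56, 190)) (.leaf (55, 1452))) (.leaf (54, 1023))) (.node (.leaf (0, 0)) (.leaf (55, 1358)))) (.node (.node (.leaf (0, 0)) (.leaf (0, 0))) (.node (.leaf (0, 0)) (.leaf (55, 886)))))) (.node (.node (.node (.node (.node (.leaf (0, 0)) (.leaf (52, 1154))) (.leaf (54, 896))) (.node (.leaf (54, 1235)) (.leaf (42, 588)))) (.node (.node (.leaf (55, 718)) (.leaf (54, 504))) (.node (.leaf (51, 1198)) (.leaf (55, 1350))))) (.node (.node (.node (.leaf (0, 0)) (.leaf (56, 812))) (.node (.leaf (0, 0)) (.leaf (46, 414)))) (.node (.node (.leaf (0, 0)) (.leaf (56, 1174))) (.node (.leaf (0, 0)) (.leaf (56, 1324))))))) (.node (.node (.node (.node (.node (.node (.leaf (0, 0)) (.leaf (49,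 1388))) (.leaf (54, 1044))) (.node (.leaf (46, 364)) (.leaf (56, 711)))) (.node (.node (.leaf (0, 0)) (.leaf (42, 1181))) (.node (.leaf (0, 0)) (.leaf (46, 157))))) (.node (.node (.node (.node (.leaf (0, 0)) (.leaf (46, 70))) (.leaf (12, 168))) (.node (.leaf (52, 1373)) (.leaf (56, 1410)))) (.node (.node (.leaf (0, 0)) (.leaf (54, 584))) (.node (.leaf (50, 670)) (.leaf (55, 364)))))) (.node (.node (.node (.node (.node (.leaf (0, 0)) (.leaf (52, 713))) (.leaf (38, 524))) (.node (.leaf (4, 311)) (.leaf (53, 277)))) (.node (.node (.leaf (40, 460)) (.leaf (48, 75))) (.node (.leaf (0, 0)) (.leaf (55, 1260))))) (.node (.node (.node (.leaf (55, 700)) (.leaf (56, 637))) (.node (.leaf (6, 1347)) (.leaf (55, 356)))) (.node (.node (.leaf (50, 1142)) (.leaf (56, 1405))) (.node (.leaf (10, 294)) (.leaf (52, 933))))))))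

def bigVia5 : Janko.Tree (ℕ × ℕ) :=
  (.node (.node (.node (.node (.node (.node (.node (.leaf (0, 0)) (.leaf (56, 1367))) (.leaf (43, 406))) (.node (.leaf (0, 0)) (.leaf (49, 271)))) (.node (.node (.leaf (0, 0)) (.leaf (0, 0))) (.node (.leaf (56, 380)) (.leaf (52, 1089))))) (.node (.node (.node (.node (.leaf (56, 721)) (.leaf (50, 1053))) (.leaf (0, 0))) (.node (.leaf (0, 0)) (.leaf (0, 0)))) (.node (.node (.leaf (25, 37)) (.leaf (49, 481))) (.node (.leaf (0, 0)) (.leaf (55, 162)))))) (.node (.node (.node (.node (.node (.leaf (0, 0)) (.leaf (54, 958))) (.leaf (52, 1016))) (.node (.leaf (55, 217)) (.leaf (55, 509)))) (.node (.node (.leaf (0, 0)) (.leaf (56, 595))) (.node (.leaf (0, 0)) (.leaf (48, 446))))) (.node (.node (.node (.leaf (48, 4)) (.leaf (21, 284))) (.node (.leaf (21, 476)) (.leaf (54, 1363)))) (.node (.node (.leaf (0, 0)) (.leaf (56, 1403))) (.node (.leaf (52, 455)) (.leaf (53, 748))))))) (.node (.node (.node (.node (.node (.node (.leaf (0, 0)) (.leaf (50, 1164)))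 (.leaf (53, 981))) (.node (.leaf (43, 730)) (.leaf (56, 1153)))) (.node (.node (.leaf (0, 0)) (.leaf (0, 0))) (.node (.leaf (56, 1369)) (.leaf (24, 311))))) (.node (.node (.node (.node (.leaf (54, 842)) (.leaf (47, 1176))) (.leaf (0, 0))) (.node (.leaf (0, 0)) (.leaf (49, 643)))) (.node (.node (.leaf (0, 0)) (.leaf (55, 338))) (.node (.leaf (56, 425)) (.leaf (55, 1303)))))) (.node (.node (.node (.node (.node (.leaf (0, 0)) (.leaf (47, 1431))) (.leaf (56, 401))) (.node (.leaf (12, 907)) (.leaf (56, 1127)))) (.node (.node (.leaf (0, 0)) (.leaf (38, 919))) (.node (.leaf (55, 1020)) (.leaf (55, 295))))) (.node (.node (.node (.leaf (56, 383)) (.leaf (53, 200))) (.node (.leaf (55, 917)) (.leaf (41, 342)))) (.node (.node (.leaf (55, 1019)) (.leaf (54, 900))) (.node (.leaf (55, 663)) (.leaf (56, 1310))))))))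

def bigVia6 : Janko.Tree (ℕ × ℕ) :=
  (.node (.node (.node (.node (.node (.node (.node (.leaf (0, 0)) (.leaf (55, 1301))) (.leaf (0, 0))) (.node (.leaf (42, 1170)) (.leaf (56, 1026)))) (.node (.node (.leaf (0, 0)) (.leaf (51, 1394))) (.node (.leaf (43, 1167)) (.leaf (55, 742))))) (.node (.node (.node (.node (.leaf (0, 0)) (.leaf (56, 733))) (.leaf (0, 0))) (.node (.leaf (0, 0)) (.leaf (56, 1180)))) (.node (.node (.leaf (0, 0)) (.leaf (0, 0))) (.node (.leaf (0, 0)) (.leaf (56, 1282)))))) (.node (.node (.node (.node (.node (.leaf (0, 0)) (.leaf (42, 144))) (.leaf (0, 0))) (.node (.leaf (0, 0)) (.leaf (55, 1327)))) (.node (.node (.leaf (0, 0)) (.leaf (56, 1422))) (.node (.leaf (0, 0)) (.leaf (52, 755))))) (.node (.node (.node (.leaf (3, 130)) (.leaf (3, 390))) (.node (.leaf (0, 0)) (.leaf (56, 1169)))) (.node (.node (.leaf (0, 0)) (.leaf (56, 1449))) (.node (.leaf (0, 0)) (.leaf (53, 441))))))) (.node (.node (.node (.node (.node (.node (.leaf (0, 0)) (.leaf (55, 1436))) (.leaf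 (15, 638))) (.node (.leaf (52, 1449)) (.leaf (1, 1047)))) (.node (.node (.leaf (52, 194)) (.leaf (30, 993))) (.node (.leaf (54, 284)) (.leaf (8, 1222))))) (.node (.node (.node (.node (.leaf (0, 0)) (.leaf (48, 1379))) (.leaf (54, 780))) (.node (.leaf (0, 0)) (.leaf (0, 0)))) (.node (.node (.leaf (0, 0)) (.leaf (55, 1352))) (.node (.leaf (56, 197)) (.leaf (53, 318)))))) (.node (.node (.node (.node (.node (.leaf (40, 325)) (.leaf (47, 1265))) (.leaf (56, 992))) (.node (.leaf (55, 775)) (.leaf (42, 1090)))) (.node (.node (.leaf (0, 0)) (.leaf (55, 1172))) (.node (.leaf (56, 578)) (.leaf (56, 1359))))) (.node (.node (.node (.leaf (55, 357)) (.leaf (55, 932))) (.node (.leaf (52, 1141)) (.leaf (54, 1195)))) (.node (.node (.leaf (26, 109)) (.leaf (48, 1135))) (.node (.leaf (0, 0)) (.leaf (49, 544))))))))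

def bigVia7 : Janko.Tree (ℕ × ℕ) :=
  (.node (.node (.node (.node (.node (.node (.node (.leaf (0, 0)) (.leaf (52, 530))) (.leaf (38, 736))) (.node (.leaf (0, 0)) (.leaf (56, 555)))) (.node (.node (.leaf (56, 679)) (.leaf (55, 100))) (.node (.leaf (0, 0)) (.leaf (55, 1197))))) (.node (.node (.node (.node (.leaf (55, 368)) (.leaf (41, 1453))) (.leaf (0, 0))) (.node (.leaf (42, 178)) (.leaf (0, 0)))) (.node (.node (.leaf (0, 0)) (.leaf (54, 941))) (.node (.leaf (0, 0)) (.leaf (49, 808)))))) (.node (.node (.node (.node (.node (.leaf (0, 0)) (.leaf (53, 1023))) (.leaf (55, 312))) (.node (.leaf (0, 0)) (.leaf (56, 1069)))) (.node (.node (.leaf (0, 0)) (.leaf (56, 453))) (.node (.leaf (0, 0)) (.leaf (9, 788))))) (.node (.node (.node (.leaf (0, 0)) (.leaf (48, 164))) (.node (.leaf (9, 917)) (.leaf (52, 729)))) (.node (.node (.leaf (21, 121)) (.leaf (50, 802))) (.node (.leaf (55, 290)) (.leaf (54, 1325))))))) (.node (.node (.node (.node (.node (.node (.leaf (0, 0)) (.leaf (38, 376)))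 (.leaf (56, 776))) (.node (.leaf (55, 365)) (.leaf (6, 335)))) (.node (.node (.leaf (0, 0)) (.leaf (54, 877))) (.node (.leaf (0, 0)) (.leaf (50, 1155))))) (.node (.node (.node (.node (.leaf (0, 130)) (.leaf (49, 69))) (.leaf (0, 0))) (.node (.leaf (0, 0)) (.leaf (56, 848)))) (.node (.node (.leaf (56, 1358)) (.leaf (55, 1422))) (.node (.leaf (0, 0)) (.leaf (55, 64)))))) (.node (.node (.node (.node (.node (.leaf (0, 0)) (.leaf (49, 1394))) (.leaf (56, 788))) (.node (.leaf (53, 144)) (.leaf (39, 462)))) (.node (.node (.leaf (56, 237)) (.leaf (55, 867))) (.node (.leaf (53, 241)) (.leaf (51, 1261))))) (.node (.node (.node (.leaf (51, 647)) (.leaf (55, 82))) (.node (.leaf (0, 0)) (.leaf (52, 1057)))) (.node (.node (.leaf (0, 0)) (.leaf (56, 1001))) (.node (.leaf (53, 584)) (.leaf (50, 1444))))))))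

def bigVia8 : Janko.Tree (ℕ × ℕ) :=
  (.node (.node (.node (.node (.node (.node (.node (.leaf (0, 0)) (.leaf (56, 447))) (.leaf (54, 704))) (.node (.leaf (55, 526)) (.leaf (0, 0)))) (.node (.node (.leaf (0, 0)) (.leaf (32, 856))) (.node (.leaf (17, 862)) (.leaf (32, 1282))))) (.node (.node (.node (.node (.leaf (56, 243)) (.leaf (54, 945))) (.leaf (48, 376))) (.node (.leaf (0, 0)) (.leaf (56, 1125)))) (.node (.node (.leaf (0, 0)) (.leaf (49, 953))) (.node (.leaf (56, 1267)) (.leaf (52, 1021)))))) (.node (.node (.node (.node (.node (.leaf (0, 0)) (.leaf (54, 51))) (.leaf (0, 0))) (.node (.leaf (55, 991)) (.leaf (51, 1329)))) (.node (.node (.leaf (3, 216)) (.leaf (56, 528))) (.node (.leaf (49, 584)) (.leaf (7, 747))))) (.node (.node (.node (.leaf (12, 116)) (.leaf (1, 1334))) (.node (.leaf (0, 0)) (.leaf (49, 130)))) (.node (.node (.leaf (0, 0)) (.leaf (56, 762))) (.node (.leaf (56, 949)) (.leaf (55, 561))))))) (.node (.node (.node (.node (.node (.node (.leaf (0, 0)) (.leaf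 (56, 1194))) (.leaf (55, 66))) (.node (.leaf (0, 0)) (.leaf (4, 1073)))) (.node (.node (.leaf (20, 215)) (.leaf (52, 1187))) (.node (.leaf (55, 536)) (.leaf (43, 268))))) (.node (.node (.node (.node (.leaf (0, 0)) (.leaf (50, 1016))) (.leaf (56, 1373))) (.node (.leaf (34, 94)) (.leaf (1, 1133)))) (.node (.node (.leaf (0, 0)) (.leaf (53, 812))) (.node (.leaf (49, 4)) (.leaf (42, 1304)))))) (.node (.node (.node (.node (.node (.leaf (0, 0)) (.leaf (53, 1114))) (.leaf (0, 0))) (.node (.leaf (0, 425)) (.leaf (53, 270)))) (.node (.node (.leaf (54, 1192)) (.leaf (55, 1402))) (.node (.leaf (24, 879)) (.leaf (44, 895))))) (.node (.node (.node (.leaf (8, 49)) (.leaf (0, 0))) (.node (.leaf (49, 771)) (.leaf (20, 687)))) (.node (.node (.leaf (18, 5)) (.leaf (55, 542))) (.node (.leaf (46, 664)) (.leaf (46, 1396))))))))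

def bigVia9 : Janko.Tree (ℕ × ℕ) :=
  (.node (.node (.node (.node (.node (.node (.node (.leaf (0, 0)) (.leaf (55, 1444))) (.leaf (48, 737))) (.node (.leaf (0, 0)) (.leaf (56, 1411)))) (.node (.node (.leaf (0, 0)) (.leaf (17, 752))) (.node (.leaf (55, 515)) (.leaf (51, 315))))) (.node (.node (.node (.node (.leaf (49, 43)) (.leaf (52, 837))) (.leaf (3, 688))) (.node (.leaf (0, 0)) (.leaf (51, 936)))) (.node (.node (.leaf (56, 634)) (.leaf (55, 1311))) (.node (.leaf (1, 600)) (.leaf (55, 1283)))))) (.node (.node (.node (.node (.node (.leaf (0, 0)) (.leaf (49, 1439))) (.leaf (0, 0))) (.node (.leaf (56, 991)) (.leaf (30, 339)))) (.node (.node (.leaf (0, 0)) (.leaf (54, 899))) (.node (.leaf (55, 637)) (.leaf (56, 747))))) (.node (.node (.node (.leaf (0, 0)) (.leaf (46, 787))) (.node (.leaf (0, 0)) (.leaf (0, 0)))) (.node (.node (.leaf (25, 46)) (.leaf (48, 244))) (.node (.leaf (0, 0)) (.leaf (55, 1388))))))) (.node (.node (.node (.node (.node (.node (.leaf (0, 0)) (.leaf (55,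 1376))) (.leaf (55, 707))) (.node (.leaf (55, 1285)) (.leaf (55, 562)))) (.node (.node (.leaf (0, 0)) (.leaf (54, 787))) (.node (.leaf (43, 94)) (.leaf (55, 1219))))) (.node (.node (.node (.node (.leaf (25, 45)) (.leaf (51, 195))) (.leaf (0, 0))) (.node (.leaf (52, 77)) (.leaf (54, 448)))) (.node (.node (.leaf (0, 0)) (.leaf (54, 963))) (.node (.leaf (0, 0)) (.leaf (55, 1333)))))) (.node (.node (.node (.node (.node (.leaf (0, 0)) (.leaf (52, 1024))) (.leaf (55, 697))) (.node (.leaf (26, 40)) (.leaf (55, 284)))) (.node (.node (.leaf (54, 518)) (.leaf (56, 1259))) (.node (.leaf (56, 1271)) (.leaf (52, 112))))) (.node (.node (.node (.leaf (0, 0)) (.leaf (56, 1254))) (.node (.leaf (0, 0)) (.leaf (55, 1087)))) (.node (.node (.leaf (0, 0)) (.leaf (55, 278))) (.node (.leaf (54, 637)) (.leaf (8, 539))))))))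

def bigVia10 : Janko.Tree (ℕ × ℕ) :=
  (.node (.node (.node (.node (.node (.node (.node (.leaf (0, 0)) (.leaf (56, 738))) (.leaf (55, 1322))) (.node (.leaf (0, 0)) (.leaf (55, 1351)))) (.node (.node (.leaf (7, 191)) (.leaf (56, 1150))) (.node (.leaf (0, 0)) (.leaf (56, 1198))))) (.node (.node (.node (.node (.leaf (0, 0)) (.leaf (55, 1454))) (.leaf (53, 1443))) (.node (.leaf (51, 430)) (.leaf (0, 0)))) (.node (.node (.leaf (5, 130)) (.leaf (56, 942))) (.node (.leaf (56, 1250)) (.leaf (49, 984)))))) (.node (.node (.node (.node (.node (.leaf (24, 46)) (.leaf (49, 1296))) (.leaf (52, 51))) (.node (.leaf (55, 9)) (.leaf (56, 1070)))) (.node (.node (.leaf (9, 913)) (.leaf (56, 1349))) (.node (.leaf (56, 1116)) (.leaf (55, 612))))) (.node (.node (.node (.leaf (0, 0)) (.leaf (56, 912))) (.node (.leaf (55, 98)) (.leaf (49, 675)))) (.node (.node (.leaf (10, 302)) (.leaf (56, 499))) (.node (.leaf (0, 0)) (.leaf (56, 1326))))))) (.node (.node (.node (.node (.node (.node (.leaf (0,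 0)) (.leaf (56, 1436))) (.leaf (43, 304))) (.node (.leaf (48, 176)) (.leaf (12, 1073)))) (.node (.node (.leaf (0, 0)) (.leaf (20, 878))) (.node (.leaf (53, 956)) (.leaf (47, 1347))))) (.node (.node (.node (.node (.leaf (0, 0)) (.leaf (52, 339))) (.leaf (0, 0))) (.node (.leaf (0, 0)) (.leaf (51, 1134)))) (.node (.node (.leaf (0, 0)) (.leaf (49, 417))) (.node (.leaf (51, 1268)) (.leaf (54, 964)))))) (.node (.node (.node (.node (.node (.leaf (0, 0)) (.leaf (52, 1457))) (.leaf (56, 750))) (.node (.leaf (25, 228)) (.leaf (37, 637)))) (.node (.node (.leaf (56, 844)) (.leaf (51, 1024))) (.node (.leaf (0, 0)) (.leaf (36, 783))))) (.node (.node (.node (.leaf (25, 125)) (.leaf (0, 0))) (.node (.leaf (19, 494)) (.leaf (53, 1101)))) (.node (.node (.leaf (0, 0)) (.leaf (0, 0))) (.node (.leaf (53, 1038)) (.leaf (42, 601))))))))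

def bigVia11 : Janko.Tree (ℕ × ℕ) :=
  (.node (.node (.node (.node (.node (.node (.node (.leaf (0, 0)) (.leaf (56, 1377))) (.leaf (54, 556))) (.node (.leaf (0, 0)) (.leaf (49, 917)))) (.node (.node (.leaf (0, 0)) (.leaf (0, 0))) (.node (.leaf (54, 609)) (.leaf (56, 917))))) (.node (.node (.node (.node (.leaf (3, 30)) (.leaf (55, 386))) (.leaf (51, 1222))) (.node (.leaf (0, 0)) (.leaf (56, 734)))) (.node (.node (.leaf (3, 34)) (.leaf (53, 954))) (.node (.leaf (41, 603)) (.leaf (48, 471)))))) (.node (.node (.node (.node (.node (.leaf (0, 0)) (.leaf (55, 1173))) (.leaf (54, 927))) (.node (.leaf (0, 0)) (.leaf (56, 706)))) (.node (.node (.leaf (0, 0)) (.leaf (0, 0))) (.node (.leaf (0, 0)) (.leaf (10, 1241))))) (.node (.node (.node (.leaf (0, 0)) (.leaf (0, 0))) (.node (.leaf (0, 0)) (.leaf (49, 352)))) (.node (.node (.leaf (24, 1)) (.leaf (18, 227))) (.node (.leaf (0, 0)) (.leaf (43, 1243))))))) (.node (.node (.node (.node (.node (.node (.leaf (0, 0)) (.leaf (52, 1277))) (.leaf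 (0, 0))) (.node (.leaf (48, 913)) (.leaf (55, 1049)))) (.node (.node (.leaf (48, 1154)) (.leaf (52, 437))) (.node (.leaf (55, 537)) (.leaf (54, 1029))))) (.node (.node (.node (.node (.leaf (0, 0)) (.leaf (53, 145))) (.leaf (0, 0))) (.node (.leaf (0, 0)) (.leaf (42, 53)))) (.node (.node (.leaf (0, 0)) (.leaf (54, 250))) (.node (.leaf (0, 0)) (.leaf (56, 436)))))) (.node (.node (.node (.node (.node (.leaf (0, 0)) (.leaf (55, 1433))) (.leaf (0, 0))) (.node (.leaf (56, 835)) (.leaf (56, 1285)))) (.node (.node (.leaf (0, 0)) (.leaf (56, 1171))) (.node (.leaf (31, 10)) (.leaf (55, 388))))) (.node (.node (.node (.leaf (0, 0)) (.leaf (54, 81))) (.node (.leaf (0, 0)) (.leaf (39, 639)))) (.node (.node (.leaf (0, 0)) (.leaf (53, 1013))) (.node (.leaf (56, 329)) (.leaf (54, 967))))))))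

def bigVia12 : Janko.Tree (ℕ × ℕ) :=
  (.node (.node (.node (.node (.node (.node (.node (.leaf (0, 0)) (.leaf (55, 564))) (.leaf (0, 0))) (.node (.leaf (0, 0)) (.leaf (0, 0)))) (.node (.node (.leaf (0, 0)) (.leaf (0, 0))) (.node (.leaf (55, 516)) (.leaf (42, 744))))) (.node (.node (.node (.node (.leaf (0, 0)) (.leaf (51, 440))) (.leaf (35, 55))) (.node (.leaf (55, 99)) (.leaf (52, 306)))) (.node (.node (.leaf (20, 97)) (.leaf (54, 202))) (.node (.leaf (52, 326)) (.leaf (49, 1408)))))) (.node (.node (.node (.node (.node (.leaf (0, 0)) (.leaf (33, 1412))) (.leaf (55, 1195))) (.node (.leaf (56, 1299)) (.leaf (44, 264)))) (.node (.node (.leaf (0, 0)) (.leaf (0, 0))) (.node (.leaf (12, 1166)) (.leaf (55, 771))))) (.node (.node (.node (.leaf (46, 132)) (.leaf (55, 199))) (.node (.leaf (49, 1040)) (.leaf (3, 1156)))) (.node (.node (.leaf (25, 291)) (.leaf (0, 0))) (.node (.leaf (50, 644)) (.leaf (54, 385))))))) (.node (.node (.node (.node (.node (.node (.leaf (0, 0)) (.leaf (56,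 1165))) (.leaf (0, 0))) (.node (.leaf (56, 71)) (.leaf (49, 909)))) (.node (.node (.leaf (0, 0)) (.leaf (56, 1224))) (.node (.leaf (49, 94)) (.leaf (44, 1220))))) (.node (.node (.node (.node (.leaf (0, 0)) (.leaf (54, 312))) (.leaf (55, 1189))) (.node (.leaf (48, 72)) (.leaf (55, 1077)))) (.node (.node (.leaf (51, 174)) (.leaf (41, 1184))) (.node (.leaf (46, 1328)) (.leaf (41, 1449)))))) (.node (.node (.node (.node (.node (.leaf (55, 401)) (.leaf (55, 1149))) (.leaf (7, 346))) (.node (.leaf (0, 0)) (.leaf (56, 1092)))) (.node (.node (.leaf (35, 131)) (.leaf (49, 195))) (.node (.leaf (55, 580)) (.leaf (56, 718))))) (.node (.node (.node (.leaf (0, 0)) (.leaf (48, 277))) (.node (.leaf (12, 1347)) (.leaf (23, 444)))) (.node (.node (.leaf (56, 314)) (.leaf (0, 0))) (.node (.leaf (52, 300)) (.leaf (55, 1348))))))))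

def bigVia13 : Janko.Tree (ℕ × ℕ) :=
  (.node (.node (.node (.node (.node (.node (.node (.leaf (0, 0)) (.leaf (51, 264))) (.leaf (0, 0))) (.node (.leaf (0, 0)) (.leaf (55, 1276)))) (.node (.node (.leaf (0, 0)) (.leaf (44, 885))) (.node (.leaf (0, 0)) (.leaf (55, 1199))))) (.node (.node (.node (.node (.leaf (6, 189)) (.leaf (56, 1455))) (.leaf (55, 790))) (.node (.leaf (0, 0)) (.leaf (55, 1347)))) (.node (.node (.leaf (0, 0)) (.leaf (50, 1401))) (.node (.leaf (0, 0)) (.leaf (51, 61)))))) (.node (.node (.node (.node (.node (.leaf (0, 0)) (.leaf (51, 163))) (.leaf (0, 0))) (.node (.leaf (56, 161)) (.leaf (47, 1401)))) (.node (.node (.leaf (54, 380)) (.leaf (0, 0))) (.node (.leaf (55, 559)) (.leaf (25, 106))))) (.node (.node (.node (.leaf (0, 0)) (.leaf (12, 852))) (.node (.leaf (55, 1004)) (.leaf (54, 914)))) (.node (.node (.leaf (42, 377)) (.leaf (0, 0))) (.node (.leaf (55, 1068)) (.leaf (47, 1327))))))) (.node (.node (.node (.node (.node (.node (.leaf (0, 0)) (.leaf (56,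 1407))) (.leaf (0, 0))) (.node (.leaf (0, 0)) (.leaf (55, 738)))) (.node (.node (.leaf (0, 0)) (.leaf (52, 879))) (.node (.leaf (0, 0)) (.leaf (56, 1406))))) (.node (.node (.node (.node (.leaf (20, 41)) (.leaf (55, 157))) (.leaf (55, 281))) (.node (.leaf (0, 0)) (.leaf (56, 1376)))) (.node (.node (.leaf (0, 0)) (.leaf (55, 503))) (.node (.leaf (56, 1175)) (.leaf (52, 282)))))) (.node (.node (.node (.node (.node (.leaf (0, 0)) (.leaf (51, 313))) (.leaf (17, 751))) (.node (.leaf (54, 992)) (.leaf (55, 1046)))) (.node (.node (.leaf (0, 0)) (.leaf (12, 47))) (.node (.leaf (0, 0)) (.leaf (55, 57))))) (.node (.node (.node (.leaf (0, 0)) (.leaf (42, 172))) (.node (.leaf (0, 0)) (.leaf (52, 277)))) (.node (.node (.leaf (29, 38)) (.leaf (55, 1007))) (.node (.leaf (55, 1123)) (.leaf (29, 1433))))))))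

def bigVia14 : Janko.Tree (ℕ × ℕ) :=
  (.node (.node (.node (.node (.node (.node (.node (.leaf (0, 0)) (.leaf (56, 1323))) (.leaf (0, 0))) (.node (.leaf (0, 0)) (.leaf (0, 0)))) (.node (.node (.leaf (0, 0)) (.leaf (36, 1255))) (.node (.leaf (56, 1413)) (.leaf (56, 855))))) (.node (.node (.node (.node (.leaf (0, 0)) (.leaf (51, 825))) (.leaf (56, 702))) (.node (.leaf (0, 0)) (.leaf (55, 1114)))) (.node (.node (.leaf (25, 130)) (.leaf (55, 1023))) (.node (.leaf (0, 0)) (.leaf (49, 747)))))) (.node (.node (.node (.node (.node (.leaf (0, 0)) (.leaf (51, 455))) (.leaf (10, 740))) (.node (.leaf (56, 783)) (.leaf (50, 958)))) (.node (.node (.leaf (56, 273)) (.leaf (48, 620))) (.node (.leaf (55, 1124)) (.leaf (43, 429))))) (.node (.node (.node (.leaf (53, 10)) (.leaf (32, 981))) (.node (.leaf (56, 1141)) (.leaf (52, 313)))) (.node (.node (.leaf (48, 398)) (.leaf (55, 986))) (.node (.leaf (0, 0)) (.leaf (1, 1327))))))) (.node (.node (.node (.node (.node (.node (.leaf (0, 0)) (.leaf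 (55, 1438))) (.leaf (52, 87))) (.node (.leaf (0, 0)) (.leaf (10, 572)))) (.node (.node (.leaf (54, 1445)) (.leaf (0, 0))) (.node (.leaf (46, 1024)) (.leaf (48, 1403))))) (.node (.node (.node (.node (.leaf (0, 0)) (.leaf (56, 420))) (.leaf (0, 0))) (.node (.leaf (0, 0)) (.leaf (56, 1344)))) (.node (.node (.leaf (0, 0)) (.leaf (54, 1098))) (.node (.leaf (1, 1075)) (.leaf (42, 599)))))) (.node (.node (.node (.node (.node (.leaf (3, 527)) (.leaf (3, 1434))) (.leaf (1, 751))) (.node (.leaf (51, 631)) (.leaf (42, 37)))) (.node (.node (.leaf (0, 0)) (.leaf (56, 1088))) (.node (.leaf (48, 587)) (.leaf (51, 653))))) (.node (.node (.node (.leaf (19, 154)) (.leaf (56, 1104))) (.node (.leaf (0, 0)) (.leaf (56, 785)))) (.node (.node (.leaf (25, 53)) (.leaf (55, 798))) (.node (.leaf (46, 666)) (.leaf (55, 1232))))))))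

def bigVia15 : Janko.Tree (ℕ × ℕ) :=
  (.node (.node (.node (.node (.node (.node (.node (.leaf (0, 0)) (.leaf (37, 524))) (.leaf (0, 0))) (.node (.leaf (50, 1235)) (.leaf (56, 1220)))) (.node (.node (.leaf (0, 0)) (.leaf (16, 885))) (.node (.leaf (55, 566)) (.leaf (55, 297))))) (.node (.node (.node (.node (.leaf (0, 0)) (.leaf (42, 968))) (.leaf (43, 367))) (.node (.leaf (0, 0)) (.leaf (55, 966)))) (.node (.node (.leaf (0, 0)) (.leaf (9, 539))) (.node (.leaf (55, 351)) (.leaf (55, 144)))))) (.node (.node (.node (.node (.node (.leaf (0, 0)) (.leaf (48, 623))) (.leaf (51, 39))) (.node (.leaf (36, 284)) (.leaf (55, 1455)))) (.node (.node (.leaf (0, 0)) (.leaf (56, 515))) (.node (.leaf (55, 947)) (.leaf (49, 1447))))) (.node (.node (.node (.leaf (0, 0)) (.leaf (0, 0))) (.node (.leaf (55, 926)) (.leaf (55, 1157)))) (.node (.node (.leaf (40, 321)) (.leaf (43, 101))) (.node (.leaf (39, 1074)) (.leaf (10, 584))))))) (.node (.node (.node (.node (.node (.node (.leaf (0, 0)) (.leaf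 (54, 1220))) (.leaf (56, 1168))) (.node (.leaf (56, 1429)) (.leaf (56, 662)))) (.node (.node (.leaf (23, 197)) (.leaf (55, 910))) (.node (.leaf (0, 0)) (.leaf (42, 1221))))) (.node (.node (.node (.leaf (20, 129)) (.leaf (0, 0))) (.node (.leaf (0, 0)) (.leaf (51, 392)))) (.node (.node (.leaf (15, 390)) (.leaf (0, 0))) (.node (.leaf (0, 0)) (.leaf (55, 1448)))))) (.node (.node (.node (.node (.node (.leaf (0, 0)) (.leaf (56, 1156))) (.leaf (56, 697))) (.node (.leaf (0, 0)) (.leaf (49, 1093)))) (.node (.node (.leaf (48, 125)) (.leaf (56, 467))) (.node (.leaf (46, 581)) (.leaf (55, 134))))) (.node (.node (.node (.leaf (0, 0)) (.leaf (56, 1304))) (.node (.leaf (55, 723)) (.leaf (53, 740)))) (.node (.node (.leaf (42, 325)) (.leaf (53, 761))) (.node (.leaf (49, 29)) (.leaf (56, 1330))))))))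

def bigVia16 : Janko.Tree (ℕ × ℕ) :=
  (.node (.node (.node (.node (.node (.node (.node (.leaf (0, 0)) (.leaf (56, 1391))) (.leaf (38, 315))) (.node (.leaf (0, 0)) (.leaf (25, 247)))) (.node (.node (.leaf (21, 85)) (.leaf (54, 990))) (.node (.leaf (53, 1254)) (.leaf (56, 1200))))) (.node (.node (.node (.node (.leaf (0, 0)) (.leaf (55, 753))) (.leaf (0, 0))) (.node (.leaf (0, 0)) (.leaf (56, 708)))) (.node (.node (.leaf (0, 0)) (.leaf (56, 1067))) (.node (.leaf (0, 0)) (.leaf (54, 39)))))) (.node (.node (.node (.node (.node (.leaf (24, 48)) (.leaf (55, 1190))) (.leaf (0, 0))) (.node (.leaf (55, 682)) (.leaf (49, 1441)))) (.node (.node (.leaf (56, 229)) (.leaf (1, 901))) (.node (.leaf (56, 560)) (.leaf (53, 440))))) (.node (.node (.node (.leaf (0, 0)) (.leaf (56, 816))) (.node (.leaf (0, 0)) (.leaf (54, 251)))) (.node (.node (.leaf (56, 304)) (.leaf (53, 254))) (.node (.leaf (0, 0)) (.leaf (16, 1328))))))) (.node (.node (.node (.node (.node (.node (.leaf (0, 0)) (.leaf (56,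 1382))) (.leaf (55, 907))) (.node (.leaf (0, 0)) (.leaf (46, 590)))) (.node (.node (.leaf (0, 0)) (.leaf (56, 1089))) (.node (.leaf (0, 0)) (.leaf (44, 1196))))) (.node (.node (.node (.leaf (0, 0)) (.leaf (0, 0))) (.node (.leaf (0, 0)) (.leaf (49, 1125)))) (.node (.node (.leaf (0, 0)) (.leaf (22, 956))) (.node (.leaf (4, 1328)) (.leaf (53, 738)))))) (.node (.node (.node (.node (.node (.leaf (0, 0)) (.leaf (55, 1394))) (.leaf (4, 788))) (.node (.leaf (56, 763)) (.leaf (0, 0)))) (.node (.node (.leaf (0, 0)) (.leaf (48, 727))) (.node (.leaf (55, 654)) (.leaf (42, 791))))) (.node (.node (.node (.leaf (24, 605)) (.leaf (51, 504))) (.node (.leaf (55, 496)) (.leaf (56, 350)))) (.node (.node (.leaf (0, 0)) (.leaf (0, 0))) (.node (.leaf (54, 573)) (.leaf (21, 539))))))))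

def bigVia17 : Janko.Tree (ℕ × ℕ) :=
  (.node (.node (.node (.node (.node (.node (.node (.leaf (0, 0)) (.leaf (48, 1013))) (.leaf (0, 0))) (.node (.leaf (55, 347)) (.leaf (3, 586)))) (.node (.node (.leaf (0, 0)) (.leaf (56, 998))) (.node (.leaf (0, 0)) (.leaf (52, 1342))))) (.node (.node (.node (.node (.leaf (3, 91)) (.leaf (56, 1425))) (.leaf (55, 560))) (.node (.leaf (0, 0)) (.leaf (43, 1115)))) (.node (.node (.leaf (0, 0)) (.leaf (55, 1282))) (.node (.leaf (29, 603)) (.leaf (56, 853)))))) (.node (.node (.node (.node (.node (.leaf (0, 0)) (.leaf (48, 1175))) (.leaf (51, 1223))) (.node (.leaf (0, 0)) (.leaf (1, 1072)))) (.node (.node (.leaf (0, 0)) (.leaf (10, 308))) (.node (.leaf (0, 0)) (.leaf (56, 962))))) (.node (.node (.node (.leaf (0, 0)) (.leaf (55, 8))) (.node (.leaf (20, 199)) (.leaf (48, 120)))) (.node (.node (.leaf (56, 700)) (.leaf (0, 0))) (.node (.leaf (0, 0)) (.leaf (55, 895))))))) (.node (.node (.node (.node (.node (.node (.leaf (0, 0)) (.leaf (55, 676)))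 (.leaf (52, 711))) (.node (.leaf (55, 592)) (.leaf (0, 0)))) (.node (.node (.leaf (0, 0)) (.leaf (50, 863))) (.node (.leaf (16, 539)) (.leaf (43, 314))))) (.node (.node (.node (.leaf (0, 0)) (.leaf (48, 912))) (.node (.leaf (0, 0)) (.leaf (55, 1320)))) (.node (.node (.leaf (44, 764)) (.leaf (0, 0))) (.node (.leaf (54, 229)) (.leaf (55, 1307)))))) (.node (.node (.node (.node (.node (.leaf (0, 0)) (.leaf (15, 1395))) (.leaf (23, 341))) (.node (.leaf (0, 0)) (.leaf (54, 1337)))) (.node (.node (.leaf (0, 0)) (.leaf (56, 1421))) (.node (.leaf (0, 0)) (.leaf (39, 572))))) (.node (.node (.node (.leaf (45, 1222)) (.leaf (0, 0))) (.node (.leaf (0, 0)) (.leaf (0, 0)))) (.node (.node (.leaf (0, 0)) (.leaf (55, 43))) (.node (.leaf (51, 500)) (.leaf (12, 493))))))))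

def bigVia18 : Janko.Tree (ℕ × ℕ) :=
  (.node (.node (.node (.node (.node (.node (.node (.leaf (0, 0)) (.leaf (54, 370))) (.leaf (0, 0))) (.node (.leaf (1, 347)) (.leaf (56, 1229)))) (.node (.node (.leaf (0, 0)) (.leaf (55, 352))) (.node (.leaf (55, 518)) (.leaf (0, 0))))) (.node (.node (.node (.node (.leaf (0, 0)) (.leaf (54, 850))) (.leaf (35, 936))) (.node (.leaf (0, 0)) (.leaf (55, 270)))) (.node (.node (.leaf (19, 262)) (.leaf (46, 945))) (.node (.leaf (0, 0)) (.leaf (56, 1005)))))) (.node (.node (.node (.node (.node (.leaf (0, 0)) (.leaf (56, 1414))) (.leaf (0, 0))) (.node (.leaf (0, 0)) (.leaf (54, 1260)))) (.node (.node (.leaf (0, 0)) (.leaf (56, 902))) (.node (.leaf (0, 0)) (.leaf (49, 1060))))) (.node (.node (.node (.leaf (52, 134)) (.leaf (49, 896))) (.node (.leaf (13, 484)) (.leaf (53, 1158)))) (.node (.node (.leaf (56, 678)) (.leaf (51, 735))) (.node (.leaf (0, 0)) (.leaf (19, 852))))))) (.node (.node (.node (.node (.node (.node (.leaf (0, 0)) (.leaf (56, 667)))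 (.leaf (0, 0))) (.node (.leaf (0, 0)) (.leaf (55, 975)))) (.node (.node (.leaf (0, 0)) (.leaf (48, 1231))) (.node (.leaf (55, 814)) (.leaf (3, 1222))))) (.node (.node (.node (.leaf (0, 0)) (.leaf (54, 303))) (.node (.leaf (56, 1351)) (.leaf (17, 1125)))) (.node (.node (.leaf (0, 0)) (.leaf (56, 924))) (.node (.leaf (0, 0)) (.leaf (49, 535)))))) (.node (.node (.node (.node (.node (.leaf (0, 0)) (.leaf (49, 1155))) (.leaf (10, 346))) (.node (.leaf (0, 0)) (.leaf (56, 826)))) (.node (.node (.leaf (0, 0)) (.leaf (49, 1129))) (.node (.leaf (0, 0)) (.leaf (46, 684))))) (.node (.node (.node (.leaf (0, 0)) (.leaf (56, 1181))) (.node (.leaf (48, 27)) (.leaf (56, 1052)))) (.node (.node (.leaf (8, 326)) (.leaf (20, 96))) (.node (.leaf (0, 0)) (.leaf (49, 1350))))))))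

def bigVia19 : Janko.Tree (ℕ × ℕ) :=
  (.node (.node (.node (.node (.node (.node (.node (.leaf (0, 0)) (.leaf (51, 865))) (.leaf (30, 1286))) (.node (.leaf (50, 788)) (.leaf (48, 557)))) (.node (.node (.leaf (0, 0)) (.leaf (55, 747))) (.node (.leaf (54, 71)) (.leaf (20, 714))))) (.node (.node (.node (.node (.leaf (24, 420)) (.leaf (49, 1457))) (.leaf (52, 1393))) (.node (.leaf (55, 433)) (.leaf (43, 401)))) (.node (.node (.leaf (0, 0)) (.leaf (20, 484))) (.node (.leaf (53, 772)) (.leaf (54, 348)))))) (.node (.node (.node (.node (.node (.leaf (0, 0)) (.leaf (56, 1096))) (.leaf (0, 0))) (.node (.leaf (0, 0)) (.leaf (16, 1073)))) (.node (.node (.leaf (0, 0)) (.leaf (55, 1076))) (.node (.leaf (0, 0)) (.leaf (50, 1227))))) (.node (.node (.node (.leaf (0, 0)) (.leaf (56, 817))) (.node (.leaf (56, 398)) (.leaf (52, 241)))) (.node (.node (.leaf (21, 123)) (.leaf (0, 0))) (.node (.leaf (0, 0)) (.leaf (56, 1381))))))) (.node (.node (.node (.node (.node (.node (.leaf (0, 0)) (.leaf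 (56, 1257))) (.leaf (0, 0))) (.node (.leaf (15, 326)) (.leaf (0, 0)))) (.node (.node (.leaf (0, 0)) (.leaf (42, 439))) (.node (.leaf (44, 1347)) (.leaf (55, 107))))) (.node (.node (.node (.leaf (0, 0)) (.leaf (0, 0))) (.node (.leaf (0, 0)) (.leaf (48, 274)))) (.node (.node (.leaf (0, 0)) (.leaf (0, 0))) (.node (.leaf (37, 950)) (.leaf (55, 1431)))))) (.node (.node (.node (.node (.node (.leaf (0, 0)) (.leaf (56, 1383))) (.leaf (42, 271))) (.node (.leaf (0, 0)) (.leaf (55, 355)))) (.node (.node (.leaf (0, 0)) (.leaf (55, 1453))) (.node (.leaf (53, 36)) (.leaf (56, 1120))))) (.node (.node (.node (.leaf (20, 168)) (.leaf (54, 426))) (.node (.leaf (0, 0)) (.leaf (55, 1302)))) (.node (.node (.leaf (0, 0)) (.leaf (56, 862))) (.node (.leaf (24, 1429)) (.leaf (55, 998))))))))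

def bigVia20 : Janko.Tree (ℕ × ℕ) :=
  (.node (.node (.node (.node (.node (.node (.node (.leaf (0, 0)) (.leaf (50, 1372))) (.leaf (56, 1286))) (.node (.leaf (0, 0)) (.leaf (49, 1427)))) (.node (.node (.leaf (0, 0)) (.leaf (56, 1305))) (.node (.leaf (54, 305)) (.leaf (56, 714))))) (.node (.node (.node (.node (.leaf (0, 0)) (.leaf (54, 1165))) (.leaf (0, 0))) (.node (.leaf (49, 7)) (.leaf (55, 1116)))) (.node (.node (.leaf (10, 123)) (.leaf (50, 593))) (.node (.leaf (0, 0)) (.leaf (55, 348)))))) (.node (.node (.node (.node (.node (.leaf (0, 0)) (.leaf (56, 1124))) (.leaf (12, 1218))) (.node (.leaf (0, 0)) (.leaf (44, 1146)))) (.node (.node (.leaf (0, 0)) (.leaf (56, 867))) (.node (.leaf (55, 1146)) (.leaf (56, 1213))))) (.node (.node (.node (.leaf (4, 361)) (.leaf (42, 321))) (.node (.leaf (3, 476)) (.leaf (49, 936)))) (.node (.node (.leaf (0, 0)) (.leaf (56, 1308))) (.node (.leaf (0, 0)) (.leaf (50, 1238))))))) (.node (.node (.node (.node (.node (.node (.leaf (0, 0)) (.leaf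 (51, 1036))) (.leaf (10, 604))) (.node (.leaf (55, 153)) (.leaf (56, 1236)))) (.node (.node (.leaf (0, 0)) (.leaf (55, 1295))) (.node (.leaf (51, 683)) (.leaf (10, 739))))) (.node (.node (.node (.leaf (0, 0)) (.leaf (48, 796))) (.node (.leaf (0, 0)) (.leaf (24, 14)))) (.node (.node (.leaf (0, 0)) (.leaf (52, 1432))) (.node (.leaf (56, 1347)) (.leaf (55, 1308)))))) (.node (.node (.node (.node (.node (.leaf (0, 0)) (.leaf (52, 823))) (.leaf (52, 637))) (.node (.leaf (56, 1188)) (.leaf (46, 1260)))) (.node (.node (.leaf (43, 62)) (.leaf (46, 804))) (.node (.leaf (56, 1294)) (.leaf (54, 1104))))) (.node (.node (.node (.leaf (0, 0)) (.leaf (0, 0))) (.node (.leaf (0, 0)) (.leaf (56, 1291)))) (.node (.node (.leaf (56, 605)) (.leaf (52, 289))) (.node (.leaf (56, 393)) (.leaf (54, 641))))))))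

def bigVia21 : Janko.Tree (ℕ × ℕ) :=
  (.node (.node (.node (.node (.node (.node (.node (.leaf (0, 0)) (.leaf (55, 748))) (.leaf (53, 184))) (.node (.leaf (42, 386)) (.leaf (23, 1031)))) (.node (.node (.leaf (0, 0)) (.leaf (56, 1408))) (.node (.leaf (55, 952)) (.leaf (56, 216))))) (.node (.node (.node (.node (.leaf (0, 0)) (.leaf (56, 1024))) (.leaf (48, 238))) (.node (.leaf (0, 0)) (.leaf (55, 633)))) (.node (.node (.leaf (56, 263)) (.leaf (51, 1150))) (.node (.leaf (56, 1136)) (.leaf (56, 1364)))))) (.node (.node (.node (.node (.node (.leaf (0, 0)) (.leaf (55, 890))) (.leaf (0, 0))) (.node (.leaf (56, 641)) (.leaf (55, 1152)))) (.node (.node (.leaf (55, 272)) (.leaf (42, 903))) (.node (.leaf (48, 1300)) (.leaf (36, 752))))) (.node (.node (.node (.leaf (0, 0)) (.leaf (0, 0))) (.node (.leaf (0, 0)) (.leaf (0, 0)))) (.node (.node (.leaf (56, 257)) (.leaf (55, 861))) (.node (.leaf (55, 29)) (.leaf (55, 722))))))) (.node (.node (.node (.node (.node (.node (.leaf (0, 0)) (.leaf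 (56, 1338))) (.leaf (29, 329))) (.node (.leaf (5, 361)) (.leaf (32, 312)))) (.node (.node (.leaf (0, 0)) (.leaf (55, 1382))) (.node (.leaf (51, 1238)) (.leaf (56, 801))))) (.node (.node (.node (.leaf (0, 0)) (.leaf (56, 891))) (.node (.leaf (16, 455)) (.leaf (3, 306)))) (.node (.node (.leaf (43, 174)) (.leaf (49, 976))) (.node (.leaf (48, 842)) (.leaf (52, 535)))))) (.node (.node (.node (.node (.node (.leaf (18, 71)) (.leaf (55, 1159))) (.leaf (53, 1413))) (.node (.leaf (55, 93)) (.leaf (0, 0)))) (.node (.node (.leaf (0, 0)) (.leaf (0, 0))) (.node (.leaf (56, 583)) (.leaf (55, 1047))))) (.node (.node (.node (.leaf (0, 0)) (.leaf (47, 839))) (.node (.leaf (0, 0)) (.leaf (52, 1408)))) (.node (.node (.leaf (55, 327)) (.leaf (52, 1018))) (.node (.leaf (0, 0)) (.leaf (56, 1327))))))))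

def bigVia22 : Janko.Tree (ℕ × ℕ) :=
  (.node (.node (.node (.node (.node (.node (.node (.leaf (0, 0)) (.leaf (25, 23))) (.leaf (41, 133))) (.node (.leaf (0, 0)) (.leaf (51, 1141)))) (.node (.node (.leaf (0, 0)) (.leaf (54, 1247))) (.node (.leaf (0, 0)) (.leaf (48, 138))))) (.node (.node (.node (.node (.leaf (19, 49)) (.leaf (0, 0))) (.leaf (52, 1009))) (.node (.leaf (0, 0)) (.leaf (56, 1066)))) (.node (.node (.leaf (0, 0)) (.leaf (10, 945))) (.node (.leaf (48, 1217)) (.leaf (55, 822)))))) (.node (.node (.node (.node (.node (.leaf (0, 0)) (.leaf (52, 831))) (.leaf (0, 0))) (.node (.leaf (0, 0)) (.leaf (41, 1074)))) (.node (.node (.leaf (54, 9)) (.leaf (55, 930))) (.node (.leaf (20, 250)) (.leaf (55, 1060))))) (.node (.node (.node (.leaf (0, 0)) (.leaf (55, 818))) (.node (.leaf (48, 1347)) (.leaf (55, 1287)))) (.node (.node (.leaf (0, 0)) (.leaf (55, 1389))) (.node (.leaf (0, 0)) (.leaf (55, 1330))))))) (.node (.node (.node (.node (.node (.node (.leaf (0, 0)) (.leaf (49,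 355))) (.leaf (48, 329))) (.node (.leaf (0, 0)) (.leaf (3, 711)))) (.node (.node (.leaf (54, 32)) (.leaf (55, 882))) (.node (.leaf (53, 95)) (.leaf (49, 1059))))) (.node (.node (.node (.leaf (20, 48)) (.leaf (18, 20))) (.node (.leaf (54, 930)) (.leaf (54, 1175)))) (.node (.node (.leaf (0, 0)) (.leaf (55, 804))) (.node (.leaf (56, 798)) (.leaf (56, 987)))))) (.node (.node (.node (.node (.node (.leaf (0, 0)) (.leaf (56, 360))) (.leaf (56, 1117))) (.node (.leaf (55, 462)) (.leaf (0, 0)))) (.node (.node (.leaf (0, 0)) (.leaf (21, 965))) (.node (.leaf (42, 282)) (.leaf (56, 1266))))) (.node (.node (.node (.leaf (0, 0)) (.leaf (55, 1008))) (.node (.leaf (0, 0)) (.leaf (51, 1087)))) (.node (.node (.leaf (0, 0)) (.leaf (0, 0))) (.node (.leaf (54, 263)) (.leaf (55, 949))))))))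

def bigVia23 : Janko.Tree (ℕ × ℕ) :=
  (.node (.node (.node (.node (.node (.node (.node (.leaf (0, 0)) (.leaf (56, 1235))) (.leaf (42, 616))) (.node (.leaf (0, 0)) (.leaf (55, 1141)))) (.node (.node (.leaf (0, 0)) (.leaf (37, 862))) (.node (.leaf (0, 0)) (.leaf (31, 361))))) (.node (.node (.node (.node (.leaf (56, 1091)) (.leaf (1, 0))) (.leaf (56, 707))) (.node (.leaf (0, 0)) (.leaf (40, 960)))) (.node (.node (.leaf (48, 12)) (.leaf (0, 0))) (.node (.leaf (19, 107)) (.leaf (55, 246)))))) (.node (.node (.node (.node (.node (.leaf (0, 0)) (.leaf (55, 1411))) (.leaf (0, 0))) (.node (.leaf (0, 0)) (.leaf (56, 1341)))) (.node (.node (.leaf (43, 86)) (.leaf (52, 1246))) (.node (.leaf (0, 0)) (.leaf (55, 1245))))) (.node (.node (.node (.leaf (0, 0)) (.leaf (54, 761))) (.node (.leaf (55, 477)) (.leaf (53, 485)))) (.node (.node (.leaf (0, 0)) (.leaf (56, 1146))) (.node (.leaf (56, 981)) (.leaf (55, 1226))))))) (.node (.node (.node (.node (.node (.node (.leaf (0, 0)) (.leaf (56,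 1384))) (.leaf (12, 726))) (.node (.leaf (0, 0)) (.leaf (48, 254)))) (.node (.node (.leaf (0, 0)) (.leaf (51, 215))) (.node (.leaf (56, 626)) (.leaf (42, 1335))))) (.node (.node (.node (.leaf (29, 185)) (.leaf (9, 59))) (.node (.leaf (0, 0)) (.leaf (55, 646)))) (.node (.node (.leaf (20, 115)) (.leaf (55, 1345))) (.node (.leaf (0, 0)) (.leaf (56, 1309)))))) (.node (.node (.node (.node (.node (.leaf (0, 0)) (.leaf (18, 648))) (.leaf (55, 1127))) (.node (.leaf (21, 191)) (.leaf (56, 339)))) (.node (.node (.leaf (14, 653)) (.leaf (48, 925))) (.node (.leaf (0, 0)) (.leaf (0, 0))))) (.node (.node (.node (.leaf (0, 0)) (.leaf (0, 0))) (.node (.leaf (55, 1268)) (.leaf (42, 1407)))) (.node (.node (.leaf (0, 0)) (.leaf (0, 0))) (.node (.leaf (51, 105)) (.leaf (55, 360))))))))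

def bigVia24 : Janko.Tree (ℕ × ℕ) :=
  (.node (.node (.node (.node (.node (.node (.node (.leaf (0, 0)) (.leaf (56, 1222))) (.leaf (25, 415))) (.node (.leaf (0, 0)) (.leaf (51, 987)))) (.node (.node (.leaf (0, 0)) (.leaf (54, 580))) (.node (.leaf (56, 839)) (.leaf (53, 468))))) (.node (.node (.node (.node (.leaf (0, 0)) (.leaf (2, 0))) (.leaf (56, 1303))) (.node (.leaf (0, 0)) (.leaf (55, 1108)))) (.node (.node (.leaf (0, 0)) (.leaf (55, 641))) (.node (.leaf (0, 0)) (.leaf (56, 1361)))))) (.node (.node (.node (.node (.node (.leaf (0, 0)) (.leaf (56, 1081))) (.leaf (0, 0))) (.node (.leaf (56, 1380)) (.leaf (54, 636)))) (.node (.node (.leaf (0, 0)) (.leaf (56, 478))) (.node (.leaf (52, 1020)) (.leaf (49, 1435))))) (.node (.node (.node (.leaf (0, 0)) (.leaf (48, 303))) (.node (.leaf (0, 0)) (.leaf (52, 1398)))) (.node (.node (.leaf (48, 204)) (.leaf (16, 525))) (.node (.leaf (0, 0)) (.leaf (56, 1352))))))) (.node (.node (.node (.node (.node (.node (.leaf (0, 0)) (.leaf (39,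 1009))) (.leaf (0, 0))) (.node (.leaf (0, 0)) (.leaf (41, 101)))) (.node (.node (.leaf (56, 834)) (.leaf (0, 0))) (.node (.leaf (24, 3)) (.leaf (49, 1224))))) (.node (.node (.node (.leaf (25, 95)) (.leaf (14, 114))) (.node (.leaf (0, 0)) (.leaf (56, 1412)))) (.node (.node (.leaf (0, 0)) (.leaf (37, 444))) (.node (.leaf (24, 1347)) (.leaf (0, 0)))))) (.node (.node (.node (.node (.node (.leaf (0, 0)) (.leaf (55, 573))) (.leaf (55, 840))) (.node (.leaf (0, 0)) (.leaf (0, 0)))) (.node (.node (.leaf (0, 0)) (.leaf (21, 917))) (.node (.leaf (15, 552)) (.leaf (43, 23))))) (.node (.node (.node (.leaf (0, 0)) (.leaf (55, 678))) (.node (.leaf (55, 1328)) (.leaf (51, 316)))) (.node (.node (.leaf (10, 328)) (.leaf (51, 96))) (.node (.leaf (54, 10)) (.leaf (30, 1281))))))))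

def bigVia25 : Janko.Tree (ℕ × ℕ) :=
  (.node (.node (.node (.node (.node (.node (.node (.leaf (0, 0)) (.leaf (56, 1087))) (.leaf (51, 691))) (.node (.leaf (0, 0)) (.leaf (50, 1435)))) (.node (.node (.leaf (0, 0)) (.leaf (0, 0))) (.node (.leaf (54, 225)) (.leaf (55, 1203))))) (.node (.node (.node (.node (.leaf (20, 108)) (.leaf (3, 0))) (.leaf (56, 1056))) (.node (.leaf (0, 0)) (.leaf (54, 1320)))) (.node (.node (.leaf (0, 0)) (.leaf (4, 947))) (.node (.leaf (12, 230)) (.leaf (52, 1027)))))) (.node (.node (.node (.node (.node (.leaf (0, 0)) (.leaf (53, 276))) (.leaf (0, 0))) (.node (.leaf (0, 0)) (.leaf (56, 576)))) (.node (.node (.leaf (56, 724)) (.leaf (52, 113))) (.node (.leaf (0, 0)) (.leaf (17, 1010))))) (.node (.node (.node (.leaf (0, 0)) (.leaf (48, 911))) (.node (.leaf (55, 410)) (.leaf (24, 361)))) (.node (.node (.leaf (8, 307)) (.leaf (52, 164))) (.node (.leaf (51, 1338)) (.leaf (55, 1331))))))) (.node (.node (.node (.node (.node (.node (.leaf (0, 0)) (.leaf (55,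 1395))) (.leaf (0, 0))) (.node (.leaf (0, 0)) (.leaf (3, 523)))) (.node (.node (.leaf (0, 0)) (.leaf (50, 883))) (.node (.leaf (12, 108)) (.leaf (55, 591))))) (.node (.node (.node (.leaf (0, 0)) (.leaf (12, 399))) (.node (.leaf (0, 0)) (.leaf (49, 1139)))) (.node (.node (.leaf (48, 31)) (.leaf (54, 201))) (.node (.leaf (21, 282)) (.leaf (53, 1202)))))) (.node (.node (.node (.node (.node (.leaf (0, 0)) (.leaf (31, 128))) (.leaf (7, 742))) (.node (.leaf (3, 2)) (.leaf (49, 617)))) (.node (.node (.leaf (56, 122)) (.leaf (7, 215))) (.node (.leaf (54, 646)) (.leaf (55, 1267))))) (.node (.node (.node (.leaf (0, 0)) (.leaf (0, 0))) (.node (.leaf (55, 499)) (.leaf (56, 445)))) (.node (.node (.leaf (0, 0)) (.leaf (49, 1346))) (.node (.leaf (55, 10)) (.leaf (55, 1236))))))))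

def bigVia26 : Janko.Tree (ℕ × ℕ) :=
  (.node (.node (.node (.node (.node (.node (.node (.leaf (0, 0)) (.leaf (42, 1374))) (.leaf (0, 0))) (.node (.leaf (44, 755)) (.leaf (55, 819)))) (.node (.node (.leaf (0, 0)) (.leaf (11, 862))) (.node (.leaf (56, 419)) (.leaf (34, 699))))) (.node (.node (.node (.node (.leaf (0, 0)) (.leaf (4, 0))) (.leaf (0, 0))) (.node (.leaf (0, 0)) (.leaf (13, 1125)))) (.node (.node (.leaf (0, 0)) (.leaf (24, 539))) (.node (.leaf (12, 107)) (.leaf (48, 864)))))) (.node (.node (.node (.node (.node (.leaf (0, 0)) (.leaf (53, 1136))) (.leaf (0, 0))) (.node (.leaf (0, 0)) (.leaf (25, 265)))) (.node (.node (.leaf (56, 670)) (.leaf (54, 626))) (.node (.leaf (42, 566)) (.leaf (41, 1246))))) (.node (.node (.node (.leaf (0, 0)) (.leaf (55, 425))) (.node (.leaf (0, 0)) (.leaf (0, 0)))) (.node (.node (.leaf (0, 0)) (.leaf (55, 990))) (.node (.leaf (46, 1097)) (.leaf (48, 900))))))) (.node (.node (.node (.node (.node (.node (.leaf (0, 0)) (.leaf (56, 1054)))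 (.leaf (55, 1016))) (.node (.leaf (55, 764)) (.leaf (49, 907)))) (.node (.node (.leaf (0, 0)) (.leaf (55, 908))) (.node (.leaf (0, 0)) (.leaf (50, 435))))) (.node (.node (.node (.leaf (0, 0)) (.leaf (12, 798))) (.node (.leaf (55, 208)) (.leaf (0, 0)))) (.node (.node (.leaf (0, 0)) (.leaf (52, 761))) (.node (.leaf (56, 282)) (.leaf (31, 852)))))) (.node (.node (.node (.node (.node (.leaf (0, 0)) (.leaf (56, 955))) (.leaf (53, 351))) (.node (.leaf (0, 0)) (.leaf (48, 1020)))) (.node (.node (.leaf (49, 227)) (.leaf (54, 926))) (.node (.leaf (54, 1140)) (.leaf (55, 400))))) (.node (.node (.node (.leaf (0, 0)) (.leaf (56, 615))) (.node (.leaf (17, 130)) (.leaf (56, 1182)))) (.node (.node (.leaf (44, 605)) (.leaf (53, 96))) (.node (.leaf (13, 550)) (.leaf (27, 936))))))))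

def bigVia27 : Janko.Tree (ℕ × ℕ) :=
  (.node (.node (.node (.node (.node (.node (.node (.leaf (0, 0)) (.leaf (49, 703))) (.leaf (0, 0))) (.node (.leaf (0, 0)) (.leaf (41, 954)))) (.node (.node (.leaf (0, 0)) (.leaf (55, 302))) (.node (.leaf (0, 0)) (.leaf (48, 1131))))) (.node (.node (.node (.node (.leaf (0, 0)) (.leaf (5, 0))) (.leaf (56, 1145))) (.node (.leaf (0, 0)) (.leaf (54, 582)))) (.node (.node (.leaf (0, 0)) (.leaf (51, 117))) (.node (.leaf (18, 109)) (.leaf (34, 167)))))) (.node (.node (.node (.node (.node (.leaf (0, 0)) (.leaf (55, 1417))) (.leaf (0, 0))) (.node (.leaf (48, 393)) (.leaf (3, 124)))) (.node (.node (.leaf (0, 0)) (.leaf (0, 0))) (.node (.leaf (0, 0)) (.leaf (50, 856))))) (.node (.node (.node (.leaf (28, 51)) (.leaf (0, 0))) (.node (.leaf (0, 0)) (.leaf (49, 1161)))) (.node (.node (.leaf (24, 550)) (.leaf (54, 1001))) (.node (.leaf (56, 672)) (.leaf (54, 280))))))) (.node (.node (.node (.node (.node (.node (.leaf (0, 0)) (.leaf (49, 277))) (.leaf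 (45, 330))) (.node (.leaf (56, 195)) (.leaf (53, 1130)))) (.node (.node (.leaf (0, 0)) (.leaf (55, 824))) (.node (.leaf (0, 0)) (.leaf (56, 1053))))) (.node (.node (.node (.leaf (0, 0)) (.leaf (52, 384))) (.node (.leaf (56, 418)) (.leaf (55, 497)))) (.node (.node (.leaf (0, 0)) (.leaf (46, 969))) (.node (.leaf (25, 114)) (.leaf (49, 852)))))) (.node (.node (.node (.node (.node (.leaf (0, 0)) (.leaf (49, 1165))) (.leaf (54, 1085))) (.node (.leaf (0, 0)) (.leaf (48, 1124)))) (.node (.node (.leaf (54, 515)) (.leaf (55, 713))) (.node (.leaf (0, 0)) (.leaf (55, 1408))))) (.node (.node (.node (.leaf (0, 0)) (.leaf (51, 502))) (.node (.leaf (43, 282)) (.leaf (25, 316)))) (.node (.node (.leaf (0, 0)) (.leaf (32, 341))) (.node (.leaf (56, 930)) (.leaf (55, 1353))))))))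

def bigVia28 : Janko.Tree (ℕ × ℕ) :=
  (.node (.node (.node (.node (.node (.node (.node (.leaf (0, 0)) (.leaf (51, 446))) (.leaf (55, 1105))) (.node (.leaf (0, 0)) (.leaf (52, 575)))) (.node (.node (.leaf (0, 0)) (.leaf (49, 2))) (.node (.leaf (0, 0)) (.leaf (56, 1204))))) (.node (.node (.node (.node (.leaf (0, 0)) (.leaf (6, 0))) (.leaf (53, 370))) (.node (.leaf (17, 436)) (.leaf (54, 562)))) (.node (.node (.leaf (55, 1192)) (.leaf (56, 948))) (.node (.leaf (10, 154)) (.leaf (38, 1422)))))) (.node (.node (.node (.node (.node (.leaf (0, 0)) (.leaf (52, 780))) (.leaf (51, 1271))) (.node (.leaf (52, 631)) (.leaf (56, 932)))) (.node (.node (.leaf (0, 0)) (.leaf (49, 658))) (.node (.leaf (54, 564)) (.leaf (44, 1398))))) (.node (.node (.node (.leaf (0, 0)) (.leaf (56, 1342))) (.node (.leaf (12, 539)) (.leaf (55, 1456)))) (.node (.node (.leaf (20, 124)) (.leaf (56, 1107))) (.node (.leaf (0, 0)) (.leaf (55, 1332))))))) (.node (.node (.node (.node (.node (.node (.leaf (0, 0)) (.leaf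 (49, 1396))) (.leaf (0, 0))) (.node (.leaf (46, 1182)) (.leaf (48, 101)))) (.node (.node (.leaf (0, 0)) (.leaf (56, 884))) (.node (.leaf (0, 0)) (.leaf (54, 1058))))) (.node (.node (.node (.leaf (19, 114)) (.leaf (56, 627))) (.node (.leaf (54, 190)) (.leaf (52, 1271)))) (.node (.node (.leaf (0, 0)) (.leaf (52, 1288))) (.node (.leaf (10, 628)) (.leaf (37, 981)))))) (.node (.node (.node (.node (.node (.leaf (0, 0)) (.leaf (55, 1427))) (.leaf (0, 0))) (.node (.leaf (56, 696)) (.leaf (46, 653)))) (.node (.node (.leaf (0, 0)) (.leaf (52, 73))) (.node (.leaf (0, 0)) (.leaf (50, 1268))))) (.node (.node (.node (.leaf (55, 442)) (.leaf (49, 945))) (.node (.leaf (0, 0)) (.leaf (3, 687)))) (.node (.node (.leaf (0, 0)) (.leaf (56, 1434))) (.node (.leaf (51, 124)) (.leaf (55, 757))))))))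

def bigVia29 : Janko.Tree (ℕ × ℕ) :=
  (.node (.node (.node (.node (.node (.node (.node (.leaf (0, 0)) (.leaf (55, 1375))) (.leaf (49, 902))) (.node (.leaf (0, 0)) (.leaf (51, 1124)))) (.node (.node (.leaf (0, 0)) (.leaf (3, 431))) (.node (.leaf (55, 318)) (.leaf (56, 887))))) (.node (.node (.node (.node (.leaf (0, 0)) (.leaf (7, 739))) (.leaf (56, 1099))) (.node (.leaf (0, 0)) (.leaf (32, 635)))) (.node (.node (.leaf (0, 0)) (.leaf (56, 1284))) (.node (.leaf (24, 607)) (.leaf (55, 115)))))) (.node (.node (.node (.node (.node (.leaf (0, 0)) (.leaf (53, 613))) (.leaf (16, 735))) (.node (.leaf (55, 1339)) (.leaf (0, 0)))) (.node (.node (.leaf (0, 0)) (.leaf (0, 0))) (.node (.leaf (22, 1140)) (.leaf (55, 1247))))) (.node (.node (.node (.leaf (0, 0)) (.leaf (43, 900))) (.node (.leaf (56, 1279)) (.leaf (55, 1069)))) (.node (.node (.leaf (0, 0)) (.leaf (0, 0))) (.node (.leaf (55, 1187)) (.leaf (55, 1021))))))) (.node (.node (.node (.node (.node (.node (.leaf (3, 3)) (.leaf (54,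 487))) (.leaf (0, 0))) (.node (.leaf (52, 606)) (.leaf (0, 0)))) (.node (.node (.leaf (0, 0)) (.leaf (0, 0))) (.node (.leaf (0, 0)) (.leaf (55, 849))))) (.node (.node (.node (.leaf (0, 0)) (.leaf (56, 1280))) (.node (.leaf (56, 609)) (.leaf (0, 0)))) (.node (.node (.leaf (0, 0)) (.leaf (0, 0))) (.node (.leaf (25, 113)) (.leaf (56, 1435)))))) (.node (.node (.node (.node (.node (.leaf (0, 0)) (.leaf (46, 1439))) (.leaf (49, 1037))) (.node (.leaf (48, 921)) (.leaf (56, 1147)))) (.node (.node (.leaf (0, 0)) (.leaf (49, 76))) (.node (.leaf (0, 0)) (.leaf (56, 793))))) (.node (.node (.node (.leaf (0, 0)) (.leaf (55, 627))) (.node (.leaf (50, 1109)) (.leaf (48, 47)))) (.node (.node (.leaf (56, 253)) (.leaf (55, 545))) (.node (.leaf (0, 0)) (.leaf (56, 1433))))))))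

def bigVia30 : Janko.Tree (ℕ × ℕ) :=
  (.node (.node (.node (.node (.node (.node (.node (.leaf (0, 0)) (.leaf (56, 1400))) (.leaf (54, 998))) (.node (.leaf (0, 0)) (.leaf (44, 409)))) (.node (.node (.leaf (0, 0)) (.leaf (56, 431))) (.node (.leaf (55, 522)) (.leaf (56, 331))))) (.node (.node (.node (.node (.leaf (0, 0)) (.leaf (8, 191))) (.leaf (0, 0))) (.node (.leaf (0, 0)) (.leaf (0, 0)))) (.node (.node (.leaf (0, 0)) (.leaf (12, 947))) (.node (.leaf (0, 0)) (.leaf (56, 1290)))))) (.node (.node (.node (.node (.node (.leaf (0, 0)) (.leaf (55, 1418))) (.leaf (49, 821))) (.node (.leaf (56, 1093)) (.leaf (53, 664)))) (.node (.node (.leaf (0, 0)) (.leaf (3, 906))) (.node (.leaf (54, 45)) (.leaf (55, 1392))))) (.node (.node (.node (.leaf (0, 0)) (.leaf (55, 83))) (.node (.leaf (55, 253)) (.leaf (56, 1162)))) (.node (.node (.leaf (20, 321)) (.leaf (49, 1379))) (.node (.leaf (56, 751)) (.leaf (51, 150))))))) (.node (.node (.node (.node (.node (.node (.leaf (0, 0)) (.leaf (55,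 1055))) (.leaf (0, 0))) (.node (.leaf (0, 0)) (.leaf (54, 827)))) (.node (.node (.leaf (0, 0)) (.leaf (51, 1001))) (.node (.leaf (55, 221)) (.leaf (48, 1188))))) (.node (.node (.node (.leaf (3, 0)) (.leaf (0, 0))) (.node (.leaf (31, 458)) (.leaf (56, 1390)))) (.node (.node (.leaf (55, 630)) (.leaf (51, 1415))) (.node (.leaf (12, 111)) (.leaf (56, 854)))))) (.node (.node (.node (.node (.node (.leaf (35, 78)) (.leaf (43, 128))) (.leaf (56, 976))) (.node (.leaf (0, 0)) (.leaf (56, 1098)))) (.node (.node (.leaf (53, 256)) (.leaf (0, 0))) (.node (.leaf (0, 0)) (.leaf (54, 1193))))) (.node (.node (.node (.leaf (0, 0)) (.leaf (49, 500))) (.node (.leaf (56, 999)) (.leaf (43, 144)))) (.node (.node (.leaf (0, 0)) (.leaf (56, 580))) (.node (.leaf (0, 0)) (.leaf (56, 1354))))))))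

def bigVia31 : Janko.Tree (ℕ × ℕ) :=
  (.node (.node (.node (.node (.node (.node (.node (.leaf (0, 0)) (.leaf (55, 529))) (.leaf (29, 110))) (.node (.leaf (0, 0)) (.leaf (54, 561)))) (.node (.node (.leaf (0, 0)) (.leaf (56, 610))) (.node (.leaf (55, 384)) (.leaf (55, 180))))) (.node (.node (.node (.node (.leaf (0, 0)) (.leaf (9, 476))) (.leaf (54, 1022))) (.node (.leaf (0, 0)) (.leaf (53, 356)))) (.node (.node (.leaf (0, 0)) (.leaf (0, 0))) (.node (.leaf (56, 146)) (.leaf (30, 1251)))))) (.node (.node (.node (.node (.node (.leaf (0, 0)) (.leaf (56, 1319))) (.leaf (0, 0))) (.node (.leaf (0, 0)) (.leaf (56, 1077)))) (.node (.node (.leaf (56, 1218)) (.leaf (32, 1240))) (.node (.leaf (48, 564)) (.leaf (44, 1248))))) (.node (.node (.node (.leaf (0, 0)) (.leaf (56, 821))) (.node (.leaf (20, 493)) (.leaf (55, 671)))) (.node (.node (.leaf (0, 0)) (.leaf (56, 1306))) (.node (.leaf (54, 256)) (.leaf (56, 1333))))))) (.node (.node (.node (.node (.node (.node (.leaf (25, 157)) (.leaf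 (56, 856))) (.leaf (0, 0))) (.node (.leaf (0, 0)) (.leaf (56, 1151)))) (.node (.node (.leaf (0, 0)) (.leaf (23, 445))) (.node (.leaf (0, 0)) (.leaf (40, 476))))) (.node (.node (.node (.leaf (0, 0)) (.leaf (0, 0))) (.node (.leaf (0, 0)) (.leaf (40, 44)))) (.node (.node (.leaf (0, 0)) (.leaf (54, 792))) (.node (.leaf (38, 629)) (.leaf (55, 1040)))))) (.node (.node (.node (.node (.node (.leaf (0, 0)) (.leaf (56, 957))) (.leaf (8, 757))) (.node (.leaf (53, 907)) (.leaf (43, 826)))) (.node (.node (.leaf (56, 1004)) (.leaf (42, 378))) (.node (.leaf (55, 981)) (.leaf (56, 1269))))) (.node (.node (.node (.leaf (0, 0)) (.leaf (43, 190))) (.node (.leaf (55, 197)) (.leaf (54, 658)))) (.node (.node (.leaf (55, 390)) (.leaf (56, 1378))) (.node (.leaf (0, 0)) (.leaf (51, 1366))))))))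

def bigVia32 : Janko.Tree (ℕ × ℕ) :=
  (.node (.node (.node (.node (.node (.node (.node (.leaf (0, 0)) (.leaf (25, 1376))) (.leaf (38, 1045))) (.node (.leaf (56, 352)) (.leaf (0, 0)))) (.node (.node (.leaf (0, 0)) (.leaf (50, 1153))) (.node (.leaf (0, 0)) (.leaf (55, 1253))))) (.node (.node (.node (.node (.leaf (0, 0)) (.leaf (10, 30))) (.leaf (55, 389))) (.node (.leaf (53, 227)) (.leaf (48, 87)))) (.node (.node (.leaf (0, 0)) (.leaf (55, 1323))) (.node (.leaf (0, 0)) (.leaf (56, 1157)))))) (.node (.node (.node (.node (.node (.leaf (0, 0)) (.leaf (53, 883))) (.leaf (41, 736))) (.node (.leaf (0, 0)) (.leaf (55, 595)))) (.node (.node (.leaf (0, 0)) (.leaf (0, 0))) (.node (.leaf (0, 0)) (.leaf (56, 1248))))) (.node (.node (.node (.leaf (0, 0)) (.leaf (54, 1004))) (.node (.leaf (0, 0)) (.leaf (51, 276)))) (.node (.node (.leaf (0, 0)) (.leaf (14, 420))) (.node (.leaf (51, 439)) (.leaf (56, 1163))))))) (.node (.node (.node (.node (.node (.node (.leaf (0, 0)) (.leaf (27, 726)))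 (.leaf (55, 927))) (.node (.leaf (0, 0)) (.leaf (56, 1258)))) (.node (.node (.leaf (0, 0)) (.leaf (53, 599))) (.node (.leaf (56, 624)) (.leaf (55, 904))))) (.node (.node (.node (.leaf (0, 0)) (.leaf (54, 800))) (.node (.leaf (0, 0)) (.leaf (0, 0)))) (.node (.node (.leaf (0, 0)) (.leaf (52, 980))) (.node (.leaf (51, 341)) (.leaf (56, 951)))))) (.node (.node (.node (.node (.node (.leaf (0, 0)) (.leaf (48, 267))) (.leaf (55, 1326))) (.node (.leaf (56, 337)) (.leaf (51, 131)))) (.node (.node (.leaf (49, 1135)) (.leaf (56, 1265))) (.node (.leaf (0, 0)) (.leaf (56, 886))))) (.node (.node (.node (.leaf (0, 0)) (.leaf (56, 894))) (.node (.leaf (52, 506)) (.leaf (21, 640)))) (.node (.node (.leaf (0, 0)) (.leaf (56, 1392))) (.node (.leaf (56, 1300)) (.leaf (55, 1291))))))))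

def bigVia33 : Janko.Tree (ℕ × ℕ) :=
  (.node (.node (.node (.node (.node (.node (.node (.leaf (0, 0)) (.leaf (55, 269))) (.leaf (25, 12))) (.node (.leaf (0, 0)) (.leaf (48, 787)))) (.node (.node (.leaf (0, 0)) (.leaf (49, 1381))) (.node (.leaf (0, 0)) (.leaf (38, 1070))))) (.node (.node (.node (.node (.leaf (0, 0)) (.leaf (7, 0))) (.leaf (32, 1359))) (.node (.leaf (0, 0)) (.leaf (55, 1217)))) (.node (.node (.leaf (0, 0)) (.leaf (54, 402))) (.node (.leaf (0, 0)) (.leaf (56, 1453)))))) (.node (.node (.node (.node (.node (.leaf (0, 0)) (.leaf (56, 1212))) (.leaf (0, 0))) (.node (.leaf (54, 631)) (.leaf (55, 1319)))) (.node (.node (.leaf (0, 0)) (.leaf (56, 907))) (.node (.leaf (3, 1073)) (.leaf (50, 761))))) (.node (.node (.node (.leaf (0, 0)) (.leaf (48, 63))) (.node (.leaf (0, 0)) (.leaf (56, 1318)))) (.node (.node (.leaf (0, 0)) (.leaf (54, 690))) (.node (.leaf (15, 294)) (.leaf (56, 1094))))))) (.node (.node (.node (.node (.node (.node (.leaf (0, 0)) (.leaf (10, 711)))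 (.leaf (0, 0))) (.node (.leaf (0, 0)) (.leaf (17, 255)))) (.node (.node (.leaf (56, 256)) (.leaf (55, 703))) (.node (.leaf (0, 0)) (.leaf (49, 1140))))) (.node (.node (.node (.leaf (0, 0)) (.leaf (41, 1167))) (.node (.leaf (0, 0)) (.leaf (43, 809)))) (.node (.node (.leaf (0, 0)) (.leaf (45, 780))) (.node (.leaf (56, 1080)) (.leaf (51, 855)))))) (.node (.node (.node (.node (.node (.leaf (0, 0)) (.leaf (52, 1184))) (.leaf (9, 1449))) (.node (.leaf (0, 0)) (.leaf (55, 1099)))) (.node (.node (.leaf (20, 261)) (.leaf (53, 76))) (.node (.leaf (39, 587)) (.leaf (8, 852))))) (.node (.node (.node (.leaf (0, 0)) (.leaf (42, 65))) (.node (.leaf (55, 1324)) (.leaf (50, 1285)))) (.node (.node (.leaf (0, 0)) (.leaf (0, 0))) (.node (.leaf (31, 1156)) (.leaf (55, 1355))))))))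

def bigVia34 : Janko.Tree (ℕ × ℕ) :=
  (.node (.node (.node (.node (.node (.node (.node (.leaf (0, 0)) (.leaf (55, 1161))) (.leaf (56, 694))) (.node (.leaf (8, 739)) (.leaf (49, 183)))) (.node (.node (.leaf (0, 0)) (.leaf (50, 643))) (.node (.leaf (0, 0)) (.leaf (0, 0))))) (.node (.node (.node (.node (.leaf (0, 0)) (.leaf (12, 1222))) (.leaf (0, 0))) (.node (.leaf (56, 438)) (.leaf (55, 611)))) (.node (.node (.leaf (0, 0)) (.leaf (34, 950))) (.node (.leaf (0, 0)) (.leaf (49, 1041)))))) (.node (.node (.node (.node (.node (.leaf (0, 0)) (.leaf (50, 1028))) (.leaf (0, 0))) (.node (.leaf (55, 451)) (.leaf (56, 1078)))) (.node (.node (.leaf (54, 355)) (.leaf (56, 845))) (.node (.leaf (0, 0)) (.leaf (45, 1398))))) (.node (.node (.node (.leaf (0, 0)) (.leaf (0, 0))) (.node (.leaf (56, 1444)) (.leaf (56, 1275)))) (.node (.node (.leaf (0, 0)) (.leaf (56, 1231))) (.node (.leaf (55, 985)) (.leaf (55, 1334))))))) (.node (.node (.node (.node (.node (.node (.leaf (0, 0)) (.leaf (38,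 1051))) (.leaf (0, 0))) (.node (.leaf (0, 0)) (.leaf (52, 947)))) (.node (.node (.leaf (1, 203)) (.leaf (56, 1420))) (.node (.leaf (0, 0)) (.leaf (54, 968))))) (.node (.node (.node (.leaf (0, 0)) (.leaf (51, 619))) (.node (.leaf (49, 879)) (.leaf (8, 653)))) (.node (.node (.leaf (48, 13)) (.leaf (48, 780))) (.node (.leaf (56, 518)) (.leaf (55, 575)))))) (.node (.node (.node (.node (.node (.leaf (0, 0)) (.leaf (12, 1128))) (.leaf (44, 1218))) (.node (.leaf (0, 0)) (.leaf (0, 0)))) (.node (.node (.leaf (0, 0)) (.leaf (0, 0))) (.node (.leaf (50, 711)) (.leaf (51, 1175))))) (.node (.node (.node (.leaf (0, 0)) (.leaf (35, 588))) (.node (.leaf (15, 462)) (.leaf (54, 270)))) (.node (.node (.leaf (0, 0)) (.leaf (56, 1375))) (.node (.leaf (56, 1148)) (.leaf (49, 1052))))))))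

def bigVia35 : Janko.Tree (ℕ × ℕ) :=
  (.node (.node (.node (.node (.node (.node (.node (.leaf (0, 0)) (.leaf (43, 1006))) (.leaf (20, 130))) (.node (.leaf (0, 0)) (.leaf (42, 976)))) (.node (.node (.leaf (0, 0)) (.leaf (55, 1415))) (.node (.leaf (55, 254)) (.leaf (55, 978))))) (.node (.node (.node (.node (.leaf (0, 0)) (.leaf (8, 0))) (.leaf (0, 0))) (.node (.leaf (0, 0)) (.leaf (50, 1121)))) (.node (.node (.leaf (20, 323)) (.leaf (55, 1412))) (.node (.leaf (20, 274)) (.leaf (54, 726)))))) (.node (.node (.node (.node (.node (.leaf (0, 0)) (.leaf (55, 504))) (.leaf (0, 0))) (.node (.leaf (51, 842)) (.leaf (56, 978)))) (.node (.node (.leaf (0, 0)) (.leaf (54, 1079))) (.node (.leaf (0, 0)) (.leaf (51, 1249))))) (.node (.node (.node (.leaf (0, 0)) (.leaf (0, 0))) (.node (.leaf (0, 0)) (.leaf (54, 1344)))) (.node (.node (.leaf (0, 0)) (.leaf (7, 993))) (.node (.leaf (55, 578)) (.leaf (54, 208))))))) (.node (.node (.node (.node (.node (.node (.leaf (4, 130)) (.leaf (49, 791)))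 (.leaf (0, 0))) (.node (.leaf (0, 0)) (.leaf (0, 0)))) (.node (.node (.leaf (3, 239)) (.leaf (49, 1221))) (.node (.leaf (0, 0)) (.leaf (55, 481))))) (.node (.node (.node (.leaf (0, 0)) (.leaf (0, 0))) (.node (.leaf (55, 91)) (.leaf (56, 648)))) (.node (.node (.leaf (36, 13)) (.leaf (49, 707))) (.node (.leaf (38, 91)) (.leaf (54, 1313)))))) (.node (.node (.node (.node (.node (.leaf (0, 0)) (.leaf (41, 1179))) (.leaf (0, 0))) (.node (.leaf (38, 681)) (.leaf (55, 1093)))) (.node (.node (.leaf (0, 0)) (.leaf (47, 1426))) (.node (.leaf (55, 1289)) (.leaf (1, 1270))))) (.node (.node (.node (.leaf (0, 0)) (.leaf (40, 5))) (.node (.leaf (55, 872)) (.leaf (56, 1185)))) (.node (.node (.leaf (0, 0)) (.leaf (0, 0))) (.node (.leaf (46, 673)) (.leaf (55, 1304))))))))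

def bigVia36 : Janko.Tree (ℕ × ℕ) :=
  (.node (.node (.node (.node (.node (.node (.node (.leaf (0, 0)) (.leaf (49, 1006))) (.leaf (9, 616))) (.node (.leaf (0, 0)) (.leaf (0, 0)))) (.node (.node (.leaf (0, 0)) (.leaf (42, 1449))) (.node (.leaf (0, 0)) (.leaf (56, 1370))))) (.node (.node (.node (.node (.leaf (0, 0)) (.leaf (14, 913))) (.leaf (56, 1121))) (.node (.leaf (21, 526)) (.leaf (56, 1451)))) (.node (.node (.leaf (0, 0)) (.leaf (34, 670))) (.node (.leaf (0, 0)) (.leaf (49, 1372)))))) (.node (.node (.node (.node (.node (.leaf (0, 0)) (.leaf (55, 1420))) (.leaf (0, 0))) (.node (.leaf (3, 164)) (.leaf (54, 924)))) (.node (.node (.leaf (0, 0)) (.leaf (56, 908))) (.node (.leaf (0, 0)) (.leaf (55, 216))))) (.node (.node (.node (.leaf (0, 0)) (.leaf (55, 1067))) (.node (.leaf (0, 0)) (.leaf (41, 1164)))) (.node (.node (.leaf (56, 559)) (.leaf (18, 408))) (.node (.leaf (0, 0)) (.leaf (54, 179))))))) (.node (.node (.node (.node (.node (.node (.leaf (0, 0)) (.leaf (55, 937)))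 (.leaf (54, 1137))) (.node (.leaf (51, 1057)) (.leaf (1, 1318)))) (.node (.node (.leaf (0, 0)) (.leaf (56, 1221))) (.node (.leaf (0, 0)) (.leaf (41, 1177))))) (.node (.node (.node (.leaf (0, 0)) (.leaf (50, 1099))) (.node (.leaf (0, 0)) (.leaf (0, 0)))) (.node (.node (.leaf (0, 0)) (.leaf (52, 972))) (.node (.leaf (55, 262)) (.leaf (56, 857)))))) (.node (.node (.node (.node (.node (.leaf (0, 0)) (.leaf (55, 489))) (.leaf (51, 1444))) (.node (.leaf (0, 0)) (.leaf (48, 1100)))) (.node (.node (.leaf (17, 339)) (.leaf (55, 1031))) (.node (.leaf (0, 0)) (.leaf (51, 14))))) (.node (.node (.node (.leaf (0, 0)) (.leaf (56, 984))) (.node (.leaf (6, 495)) (.leaf (43, 858)))) (.node (.node (.leaf (0, 0)) (.leaf (56, 1395))) (.node (.leaf (0, 0)) (.leaf (56, 1356))))))))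

def bigVia37 : Janko.Tree (ℕ × ℕ) :=
  (.node (.node (.node (.node (.node (.node (.node (.leaf (0, 0)) (.leaf (50, 1402))) (.leaf (46, 964))) (.node (.leaf (0, 0)) (.leaf (55, 563)))) (.node (.node (.leaf (0, 0)) (.leaf (0, 0))) (.node (.leaf (42, 1351)) (.leaf (56, 1207))))) (.node (.node (.node (.node (.leaf (0, 0)) (.leaf (15, 730))) (.leaf (15, 714))) (.node (.leaf (0, 0)) (.leaf (54, 248)))) (.node (.node (.leaf (0, 0)) (.leaf (0, 0))) (.node (.leaf (19, 241)) (.leaf (55, 726)))))) (.node (.node (.node (.node (.node (.leaf (0, 0)) (.leaf (52, 838))) (.leaf (44, 739))) (.node (.leaf (0, 0)) (.leaf (41, 37)))) (.node (.node (.leaf (0, 0)) (.leaf (49, 459))) (.node (.leaf (0, 0)) (.leaf (51, 8))))) (.node (.node (.node (.leaf (0, 0)) (.leaf (54, 823))) (.node (.leaf (54, 1041)) (.leaf (55, 902)))) (.node (.node (.leaf (0, 0)) (.leaf (12, 217))) (.node (.leaf (0, 0)) (.leaf (16, 1335))))))) (.node (.node (.node (.node (.node (.node (.leaf (5, 128)) (.leaf (56, 1246)))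 (.leaf (41, 138))) (.node (.leaf (3, 1449)) (.leaf (52, 222)))) (.node (.node (.leaf (55, 391)) (.leaf (56, 1122))) (.node (.leaf (55, 44)) (.leaf (21, 1222))))) (.node (.node (.node (.leaf (0, 0)) (.leaf (0, 0))) (.node (.leaf (0, 0)) (.leaf (0, 0)))) (.node (.node (.leaf (20, 306)) (.leaf (49, 93))) (.node (.leaf (10, 284)) (.leaf (46, 687)))))) (.node (.node (.node (.node (.node (.leaf (0, 0)) (.leaf (55, 1290))) (.leaf (56, 1365))) (.node (.leaf (0, 0)) (.leaf (43, 107)))) (.node (.node (.leaf (0, 0)) (.leaf (55, 233))) (.node (.leaf (0, 0)) (.leaf (16, 1271))))) (.node (.node (.node (.leaf (0, 0)) (.leaf (55, 419))) (.node (.leaf (0, 0)) (.leaf (55, 421)))) (.node (.node (.leaf (0, 0)) (.leaf (40, 403))) (.node (.leaf (0, 0)) (.leaf (55, 1314))))))))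

def bigVia38 : Janko.Tree (ℕ × ℕ) :=
  (.node (.node (.node (.node (.node (.node (.node (.leaf (0, 0)) (.leaf (56, 1448))) (.leaf (1, 1351))) (.node (.leaf (4, 1222)) (.leaf (55, 711)))) (.node (.node (.leaf (0, 0)) (.leaf (56, 1418))) (.node (.leaf (0, 0)) (.leaf (55, 888))))) (.node (.node (.node (.node (.leaf (0, 0)) (.leaf (9, 0))) (.leaf (48, 5))) (.node (.leaf (0, 0)) (.leaf (48, 1293)))) (.node (.node (.leaf (0, 0)) (.leaf (55, 1191))) (.node (.leaf (0, 0)) (.leaf (52, 1118)))))) (.node (.node (.node (.node (.node (.leaf (0, 0)) (.leaf (56, 940))) (.leaf (35, 738))) (.node (.leaf (25, 62)) (.leaf (55, 921)))) (.node (.node (.leaf (20, 90)) (.leaf (56, 846))) (.node (.leaf (0, 0)) (.leaf (41, 968))))) (.node (.node (.node (.leaf (0, 0)) (.leaf (43, 260))) (.node (.leaf (23, 482)) (.leaf (56, 372)))) (.node (.node (.leaf (0, 0)) (.leaf (7, 183))) (.node (.leaf (54, 1142)) (.leaf (55, 1104))))))) (.node (.node (.node (.node (.node (.node (.leaf (0, 0)) (.leaf (55, 922)))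 (.leaf (31, 271))) (.node (.leaf (0, 0)) (.leaf (55, 1058)))) (.node (.node (.leaf (0, 0)) (.leaf (49, 137))) (.node (.leaf (0, 0)) (.leaf (3, 359))))) (.node (.node (.node (.leaf (0, 0)) (.leaf (56, 533))) (.node (.leaf (0, 0)) (.leaf (0, 0)))) (.node (.node (.leaf (0, 0)) (.leaf (56, 1214))) (.node (.leaf (0, 0)) (.leaf (42, 530)))))) (.node (.node (.node (.node (.node (.leaf (0, 0)) (.leaf (56, 1442))) (.leaf (0, 0))) (.node (.leaf (53, 396)) (.leaf (52, 1073)))) (.node (.node (.leaf (0, 0)) (.leaf (46, 930))) (.node (.leaf (55, 245)) (.leaf (51, 501))))) (.node (.node (.node (.leaf (0, 0)) (.leaf (51, 609))) (.node (.leaf (54, 335)) (.leaf (56, 1186)))) (.node (.node (.leaf (0, 0)) (.leaf (1, 1015))) (.node (.leaf (0, 0)) (.leaf (51, 1177))))))))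

def bigVia39 : Janko.Tree (ℕ × ℕ) :=
  (.node (.node (.node (.node (.node (.node (.node (.leaf (0, 0)) (.leaf (54, 526))) (.leaf (0, 0))) (.node (.leaf (24, 1218)) (.leaf (50, 1037)))) (.node (.node (.leaf (0, 0)) (.leaf (0, 0))) (.node (.leaf (0, 0)) (.leaf (49, 364))))) (.node (.node (.node (.node (.leaf (0, 0)) (.leaf (10, 0))) (.leaf (54, 781))) (.node (.leaf (0, 0)) (.leaf (52, 636)))) (.node (.node (.leaf (0, 0)) (.leaf (55, 1129))) (.node (.leaf (16, 1048)) (.leaf (56, 1293)))))) (.node (.node (.node (.node (.node (.leaf (0, 0)) (.leaf (56, 1281))) (.leaf (55, 891))) (.node (.leaf (0, 0)) (.leaf (55, 983)))) (.node (.node (.leaf (37, 85)) (.leaf (56, 909))) (.node (.leaf (0, 0)) (.leaf (55, 1176))))) (.node (.node (.node (.leaf (51, 437)) (.leaf (56, 1219))) (.node (.leaf (0, 0)) (.leaf (0, 0)))) (.node (.node (.leaf (43, 21)) (.leaf (53, 20))) (.node (.leaf (0, 0)) (.leaf (56, 1217))))))) (.node (.node (.node (.node (.node (.node (.leaf (0, 0)) (.leaf (51, 1221)))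 (.leaf (0, 0))) (.node (.leaf (0, 0)) (.leaf (56, 1143)))) (.node (.node (.leaf (0, 0)) (.leaf (55, 1185))) (.node (.leaf (0, 0)) (.leaf (56, 1068))))) (.node (.node (.node (.leaf (0, 0)) (.leaf (0, 0))) (.node (.leaf (55, 1305)) (.leaf (0, 0)))) (.node (.node (.leaf (0, 0)) (.leaf (56, 973))) (.node (.leaf (56, 396)) (.leaf (40, 885)))))) (.node (.node (.node (.node (.node (.leaf (0, 0)) (.leaf (55, 935))) (.leaf (48, 53))) (.node (.leaf (0, 0)) (.leaf (48, 730)))) (.node (.node (.leaf (0, 0)) (.leaf (40, 198))) (.node (.leaf (0, 0)) (.leaf (56, 622))))) (.node (.node (.node (.leaf (0, 0)) (.leaf (50, 1089))) (.node (.leaf (55, 1153)) (.leaf (0, 0)))) (.node (.node (.leaf (0, 0)) (.leaf (56, 1199))) (.node (.leaf (55, 507)) (.leaf (48, 497))))))))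

def bigVia40 : Janko.Tree (ℕ × ℕ) :=
  (.node (.node (.node (.node (.node (.node (.node (.leaf (0, 0)) (.leaf (50, 1107))) (.leaf (19, 696))) (.node (.leaf (5, 1218)) (.leaf (55, 829)))) (.node (.node (.leaf (0, 0)) (.leaf (52, 1190))) (.node (.leaf (0, 0)) (.leaf (56, 1208))))) (.node (.node (.node (.node (.leaf (0, 0)) (.leaf (18, 2))) (.leaf (55, 982))) (.node (.leaf (49, 440)) (.leaf (56, 562)))) (.node (.node (.leaf (0, 0)) (.leaf (52, 952))) (.node (.leaf (0, 0)) (.leaf (0, 0)))))) (.node (.node (.node (.node (.node (.leaf (0, 0)) (.leaf (43, 1139))) (.leaf (55, 787))) (.node (.leaf (0, 0)) (.leaf (56, 1440)))) (.node (.node (.leaf (21, 527)) (.leaf (47, 1241))) (.node (.leaf (8, 568)) (.leaf (56, 704))))) (.node (.node (.node (.leaf (0, 0)) (.leaf (16, 824))) (.node (.leaf (0, 0)) (.leaf (50, 1008)))) (.node (.node (.leaf (0, 0)) (.leaf (10, 526))) (.node (.leaf (54, 124)) (.leaf (49, 1336))))))) (.node (.node (.node (.node (.node (.node (.leaf (25, 120)) (.leaf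 (51, 1350))) (.leaf (55, 897))) (.node (.leaf (46, 771)) (.leaf (0, 0)))) (.node (.node (.leaf (0, 0)) (.leaf (56, 800))) (.node (.leaf (0, 0)) (.leaf (1, 1310))))) (.node (.node (.node (.leaf (0, 0)) (.leaf (56, 1133))) (.node (.leaf (51, 161)) (.leaf (48, 1144)))) (.node (.node (.leaf (0, 0)) (.leaf (54, 509))) (.node (.leaf (10, 632)) (.leaf (54, 1130)))))) (.node (.node (.node (.node (.node (.leaf (0, 0)) (.leaf (55, 1317))) (.leaf (0, 0))) (.node (.leaf (53, 1079)) (.leaf (48, 607)))) (.node (.node (.leaf (56, 726)) (.leaf (55, 832))) (.node (.leaf (0, 0)) (.leaf (56, 1272))))) (.node (.node (.node (.leaf (0, 0)) (.leaf (52, 244))) (.node (.leaf (0, 0)) (.leaf (56, 863)))) (.node (.node (.leaf (0, 0)) (.leaf (16, 1016))) (.node (.leaf (48, 726)) (.leaf (55, 1432))))))))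

def bigVia41 : Janko.Tree (ℕ × ℕ) :=
  (.node (.node (.node (.node (.node (.node (.node (.leaf (0, 0)) (.leaf (56, 1379))) (.leaf (0, 0))) (.node (.leaf (34, 1240)) (.leaf (0, 0)))) (.node (.node (.leaf (0, 0)) (.leaf (38, 1413))) (.node (.leaf (0, 0)) (.leaf (49, 718))))) (.node (.node (.node (.node (.leaf (0, 0)) (.leaf (19, 360))) (.leaf (56, 741))) (.node (.leaf (23, 174)) (.leaf (48, 674)))) (.node (.node (.leaf (0, 0)) (.leaf (55, 247))) (.node (.leaf (0, 0)) (.leaf (51, 529)))))) (.node (.node (.node (.node (.node (.leaf (0, 0)) (.leaf (55, 1423))) (.leaf (20, 343))) (.node (.leaf (0, 0)) (.leaf (0, 0)))) (.node (.node (.leaf (0, 0)) (.leaf (56, 601))) (.node (.leaf (1, 568)) (.leaf (41, 1251))))) (.node (.node (.node (.leaf (0, 0)) (.leaf (0, 0))) (.node (.leaf (55, 483)) (.leaf (52, 124)))) (.node (.node (.leaf (50, 552)) (.leaf (0, 0))) (.node (.leaf (0, 0)) (.leaf (55, 330))))))) (.node (.node (.node (.node (.node (.node (.leaf (0, 0)) (.leaf (56, 1090))) (.leaf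 (0, 0))) (.node (.leaf (52, 6)) (.leaf (55, 1059)))) (.node (.node (.leaf (0, 0)) (.leaf (55, 448))) (.node (.leaf (0, 0)) (.leaf (52, 539))))) (.node (.node (.node (.leaf (0, 0)) (.leaf (55, 803))) (.node (.leaf (0, 0)) (.leaf (0, 0)))) (.node (.node (.leaf (0, 0)) (.leaf (56, 1331))) (.node (.leaf (56, 926)) (.leaf (56, 1315)))))) (.node (.node (.node (.node (.node (.leaf (0, 0)) (.leaf (56, 1241))) (.leaf (52, 1305))) (.node (.leaf (0, 0)) (.leaf (23, 276)))) (.node (.node (.leaf (0, 0)) (.leaf (56, 1346))) (.node (.leaf (56, 1017)) (.leaf (53, 94))))) (.node (.node (.node (.leaf (0, 0)) (.leaf (55, 42))) (.node (.leaf (52, 956)) (.leaf (51, 1455)))) (.node (.node (.leaf (0, 0)) (.leaf (55, 651))) (.node (.leaf (8, 1156)) (.leaf (54, 1351))))))))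

def bigVia42 : Janko.Tree (ℕ × ℕ) :=
  (.node (.node (.node (.node (.node (.node (.node (.leaf (0, 0)) (.leaf (56, 1008))) (.leaf (44, 684))) (.node (.leaf (0, 0)) (.leaf (55, 1038)))) (.node (.node (.leaf (0, 0)) (.leaf (55, 1101))) (.node (.leaf (0, 0)) (.leaf (45, 333))))) (.node (.node (.node (.node (.leaf (0, 0)) (.leaf (20, 76))) (.leaf (56, 782))) (.node (.leaf (10, 226)) (.leaf (47, 1412)))) (.node (.node (.leaf (0, 0)) (.leaf (55, 1357))) (.node (.leaf (0, 0)) (.leaf (55, 1294)))))) (.node (.node (.node (.node (.node (.leaf (0, 0)) (.leaf (56, 1328))) (.leaf (13, 747))) (.node (.leaf (56, 631)) (.leaf (12, 1335)))) (.node (.node (.leaf (0, 0)) (.leaf (56, 514))) (.node (.leaf (9, 288)) (.leaf (56, 937))))) (.node (.node (.node (.leaf (0, 0)) (.leaf (52, 571))) (.node (.leaf (56, 810)) (.leaf (4, 1327)))) (.node (.node (.leaf (52, 414)) (.leaf (0, 0))) (.node (.leaf (51, 1154)) (.leaf (55, 523))))))) (.node (.node (.node (.node (.node (.node (.leaf (0, 0)) (.leaf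 (56, 728))) (.leaf (0, 0))) (.node (.leaf (53, 107)) (.leaf (52, 1133)))) (.node (.node (.leaf (56, 477)) (.leaf (55, 1377))) (.node (.leaf (55, 244)) (.leaf (48, 1390))))) (.node (.node (.node (.leaf (0, 0)) (.leaf (53, 966))) (.node (.leaf (19, 476)) (.leaf (48, 50)))) (.node (.node (.leaf (51, 1148)) (.leaf (40, 974))) (.node (.leaf (24, 796)) (.leaf (55, 1360)))))) (.node (.node (.node (.node (.node (.leaf (31, 1140)) (.leaf (41, 1040))) (.leaf (55, 876))) (.node (.leaf (55, 54)) (.leaf (50, 1102)))) (.node (.node (.leaf (0, 0)) (.leaf (49, 198))) (.node (.leaf (7, 711)) (.leaf (51, 89))))) (.node (.node (.node (.leaf (56, 804)) (.leaf (0, 0))) (.node (.leaf (0, 0)) (.leaf (56, 860)))) (.node (.node (.leaf (38, 334)) (.leaf (9, 1434))) (.node (.leaf (0, 0)) (.leaf (19, 504))))))))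

def bigVia43 : Janko.Tree (ℕ × ℕ) :=
  (.node (.node (.node (.node (.node (.node (.node (.leaf (0, 0)) (.leaf (18, 96))) (.leaf (0, 0))) (.node (.leaf (56, 336)) (.leaf (47, 1456)))) (.node (.node (.leaf (4, 185)) (.leaf (55, 179))) (.node (.leaf (13, 217)) (.leaf (56, 1388))))) (.node (.node (.node (.node (.leaf (0, 0)) (.leaf (21, 6))) (.leaf (51, 897))) (.node (.leaf (0, 0)) (.leaf (55, 571)))) (.node (.node (.leaf (15, 139)) (.leaf (13, 1347))) (.node (.leaf (0, 0)) (.leaf (0, 0)))))) (.node (.node (.node (.node (.node (.leaf (0, 0)) (.leaf (54, 544))) (.leaf (12, 730))) (.node (.leaf (5, 61)) (.leaf (43, 1057)))) (.node (.node (.leaf (0, 0)) (.leaf (0, 0))) (.node (.leaf (54, 569)) (.leaf (54, 253))))) (.node (.node (.node (.leaf (0, 0)) (.leaf (0, 0))) (.node (.leaf (0, 0)) (.leaf (53, 1004)))) (.node (.node (.leaf (0, 0)) (.leaf (52, 316))) (.node (.leaf (0, 0)) (.leaf (55, 1337))))))) (.node (.node (.node (.node (.node (.node (.leaf (0, 0)) (.leaf (56, 1401))) (.leaf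 (50, 1159))) (.node (.leaf (43, 157)) (.leaf (54, 1147)))) (.node (.node (.leaf (0, 0)) (.leaf (56, 889))) (.node (.leaf (0, 0)) (.leaf (43, 267))))) (.node (.node (.node (.leaf (0, 0)) (.leaf (55, 714))) (.node (.leaf (54, 171)) (.leaf (48, 311)))) (.node (.node (.leaf (0, 0)) (.leaf (55, 1254))) (.node (.leaf (0, 0)) (.leaf (56, 1457)))))) (.node (.node (.node (.node (.node (.leaf (0, 0)) (.leaf (46, 349))) (.leaf (0, 0))) (.node (.leaf (0, 0)) (.leaf (55, 289)))) (.node (.node (.leaf (56, 1205)) (.leaf (0, 0))) (.node (.leaf (0, 0)) (.leaf (55, 1273))))) (.node (.node (.node (.leaf (0, 0)) (.leaf (0, 0))) (.node (.leaf (56, 1255)) (.leaf (52, 690)))) (.node (.node (.leaf (0, 0)) (.leaf (48, 310))) (.node (.leaf (0, 0)) (.leaf (50, 1442))))))))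

def bigVia44 : Janko.Tree (ℕ × ℕ) :=
  (.node (.node (.node (.node (.node (.node (.node (.leaf (0, 0)) (.leaf (56, 1438))) (.leaf (0, 0))) (.node (.leaf (40, 1119)) (.leaf (46, 582)))) (.node (.node (.leaf (0, 0)) (.leaf (56, 997))) (.node (.leaf (0, 0)) (.leaf (20, 335))))) (.node (.node (.node (.node (.leaf (0, 0)) (.leaf (11, 0))) (.leaf (56, 1044))) (.node (.leaf (55, 182)) (.leaf (56, 960)))) (.node (.node (.leaf (0, 0)) (.leaf (54, 493))) (.node (.leaf (0, 0)) (.leaf (44, 855)))))) (.node (.node (.node (.node (.node (.leaf (0, 0)) (.leaf (42, 167))) (.leaf (3, 740))) (.node (.leaf (3, 59)) (.leaf (43, 692)))) (.node (.node (.leaf (0, 0)) (.leaf (55, 992))) (.node (.leaf (55, 1014)) (.leaf (55, 1252))))) (.node (.node (.node (.leaf (0, 0)) (.leaf (0, 0))) (.node (.leaf (0, 0)) (.leaf (30, 552)))) (.node (.node (.leaf (0, 0)) (.leaf (56, 1264))) (.node (.leaf (44, 119)) (.leaf (55, 1264))))))) (.node (.node (.node (.node (.node (.node (.leaf (0, 0)) (.leaf (37, 735)))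 (.leaf (0, 0))) (.node (.leaf (0, 0)) (.leaf (55, 1090)))) (.node (.node (.leaf (0, 0)) (.leaf (50, 1032))) (.node (.leaf (0, 0)) (.leaf (55, 139))))) (.node (.node (.node (.leaf (15, 250)) (.leaf (20, 390))) (.node (.leaf (0, 0)) (.leaf (54, 693)))) (.node (.node (.leaf (55, 1341)) (.leaf (0, 0))) (.node (.leaf (0, 0)) (.leaf (56, 1316)))))) (.node (.node (.node (.node (.node (.leaf (0, 0)) (.leaf (15, 1196))) (.leaf (43, 680))) (.node (.leaf (12, 67)) (.leaf (0, 0)))) (.node (.node (.leaf (49, 19)) (.leaf (48, 592))) (.node (.leaf (0, 0)) (.leaf (56, 1430))))) (.node (.node (.node (.leaf (0, 0)) (.leaf (55, 189))) (.node (.leaf (31, 950)) (.leaf (48, 595)))) (.node (.node (.leaf (56, 1079)) (.leaf (0, 0))) (.node (.leaf (54, 676)) (.leaf (54, 1201))))))))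

def bigVia45 : Janko.Tree (ℕ × ℕ) :=
  (.node (.node (.node (.node (.node (.node (.node (.leaf (0, 0)) (.leaf (49, 96))) (.leaf (0, 0))) (.node (.leaf (0, 0)) (.leaf (48, 1177)))) (.node (.node (.leaf (24, 176)) (.leaf (52, 865))) (.node (.leaf (0, 0)) (.leaf (3, 714))))) (.node (.node (.node (.node (.leaf (0, 0)) (.leaf (23, 71))) (.leaf (0, 0))) (.node (.leaf (56, 395)) (.leaf (19, 3)))) (.node (.node (.leaf (0, 0)) (.leaf (4, 951))) (.node (.leaf (0, 0)) (.leaf (56, 1295)))))) (.node (.node (.node (.node (.node (.leaf (0, 0)) (.leaf (51, 1423))) (.leaf (0, 0))) (.node (.leaf (12, 797)) (.leaf (56, 822)))) (.node (.node (.leaf (55, 501)) (.leaf (51, 863))) (.node (.leaf (0, 0)) (.leaf (49, 1287))))) (.node (.node (.node (.leaf (0, 0)) (.leaf (0, 0))) (.node (.leaf (55, 892)) (.leaf (50, 1167)))) (.node (.node (.leaf (0, 0)) (.leaf (0, 0))) (.node (.leaf (0, 0)) (.leaf (56, 1439))))))) (.node (.node (.node (.node (.node (.node (.leaf (53, 862)) (.leaf (44, 735))) (.leaf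 (17, 719))) (.node (.leaf (0, 0)) (.leaf (53, 591)))) (.node (.node (.leaf (0, 0)) (.leaf (0, 0))) (.node (.leaf (52, 118)) (.leaf (50, 1231))))) (.node (.node (.node (.leaf (0, 0)) (.leaf (0, 0))) (.node (.leaf (56, 643)) (.leaf (16, 896)))) (.node (.node (.leaf (0, 0)) (.leaf (56, 1399))) (.node (.leaf (55, 339)) (.leaf (31, 609)))))) (.node (.node (.node (.node (.node (.leaf (0, 0)) (.leaf (51, 1196))) (.leaf (34, 315))) (.node (.leaf (0, 0)) (.leaf (56, 1424)))) (.node (.node (.leaf (0, 0)) (.leaf (0, 0))) (.node (.leaf (55, 1119)) (.leaf (32, 396))))) (.node (.node (.node (.leaf (0, 0)) (.leaf (46, 847))) (.node (.leaf (0, 0)) (.leaf (56, 698)))) (.node (.node (.leaf (0, 0)) (.leaf (55, 285))) (.node (.leaf (54, 1125)) (.leaf (56, 1261))))))))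

def bigVia46 : Janko.Tree (ℕ × ℕ) :=
  (.node (.node (.node (.node (.node (.node (.node (.leaf (0, 0)) (.leaf (55, 1117))) (.leaf (0, 0))) (.node (.leaf (41, 640)) (.leaf (17, 1221)))) (.node (.node (.leaf (0, 0)) (.leaf (0, 0))) (.node (.leaf (0, 0)) (.leaf (55, 1210))))) (.node (.node (.node (.node (.leaf (0, 0)) (.leaf (24, 913))) (.leaf (56, 1446))) (.node (.leaf (56, 442)) (.leaf (10, 609)))) (.node (.node (.leaf (0, 0)) (.leaf (0, 0))) (.node (.leaf (25, 92)) (.leaf (52, 829)))))) (.node (.node (.node (.node (.node (.leaf (4, 58)) (.leaf (52, 635))) (.leaf (55, 1239))) (.node (.leaf (0, 0)) (.leaf (46, 436)))) (.node (.node (.leaf (0, 0)) (.leaf (54, 111))) (.node (.leaf (0, 0)) (.leaf (50, 725))))) (.node (.node (.node (.leaf (0, 0)) (.leaf (30, 1126))) (.node (.leaf (0, 0)) (.leaf (28, 286)))) (.node (.node (.leaf (0, 0)) (.leaf (56, 1393))) (.node (.leaf (56, 1374)) (.leaf (55, 1338))))))) (.node (.node (.node (.node (.node (.node (.leaf (0, 0)) (.leaf (48, 1327)))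 (.leaf (0, 0))) (.node (.leaf (55, 378)) (.leaf (53, 564)))) (.node (.node (.leaf (0, 0)) (.leaf (54, 1411))) (.node (.leaf (5, 241)) (.leaf (42, 342))))) (.node (.node (.node (.leaf (40, 556)) (.leaf (54, 1345))) (.node (.leaf (0, 0)) (.leaf (19, 653)))) (.node (.node (.leaf (0, 0)) (.leaf (56, 1226))) (.node (.leaf (0, 0)) (.leaf (55, 422)))))) (.node (.node (.node (.node (.node (.leaf (0, 0)) (.leaf (55, 1443))) (.leaf (55, 762))) (.node (.leaf (24, 2)) (.leaf (0, 0)))) (.node (.node (.leaf (0, 0)) (.leaf (48, 1270))) (.node (.leaf (54, 843)) (.leaf (56, 1274))))) (.node (.node (.node (.leaf (0, 0)) (.leaf (52, 421))) (.node (.leaf (28, 217)) (.leaf (56, 628)))) (.node (.node (.leaf (0, 0)) (.leaf (51, 1018))) (.node (.leaf (53, 97)) (.leaf (54, 928))))))))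

def bigVia47 : Janko.Tree (ℕ × ℕ) :=
  (.node (.node (.node (.node (.node (.node (.node (.leaf (0, 0)) (.leaf (44, 1159))) (.leaf (49, 320))) (.node (.leaf (30, 657)) (.leaf (7, 1155)))) (.node (.node (.leaf (0, 0)) (.leaf (48, 869))) (.node (.leaf (51, 164)) (.leaf (56, 1397))))) (.node (.node (.node (.node (.leaf (0, 0)) (.leaf (25, 61))) (.leaf (55, 1098))) (.node (.leaf (55, 243)) (.leaf (10, 1125)))) (.node (.node (.leaf (56, 1086)) (.leaf (55, 973))) (.node (.leaf (0, 0)) (.leaf (56, 545)))))) (.node (.node (.node (.node (.node (.leaf (0, 0)) (.leaf (56, 494))) (.leaf (41, 16))) (.node (.leaf (25, 0)) (.leaf (30, 1218)))) (.node (.node (.leaf (55, 229)) (.leaf (56, 818))) (.node (.leaf (0, 0)) (.leaf (39, 809))))) (.node (.node (.node (.leaf (0, 0)) (.leaf (1, 826))) (.node (.leaf (48, 1138)) (.leaf (54, 403)))) (.node (.node (.leaf (0, 0)) (.leaf (55, 997))) (.node (.leaf (0, 0)) (.leaf (55, 1450))))))) (.node (.node (.node (.node (.node (.node (.leaf (3, 12)) (.leaf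 (51, 102))) (.leaf (51, 615))) (.node (.leaf (50, 827)) (.leaf (32, 582)))) (.node (.node (.leaf (0, 0)) (.leaf (52, 24))) (.node (.leaf (0, 0)) (.leaf (55, 995))))) (.node (.node (.node (.leaf (0, 0)) (.leaf (49, 1283))) (.node (.leaf (0, 0)) (.leaf (53, 653)))) (.node (.node (.leaf (0, 0)) (.leaf (55, 220))) (.node (.leaf (56, 386)) (.leaf (56, 1317)))))) (.node (.node (.node (.node (.node (.leaf (0, 0)) (.leaf (53, 8))) (.leaf (17, 144))) (.node (.leaf (0, 0)) (.leaf (55, 1177)))) (.node (.node (.leaf (0, 0)) (.leaf (0, 0))) (.node (.leaf (56, 1038)) (.leaf (56, 1368))))) (.node (.node (.node (.leaf (0, 0)) (.leaf (56, 1302))) (.node (.leaf (0, 0)) (.leaf (51, 464)))) (.node (.node (.leaf (0, 0)) (.leaf (49, 587))) (.node (.leaf (34, 310)) (.leaf (10, 502))))))))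

def bigVia48 : Janko.Tree (ℕ × ℕ) :=
  (.node (.node (.node (.node (.node (.node (.node (.leaf (0, 0)) (.leaf (49, 1402))) (.leaf (54, 8))) (.node (.leaf (43, 139)) (.leaf (29, 1040)))) (.node (.node (.leaf (54, 462)) (.leaf (49, 1401))) (.node (.leaf (56, 1339)) (.leaf (38, 764))))) (.node (.node (.node (.node (.leaf (0, 0)) (.leaf (26, 31))) (.leaf (51, 1359))) (.node (.leaf (53, 304)) (.leaf (50, 1260)))) (.node (.node (.leaf (15, 125)) (.leaf (0, 0))) (.node (.leaf (1, 993)) (.leaf (42, 1296)))))) (.node (.node (.node (.node (.node (.leaf (5, 287)) (.leaf (53, 1424))) (.leaf (0, 0))) (.node (.leaf (0, 0)) (.leaf (39, 133)))) (.node (.node (.leaf (55, 494)) (.leaf (56, 842))) (.node (.leaf (0, 0)) (.leaf (43, 51))))) (.node (.node (.node (.leaf (0, 0)) (.leaf (56, 1437))) (.node (.leaf (31, 97)) (.leaf (55, 1168)))) (.node (.node (.leaf (0, 0)) (.leaf (53, 586))) (.node (.leaf (0, 0)) (.leaf (55, 1265))))))) (.node (.node (.node (.node (.node (.node (.leaf (0, 0)) (.leaf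 (52, 732))) (.leaf (0, 0))) (.node (.leaf (46, 630)) (.leaf (55, 582)))) (.node (.node (.leaf (56, 208)) (.leaf (55, 1107))) (.node (.leaf (0, 0)) (.leaf (48, 342))))) (.node (.node (.node (.leaf (0, 0)) (.leaf (50, 469))) (.node (.leaf (7, 475)) (.leaf (55, 257)))) (.node (.node (.leaf (55, 68)) (.leaf (55, 976))) (.node (.leaf (55, 167)) (.leaf (56, 910)))))) (.node (.node (.node (.node (.node (.leaf (0, 0)) (.leaf (50, 1428))) (.leaf (43, 615))) (.node (.leaf (51, 991)) (.leaf (21, 615)))) (.node (.node (.leaf (0, 0)) (.leaf (0, 0))) (.node (.leaf (48, 677)) (.leaf (52, 1231))))) (.node (.node (.node (.leaf (0, 0)) (.leaf (56, 881))) (.node (.leaf (48, 28)) (.leaf (54, 713)))) (.node (.node (.leaf (20, 157)) (.leaf (55, 648))) (.node (.leaf (50, 1290)) (.leaf (56, 1225))))))))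

def bigVia49 : Janko.Tree (ℕ × ℕ) :=
  (.node (.node (.node (.node (.node (.node (.node (.leaf (0, 0)) (.leaf (54, 465))) (.leaf (37, 699))) (.node (.leaf (0, 0)) (.leaf (54, 320)))) (.node (.node (.leaf (0, 0)) (.leaf (53, 643))) (.node (.leaf (55, 884)) (.leaf (49, 627))))) (.node (.node (.node (.node (.leaf (0, 0)) (.leaf (27, 462))) (.leaf (17, 1395))) (.node (.leaf (54, 443)) (.leaf (10, 274)))) (.node (.node (.leaf (56, 108)) (.leaf (43, 1004))) (.node (.leaf (4, 998)) (.leaf (39, 1260)))))) (.node (.node (.node (.node (.node (.leaf (0, 0)) (.leaf (22, 640))) (.leaf (23, 1177))) (.node (.leaf (52, 35)) (.leaf (49, 314)))) (.node (.node (.leaf (0, 0)) (.leaf (53, 844))) (.node (.leaf (43, 1146)) (.leaf (25, 145))))) (.node (.node (.node (.leaf (0, 0)) (.leaf (23, 1251))) (.node (.leaf (0, 0)) (.leaf (1, 1168)))) (.node (.node (.leaf (0, 0)) (.leaf (0, 0))) (.node (.leaf (54, 1263)) (.leaf (51, 412))))))) (.node (.node (.node (.node (.node (.node (.leaf (25, 241)) (.leaf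 (55, 415))) (.leaf (43, 281))) (.node (.leaf (43, 379)) (.leaf (52, 515)))) (.node (.node (.leaf (0, 0)) (.leaf (33, 891))) (.node (.leaf (12, 1379)) (.leaf (55, 404))))) (.node (.node (.node (.leaf (0, 0)) (.leaf (55, 851))) (.node (.leaf (0, 0)) (.leaf (56, 660)))) (.node (.node (.leaf (0, 0)) (.leaf (53, 1044))) (.node (.leaf (0, 0)) (.leaf (56, 1059)))))) (.node (.node (.node (.node (.node (.leaf (0, 0)) (.leaf (52, 1153))) (.leaf (0, 0))) (.node (.leaf (48, 366)) (.leaf (38, 714)))) (.node (.node (.leaf (0, 0)) (.leaf (55, 487))) (.node (.leaf (0, 0)) (.leaf (56, 1202))))) (.node (.node (.node (.leaf (0, 0)) (.leaf (41, 1071))) (.node (.leaf (49, 507)) (.leaf (52, 464)))) (.node (.node (.leaf (0, 0)) (.leaf (29, 115))) (.node (.leaf (25, 310)) (.leaf (55, 686))))))))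

def bigVia50 : Janko.Tree (ℕ × ℕ) :=
  (.node (.node (.node (.node (.node (.node (.node (.leaf (20, 38)) (.leaf (56, 561))) (.leaf (55, 191))) (.node (.leaf (44, 145)) (.leaf (29, 856)))) (.node (.node (.leaf (0, 0)) (.leaf (0, 0))) (.node (.leaf (54, 698)) (.leaf (55, 466))))) (.node (.node (.node (.node (.leaf (0, 0)) (.leaf (28, 495))) (.leaf (0, 0))) (.node (.leaf (54, 421)) (.leaf (43, 1126)))) (.node (.node (.leaf (4, 158)) (.leaf (48, 325))) (.node (.leaf (56, 599)) (.leaf (56, 465)))))) (.node (.node (.node (.node (.node (.leaf (0, 0)) (.leaf (56, 604))) (.leaf (0, 0))) (.node (.leaf (0, 0)) (.leaf (49, 326)))) (.node (.node (.leaf (29, 92)) (.leaf (55, 159))) (.node (.leaf (0, 0)) (.leaf (56, 979))))) (.node (.node (.node (.leaf (0, 0)) (.leaf (51, 260))) (.node (.leaf (0, 0)) (.leaf (56, 1215)))) (.node (.node (.leaf (0, 0)) (.leaf (16, 998))) (.node (.leaf (0, 0)) (.leaf (47, 1398))))))) (.node (.node (.node (.node (.node (.node (.leaf (0, 0)) (.leaf (43, 1364)))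 (.leaf (52, 1093))) (.node (.leaf (0, 0)) (.leaf (55, 81)))) (.node (.node (.leaf (21, 475)) (.leaf (0, 0))) (.node (.leaf (26, 114)) (.leaf (56, 1155))))) (.node (.node (.node (.leaf (0, 0)) (.leaf (56, 536))) (.node (.leaf (0, 0)) (.leaf (49, 667)))) (.node (.node (.leaf (0, 0)) (.leaf (0, 0))) (.node (.leaf (0, 0)) (.leaf (49, 483)))))) (.node (.node (.node (.node (.node (.leaf (0, 0)) (.leaf (56, 988))) (.leaf (50, 1406))) (.node (.leaf (0, 0)) (.leaf (12, 639)))) (.node (.node (.leaf (0, 0)) (.leaf (56, 1337))) (.node (.leaf (0, 0)) (.leaf (55, 735))))) (.node (.node (.node (.leaf (29, 63)) (.leaf (55, 258))) (.node (.leaf (0, 0)) (.leaf (48, 323)))) (.node (.node (.leaf (0, 0)) (.leaf (0, 0))) (.node (.leaf (42, 1146)) (.leaf (56, 1325))))))))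

def bigVia51 : Janko.Tree (ℕ × ℕ) :=
  (.node (.node (.node (.node (.node (.node (.node (.leaf (0, 0)) (.leaf (49, 1306))) (.leaf (54, 399))) (.node (.leaf (30, 639)) (.leaf (49, 337)))) (.node (.node (.leaf (0, 0)) (.leaf (55, 434))) (.node (.leaf (0, 0)) (.leaf (48, 1431))))) (.node (.node (.node (.node (.leaf (0, 0)) (.leaf (29, 217))) (.leaf (56, 746))) (.node (.leaf (55, 282)) (.leaf (55, 1342)))) (.node (.node (.leaf (55, 273)) (.leaf (54, 1245))) (.node (.leaf (54, 154)) (.leaf (56, 1297)))))) (.node (.node (.node (.node (.node (.leaf (9, 632)) (.leaf (48, 1372))) (.leaf (49, 1395))) (.node (.leaf (12, 796)) (.leaf (55, 426)))) (.node (.node (.leaf (0, 0)) (.leaf (12, 193))) (.node (.leaf (54, 980)) (.leaf (56, 1335))))) (.node (.node (.node (.leaf (0, 0)) (.leaf (0, 0))) (.node (.leaf (0, 0)) (.leaf (16, 1169)))) (.node (.node (.leaf (0, 0)) (.leaf (53, 1085))) (.node (.leaf (17, 1127)) (.leaf (51, 1237))))))) (.node (.node (.node (.node (.node (.node (.leaf (0,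 0)) (.leaf (37, 933))) (.leaf (55, 729))) (.node (.leaf (35, 1240)) (.leaf (54, 109)))) (.node (.node (.leaf (0, 0)) (.leaf (55, 385))) (.node (.leaf (54, 454)) (.leaf (56, 1387))))) (.node (.node (.node (.leaf (0, 0)) (.leaf (51, 73))) (.node (.leaf (0, 0)) (.leaf (46, 1074)))) (.node (.node (.leaf (0, 0)) (.leaf (43, 977))) (.node (.leaf (0, 0)) (.leaf (42, 101)))))) (.node (.node (.node (.node (.node (.leaf (0, 0)) (.leaf (52, 1065))) (.leaf (48, 371))) (.node (.leaf (0, 0)) (.leaf (21, 616)))) (.node (.node (.leaf (0, 0)) (.leaf (50, 1041))) (.node (.leaf (56, 1289)) (.leaf (56, 1209))))) (.node (.node (.node (.leaf (0, 0)) (.leaf (0, 0))) (.node (.leaf (0, 0)) (.leaf (52, 242)))) (.node (.node (.leaf (0, 0)) (.leaf (45, 241))) (.node (.leaf (16, 952)) (.leaf (51, 470))))))))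

def bigVia52 : Janko.Tree (ℕ × ℕ) :=
  (.node (.node (.node (.node (.node (.node (.node (.leaf (0, 0)) (.leaf (55, 830))) (.leaf (15, 321))) (.node (.leaf (56, 612)) (.leaf (0, 0)))) (.node (.node (.leaf (54, 188)) (.leaf (51, 452))) (.node (.leaf (17, 195)) (.leaf (55, 1212))))) (.node (.node (.node (.node (.leaf (0, 0)) (.leaf (30, 288))) (.leaf (52, 246))) (.node (.leaf (3, 183)) (.leaf (56, 719)))) (.node (.node (.leaf (54, 678)) (.leaf (27, 495))) (.node (.leaf (56, 836)) (.leaf (55, 60)))))) (.node (.node (.node (.node (.node (.leaf (0, 0)) (.leaf (55, 963))) (.leaf (12, 1449))) (.node (.leaf (0, 0)) (.leaf (49, 1387)))) (.node (.node (.leaf (48, 148)) (.leaf (0, 0))) (.node (.leaf (0, 0)) (.leaf (55, 737))))) (.node (.node (.node (.leaf (0, 0)) (.leaf (0, 0))) (.node (.leaf (0, 0)) (.leaf (54, 855)))) (.node (.node (.leaf (0, 0)) (.leaf (49, 1050))) (.node (.leaf (1, 657)) (.leaf (56, 1372))))))) (.node (.node (.node (.node (.node (.node (.leaf (0, 0)) (.leaf (55,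 1166))) (.leaf (19, 369))) (.node (.leaf (55, 380)) (.leaf (55, 58)))) (.node (.node (.leaf (0, 0)) (.leaf (56, 892))) (.node (.leaf (18, 11)) (.leaf (51, 360))))) (.node (.node (.node (.leaf (0, 0)) (.leaf (55, 188))) (.node (.leaf (0, 0)) (.leaf (33, 167)))) (.node (.node (.leaf (0, 0)) (.leaf (56, 520))) (.node (.leaf (0, 0)) (.leaf (50, 1448)))))) (.node (.node (.node (.node (.node (.leaf (0, 0)) (.leaf (56, 1307))) (.leaf (55, 341))) (.node (.leaf (0, 0)) (.leaf (51, 319)))) (.node (.node (.leaf (56, 925)) (.leaf (48, 76))) (.node (.leaf (0, 0)) (.leaf (56, 935))))) (.node (.node (.node (.leaf (23, 552)) (.leaf (55, 831))) (.node (.leaf (48, 1120)) (.leaf (38, 16)))) (.node (.node (.leaf (0, 0)) (.leaf (12, 1020))) (.node (.leaf (55, 1125)) (.leaf (55, 1419))))))))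

def bigVia53 : Janko.Tree (ℕ × ℕ) :=
  (.node (.node (.node (.node (.node (.node (.node (.leaf (0, 0)) (.leaf (55, 1383))) (.leaf (39, 1140))) (.node (.leaf (0, 0)) (.leaf (55, 690)))) (.node (.node (.leaf (43, 464)) (.leaf (55, 871))) (.node (.leaf (55, 407)) (.leaf (49, 1228))))) (.node (.node (.node (.node (.leaf (0, 0)) (.leaf (31, 106))) (.leaf (56, 1176))) (.node (.leaf (50, 1191)) (.leaf (0, 0)))) (.node (.node (.leaf (53, 1062)) (.leaf (55, 1206))) (.node (.leaf (0, 0)) (.leaf (55, 763)))))) (.node (.node (.node (.node (.node (.leaf (0, 0)) (.leaf (54, 736))) (.leaf (55, 743))) (.node (.leaf (12, 382)) (.leaf (55, 445)))) (.node (.node (.leaf (0, 0)) (.leaf (48, 734))) (.node (.leaf (0, 0)) (.leaf (19, 1435))))) (.node (.node (.node (.leaf (0, 0)) (.leaf (55, 405))) (.node (.leaf (56, 487)) (.leaf (55, 855)))) (.node (.node (.leaf (54, 597)) (.leaf (41, 534))) (.node (.leaf (54, 696)) (.leaf (53, 874))))))) (.node (.node (.node (.node (.node (.node (.leaf (3, 39))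 (.leaf (49, 693))) (.leaf (46, 136))) (.node (.leaf (0, 0)) (.leaf (56, 1253)))) (.node (.node (.leaf (0, 0)) (.leaf (54, 450))) (.node (.leaf (9, 34)) (.leaf (54, 741))))) (.node (.node (.node (.leaf (0, 0)) (.leaf (0, 0))) (.node (.leaf (0, 0)) (.leaf (51, 872)))) (.node (.node (.leaf (0, 0)) (.leaf (56, 1062))) (.node (.leaf (53, 300)) (.leaf (56, 1252)))))) (.node (.node (.node (.node (.node (.leaf (0, 0)) (.leaf (50, 1447))) (.leaf (55, 379))) (.node (.leaf (53, 423)) (.leaf (56, 693)))) (.node (.node (.leaf (0, 0)) (.leaf (48, 725))) (.node (.leaf (54, 1008)) (.leaf (54, 227))))) (.node (.node (.node (.leaf (0, 0)) (.leaf (0, 0))) (.node (.leaf (0, 0)) (.leaf (48, 1087)))) (.node (.node (.leaf (0, 0)) (.leaf (52, 549))) (.node (.leaf (56, 775)) (.leaf (55, 666))))))))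

def bigVia54 : Janko.Tree (ℕ × ℕ) :=
  (.node (.node (.node (.node (.node (.node (.node (.leaf (0, 0)) (.leaf (43, 941))) (.leaf (12, 321))) (.node (.leaf (55, 584)) (.leaf (3, 567)))) (.node (.node (.leaf (0, 0)) (.leaf (55, 1372))) (.node (.leaf (19, 231)) (.leaf (0, 0))))) (.node (.node (.node (.node (.leaf (0, 0)) (.leaf (32, 826))) (.leaf (46, 1081))) (.node (.leaf (53, 1302)) (.leaf (49, 640)))) (.node (.node (.leaf (0, 0)) (.leaf (44, 913))) (.node (.leaf (15, 687)) (.leaf (55, 1366)))))) (.node (.node (.node (.node (.node (.leaf (0, 0)) (.leaf (56, 1426))) (.leaf (54, 345))) (.node (.leaf (0, 0)) (.leaf (0, 0)))) (.node (.node (.leaf (0, 0)) (.leaf (55, 914))) (.node (.leaf (0, 0)) (.leaf (46, 1374))))) (.node (.node (.node (.leaf (18, 105)) (.leaf (56, 986))) (.node (.leaf (0, 0)) (.leaf (40, 1170)))) (.node (.node (.leaf (0, 0)) (.leaf (55, 534))) (.node (.leaf (0, 0)) (.leaf (50, 1336))))))) (.node (.node (.node (.node (.node (.node (.leaf (0, 0)) (.leaf (56,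 1161))) (.leaf (56, 841))) (.node (.leaf (48, 37)) (.leaf (55, 585)))) (.node (.node (.leaf (4, 917)) (.leaf (55, 1299))) (.node (.leaf (14, 46)) (.leaf (46, 1404))))) (.node (.node (.node (.leaf (0, 0)) (.leaf (0, 0))) (.node (.leaf (42, 195)) (.leaf (54, 824)))) (.node (.node (.leaf (0, 0)) (.leaf (56, 1456))) (.node (.leaf (0, 0)) (.leaf (52, 753)))))) (.node (.node (.node (.node (.node (.leaf (0, 0)) (.leaf (55, 1261))) (.leaf (56, 767))) (.node (.leaf (54, 894)) (.leaf (56, 1106)))) (.node (.node (.leaf (0, 0)) (.leaf (52, 512))) (.node (.leaf (55, 594)) (.leaf (55, 331))))) (.node (.node (.node (.leaf (0, 0)) (.leaf (0, 0))) (.node (.leaf (0, 0)) (.leaf (51, 49)))) (.node (.node (.leaf (35, 271)) (.leaf (25, 3))) (.node (.leaf (0, 0)) (.leaf (56, 1362))))))))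

def bigVia55 : Janko.Tree (ℕ × ℕ) :=
  (.node (.node (.node (.node (.node (.node (.node (.leaf (0, 0)) (.leaf (56, 1398))) (.leaf (56, 744))) (.node (.leaf (54, 732)) (.leaf (0, 0)))) (.node (.node (.leaf (21, 189)) (.leaf (55, 1053))) (.node (.leaf (0, 0)) (.leaf (56, 1396))))) (.node (.node (.node (.node (.leaf (0, 0)) (.leaf (33, 231))) (.leaf (49, 6))) (.node (.leaf (0, 0)) (.leaf (25, 5)))) (.node (.node (.leaf (0, 0)) (.leaf (55, 957))) (.node (.leaf (25, 277)) (.leaf (49, 426)))))) (.node (.node (.node (.node (.node (.leaf (0, 0)) (.leaf (55, 938))) (.leaf (56, 756))) (.node (.leaf (0, 0)) (.leaf (54, 1335)))) (.node (.node (.leaf (0, 0)) (.leaf (0, 0))) (.node (.leaf (56, 1123)) (.leaf (56, 1039))))) (.node (.node (.node (.leaf (0, 0)) (.leaf (0, 0))) (.node (.leaf (9, 945)) (.leaf (55, 826)))) (.node (.node (.leaf (0, 0)) (.leaf (56, 435))) (.node (.leaf (44, 335)) (.leaf (47, 1341))))))) (.node (.node (.node (.node (.node (.node (.leaf (24, 125)) (.leaf (19, 586)))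 (.leaf (0, 0))) (.node (.leaf (0, 0)) (.leaf (56, 1428)))) (.node (.node (.leaf (5, 185)) (.leaf (55, 1399))) (.node (.leaf (24, 11)) (.leaf (49, 952))))) (.node (.node (.node (.leaf (23, 125)) (.leaf (0, 0))) (.node (.leaf (0, 0)) (.leaf (48, 1239)))) (.node (.node (.leaf (0, 0)) (.leaf (56, 1287))) (.node (.leaf (29, 274)) (.leaf (56, 1452)))))) (.node (.node (.node (.node (.node (.leaf (0, 0)) (.leaf (50, 918))) (.leaf (13, 1218))) (.node (.leaf (54, 366)) (.leaf (49, 922)))) (.node (.node (.leaf (0, 0)) (.leaf (54, 410))) (.node (.leaf (52, 266)) (.leaf (56, 1277))))) (.node (.node (.node (.leaf (0, 0)) (.leaf (52, 366))) (.node (.leaf (0, 0)) (.leaf (0, 0)))) (.node (.node (.leaf (0, 0)) (.leaf (0, 0))) (.node (.leaf (48, 62)) (.leaf (56, 1409))))))))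

def bigVia56 : Janko.Tree (ℕ × ℕ) :=
  (.node (.node (.node (.node (.node (.node (.node (.leaf (0, 0)) (.leaf (45, 1384))) (.leaf (0, 0))) (.node (.leaf (3, 360)) (.leaf (0, 0)))) (.node (.node (.leaf (14, 199)) (.leaf (54, 872))) (.node (.leaf (55, 680)) (.leaf (49, 1083))))) (.node (.node (.node (.node (.leaf (0, 0)) (.leaf (34, 39))) (.leaf (56, 1416))) (.node (.leaf (0, 0)) (.leaf (49, 1068)))) (.node (.node (.leaf (46, 543)) (.leaf (0, 0))) (.node (.leaf (0, 0)) (.leaf (56, 1417)))))) (.node (.node (.node (.node (.node (.leaf (56, 378)) (.leaf (50, 1453))) (.leaf (0, 0))) (.node (.leaf (0, 0)) (.leaf (0, 0)))) (.node (.node (.leaf (0, 0)) (.leaf (55, 1183))) (.node (.leaf (0, 0)) (.leaf (56, 1256))))) (.node (.node (.node (.leaf (25, 19)) (.leaf (55, 430))) (.node (.leaf (56, 488)) (.leaf (0, 0)))) (.node (.node (.leaf (54, 145)) (.leaf (46, 1000))) (.node (.leaf (0, 0)) (.leaf (49, 1090))))))) (.node (.node (.node (.node (.node (.node (.leaf (0, 0)) (.leaf (55, 1137)))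 (.leaf (56, 1173))) (.node (.leaf (0, 0)) (.leaf (56, 1114)))) (.node (.node (.leaf (12, 917)) (.leaf (0, 0))) (.node (.leaf (20, 45)) (.leaf (54, 1401))))) (.node (.node (.node (.leaf (0, 0)) (.leaf (0, 0))) (.node (.leaf (44, 567)) (.leaf (49, 655)))) (.node (.node (.leaf (30, 50)) (.leaf (0, 0))) (.node (.leaf (56, 571)) (.leaf (56, 1320)))))) (.node (.node (.node (.node (.node (.leaf (0, 0)) (.leaf (49, 1448))) (.leaf (55, 1230))) (.node (.leaf (0, 0)) (.leaf (56, 690)))) (.node (.node (.leaf (0, 0)) (.leaf (18, 936))) (.node (.leaf (55, 252)) (.leaf (55, 755))))) (.node (.node (.node (.leaf (0, 0)) (.leaf (56, 1061))) (.node (.leaf (0, 0)) (.leaf (33, 1192)))) (.node (.node (.leaf (20, 359)) (.leaf (49, 16))) (.node (.leaf (0, 0)) (.leaf (56, 1312))))))))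

def bigVia57 : Janko.Tree (ℕ × ℕ) :=
  (.node (.node (.node (.node (.node (.node (.node (.leaf (23, 19)) (.leaf (50, 682))) (.leaf (56, 1263))) (.node (.leaf (0, 0)) (.leaf (48, 681)))) (.node (.node (.leaf (12, 174)) (.leaf (0, 0))) (.node (.leaf (41, 649)) (.leaf (53, 404))))) (.node (.node (.node (.node (.leaf (0, 0)) (.leaf (35, 950))) (.leaf (48, 752))) (.node (.leaf (54, 1185)) (.leaf (44, 704)))) (.node (.node (.leaf (20, 110)) (.leaf (49, 368))) (.node (.leaf (55, 326)) (.leaf (56, 946)))))) (.node (.node (.node (.node (.node (.leaf (0, 0)) (.leaf (56, 1427))) (.leaf (51, 676))) (.node (.leaf (0, 0)) (.leaf (55, 1277)))) (.node (.node (.leaf (0, 0)) (.leaf (56, 1183))) (.node (.leaf (56, 1251)) (.leaf (55, 619))))) (.node (.node (.node (.leaf (0, 0)) (.leaf (52, 45))) (.node (.leaf (1, 488)) (.leaf (54, 49)))) (.node (.node (.leaf (0, 0)) (.leaf (55, 617))) (.node (.leaf (54, 430)) (.leaf (54, 1437))))))) (.node (.node (.node (.node (.node (.node (.leaf (0, 0))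 (.leaf (56, 633))) (.leaf (56, 1431))) (.node (.leaf (0, 0)) (.leaf (50, 1332)))) (.node (.node (.leaf (55, 211)) (.leaf (0, 0))) (.node (.leaf (55, 845)) (.leaf (10, 1235))))) (.node (.node (.node (.leaf (25, 287)) (.leaf (55, 1011))) (.node (.leaf (0, 0)) (.leaf (52, 1155)))) (.node (.node (.leaf (0, 0)) (.leaf (45, 979))) (.node (.leaf (0, 0)) (.leaf (49, 597)))))) (.node (.node (.node (.node (.node (.leaf (3, 9)) (.leaf (54, 949))) (.leaf (12, 359))) (.node (.leaf (0, 0)) (.leaf (31, 618)))) (.node (.node (.leaf (0, 0)) (.leaf (49, 1238))) (.node (.leaf (0, 0)) (.leaf (44, 1181))))) (.node (.node (.node (.leaf (25, 730)) (.leaf (43, 424))) (.node (.leaf (56, 953)) (.leaf (55, 377)))) (.node (.node (.leaf (49, 339)) (.leaf (55, 305))) (.node (.leaf (1, 858)) (.leaf (49, 1363))))))))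

def bigVia58 : Janko.Tree (ℕ × ℕ) :=
  (.node (.node (.node (.node (.node (.node (.node (.leaf (0, 0)) (.leaf (48, 665))) (.leaf (15, 323))) (.node (.leaf (9, 1218)) (.leaf (55, 49)))) (.node (.node (.leaf (0, 0)) (.leaf (52, 429))) (.node (.leaf (56, 859)) (.leaf (55, 1214))))) (.node (.node (.node (.node (.leaf (0, 0)) (.leaf (36, 404))) (.leaf (1, 787))) (.node (.leaf (10, 446)) (.leaf (55, 337)))) (.node (.node (.leaf (0, 0)) (.leaf (42, 1441))) (.node (.leaf (44, 172)) (.leaf (55, 745)))))) (.node (.node (.node (.node (.node (.leaf (21, 1)) (.leaf (55, 1442))) (.leaf (50, 1210))) (.node (.leaf (49, 167)) (.leaf (40, 602)))) (.node (.node (.leaf (0, 0)) (.leaf (54, 161))) (.node (.leaf (0, 0)) (.leaf (50, 999))))) (.node (.node (.node (.leaf (0, 0)) (.leaf (49, 830))) (.node (.leaf (0, 0)) (.leaf (52, 338)))) (.node (.node (.leaf (56, 840)) (.leaf (56, 787))) (.node (.leaf (0, 0)) (.leaf (56, 1445))))))) (.node (.node (.node (.node (.node (.node (.leaf (25, 18)) (.leaf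 (48, 1011))) (.leaf (25, 136))) (.node (.leaf (0, 0)) (.leaf (55, 598)))) (.node (.node (.leaf (0, 0)) (.leaf (55, 894))) (.node (.leaf (56, 301)) (.leaf (56, 742))))) (.node (.node (.node (.leaf (0, 0)) (.leaf (56, 903))) (.node (.leaf (0, 0)) (.leaf (19, 1434)))) (.node (.node (.leaf (0, 0)) (.leaf (56, 781))) (.node (.leaf (56, 1019)) (.leaf (56, 1357)))))) (.node (.node (.node (.node (.node (.leaf (0, 0)) (.leaf (43, 1342))) (.leaf (49, 786))) (.node (.leaf (55, 85)) (.leaf (51, 514)))) (.node (.node (.leaf (0, 0)) (.leaf (0, 0))) (.node (.leaf (0, 0)) (.leaf (50, 1278))))) (.node (.node (.node (.leaf (0, 0)) (.leaf (55, 74))) (.node (.leaf (3, 947)) (.leaf (55, 133)))) (.node (.node (.leaf (0, 0)) (.leaf (56, 1010))) (.node (.leaf (0, 0)) (.leaf (55, 634))))))))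

def bigVia59 : Janko.Tree (ℕ × ℕ) :=
  (.node (.node (.node (.node (.node (.node (.node (.leaf (0, 0)) (.leaf (51, 1284))) (.leaf (0, 0))) (.node (.leaf (0, 0)) (.leaf (55, 791)))) (.node (.node (.leaf (0, 0)) (.leaf (56, 873))) (.node (.leaf (0, 0)) (.leaf (55, 925))))) (.node (.node (.node (.node (.leaf (23, 38)) (.leaf (37, 349))) (.leaf (54, 183))) (.node (.leaf (0, 0)) (.leaf (56, 1129)))) (.node (.node (.leaf (20, 288)) (.leaf (49, 209))) (.node (.leaf (56, 617)) (.leaf (56, 673)))))) (.node (.node (.node (.node (.node (.leaf (25, 73)) (.leaf (54, 554))) (.leaf (0, 0))) (.node (.leaf (53, 1251)) (.leaf (0, 0)))) (.node (.node (.leaf (0, 0)) (.leaf (54, 625))) (.node (.leaf (50, 1098)) (.leaf (55, 1257))))) (.node (.node (.node (.leaf (0, 0)) (.leaf (0, 0))) (.node (.leaf (4, 539)) (.leaf (55, 276)))) (.node (.node (.leaf (0, 0)) (.leaf (55, 32))) (.node (.leaf (0, 0)) (.leaf (0, 0))))))) (.node (.node (.node (.node (.node (.node (.leaf (0, 0)) (.leaf (49, 561))) (.leaf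 (12, 153))) (.node (.leaf (56, 193)) (.leaf (0, 0)))) (.node (.node (.leaf (55, 129)) (.leaf (54, 994))) (.node (.leaf (56, 1040)) (.leaf (0, 0))))) (.node (.node (.node (.leaf (0, 0)) (.leaf (8, 548))) (.node (.leaf (48, 1169)) (.leaf (55, 590)))) (.node (.node (.leaf (8, 656)) (.leaf (0, 0))) (.node (.leaf (43, 552)) (.leaf (55, 1321)))))) (.node (.node (.node (.node (.node (.leaf (12, 65)) (.leaf (8, 788))) (.leaf (55, 184))) (.node (.leaf (3, 425)) (.leaf (56, 1242)))) (.node (.node (.leaf (0, 0)) (.leaf (42, 1356))) (.node (.leaf (55, 782)) (.leaf (55, 335))))) (.node (.node (.node (.leaf (0, 0)) (.leaf (56, 966))) (.node (.leaf (1, 1056)) (.leaf (56, 1193)))) (.node (.node (.leaf (56, 663)) (.leaf (56, 1233))) (.node (.leaf (48, 1080)) (.leaf (51, 353))))))))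

def bigVia60 : Janko.Tree (ℕ × ℕ) :=
  (.node (.node (.node (.node (.node (.node (.node (.leaf (0, 0)) (.leaf (54, 340))) (.leaf (4, 710))) (.node (.leaf (0, 0)) (.leaf (56, 1363)))) (.node (.node (.leaf (52, 438)) (.leaf (43, 180))) (.node (.leaf (43, 1195)) (.leaf (53, 1047))))) (.node (.node (.node (.node (.leaf (0, 0)) (.leaf (38, 0))) (.leaf (16, 788))) (.node (.leaf (51, 303)) (.leaf (37, 78)))) (.node (.node (.leaf (0, 0)) (.leaf (0, 0))) (.node (.leaf (0, 0)) (.leaf (0, 0)))))) (.node (.node (.node (.node (.node (.leaf (23, 116)) (.leaf (55, 1428))) (.leaf (56, 1244))) (.node (.leaf (0, 0)) (.leaf (39, 21)))) (.node (.node (.leaf (0, 0)) (.leaf (0, 0))) (.node (.leaf (0, 0)) (.leaf (51, 1435))))) (.node (.node (.node (.leaf (3, 148)) (.leaf (55, 183))) (.node (.leaf (24, 917)) (.leaf (26, 789)))) (.node (.node (.leaf (0, 0)) (.leaf (56, 813))) (.node (.leaf (53, 260)) (.leaf (56, 1201))))))) (.node (.node (.node (.node (.node (.node (.leaf (0, 0)) (.leaf (54, 1162)))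 (.leaf (55, 724))) (.node (.leaf (0, 0)) (.leaf (54, 1422)))) (.node (.node (.leaf (46, 619)) (.leaf (56, 802))) (.node (.leaf (0, 0)) (.leaf (46, 1236))))) (.node (.node (.node (.leaf (48, 114)) (.leaf (1, 809))) (.node (.leaf (0, 0)) (.leaf (51, 1180)))) (.node (.node (.leaf (55, 1151)) (.leaf (55, 980))) (.node (.leaf (0, 0)) (.leaf (55, 1244)))))) (.node (.node (.node (.node (.node (.leaf (0, 0)) (.leaf (56, 1240))) (.leaf (0, 0))) (.node (.leaf (0, 0)) (.leaf (56, 870)))) (.node (.node (.leaf (0, 0)) (.leaf (50, 1449))) (.node (.leaf (56, 1301)) (.leaf (38, 319))))) (.node (.node (.node (.leaf (0, 0)) (.leaf (0, 0))) (.node (.leaf (16, 339)) (.leaf (55, 94)))) (.node (.node (.leaf (0, 0)) (.leaf (0, 0))) (.node (.leaf (48, 337)) (.leaf (56, 1404))))))))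

def bigVia61 : Janko.Tree (ℕ × ℕ) :=
  (.node (.node (.node (.node (.node (.node (.node (.leaf (0, 0)) (.leaf (52, 674))) (.leaf (52, 1051))) (.node (.leaf (55, 1170)) (.leaf (55, 403)))) (.node (.node (.leaf (3, 191)) (.leaf (55, 883))) (.node (.leaf (51, 907)) (.leaf (55, 92))))) (.node (.node (.node (.node (.leaf (20, 92)) (.leaf (39, 1170))) (.leaf (54, 343))) (.node (.leaf (56, 990)) (.leaf (56, 505)))) (.node (.node (.leaf (0, 0)) (.leaf (56, 402))) (.node (.leaf (48, 41)) (.leaf (55, 863)))))) (.node (.node (.node (.node (.node (.leaf (0, 0)) (.leaf (55, 1162))) (.leaf (55, 967))) (.node (.leaf (0, 0)) (.leaf (6, 1087)))) (.node (.node (.leaf (55, 320)) (.leaf (42, 933))) (.node (.leaf (56, 1167)) (.leaf (0, 0))))) (.node (.node (.node (.leaf (23, 46)) (.leaf (56, 1389))) (.node (.leaf (5, 1347)) (.leaf (52, 1080)))) (.node (.node (.leaf (29, 129)) (.leaf (55, 90))) (.node (.leaf (54, 99)) (.leaf (55, 613))))))) (.node (.node (.node (.node (.node (.node (.leaf (0,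 0)) (.leaf (40, 1407))) (.leaf (16, 1020))) (.node (.leaf (56, 283)) (.leaf (0, 0)))) (.node (.node (.leaf (0, 0)) (.leaf (56, 895))) (.node (.leaf (0, 0)) (.leaf (54, 996))))) (.node (.node (.node (.leaf (0, 0)) (.leaf (10, 287))) (.node (.leaf (52, 196)) (.leaf (7, 1156)))) (.node (.node (.leaf (0, 0)) (.leaf (0, 0))) (.node (.leaf (29, 288)) (.leaf (55, 788)))))) (.node (.node (.node (.node (.node (.leaf (0, 0)) (.leaf (22, 738))) (.leaf (13, 361))) (.node (.leaf (12, 413)) (.leaf (55, 965)))) (.node (.node (.leaf (0, 0)) (.leaf (56, 766))) (.node (.leaf (51, 1218)) (.leaf (56, 1238))))) (.node (.node (.node (.leaf (6, 425)) (.leaf (16, 947))) (.node (.leaf (56, 1385)) (.leaf (46, 452)))) (.node (.node (.leaf (42, 379)) (.leaf (25, 1023))) (.node (.leaf (20, 47)) (.leaf (55, 781))))))))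

def bigVia62 : Janko.Tree (ℕ × ℕ) :=
  (.node (.node (.node (.node (.node (.node (.node (.leaf (0, 0)) (.leaf (54, 1386))) (.leaf (52, 1172))) (.node (.leaf (56, 407)) (.leaf (56, 1355)))) (.node (.node (.leaf (0, 0)) (.leaf (56, 1322))) (.node (.leaf (56, 765)) (.leaf (53, 728))))) (.node (.node (.node (.node (.leaf (0, 0)) (.leaf (40, 1449))) (.leaf (10, 1240))) (.node (.leaf (47, 1127)) (.leaf (55, 1130)))) (.node (.node (.leaf (0, 0)) (.leaf (0, 0))) (.node (.leaf (0, 0)) (.leaf (54, 861)))))) (.node (.node (.node (.node (.node (.leaf (0, 0)) (.leaf (48, 1220))) (.leaf (15, 346))) (.node (.leaf (0, 0)) (.leaf (23, 230)))) (.node (.node (.leaf (8, 494)) (.leaf (55, 161))) (.node (.leaf (25, 101)) (.leaf (55, 56))))) (.node (.node (.node (.leaf (3, 16)) (.leaf (55, 1215))) (.node (.leaf (49, 490)) (.leaf (0, 0)))) (.node (.node (.leaf (0, 0)) (.leaf (53, 371))) (.node (.leaf (21, 1146)) (.leaf (56, 1243))))))) (.node (.node (.node (.node (.node (.node (.leaf (0, 0)) (.leaf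 (51, 789))) (.leaf (54, 1105))) (.node (.leaf (56, 230)) (.leaf (0, 0)))) (.node (.node (.leaf (55, 399)) (.leaf (0, 0))) (.node (.leaf (0, 0)) (.leaf (56, 1154))))) (.node (.node (.node (.leaf (0, 0)) (.leaf (56, 944))) (.node (.leaf (0, 0)) (.leaf (22, 1395)))) (.node (.node (.leaf (0, 0)) (.leaf (55, 1379))) (.node (.leaf (0, 0)) (.leaf (51, 997)))))) (.node (.node (.node (.node (.node (.leaf (0, 0)) (.leaf (56, 1450))) (.leaf (0, 0))) (.node (.leaf (48, 1424)) (.leaf (0, 0)))) (.node (.node (.leaf (0, 0)) (.leaf (55, 1213))) (.node (.leaf (56, 914)) (.leaf (56, 807))))) (.node (.node (.node (.leaf (0, 0)) (.leaf (53, 904))) (.node (.leaf (55, 620)) (.leaf (56, 1419)))) (.node (.node (.leaf (56, 1184)) (.leaf (49, 1229))) (.node (.leaf (56, 772)) (.leaf (55, 1413))))))))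

def bigVia63 : Janko.Tree (ℕ × ℕ) :=
  (.node (.node (.node (.node (.node (.node (.node (.leaf (0, 0)) (.leaf (44, 202))) (.leaf (0, 0))) (.node (.leaf (0, 0)) (.leaf (56, 1073)))) (.node (.node (.leaf (52, 33)) (.leaf (51, 180))) (.node (.leaf (55, 533)) (.leaf (55, 333))))) (.node (.node (.node (.node (.leaf (0, 0)) (.leaf (41, 1126))) (.leaf (27, 603))) (.node (.leaf (56, 459)) (.leaf (55, 1373)))) (.node (.node (.leaf (0, 0)) (.leaf (49, 62))) (.node (.leaf (0, 0)) (.leaf (56, 1110)))))) (.node (.node (.node (.node (.node (.leaf (48, 1)) (.leaf (23, 44))) (.leaf (0, 0))) (.node (.leaf (0, 0)) (.leaf (12, 323)))) (.node (.node (.leaf (0, 0)) (.leaf (3, 917))) (.node (.leaf (3, 250)) (.leaf (55, 30))))) (.node (.node (.node (.leaf (0, 0)) (.leaf (0, 0))) (.node (.leaf (52, 394)) (.leaf (54, 1173)))) (.node (.node (.leaf (25, 163)) (.leaf (49, 384))) (.node (.leaf (0, 0)) (.leaf (55, 1354))))))) (.node (.node (.node (.node (.node (.node (.leaf (0, 0)) (.leaf (56, 1058)))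 (.leaf (3, 335))) (.node (.leaf (56, 224)) (.leaf (49, 637)))) (.node (.node (.leaf (56, 513)) (.leaf (55, 945))) (.node (.leaf (56, 246)) (.leaf (0, 0))))) (.node (.node (.node (.leaf (0, 0)) (.leaf (56, 1345))) (.node (.leaf (48, 408)) (.leaf (56, 1060)))) (.node (.node (.leaf (0, 0)) (.leaf (50, 1437))) (.node (.leaf (12, 288)) (.leaf (50, 1000)))))) (.node (.node (.node (.node (.node (.leaf (4, 425)) (.leaf (55, 1237))) (.leaf (48, 54))) (.node (.leaf (55, 740)) (.leaf (55, 1109)))) (.node (.node (.leaf (52, 1429)) (.leaf (55, 480))) (.node (.leaf (46, 597)) (.leaf (55, 1246))))) (.node (.node (.node (.leaf (0, 0)) (.leaf (55, 853))) (.node (.leaf (55, 235)) (.leaf (54, 1136)))) (.node (.node (.leaf (7, 730)) (.leaf (56, 1386))) (.node (.leaf (52, 1048)) (.leaf (55, 1365))))))))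

def bigVia : Janko.Tree (ℕ × ℕ) := (.node (.node (.node (.node (.node (.node bigVia0 bigVia32) (.node bigVia16 bigVia48)) (.node (.node bigVia8 bigVia40) (.node bigVia24 bigVia56))) (.node (.node (.node bigVia4 bigVia36) (.node bigVia20 bigVia52)) (.node (.node bigVia12 bigVia44) (.node bigVia28 bigVia60)))) (.node (.node (.node (.node bigVia2 bigVia34) (.node bigVia18 bigVia50)) (.node (.node bigVia10 bigVia42) (.node bigVia26 bigVia58))) (.node (.node (.node bigVia6 bigVia38) (.node bigVia22 bigVia54)) (.node (.node bigVia14 bigVia46) (.node bigVia30 bigVia62))))) (.node (.node (.node (.node (.node bigVia1 bigVia33) (.node bigVia17 bigVia49)) (.node (.node bigVia9 bigVia41) (.node bigVia25 bigVia57))) (.node (.node (.node bigVia5 bigVia37) (.node bigVia21 bigVia53)) (.node (.node bigVia13 bigVia45) (.node bigVia29 bigVia61)))) (.node (.node (.node (.node bigVia3 bigVia35) (.node bigVia19 bigVia51)) (.node (.node bigVia11 bigVia43) (.node bigVia27 bigVia59))) (.node (.node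 (.node bigVia7 bigVia39) (.node bigVia23 bigVia55)) (.node (.node bigVia15 bigVia47) (.node bigVia31 bigVia63))))))

def bigOrd0 : Janko.Tree (ℕ) :=
  (.node (.node (.node (.node (.node (.node (.node (.leaf 0) (.leaf 687)) (.leaf 1373)) (.node (.node (.leaf 467) (.leaf 683)) (.leaf 884))) (.node (.node (.node (.leaf 965) (.leaf 789)) (.leaf 1139)) (.node (.node (.leaf 517) (.leaf 682)) (.leaf 1080)))) (.node (.node (.node (.node (.leaf 471) (.leaf 382)) (.leaf 83)) (.node (.node (.leaf 112) (.leaf 461)) (.leaf 672))) (.node (.node (.node (.leaf 1448) (.leaf 127)) (.leaf 771)) (.node (.leaf 1040) (.leaf 1353))))) (.node (.node (.node (.node (.node (.leaf 89) (.leaf 869)) (.leaf 418)) (.node (.node (.leaf 597) (.leaf 1364)) (.leaf 574))) (.node (.node (.node (.leaf 301) (.leaf 16)) (.leaf 433)) (.node (.node (.leaf 363) (.leaf 750)) (.leaf 974)))) (.node (.node (.node (.node (.leaf 200) (.leaf 988)) (.leaf 649)) (.node (.node (.leaf 327) (.leaf 1152)) (.leaf 1122))) (.node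 (.node (.node (.leaf 1165) (.leaf 1199)) (.leaf 1247)) (.node (.leaf 450) (.leaf 1167)))))) (.node (.node (.node (.node (.node (.node (.leaf 1025) (.leaf 335)) (.leaf 175)) (.node (.node (.leaf 358) (.leaf 513)) (.leaf 1410))) (.node (.node (.node (.leaf 421) (.leaf 197)) (.leaf 278)) (.node (.node (.leaf 75) (.leaf 261)) (.leaf 391)))) (.node (.node (.node (.node (.leaf 785) (.leaf 1303)) (.leaf 1156)) (.node (.node (.leaf 1170) (.leaf 65)) (.leaf 416))) (.node (.node (.node (.leaf 408) (.leaf 82)) (.leaf 664)) (.node (.leaf 1271) (.leaf 525))))) (.node (.node (.node (.node (.node (.leaf 1202) (.leaf 1075)) (.leaf 1391)) (.node (.node (.leaf 532) (.leaf 365)) (.leaf 903))) (.node (.node (.node (.leaf 1041) (.leaf 1184)) (.leaf 1431)) (.node (.node (.leaf 110) (.leaf 721)) (.leaf 359)))) (.node (.node (.node (.node (.leaf 239) (.leaf 208)) (.leaf 334)) (.node (.node (.leaf 348) (.leaf 643)) (.leaf 514))) (.node (.node (.node (.leaf 246) (.leaf 98)) (.leaf 1077)) (.node (.leaf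 96) (.leaf 926)))))))

def bigOrd1 : Janko.Tree (ℕ) :=
  (.node (.node (.node (.node (.node (.node (.node (.leaf 1058) (.leaf 616)) (.leaf 670)) (.node (.node (.leaf 987) (.leaf 1277)) (.leaf 807))) (.node (.node (.node (.leaf 497) (.leaf 271)) (.leaf 1171)) (.node (.node (.leaf 1367) (.leaf 770)) (.leaf 435)))) (.node (.node (.node (.node (.leaf 311) (.leaf 1230)) (.leaf 1130)) (.node (.node (.leaf 1345) (.leaf 1396)) (.leaf 374))) (.node (.node (.node (.leaf 465) (.leaf 808)) (.leaf 826)) (.node (.leaf 168) (.leaf 1426))))) (.node (.node (.node (.node (.node (.leaf 1251) (.leaf 714)) (.leaf 868)) (.node (.node (.leaf 973) (.leaf 1432)) (.leaf 563))) (.node (.node (.node (.leaf 1180) (.leaf 198)) (.leaf 1168)) (.node (.node (.leaf 860) (.leaf 819)) (.leaf 635)))) (.node (.node (.node (.node (.leaf 1129) (.leaf 1376)) (.leaf 933)) (.node (.node (.leaf 700) (.leaf 41)) (.leaf 431))) (.node (.node (.node (.leaf 48) (.leaf 134)) (.leaf 944)) (.node (.leaf 1182) (.leaf 56))))))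 (.node (.node (.node (.node (.node (.node (.leaf 953) (.leaf 553)) (.leaf 526)) (.node (.node (.leaf 674) (.leaf 125)) (.leaf 1407))) (.node (.node (.node (.leaf 608) (.leaf 636)) (.leaf 252)) (.node (.node (.leaf 1138) (.leaf 97)) (.leaf 49)))) (.node (.node (.node (.node (.leaf 381) (.leaf 66)) (.leaf 21)) (.node (.node (.leaf 950) (.leaf 565)) (.leaf 352))) (.node (.node (.node (.leaf 114) (.leaf 975)) (.leaf 289)) (.node (.leaf 650) (.leaf 126))))) (.node (.node (.node (.node (.node (.leaf 39) (.leaf 737)) (.leaf 717)) (.node (.node (.leaf 660) (.leaf 283)) (.leaf 734))) (.node (.node (.node (.leaf 173) (.leaf 710)) (.leaf 803)) (.node (.node (.leaf 137) (.leaf 305)) (.leaf 675)))) (.node (.node (.node (.node (.leaf 1045) (.leaf 603)) (.leaf 587)) (.node (.node (.leaf 266) (.leaf 1037)) (.leaf 207))) (.node (.node (.node (.leaf 1420) (.leaf 228)) (.leaf 859)) (.node (.leaf 788) (.leaf 25)))))))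

def bigOrd2 : Janko.Tree (ℕ) :=
  (.node (.node (.node (.node (.node (.node (.node (.leaf 1457) (.leaf 70)) (.leaf 998)) (.node (.node (.leaf 1394) (.leaf 751)) (.leaf 984))) (.node (.node (.node (.leaf 392) (.leaf 360)) (.leaf 487)) (.node (.node (.leaf 285) (.leaf 668)) (.leaf 472)))) (.node (.node (.node (.node (.leaf 800) (.leaf 237)) (.leaf 882)) (.node (.node (.leaf 634) (.leaf 923)) (.leaf 764))) (.node (.node (.node (.leaf 1119) (.leaf 679)) (.leaf 601)) (.node (.leaf 1377) (.leaf 169))))) (.node (.node (.node (.node (.node (.leaf 1340) (.leaf 748)) (.leaf 736)) (.node (.node (.leaf 1038) (.leaf 855)) (.leaf 59))) (.node (.node (.node (.leaf 22) (.leaf 662)) (.leaf 915)) (.node (.node (.leaf 935) (.leaf 1187)) (.leaf 1143)))) (.node (.node (.node (.node (.leaf 1087) (.leaf 1441)) (.leaf 620)) (.node (.node (.leaf 78) (.leaf 1349)) (.leaf 939))) (.node (.node (.node (.leaf 583) (.leaf 783)) (.leaf 1110)) (.node (.leaf 489) (.leaf 279)))))) (.node (.node (.node (.node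 (.node (.node (.leaf 872) (.leaf 924)) (.leaf 1262)) (.node (.node (.leaf 561) (.leaf 744)) (.leaf 590))) (.node (.node (.node (.leaf 470) (.leaf 322)) (.leaf 446)) (.node (.node (.leaf 1221) (.leaf 265)) (.leaf 388)))) (.node (.node (.node (.node (.leaf 729) (.leaf 1323)) (.leaf 1217)) (.node (.node (.leaf 833) (.leaf 442)) (.leaf 1300))) (.node (.node (.node (.leaf 1355) (.leaf 411)) (.leaf 677)) (.node (.leaf 317) (.leaf 1118))))) (.node (.node (.node (.node (.node (.leaf 211) (.leaf 1095)) (.leaf 1227)) (.node (.node (.leaf 696) (.leaf 922)) (.leaf 610))) (.node (.node (.node (.leaf 585) (.leaf 379)) (.leaf 584)) (.node (.leaf 863) (.leaf 457)))) (.node (.node (.node (.node (.leaf 103) (.leaf 1272)) (.leaf 148)) (.node (.node (.leaf 780) (.leaf 866)) (.leaf 51))) (.node (.node (.node (.leaf 778) (.leaf 956)) (.leaf 952)) (.node (.leaf 697) (.leaf 605)))))))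

def bigOrd3 : Janko.Tree (ℕ) :=
  (.node (.node (.node (.node (.node (.node (.node (.leaf 1151) (.leaf 708)) (.leaf 400)) (.node (.node (.leaf 295) (.leaf 444)) (.leaf 493))) (.node (.node (.node (.leaf 1185) (.leaf 852)) (.leaf 220)) (.node (.node (.leaf 1166) (.leaf 544)) (.leaf 836)))) (.node (.node (.node (.node (.leaf 614) (.leaf 1207)) (.leaf 1197)) (.node (.node (.leaf 1316) (.leaf 1163)) (.leaf 407))) (.node (.node (.node (.leaf 1028) (.leaf 1104)) (.leaf 339)) (.node (.leaf 545) (.leaf 7))))) (.node (.node (.node (.node (.node (.leaf 1150) (.leaf 689)) (.leaf 1065)) (.node (.node (.leaf 458) (.leaf 116)) (.leaf 1102))) (.node (.node (.node (.leaf 331) (.leaf 1012)) (.leaf 23)) (.node (.node (.leaf 1090) (.leaf 914)) (.leaf 1292)))) (.node (.node (.node (.node (.leaf 464) (.leaf 32)) (.leaf 980)) (.node (.node (.leaf 823) (.leaf 1343)) (.leaf 27))) (.node (.node (.node (.leaf 1205) (.leaf 1085)) (.leaf 1193)) (.node (.leaf 991) (.leaf 982)))))) (.node (.node (.node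 (.node (.node (.node (.leaf 572) (.leaf 551)) (.leaf 925)) (.node (.node (.leaf 898) (.leaf 1438)) (.leaf 940))) (.node (.node (.node (.leaf 727) (.leaf 1013)) (.leaf 1153)) (.node (.node (.leaf 802) (.leaf 135)) (.leaf 612)))) (.node (.node (.node (.node (.leaf 539) (.leaf 1290)) (.leaf 1218)) (.node (.node (.leaf 508) (.leaf 15)) (.leaf 828))) (.node (.node (.node (.leaf 1419) (.leaf 850)) (.leaf 181)) (.node (.leaf 403) (.leaf 1295))))) (.node (.node (.node (.node (.node (.leaf 1210) (.leaf 1141)) (.leaf 1026)) (.node (.node (.leaf 936) (.leaf 1162)) (.leaf 530))) (.node (.node (.node (.leaf 425) (.leaf 143)) (.leaf 948)) (.node (.leaf 930) (.leaf 899)))) (.node (.node (.node (.node (.leaf 485) (.leaf 1035)) (.leaf 806)) (.node (.node (.leaf 257) (.leaf 2)) (.leaf 507))) (.node (.node (.node (.leaf 398) (.leaf 1124)) (.leaf 784)) (.node (.leaf 1439) (.leaf 1059)))))))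

def bigOrd4 : Janko.Tree (ℕ) :=
  (.node (.node (.node (.node (.node (.node (.node (.leaf 85) (.leaf 1066)) (.leaf 777)) (.node (.node (.leaf 1275) (.leaf 370)) (.leaf 413))) (.node (.node (.node (.leaf 52) (.leaf 161)) (.leaf 910)) (.node (.node (.leaf 1270) (.leaf 960)) (.leaf 250)))) (.node (.node (.node (.node (.leaf 1096) (.leaf 185)) (.leaf 119)) (.node (.node (.leaf 1029) (.leaf 366)) (.leaf 790))) (.node (.node (.node (.leaf 1238) (.leaf 793)) (.leaf 637)) (.node (.leaf 492) (.leaf 179))))) (.node (.node (.node (.node (.node (.leaf 1022) (.leaf 579)) (.leaf 1311)) (.node (.node (.leaf 651) (.leaf 1253)) (.leaf 1452))) (.node (.node (.node (.leaf 61) (.leaf 206)) (.leaf 928)) (.node (.node (.leaf 621) (.leaf 445)) (.leaf 762)))) (.node (.node (.node (.node (.leaf 390) (.leaf 566)) (.leaf 152)) (.node (.node (.leaf 1196) (.leaf 1401)) (.leaf 1310))) (.node (.node (.node (.leaf 1451) (.leaf 995)) (.leaf 1208)) (.node (.leaf 589) (.leaf 895)))))) (.node (.node (.node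 (.node (.node (.node (.leaf 1279) (.leaf 787)) (.leaf 296)) (.node (.node (.leaf 99) (.leaf 1259)) (.leaf 546))) (.node (.node (.node (.leaf 1248) (.leaf 676)) (.leaf 115)) (.node (.node (.leaf 373) (.leaf 993)) (.leaf 907)))) (.node (.node (.node (.node (.leaf 1147) (.leaf 1318)) (.leaf 482)) (.node (.node (.leaf 533) (.leaf 340)) (.leaf 469))) (.node (.node (.node (.leaf 1352) (.leaf 578)) (.leaf 1297)) (.node (.leaf 484) (.leaf 840))))) (.node (.node (.node (.node (.node (.leaf 1285) (.leaf 971)) (.leaf 67)) (.node (.node (.leaf 1018) (.leaf 712)) (.leaf 667))) (.node (.node (.node (.leaf 886) (.leaf 815)) (.leaf 1254)) (.node (.leaf 1429) (.leaf 520)))) (.node (.node (.node (.node (.leaf 1211) (.leaf 276)) (.leaf 286)) (.node (.node (.leaf 586) (.leaf 383)) (.leaf 536))) (.node (.node (.node (.leaf 1357) (.leaf 45)) (.leaf 656)) (.node (.leaf 426) (.leaf 691)))))))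

def bigOrd5 : Janko.Tree (ℕ) :=
  (.node (.node (.node (.node (.node (.node (.node (.leaf 1237) (.leaf 569)) (.leaf 1229)) (.node (.node (.leaf 1056) (.leaf 1263)) (.leaf 93))) (.node (.node (.node (.leaf 389) (.leaf 945)) (.leaf 917)) (.node (.node (.leaf 1304) (.leaf 1093)) (.leaf 528)))) (.node (.node (.node (.node (.leaf 38) (.leaf 1044)) (.leaf 1236)) (.node (.node (.leaf 43) (.leaf 1436)) (.leaf 1315))) (.node (.node (.node (.leaf 797) (.leaf 698)) (.leaf 307)) (.node (.leaf 80) (.leaf 724))))) (.node (.node (.node (.node (.node (.leaf 912) (.leaf 880)) (.leaf 920)) (.node (.node (.leaf 1107) (.leaf 12)) (.leaf 130))) (.node (.node (.node (.leaf 1321) (.leaf 133)) (.leaf 1004)) (.node (.node (.leaf 831) (.leaf 1189)) (.leaf 100)))) (.node (.node (.node (.node (.leaf 704) (.leaf 1175)) (.leaf 795)) (.node (.node (.leaf 1278) (.leaf 1380)) (.leaf 1331))) (.node (.node (.node (.leaf 1136) (.leaf 663)) (.leaf 755)) (.node (.leaf 76) (.leaf 929)))))) (.node (.node (.node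 (.node (.node (.node (.leaf 182) (.leaf 203)) (.leaf 204)) (.node (.node (.leaf 624) (.leaf 555)) (.leaf 4))) (.node (.node (.node (.leaf 436) (.leaf 666)) (.leaf 124)) (.node (.node (.leaf 1137) (.leaf 994)) (.leaf 607)))) (.node (.node (.node (.node (.leaf 1123) (.leaf 401)) (.leaf 830)) (.node (.node (.leaf 244) (.leaf 1115)) (.leaf 1188))) (.node (.node (.node (.leaf 669) (.leaf 564)) (.leaf 1072)) (.node (.leaf 1222) (.leaf 429))))) (.node (.node (.node (.node (.node (.leaf 756) (.leaf 1342)) (.leaf 319)) (.node (.node (.leaf 1424) (.leaf 1330)) (.leaf 1195))) (.node (.node (.node (.leaf 822) (.leaf 983)) (.leaf 1302)) (.node (.leaf 364) (.leaf 111)))) (.node (.node (.node (.node (.leaf 447) (.leaf 323)) (.leaf 812)) (.node (.node (.leaf 1239) (.leaf 213)) (.leaf 1242))) (.node (.node (.node (.leaf 149) (.leaf 847)) (.leaf 874)) (.node (.leaf 121) (.leaf 223)))))))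

def bigOrd6 : Janko.Tree (ℕ) :=
  (.node (.node (.node (.node (.node (.node (.node (.leaf 1054) (.leaf 1326)) (.leaf 1173)) (.node (.node (.leaf 58) (.leaf 1241)) (.leaf 132))) (.node (.node (.node (.leaf 638) (.leaf 653)) (.leaf 879)) (.node (.node (.leaf 1329) (.leaf 369)) (.leaf 692)))) (.node (.node (.node (.node (.leaf 475) (.leaf 1276)) (.leaf 37)) (.node (.node (.leaf 1126) (.leaf 918)) (.leaf 44))) (.node (.node (.node (.leaf 1430) (.leaf 970)) (.leaf 1386)) (.node (.leaf 60) (.leaf 1402))))) (.node (.node (.node (.node (.node (.leaf 1348) (.leaf 1021)) (.leaf 165)) (.node (.node (.leaf 170) (.leaf 1228)) (.leaf 1164))) (.node (.node (.node (.leaf 1157) (.leaf 231)) (.leaf 136)) (.node (.node (.leaf 333) (.leaf 402)) (.leaf 942)))) (.node (.node (.node (.node (.leaf 474) (.leaf 151)) (.leaf 312)) (.node (.node (.leaf 791) (.leaf 1308)) (.leaf 1266))) (.node (.node (.node (.leaf 174) (.leaf 706)) (.leaf 846)) (.node (.leaf 504) (.leaf 739)))))) (.node (.node (.node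 (.node (.node (.node (.leaf 1246) (.leaf 738)) (.leaf 843)) (.node (.node (.leaf 376) (.leaf 29)) (.leaf 420))) (.node (.node (.node (.leaf 938) (.leaf 665)) (.leaf 460)) (.node (.node (.leaf 1019) (.leaf 141)) (.leaf 937)))) (.node (.node (.node (.node (.leaf 871) (.leaf 1437)) (.leaf 516)) (.node (.node (.leaf 1154) (.leaf 91)) (.leaf 622))) (.node (.node (.node (.leaf 659) (.leaf 591)) (.leaf 1261)) (.node (.leaf 873) (.leaf 814))))) (.node (.node (.node (.node (.node (.leaf 1294) (.leaf 1264)) (.leaf 567)) (.node (.node (.leaf 681) (.leaf 1081)) (.leaf 1309))) (.node (.node (.node (.leaf 775) (.leaf 804)) (.leaf 1125)) (.node (.leaf 861) (.leaf 1223)))) (.node (.node (.node (.node (.leaf 1023) (.leaf 209)) (.leaf 478)) (.node (.node (.leaf 1011) (.leaf 954)) (.leaf 1347))) (.node (.node (.node (.leaf 1374) (.leaf 1365)) (.leaf 30)) (.node (.leaf 1245) (.leaf 248)))))))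

def bigOrd7 : Janko.Tree (ℕ) :=
  (.node (.node (.node (.node (.node (.node (.node (.leaf 1179) (.leaf 595)) (.leaf 466)) (.node (.node (.leaf 1319) (.leaf 1098)) (.leaf 774))) (.node (.node (.node (.leaf 495) (.leaf 414)) (.leaf 1176)) (.node (.node (.leaf 349) (.leaf 302)) (.leaf 128)))) (.node (.node (.node (.node (.leaf 1226) (.leaf 853)) (.leaf 55)) (.node (.node (.leaf 891) (.leaf 1416)) (.leaf 235))) (.node (.node (.node (.leaf 949) (.leaf 405)) (.leaf 1324)) (.node (.leaf 573) (.leaf 1387))))) (.node (.node (.node (.node (.node (.leaf 1252) (.leaf 502)) (.leaf 570)) (.node (.node (.leaf 57) (.leaf 1453)) (.leaf 1091))) (.node (.node (.node (.leaf 1411) (.leaf 878)) (.leaf 1191)) (.node (.node (.leaf 488) (.leaf 1003)) (.leaf 652)))) (.node (.node (.node (.node (.leaf 1455) (.leaf 441)) (.leaf 298)) (.node (.node (.leaf 438) (.leaf 1361)) (.leaf 422))) (.node (.node (.node (.leaf 1117) (.leaf 673)) (.leaf 684)) (.node (.leaf 792) (.leaf 811)))))) (.node (.node (.node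 (.node (.node (.node (.leaf 338) (.leaf 759)) (.leaf 104)) (.node (.node (.leaf 47) (.leaf 817)) (.leaf 958))) (.node (.node (.node (.leaf 766) (.leaf 275)) (.leaf 262)) (.node (.node (.leaf 1283) (.leaf 996)) (.leaf 272)))) (.node (.node (.node (.node (.leaf 288) (.leaf 1395)) (.leaf 699)) (.node (.node (.leaf 1114) (.leaf 31)) (.leaf 1031))) (.node (.node (.node (.leaf 842) (.leaf 906)) (.leaf 212)) (.node (.leaf 1128) (.leaf 732))))) (.node (.node (.node (.node (.node (.leaf 1328) (.leaf 981)) (.leaf 1149)) (.node (.node (.leaf 1224) (.leaf 1121)) (.leaf 386))) (.node (.node (.node (.leaf 1144) (.leaf 962)) (.leaf 1002)) (.node (.leaf 424) (.leaf 384)))) (.node (.node (.node (.node (.leaf 838) (.leaf 693)) (.leaf 1339)) (.node (.node (.leaf 1084) (.leaf 827)) (.leaf 657))) (.node (.node (.node (.leaf 1417) (.leaf 858)) (.leaf 849)) (.node (.leaf 749) (.leaf 155)))))))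

def bigOrd8 : Janko.Tree (ℕ) :=
  (.node (.node (.node (.node (.node (.node (.node (.leaf 628) (.leaf 1274)) (.leaf 1030)) (.node (.node (.leaf 1293) (.leaf 645)) (.leaf 1435))) (.node (.node (.node (.leaf 611) (.leaf 824)) (.leaf 1250)) (.node (.node (.leaf 123) (.leaf 658)) (.leaf 264)))) (.node (.node (.node (.node (.leaf 320) (.leaf 716)) (.leaf 997)) (.node (.node (.leaf 609) (.leaf 225)) (.leaf 1282))) (.node (.node (.node (.leaf 251) (.leaf 1079)) (.leaf 1231)) (.node (.leaf 377) (.leaf 3))))) (.node (.node (.node (.node (.node (.leaf 1014) (.leaf 503)) (.leaf 1350)) (.node (.node (.leaf 967) (.leaf 282)) (.leaf 1234))) (.node (.node (.node (.leaf 243) (.leaf 156)) (.leaf 877)) (.node (.node (.leaf 1181) (.leaf 588)) (.leaf 1322)))) (.node (.node (.node (.node (.leaf 256) (.leaf 1)) (.leaf 1269)) (.node (.node (.leaf 862) (.leaf 499)) (.leaf 741))) (.node (.node (.node (.leaf 1399) (.leaf 557)) (.leaf 723)) (.node (.leaf 222) (.leaf 680)))))) (.node (.node (.node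 (.node (.node (.node (.leaf 88) (.leaf 1076)) (.leaf 245)) (.node (.node (.leaf 343) (.leaf 1135)) (.leaf 1131))) (.node (.node (.node (.leaf 538) (.leaf 234)) (.leaf 961)) (.node (.node (.leaf 527) (.leaf 876)) (.leaf 1336)))) (.node (.node (.node (.node (.leaf 1089) (.leaf 1423)) (.leaf 1105)) (.node (.node (.leaf 385) (.leaf 632)) (.leaf 199))) (.node (.node (.node (.leaf 1354) (.leaf 639)) (.leaf 196)) (.node (.leaf 5) (.leaf 1034))))) (.node (.node (.node (.node (.node (.leaf 685) (.leaf 1155)) (.leaf 1160)) (.node (.node (.leaf 1317) (.leaf 1362)) (.leaf 1017))) (.node (.node (.node (.leaf 1010) (.leaf 218)) (.leaf 821)) (.node (.leaf 941) (.leaf 1346)))) (.node (.node (.node (.node (.leaf 1088) (.leaf 851)) (.leaf 69)) (.node (.node (.leaf 1368) (.leaf 1383)) (.leaf 367))) (.node (.node (.node (.leaf 1403) (.leaf 543)) (.leaf 284)) (.node (.leaf 897) (.leaf 1097)))))))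

def bigOrd9 : Janko.Tree (ℕ) :=
  (.node (.node (.node (.node (.node (.node (.node (.leaf 1027) (.leaf 911)) (.leaf 184)) (.node (.node (.leaf 541) (.leaf 535)) (.leaf 976))) (.node (.node (.node (.leaf 1332) (.leaf 1032)) (.leaf 1068)) (.node (.node (.leaf 617) (.leaf 746)) (.leaf 157)))) (.node (.node (.node (.node (.leaf 54) (.leaf 20)) (.leaf 758)) (.node (.node (.leaf 531) (.leaf 1055)) (.leaf 1440))) (.node (.node (.node (.leaf 1161) (.leaf 547)) (.leaf 725)) (.node (.leaf 888) (.leaf 1203))))) (.node (.node (.node (.node (.node (.leaf 1428) (.leaf 718)) (.leaf 870)) (.node (.node (.leaf 521) (.leaf 655)) (.leaf 864))) (.node (.node (.node (.leaf 765) (.leaf 105)) (.leaf 1082)) (.node (.node (.leaf 1009) (.leaf 966)) (.leaf 443)))) (.node (.node (.node (.node (.leaf 437) (.leaf 297)) (.leaf 145)) (.node (.node (.leaf 332) (.leaf 1356)) (.leaf 412))) (.node (.node (.node (.leaf 522) (.leaf 1385)) (.leaf 964)) (.node (.leaf 761) (.leaf 1454)))))) (.node (.node (.node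 (.node (.node (.node (.leaf 1036) (.leaf 287)) (.leaf 1043)) (.node (.node (.leaf 1133) (.leaf 654)) (.leaf 109))) (.node (.node (.node (.leaf 183) (.leaf 415)) (.leaf 519)) (.node (.node (.leaf 908) (.leaf 241)) (.leaf 368)))) (.node (.node (.node (.node (.leaf 498) (.leaf 1421)) (.leaf 107)) (.node (.node (.leaf 375) (.leaf 733)) (.leaf 277))) (.node (.node (.node (.leaf 1042) (.leaf 494)) (.leaf 1412)) (.node (.leaf 560) (.leaf 187))))) (.node (.node (.node (.node (.node (.leaf 393) (.leaf 1050)) (.leaf 33)) (.node (.node (.leaf 178) (.leaf 1446)) (.leaf 1306))) (.node (.node (.node (.leaf 6) (.leaf 875)) (.leaf 1145)) (.node (.leaf 562) (.leaf 978)))) (.node (.node (.node (.node (.leaf 905) (.leaf 893)) (.leaf 35)) (.node (.node (.leaf 593) (.leaf 1390)) (.leaf 1086))) (.node (.node (.node (.leaf 501) (.leaf 259)) (.leaf 378)) (.node (.leaf 596) (.leaf 1049)))))))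

def bigOrd10 : Janko.Tree (ℕ) :=
  (.node (.node (.node (.node (.node (.node (.node (.leaf 290) (.leaf 351)) (.leaf 150)) (.node (.node (.leaf 345) (.leaf 1103)) (.leaf 81))) (.node (.node (.node (.leaf 50) (.leaf 101)) (.leaf 242)) (.node (.node (.leaf 779) (.leaf 194)) (.leaf 167)))) (.node (.node (.node (.node (.leaf 781) (.leaf 1433)) (.leaf 627)) (.node (.node (.leaf 1305) (.leaf 190)) (.leaf 641))) (.node (.node (.node (.leaf 1360) (.leaf 575)) (.leaf 1280)) (.node (.leaf 455) (.leaf 769))))) (.node (.node (.node (.node (.node (.leaf 1406) (.leaf 896)) (.leaf 1312)) (.node (.node (.leaf 216) (.leaf 854)) (.leaf 946))) (.node (.node (.node (.leaf 1243) (.leaf 186)) (.leaf 11)) (.node (.node (.leaf 247) (.leaf 1267)) (.leaf 42)))) (.node (.node (.node (.node (.leaf 394) (.leaf 919)) (.leaf 509)) (.node (.node (.leaf 1286) (.leaf 1257)) (.leaf 254))) (.node (.node (.node (.leaf 221) (.leaf 722)) (.leaf 102)) (.node (.leaf 1265) (.leaf 219)))))) (.node (.node (.node (.node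 (.node (.node (.leaf 1258) (.leaf 117)) (.leaf 480)) (.node (.node (.leaf 397) (.leaf 711)) (.leaf 1233))) (.node (.node (.node (.leaf 613) (.leaf 406)) (.leaf 885)) (.node (.node (.leaf 550) (.leaf 857)) (.leaf 1366)))) (.node (.node (.node (.node (.leaf 118) (.leaf 40)) (.leaf 74)) (.node (.node (.leaf 1337) (.leaf 1016)) (.leaf 341))) (.node (.node (.node (.leaf 1134) (.leaf 576)) (.leaf 979)) (.node (.leaf 131) (.leaf 640))))) (.node (.node (.node (.node (.node (.leaf 571) (.leaf 64)) (.leaf 1024)) (.node (.node (.leaf 648) (.leaf 554)) (.leaf 210))) (.node (.node (.node (.leaf 1314) (.leaf 1414)) (.leaf 1359)) (.node (.leaf 172) (.leaf 46)))) (.node (.node (.node (.node (.leaf 166) (.leaf 892)) (.leaf 989)) (.node (.node (.leaf 713) (.leaf 1281)) (.leaf 816))) (.node (.node (.node (.leaf 1159) (.leaf 1092)) (.leaf 1397)) (.node (.leaf 1249) (.leaf 410)))))))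

def bigOrd11 : Janko.Tree (ℕ) :=
  (.node (.node (.node (.node (.node (.node (.node (.leaf 1307) (.leaf 310)) (.leaf 1067)) (.node (.node (.leaf 9) (.leaf 901)) (.leaf 1190))) (.node (.node (.node (.leaf 728) (.leaf 900)) (.leaf 646)) (.node (.node (.leaf 454) (.leaf 809)) (.leaf 1146)))) (.node (.node (.node (.node (.leaf 523) (.leaf 1404)) (.leaf 844)) (.node (.node (.leaf 468) (.leaf 1063)) (.leaf 1033))) (.node (.node (.node (.leaf 1083) (.leaf 139)) (.leaf 160)) (.node (.leaf 269) (.leaf 661))))) (.node (.node (.node (.node (.node (.leaf 1413) (.leaf 1443)) (.leaf 71)) (.node (.node (.leaf 316) (.leaf 1425)) (.leaf 214))) (.node (.node (.node (.leaf 1341) (.leaf 913)) (.leaf 330)) (.node (.node (.leaf 153) (.leaf 515)) (.leaf 192)))) (.node (.node (.node (.node (.leaf 1198) (.leaf 189)) (.leaf 1074)) (.node (.node (.leaf 361) (.leaf 1320)) (.leaf 496))) (.node (.node (.node (.leaf 113) (.leaf 633)) (.leaf 14)) (.node (.leaf 1219) (.leaf 916)))))) (.node (.node (.node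 (.node (.node (.node (.leaf 631) (.leaf 768)) (.leaf 1408)) (.node (.node (.leaf 328) (.leaf 1418)) (.leaf 931))) (.node (.node (.node (.leaf 1327) (.leaf 602)) (.leaf 409)) (.node (.node (.leaf 428) (.leaf 968)) (.leaf 1400)))) (.node (.node (.node (.node (.leaf 629) (.leaf 1220)) (.leaf 309)) (.node (.node (.leaf 315) (.leaf 1388)) (.leaf 694))) (.node (.node (.node (.leaf 329) (.leaf 1215)) (.leaf 90)) (.node (.leaf 357) (.leaf 476))))) (.node (.node (.node (.node (.node (.leaf 881) (.leaf 1288)) (.leaf 801)) (.node (.node (.leaf 354) (.leaf 419)) (.leaf 227))) (.node (.node (.node (.leaf 1375) (.leaf 505)) (.leaf 1120)) (.node (.leaf 625) (.leaf 598)))) (.node (.node (.node (.node (.leaf 506) (.leaf 1372)) (.leaf 362)) (.node (.node (.leaf 1001) (.leaf 108)) (.leaf 606))) (.node (.node (.node (.leaf 273) (.leaf 1174)) (.leaf 404)) (.node (.leaf 1116) (.leaf 883)))))))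

def bigOrd12 : Janko.Tree (ℕ) :=
  (.node (.node (.node (.node (.node (.node (.node (.leaf 726) (.leaf 1140)) (.leaf 690)) (.node (.node (.leaf 62) (.leaf 260)) (.leaf 1371))) (.node (.node (.node (.leaf 463) (.leaf 1071)) (.leaf 548)) (.node (.node (.leaf 1177) (.leaf 927)) (.leaf 1186)))) (.node (.node (.node (.node (.leaf 615) (.leaf 1450)) (.leaf 238)) (.node (.node (.leaf 695) (.leaf 715)) (.leaf 324))) (.node (.node (.node (.leaf 347) (.leaf 318)) (.leaf 902)) (.node (.leaf 154) (.leaf 120))))) (.node (.node (.node (.node (.node (.leaf 1232) (.leaf 760)) (.leaf 201)) (.node (.node (.leaf 540) (.leaf 24)) (.leaf 534))) (.node (.node (.node (.leaf 1057) (.leaf 985)) (.leaf 947)) (.node (.node (.leaf 559) (.leaf 449)) (.leaf 1398)))) (.node (.node (.node (.node (.leaf 757) (.leaf 1064)) (.leaf 188)) (.node (.node (.leaf 1240) (.leaf 1213)) (.leaf 740))) (.node (.node (.node (.leaf 1212) (.leaf 177)) (.leaf 371)) (.node (.leaf 720) (.leaf 1142)))))) (.node (.node (.node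 (.node (.node (.node (.leaf 1194) (.leaf 688)) (.leaf 686)) (.node (.node (.leaf 1284) (.leaf 303)) (.leaf 138))) (.node (.node (.node (.leaf 255) (.leaf 456)) (.leaf 142)) (.node (.node (.leaf 934) (.leaf 1422)) (.leaf 396)))) (.node (.node (.node (.node (.leaf 1382) (.leaf 1192)) (.leaf 453)) (.node (.node (.leaf 226) (.leaf 19)) (.leaf 18))) (.node (.node (.node (.leaf 479) (.leaf 140)) (.leaf 274)) (.node (.leaf 94) (.leaf 805))))) (.node (.node (.node (.node (.node (.leaf 772) (.leaf 867)) (.leaf 786)) (.node (.node (.leaf 1335) (.leaf 253)) (.leaf 832))) (.node (.node (.node (.leaf 1069) (.leaf 430)) (.leaf 1334)) (.node (.leaf 1392) (.leaf 644)))) (.node (.node (.node (.node (.leaf 291) (.leaf 336)) (.leaf 267)) (.node (.node (.leaf 268) (.leaf 577)) (.leaf 240))) (.node (.node (.node (.leaf 1225) (.leaf 1106)) (.leaf 1062)) (.node (.leaf 63) (.leaf 477)))))))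

def bigOrd13 : Janko.Tree (ℕ) :=
  (.node (.node (.node (.node (.node (.node (.node (.leaf 630) (.leaf 594)) (.leaf 709)) (.node (.node (.leaf 1434) (.leaf 440)) (.leaf 1039))) (.node (.node (.node (.leaf 263) (.leaf 1256)) (.leaf 1100)) (.node (.node (.leaf 510) (.leaf 957)) (.leaf 448)))) (.node (.node (.node (.node (.leaf 963) (.leaf 176)) (.leaf 524)) (.node (.node (.leaf 353) (.leaf 1325)) (.leaf 451))) (.node (.node (.node (.leaf 798) (.leaf 1378)) (.leaf 232)) (.node (.leaf 820) (.leaf 205))))) (.node (.node (.node (.node (.node (.leaf 1078) (.leaf 1444)) (.leaf 707)) (.node (.node (.leaf 8) (.leaf 1169)) (.leaf 1268))) (.node (.node (.node (.leaf 1338) (.leaf 26)) (.leaf 799)) (.node (.node (.leaf 346) (.leaf 599)) (.leaf 735)))) (.node (.node (.node (.node (.leaf 837) (.leaf 1381)) (.leaf 294)) (.node (.node (.leaf 452) (.leaf 1351)) (.leaf 1299))) (.node (.node (.node (.leaf 671) (.leaf 195)) (.leaf 1200)) (.node (.leaf 972) (.leaf 582)))))) (.node (.node (.node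 (.node (.node (.node (.leaf 1427) (.leaf 1020)) (.leaf 839)) (.node (.node (.leaf 92) (.leaf 434)) (.leaf 969))) (.node (.node (.node (.leaf 701) (.leaf 1070)) (.leaf 1301)) (.node (.node (.leaf 356) (.leaf 486)) (.leaf 191)))) (.node (.node (.node (.node (.leaf 87) (.leaf 1048)) (.leaf 618)) (.node (.node (.leaf 623) (.leaf 1291)) (.leaf 439))) (.node (.node (.node (.leaf 399) (.leaf 763)) (.leaf 835)) (.node (.leaf 300) (.leaf 230))))) (.node (.node (.node (.node (.node (.leaf 730) (.leaf 1060)) (.leaf 1298)) (.node (.node (.leaf 1204) (.leaf 776)) (.leaf 258))) (.node (.node (.node (.leaf 432) (.leaf 146)) (.leaf 810)) (.node (.leaf 1101) (.leaf 1052)))) (.node (.node (.node (.node (.leaf 537) (.leaf 162)) (.leaf 350)) (.node (.node (.leaf 34) (.leaf 742)) (.leaf 921))) (.node (.node (.node (.leaf 427) (.leaf 1358)) (.leaf 745)) (.node (.leaf 217) (.leaf 202)))))))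

def bigOrd14 : Janko.Tree (ℕ) :=
  (.node (.node (.node (.node (.node (.node (.node (.leaf 73) (.leaf 36)) (.leaf 344)) (.node (.node (.leaf 512) (.leaf 1445)) (.leaf 304))) (.node (.node (.node (.leaf 1209) (.leaf 17)) (.leaf 1235)) (.node (.node (.leaf 299) (.leaf 556)) (.leaf 702)))) (.node (.node (.node (.node (.leaf 72) (.leaf 417)) (.leaf 1384)) (.node (.node (.leaf 490) (.leaf 1363)) (.leaf 326))) (.node (.node (.node (.leaf 10) (.leaf 626)) (.leaf 747)) (.node (.leaf 1172) (.leaf 395))))) (.node (.node (.node (.node (.node (.leaf 825) (.leaf 619)) (.leaf 731)) (.node (.node (.leaf 270) (.leaf 129)) (.leaf 500))) (.node (.node (.node (.leaf 977) (.leaf 280)) (.leaf 1094)) (.node (.node (.leaf 990) (.leaf 1007)) (.leaf 1108)))) (.node (.node (.node (.node (.leaf 703) (.leaf 754)) (.leaf 1273)) (.node (.node (.leaf 647) (.leaf 1051)) (.leaf 462))) (.node (.node (.node (.leaf 1046) (.leaf 1333)) (.leaf 1405)) (.node (.leaf 1183) (.leaf 1000)))))) (.node (.node (.node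 (.node (.node (.node (.leaf 678) (.leaf 719)) (.leaf 894)) (.node (.node (.leaf 491) (.leaf 158)) (.leaf 889))) (.node (.node (.node (.leaf 1005) (.leaf 943)) (.leaf 592)) (.node (.node (.leaf 308) (.leaf 1109)) (.leaf 1132)))) (.node (.node (.node (.node (.leaf 1148) (.leaf 1389)) (.leaf 1127)) (.node (.node (.leaf 955) (.leaf 164)) (.leaf 314))) (.node (.node (.node (.leaf 171) (.leaf 959)) (.leaf 325)) (.node (.leaf 848) (.leaf 986))))) (.node (.node (.node (.node (.node (.leaf 999) (.leaf 1244)) (.leaf 380)) (.node (.node (.leaf 229) (.leaf 1158)) (.leaf 77))) (.node (.node (.node (.leaf 95) (.leaf 292)) (.leaf 321)) (.node (.leaf 773) (.leaf 1296)))) (.node (.node (.node (.node (.leaf 1379) (.leaf 193)) (.leaf 568)) (.node (.node (.leaf 313) (.leaf 782)) (.leaf 281))) (.node (.node (.node (.leaf 1344) (.leaf 932)) (.leaf 796)) (.node (.leaf 1008) (.leaf 106)))))))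

def bigOrd15 : Janko.Tree (ℕ) :=
  (.node (.node (.node (.node (.node (.node (.node (.leaf 13) (.leaf 1449)) (.leaf 542)) (.node (.node (.leaf 1369) (.leaf 387)) (.leaf 856))) (.node (.node (.node (.leaf 1289) (.leaf 372)) (.leaf 1313)) (.node (.node (.leaf 529) (.leaf 1214)) (.leaf 904)))) (.node (.node (.node (.node (.leaf 580) (.leaf 642)) (.leaf 1456)) (.node (.node (.leaf 342) (.leaf 236)) (.leaf 705))) (.node (.node (.node (.leaf 1255) (.leaf 890)) (.leaf 752)) (.node (.leaf 1178) (.leaf 147))))) (.node (.node (.node (.node (.node (.leaf 159) (.leaf 552)) (.leaf 1111)) (.node (.node (.leaf 834) (.leaf 28)) (.leaf 604))) (.node (.node (.node (.leaf 1415) (.leaf 249)) (.leaf 813)) (.node (.node (.leaf 483) (.leaf 1216)) (.leaf 753)))) (.node (.node (.node (.node (.leaf 992) (.leaf 1053)) (.leaf 887)) (.node (.node (.leaf 549) (.leaf 1073)) (.leaf 1113))) (.node (.node (.node (.leaf 122) (.leaf 1260)) (.leaf 1201)) (.node (.leaf 1112) (.leaf 144)))))) (.node (.node (.node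 (.node (.node (.node (.leaf 845) (.leaf 767)) (.leaf 581)) (.node (.node (.leaf 829) (.leaf 1370)) (.leaf 1447))) (.node (.node (.node (.leaf 473) (.leaf 180)) (.leaf 459)) (.node (.node (.leaf 68) (.leaf 423)) (.leaf 224)))) (.node (.node (.node (.node (.leaf 53) (.leaf 1393)) (.leaf 1061)) (.node (.node (.leaf 215) (.leaf 1287)) (.leaf 163))) (.node (.node (.node (.leaf 1206) (.leaf 306)) (.leaf 558)) (.node (.leaf 511) (.leaf 293))))) (.node (.node (.node (.node (.node (.leaf 84) (.leaf 481)) (.leaf 86)) (.node (.node (.leaf 79) (.leaf 743)) (.leaf 337))) (.node (.node (.node (.leaf 518) (.leaf 865)) (.leaf 1015)) (.node (.leaf 841) (.leaf 951)))) (.node (.node (.node (.node (.leaf 818) (.leaf 233)) (.leaf 355)) (.node (.node (.leaf 909) (.leaf 1099)) (.leaf 1006))) (.node (.node (.node (.leaf 1409) (.leaf 600)) (.leaf 1442)) (.node (.leaf 1047) (.leaf 794)))))))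

def bigOrd : Janko.Tree (ℕ) := (.node (.node (.node (.node bigOrd0 bigOrd8) (.node bigOrd4 bigOrd12)) (.node (.node bigOrd2 bigOrd10) (.node bigOrd6 bigOrd14))) (.node (.node (.node bigOrd1 bigOrd9) (.node bigOrd5 bigOrd13)) (.node (.node bigOrd3 bigOrd11) (.node bigOrd7 bigOrd15))))

def bigRels : List (List ℕ) := [[0, 0, 0, 0, 0, 0, 0, 0, 0],
  [1, 1, 1, 1, 1, 1],
  [2, 2, 2, 2, 2, 2, 2, 2, 2],
  [0, 0, 0, 2, 2, 2],
  [0, 2, 0, 2, 0, 2],
  [0, 2, 1, 2, 0, 2, 1, 2],
  [0, 0, 0, 0, 0, 2, 2, 0, 2],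
  [0, 0, 0, 0, 2, 0, 0, 2, 2],
  [0, 0, 0, 2, 0, 2, 0, 0, 2],
  [0, 0, 2, 0, 2, 2, 2, 2, 2],
  [0, 0, 2, 2, 2, 2, 0, 2, 2],
  [0, 1, 1, 0, 1, 1, 0, 1, 1],
  [0, 2, 0, 2, 2, 0, 2, 2, 2],
  [0, 0, 0, 1, 0, 0, 0, 2, 1, 2],
  [0, 0, 0, 1, 2, 0, 0, 0, 1, 2],
  [0, 0, 0, 2, 1, 0, 0, 0, 2, 1],
  [0, 1, 1, 1, 2, 0, 1, 1, 1, 2],
  [0, 1, 1, 2, 1, 0, 1, 1, 2, 1],
  [0, 0, 0, 0, 2, 2, 1, 2, 0, 2, 1],
  [0, 0, 0, 1, 2, 0, 2, 1, 0, 2, 2],
  [0, 0, 0, 2, 1, 2, 0, 2, 1, 0, 2],
  [0, 0, 1, 2, 0, 2, 1, 2, 0, 0, 2],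
  [0, 0, 1, 2, 2, 1, 2, 2, 0, 1, 1],
  [0, 0, 2, 0, 2, 0, 1, 2, 0, 2, 1],
  [0, 1, 2, 0, 2, 1, 2, 2, 2, 2, 2],
  [0, 2, 1, 2, 2, 0, 2, 2, 2, 1, 2],
  [0, 0, 0, 0, 0, 1, 0, 0, 0, 0, 0, 1],
  [0, 0, 0, 0, 0, 1, 0, 2, 2, 0, 2, 1],
  [0, 0, 0, 0, 0, 1, 2, 0, 0, 2, 2, 1],
  [0, 0, 0, 0, 0, 1, 2, 2, 0, 2, 0, 1],
  [0, 0, 0, 0, 1, 2, 1, 1, 2, 2, 0, 1],
  [0, 0, 0, 1, 1, 1, 1, 2, 2, 2, 1, 1],
  [0, 0, 0, 1, 1, 2, 2, 2, 1, 1, 1, 1],
  [0, 0, 0, 1, 2, 2, 0, 1, 0, 1, 2, 1],
  [0, 0, 1, 0, 1, 0, 0, 1, 1, 2, 2, 2],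
  [0, 0, 1, 0, 1, 0, 0, 2, 2, 2, 1, 1],
  [0, 0, 1, 0, 1, 0, 2, 2, 2, 0, 1, 1],
  [0, 0, 1, 0, 1, 2, 0, 2, 0, 2, 1, 1],
  [0, 0, 1, 0, 1, 2, 2, 2, 0, 0, 1, 1],
  [0, 0, 1, 1, 0, 0, 2, 2, 2, 1, 0, 1],
  [0, 0, 1, 1, 0, 2, 2, 2, 0, 1, 0, 1],
  [0, 0, 1, 1, 2, 0, 2, 0, 2, 1, 0, 1],
  [0, 0, 1, 1, 2, 1, 1, 0, 2, 2, 1, 1],
  [0, 0, 1, 2, 1, 1, 2, 1, 0, 1, 2, 1],
  [0, 0, 2, 2, 1, 0, 2, 2, 0, 2, 1, 2],
  [0, 0, 2, 2, 1, 2, 0, 0, 2, 2, 1, 2],
  [0, 0, 2, 2, 1, 2, 2, 0, 2, 0, 1, 2],
  [0, 1, 0, 1, 0, 1, 0, 1, 0, 1, 0, 1],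
  [0, 1, 0, 2, 2, 0, 2, 1, 2, 2, 0, 2],
  [0, 1, 1, 0, 1, 1, 2, 0, 2, 2, 1, 1],
  [0, 1, 1, 2, 0, 1, 1, 2, 0, 1, 1, 2],
  [0, 1, 1, 2, 1, 0, 2, 2, 2, 1, 2, 2],
  [0, 1, 1, 2, 1, 2, 2, 2, 0, 1, 2, 2],
  [0, 1, 2, 1, 2, 1, 2, 2, 0, 1, 2, 2],
  [0, 1, 2, 2, 0, 1, 2, 2, 1, 2, 1, 2],
  [0, 1, 2, 2, 0, 1, 2, 2, 2, 1, 2, 1],
  [0, 1, 2, 2, 0, 2, 0, 1, 2, 2, 0, 2]]

/-- the certificate -/
def bigCert : CentralLocal.Cert :=
  { act := actB baseB bigGens, one := oneB, N := 1458, k := 3, q := 0, rels := bigRels, P := 12,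
    elt := bigElt, next := bigNext, word := bigWord, par := bigPar, L := bigL, kind := bigKind, rank := bigRank,
    via := bigVia, pv := [4374, 4375, 4376, 4377, 4378, 4379, 4380, 4385, 4387, 4390, 4391, 4396] }

theorem big_edges0 : ((List.range 512).all fun i => bigCert.edgeCheck (Nat.add 0 i)) = true := by decide +kernel

theorem big_edges1 : ((List.range 512).all fun i => bigCert.edgeCheck (Nat.add 512 i)) = true := by decide +kernel

theorem big_edges2 : ((List.range 434).all fun i => bigCert.edgeCheck (Nat.add 1024 i)) = true := by decide +kernel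

theorem big_edges : ∀ i < 1458, bigCert.edgeCheck i = true := by
  intro i hi
  by_cases h0 : i < 512
  · have := List.all_eq_true.1 big_edges0 (i - 0) (List.mem_range.2 (by omega)); rwa [show Nat.add 0 (i - 0) = i from Nat.add_sub_cancel' (by omega)] at this
  by_cases h1 : i < 1024
  · have := List.all_eq_true.1 big_edges1 (i - 512) (List.mem_range.2 (by omega)); rwa [show Nat.add 512 (i - 512) = i from Nat.add_sub_cancel' (by omega)] at this
  have := List.all_eq_true.1 big_edges2 (i - 1024) (List.mem_range.2 (by omega)); rwa [show Nat.add 1024 (i - 1024) = i from Nat.add_sub_cancel' (by omega)] at this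


theorem big_tree0 : ((List.range 512).all fun i => bigCert.treeCheck (Nat.add 0 i)) = true := by decide +kernel

theorem big_tree1 : ((List.range 512).all fun i => bigCert.treeCheck (Nat.add 512 i)) = true := by decide +kernel

theorem big_tree2 : ((List.range 434).all fun i => bigCert.treeCheck (Nat.add 1024 i)) = true := by decide +kernel

theorem big_tree : ∀ i < 1458, bigCert.treeCheck i = true := by
  intro i hi
  by_cases h0 : i < 512
  · have := List.all_eq_true.1 big_tree0 (i - 0) (List.mem_range.2 (by omega)); rwa [show Nat.add 0 (i - 0) = i from Nat.add_sub_cancel' (by omega)] at this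
  by_cases h1 : i < 1024
  · have := List.all_eq_true.1 big_tree1 (i - 512) (List.mem_range.2 (by omega)); rwa [show Nat.add 512 (i - 512) = i from Nat.add_sub_cancel' (by omega)] at this
  have := List.all_eq_true.1 big_tree2 (i - 1024) (List.mem_range.2 (by omega)); rwa [show Nat.add 1024 (i - 1024) = i from Nat.add_sub_cancel' (by omega)] at this


theorem big_vars0 : ((List.range 512).all fun i => bigCert.varCheck (Nat.add 0 i)) = true := by decide +kernel

theorem big_vars1 : ((List.range 512).all fun i => bigCert.varCheck (Nat.add 512 i)) = true := by decide +kernel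

theorem big_vars2 : ((List.range 512).all fun i => bigCert.varCheck (Nat.add 1024 i)) = true := by decide +kernel

theorem big_vars3 : ((List.range 512).all fun i => bigCert.varCheck (Nat.add 1536 i)) = true := by decide +kernel

theorem big_vars4 : ((List.range 512).all fun i => bigCert.varCheck (Nat.add 2048 i)) = true := by decide +kernel

theorem big_vars5 : ((List.range 512).all fun i => bigCert.varCheck (Nat.add 2560 i)) = true := by decide +kernel

theorem big_vars6 : ((List.range 512).all fun i => bigCert.varCheck (Nat.add 3072 i)) = true := by decide +kernel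

theorem big_vars7 : ((List.range 512).all fun i => bigCert.varCheck (Nat.add 3584 i)) = true := by decide +kernel

theorem big_vars8 : ((List.range 335).all fun i => bigCert.varCheck (Nat.add 4096 i)) = true := by decide +kernel

theorem big_vars : ∀ i < 4431, bigCert.varCheck i = true := by
  intro i hi
  by_cases h0 : i < 512
  · have := List.all_eq_true.1 big_vars0 (i - 0) (List.mem_range.2 (by omega)); rwa [show Nat.add 0 (i - 0) = i from Nat.add_sub_cancel' (by omega)] at this
  by_cases h1 : i < 1024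
  · have := List.all_eq_true.1 big_vars1 (i - 512) (List.mem_range.2 (by omega)); rwa [show Nat.add 512 (i - 512) = i from Nat.add_sub_cancel' (by omega)] at this
  by_cases h2 : i < 1536
  · have := List.all_eq_true.1 big_vars2 (i - 1024) (List.mem_range.2 (by omega)); rwa [show Nat.add 1024 (i - 1024) = i from Nat.add_sub_cancel' (by omega)] at this
  by_cases h3 : i < 2048
  · have := List.all_eq_true.1 big_vars3 (i - 1536) (List.mem_range.2 (by omega)); rwa [show Nat.add 1536 (i - 1536) = i from Nat.add_sub_cancel' (by omega)] at this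
  by_cases h4 : i < 2560
  · have := List.all_eq_true.1 big_vars4 (i - 2048) (List.mem_range.2 (by omega)); rwa [show Nat.add 2048 (i - 2048) = i from Nat.add_sub_cancel' (by omega)] at this
  by_cases h5 : i < 3072
  · have := List.all_eq_true.1 big_vars5 (i - 2560) (List.mem_range.2 (by omega)); rwa [show Nat.add 2560 (i - 2560) = i from Nat.add_sub_cancel' (by omega)] at this
  by_cases h6 : i < 3584
  · have := List.all_eq_true.1 big_vars6 (i - 3072) (List.mem_range.2 (by omega)); rwa [show Nat.add 3072 (i - 3072) = i from Nat.add_sub_cancel' (by omega)] at this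
  by_cases h7 : i < 4096
  · have := List.all_eq_true.1 big_vars7 (i - 3584) (List.mem_range.2 (by omega)); rwa [show Nat.add 3584 (i - 3584) = i from Nat.add_sub_cancel' (by omega)] at this
  have := List.all_eq_true.1 big_vars8 (i - 4096) (List.mem_range.2 (by omega)); rwa [show Nat.add 4096 (i - 4096) = i from Nat.add_sub_cancel' (by omega)] at this


theorem big_ord0 : ((List.range 512).all fun i => bigCert.ordCheck bigOrd (Nat.add 0 i)) = true := by decide +kernel

theorem big_ord1 : ((List.range 512).all fun i => bigCert.ordCheck bigOrd (Nat.add 512 i)) = true := by decide +kernel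

theorem big_ord2 : ((List.range 434).all fun i => bigCert.ordCheck bigOrd (Nat.add 1024 i)) = true := by decide +kernel

theorem big_ord : ∀ i < 1458, bigCert.ordCheck bigOrd i = true := by
  intro i hi
  by_cases h0 : i < 512
  · have := List.all_eq_true.1 big_ord0 (i - 0) (List.mem_range.2 (by omega)); rwa [show Nat.add 0 (i - 0) = i from Nat.add_sub_cancel' (by omega)] at this
  by_cases h1 : i < 1024
  · have := List.all_eq_true.1 big_ord1 (i - 512) (List.mem_range.2 (by omega)); rwa [show Nat.add 512 (i - 512) = i from Nat.add_sub_cancel' (by omega)] at this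
  have := List.all_eq_true.1 big_ord2 (i - 1024) (List.mem_range.2 (by omega)); rwa [show Nat.add 1024 (i - 1024) = i from Nat.add_sub_cancel' (by omega)] at this


theorem big_rels : (bigCert.rels.all fun w => bigCert.relCheck w) = true := by decide +kernel

theorem big_valid : bigCert.Valid where
  npos := Nat.succ_pos _
  kpos := Nat.succ_pos _
  edges := big_edges
  tree := big_tree
  rels := List.all_eq_true.1 big_rels
  vars := big_vars

theorem big_gens : bigGens.all (elemOK 364 baseP) = true := by decide +kernel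

end Cfsg.Agent.Lie.GTwoThreeMult
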