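import Cfsg.Agent.Lib.Lie.GTwoThreeMult.BigPairs

/-!
Cocycles and cosets for the part at 3 of the covering of the group of type G2 over three elements (generated).
-/

set_option autoImplicit false
set_option maxRecDepth 100000
set_option maxHeartbeats 0
set_option Elab.async false

namespace Cfsg.Agent.Lie.GTwoThreeMult

open Cfsg.Agent.Lie PermCover

theorem big_comm : CoverCocycle.mI bigCert 644 137 = CoverCocycle.mI bigCert 137 644 := by decide +kernel


end Cfsg.Agent.Lie.GTwoThreeMult
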