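import Cfsg.Agent.Lib.Lie.GTwoThreeMult.BigReps

/-!
Cocycles and cosets for the part at 3 of the covering of the group of type G2 over three elements (generated).
-/

set_option autoImplicit false
set_option maxRecDepth 100000
set_option maxHeartbeats 0
set_option Elab.async false

namespace Cfsg.Agent.Lie.GTwoThreeMult

open Cfsg.Agent.Lie PermCover

def bigMvXa0 : Janko.Tree (ℕ) :=
  (.node (.node (.node (.node (.node (.node (.node (.leaf 837) (.leaf 7972231)) (.leaf 7016572)) (.node (.node (.leaf 4268032) (.leaf 8426767)) (.leaf 9777656))) (.node (.node (.node (.leaf 2179072) (.leaf 9290625)) (.leaf 9175040)) (.node (.node (.leaf 1470968) (.leaf 5275648)) (.leaf 6935099)))) (.node (.node (.node (.node (.leaf 1089536) (.leaf 11444224)) (.leaf 4891416)) (.node (.node (.leaf 618496) (.leaf 11825152)) (.leaf 7275906))) (.node (.node (.node (.leaf 1102853) (.leaf 8574001)) (.leaf 9719808)) (.node (.leaf 7127040) (.leaf 5051207))))) (.node (.node (.node (.node (.node (.leaf 557056) (.leaf 9507577)) (.leaf 8179712)) (.node (.node (.leaf 4808704)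 (.leaf 10854468)) (.leaf 10354688))) (.node (.node (.node (.leaf 2703360) (.leaf 3855604)) (.leaf 5197824)) (.node (.node (.leaf 6570471) (.leaf 8221597)) (.leaf 5415413)))) (.node (.node (.node (.node (.leaf 1626112) (.leaf 8959202)) (.leaf 7803019)) (.node (.node (.leaf 1401890) (.leaf 10306332)) (.leaf 9875960))) (.node (.node (.node (.leaf 3715072) (.leaf 7430155)) (.leaf 1729912)) (.node (.leaf 1577834) (.leaf 8647627)))))) (.node (.node (.node (.node (.node (.node (.leaf 132309) (.leaf 3097675)) (.leaf 5895394)) (.node (.node (.leaf 4558848) (.leaf 11375054)) (.leaf 10101053))) (.node (.node (.node (.leaf 2428928) (.leaf 9913504)) (.leaf 6000766)) (.node (.node (.leaf 3760128) (.leaf 11665416)) (.leaf 10878976)))) (.node (.node (.node (.node (.leaf 1061674) (.leaf 2519040)) (.leaf 1159168)) (.node (.node (.leaf 5591040) (.leaf 11785428)) (.leaf 10600448))) (.node (.node (.node (.leaf 3481600) (.leaf 6750365)) (.leaf 4608120)) (.node (.leaf 3391488) (.leaf 10530901))))) (.node (.node (.node (.node (.node (.leaf 823296) (.leaf 2794617))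 (.leaf 5501052)) (.node (.node (.leaf 2772992) (.leaf 4281279)) (.leaf 6483990))) (.node (.node (.node (.leaf 2990080) (.leaf 3793954)) (.leaf 2498560)) (.node (.leaf 6922240) (.leaf 10753231)))) (.node (.node (.node (.node (.leaf 1916928) (.leaf 10687729)) (.leaf 8868753)) (.node (.node (.leaf 6066176) (.leaf 9163459)) (.leaf 1826816))) (.node (.node (.node (.leaf 2015691) (.leaf 8213269)) (.leaf 10010624)) (.node (.leaf 7671808) (.leaf 11186176)))))))

def bigMvXa1 : Janko.Tree (ℕ) :=
  (.node (.node (.node (.node (.node (.node (.node (.leaf 12288) (.leaf 11218944)) (.leaf 4658220)) (.node (.node (.leaf 2233378) (.leaf 11768645)) (.leaf 10121216))) (.node (.node (.node (.leaf 2191360) (.leaf 5866470)) (.leaf 9166848)) (.node (.node (.leaf 6275072) (.leaf 8049070)) (.leaf 10654347)))) (.node (.node (.node (.node (.leaf 1097728) (.leaf 10843141)) (.leaf 1331704)) (.node (.node (.leaf 4325399) (.leaf 4445532)) (.leaf 10510336))) (.node (.node (.node (.leaf 3118324) (.leaf 8155973)) (.leaf 9728000)) (.node (.leaf 7135232) (.leaf 10108998)))))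 (.node (.node (.node (.node (.node (.leaf 552960) (.leaf 11126079)) (.leaf 2257809)) (.node (.node (.leaf 4804608) (.leaf 9810091)) (.leaf 6817038))) (.node (.node (.node (.leaf 1041194) (.leaf 2834432)) (.leaf 1318912)) (.node (.node (.leaf 804110) (.leaf 7402128)) (.leaf 10944512)))) (.node (.node (.node (.node (.leaf 791656) (.leaf 8638840)) (.leaf 8470927)) (.node (.node (.leaf 5857280) (.leaf 6660619)) (.leaf 2978296))) (.node (.node (.node (.leaf 934946) (.leaf 4421032)) (.leaf 7410815)) (.node (.leaf 925696) (.leaf 9905478)))))) (.node (.node (.node (.node (.node (.node (.leaf 311296) (.leaf 2306048)) (.leaf 4105564)) (.node (.node (.leaf 4571136) (.leaf 10719910)) (.leaf 10244096))) (.node (.node (.node (.leaf 2441216) (.leaf 2760704)) (.leaf 2085086)) (.node (.node (.leaf 6512640) (.leaf 11550898)) (.leaf 10883072)))) (.node (.node (.node (.node (.leaf 1380352) (.leaf 11493376)) (.leaf 8724480)) (.node (.node (.leaf 5607424) (.leaf 7025824)) (.leaf 8745668))) (.node (.node (.node (.leaf 393216) (.leaf 6145400)) (.leaf 9020647))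 (.node (.leaf 888832) (.leaf 8549567))))) (.node (.node (.node (.node (.node (.leaf 806912) (.leaf 9823100)) (.leaf 7926818)) (.node (.node (.leaf 2822144) (.leaf 11465859)) (.leaf 4628502))) (.node (.node (.node (.leaf 2985984) (.leaf 5297186)) (.leaf 3871106)) (.node (.leaf 6930432) (.leaf 11030528)))) (.node (.node (.node (.node (.leaf 1929216) (.leaf 7094419)) (.leaf 8818688)) (.node (.node (.leaf 3194880) (.leaf 5497336)) (.leaf 3826149))) (.node (.node (.node (.leaf 4030464) (.leaf 9753716)) (.leaf 10014720)) (.node (.leaf 7659520) (.leaf 2901262)))))))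

def bigMvXa2 : Janko.Tree (ℕ) :=
  (.node (.node (.node (.node (.node (.node (.node (.leaf 9029) (.leaf 4035064)) (.leaf 7876608)) (.node (.node (.leaf 2028481) (.leaf 6960277)) (.leaf 3920633))) (.node (.node (.node (.leaf 2187264) (.leaf 11035357)) (.leaf 6644469)) (.node (.node (.leaf 3707407) (.leaf 10556450)) (.leaf 10825728)))) (.node (.node (.node (.node (.leaf 1093632) (.leaf 2461696)) (.leaf 5587448)) (.node (.node (.leaf 2335224) (.leaf 8152190)) (.leaf 1703936))) (.node (.node (.node (.leaf 1810432) (.leaf 10748839)) (.leaf 9715712)) (.node (.leaf 7143424) (.leaf 4142428))))) (.node (.node (.node (.node (.node (.leaf 536576) (.leaf 11358208)) (.leaf 2072576)) (.node (.node (.leaf 2421240) (.leaf 5239913)) (.leaf 1613824))) (.node (.node (.node (.leaf 2719744) (.leaf 11305504)) (.leaf 9465856)) (.node (.node (.leaf 6725632) (.leaf 10379707)) (.leaf 10940416)))) (.node (.node (.node (.node (.leaf 922658) (.leaf 8560826)) (.leaf 4989440)) (.node (.node (.leaf 5861376) (.leaf 9118849)) (.leaf 6018397))) (.node (.node (.node (.leaf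 1746190) (.leaf 3231744)) (.leaf 3523891)) (.node (.leaf 3432648) (.leaf 2158592)))))) (.node (.node (.node (.node (.node (.node (.leaf 168328) (.leaf 5104559)) (.leaf 5271575)) (.node (.node (.leaf 4567040) (.leaf 8196734)) (.leaf 10256384))) (.node (.node (.node (.leaf 2437120) (.leaf 11354317)) (.leaf 6639742)) (.node (.node (.leaf 6520832) (.leaf 10429253)) (.leaf 10043917)))) (.node (.node (.node (.node (.leaf 1126485) (.leaf 8975579)) (.leaf 8720384)) (.node (.node (.leaf 5611520) (.leaf 5165877)) (.leaf 6796041))) (.node (.node (.node (.leaf 3502080) (.leaf 11170500)) (.leaf 9634095)) (.node (.leaf 3809348) (.leaf 7693113))))) (.node (.node (.node (.node (.node (.leaf 692985) (.leaf 11301917)) (.leaf 1987814)) (.node (.node (.leaf 5083136) (.leaf 6353833)) (.leaf 10142535))) (.node (.node (.node (.leaf 3010560) (.leaf 3965685)) (.leaf 3710976)) (.node (.leaf 6333845) (.leaf 7872512)))) (.node (.node (.node (.node (.leaf 1925120) (.leaf 7843840)) (.leaf 1220608)) (.node (.node (.leaf 3629417) (.leaf 7115509)) (.leaf 10339510)))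 (.node (.node (.node (.leaf 4042752) (.leaf 8004057)) (.leaf 7034118)) (.node (.leaf 7607158) (.leaf 5148785)))))))

def bigMvXa3 : Janko.Tree (ℕ) :=
  (.node (.node (.node (.node (.node (.node (.node (.leaf 32768) (.leaf 10998928)) (.leaf 6288361)) (.node (.node (.leaf 4304896) (.leaf 7406353)) (.leaf 10133504))) (.node (.node (.node (.leaf 1228904) (.leaf 4588645)) (.leaf 3801845)) (.node (.node (.leaf 6291456) (.leaf 9978693)) (.leaf 10224116)))) (.node (.node (.node (.node (.leaf 356928) (.leaf 8643891)) (.leaf 5785009)) (.node (.node (.leaf 2122538) (.leaf 4396240)) (.leaf 9867277))) (.node (.node (.node (.leaf 1839104) (.leaf 11706368)) (.leaf 9732096)) (.node (.leaf 7139328) (.leaf 8487980))))) (.node (.node (.node (.node (.node (.leaf 45056) (.leaf 11366400)) (.leaf 1056768)) (.node (.node (.leaf 2273883) (.leaf 10760260)) (.leaf 1651092))) (.node (.node (.node (.leaf 1249296) (.leaf 4878840)) (.leaf 5981218)) (.node (.node (.leaf 6312724) (.leaf 9613613)) (.leaf 1970176)))) (.node (.node (.node (.node (.leaf 709851) (.leaf 9188475))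 (.leaf 7123881)) (.node (.node (.leaf 3703621) (.leaf 11621186)) (.leaf 9270467))) (.node (.node (.node (.leaf 3776512) (.leaf 10235972)) (.leaf 6517942)) (.node (.leaf 7503872) (.leaf 10229066)))))) (.node (.node (.node (.node (.node (.node (.leaf 327680) (.leaf 11292672)) (.leaf 8052736)) (.node (.node (.leaf 1422380) (.leaf 11617713)) (.leaf 5600383))) (.node (.node (.node (.leaf 2065194) (.leaf 11624448)) (.leaf 9314304)) (.node (.node (.leaf 5874958) (.leaf 11781188)) (.leaf 3613233)))) (.node (.node (.node (.node (.leaf 1258530) (.leaf 9028731)) (.leaf 2408952)) (.node (.node (.leaf 5578752) (.leaf 11195733)) (.leaf 10608640))) (.node (.node (.node (.leaf 3497984) (.leaf 3268745)) (.leaf 9675176)) (.node (.leaf 7348224) (.leaf 7775254))))) (.node (.node (.node (.node (.node (.leaf 405868) (.leaf 3240440)) (.leaf 7753974)) (.node (.node (.leaf 2503908) (.leaf 10891804)) (.leaf 1642496))) (.node (.node (.node (.leaf 1778025) (.leaf 6430805)) (.leaf 1368064)) (.node (.leaf 3506744) (.leaf 10965583)))) (.node (.node (.node (.node (.leaf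 930304) (.leaf 7509236)) (.leaf 9035776)) (.node (.node (.leaf 700416) (.leaf 5661081)) (.leaf 4240526))) (.node (.node (.node (.leaf 4055040) (.leaf 11130042)) (.leaf 3121656)) (.node (.leaf 7688192) (.leaf 10581262)))))))

def bigMvXa4 : Janko.Tree (ℕ) :=
  (.node (.node (.node (.node (.node (.node (.node (.leaf 36864) (.leaf 11231232)) (.leaf 7062587)) (.node (.node (.leaf 1995810) (.leaf 7968063)) (.leaf 3022848))) (.node (.node (.node (.leaf 2215936) (.leaf 11206768)) (.leaf 9183232)) (.node (.node (.leaf 3486990) (.leaf 10470382)) (.leaf 6206771)))) (.node (.node (.node (.node (.leaf 1122304) (.leaf 8037653)) (.leaf 1130496)) (.node (.node (.leaf 5361664) (.leaf 11833344)) (.leaf 8840226))) (.node (.node (.node (.leaf 2897166) (.leaf 9523561)) (.leaf 9548537)) (.node (.leaf 6488598) (.leaf 4871595))))) (.node (.node (.node (.node (.node (.leaf 589824) (.leaf 10675534)) (.leaf 7807194)) (.node (.node (.leaf 4637772) (.leaf 10327148)) (.leaf 10371072))) (.node (.node (.node (.leaf 2736128) (.leaf 9012263)) (.leaf 9469952)) (.node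 (.node (.leaf 6742016) (.leaf 7684753)) (.leaf 7848395)))) (.node (.node (.node (.node (.leaf 1655621) (.leaf 10908158)) (.leaf 8888320)) (.node (.node (.leaf 5853184) (.leaf 4706304)) (.leaf 7958654))) (.node (.node (.node (.leaf 3788800) (.leaf 11739136)) (.leaf 7906597)) (.node (.leaf 5989410) (.leaf 2961541)))))) (.node (.node (.node (.node (.node (.node (.leaf 335872) (.leaf 5821082)) (.leaf 5185858)) (.node (.node (.leaf 4236322) (.leaf 4555286)) (.leaf 8794616))) (.node (.node (.node (.leaf 2465792) (.leaf 7156225)) (.leaf 1803505)) (.node (.node (.leaf 1532308) (.leaf 6828071)) (.leaf 5984768)))) (.node (.node (.node (.node (.leaf 1409024) (.leaf 11064462)) (.leaf 8740864)) (.node (.node (.leaf 2008380) (.leaf 10260550)) (.leaf 10616832))) (.node (.node (.node (.leaf 1598277) (.leaf 4216052)) (.leaf 6059312)) (.node (.leaf 3106099) (.leaf 9543902))))) (.node (.node (.node (.node (.node (.leaf 856064) (.leaf 2412544)) (.leaf 4461712)) (.node (.node (.leaf 2917410) (.leaf 10646562)) (.leaf 10436608))) (.node (.node (.node (.leaf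 3026944) (.leaf 10126594)) (.leaf 8782042)) (.node (.leaf 6942720) (.leaf 8328200)))) (.node (.node (.node (.node (.leaf 1586210) (.leaf 9323790)) (.leaf 9031680)) (.node (.node (.leaf 6098944) (.leaf 8577710)) (.leaf 6898914))) (.node (.node (.node (.leaf 4050944) (.leaf 3408276)) (.leaf 1549688)) (.node (.leaf 7696384) (.leaf 2199552)))))))

def bigMvXa5 : Janko.Tree (ℕ) :=
  (.node (.node (.node (.node (.node (.node (.node (.leaf 20992) (.leaf 8230032)) (.leaf 7868416)) (.node (.node (.leaf 4321280) (.leaf 9261817)) (.leaf 9888404))) (.node (.node (.node (.leaf 2004154) (.leaf 11599872)) (.leaf 3203780)) (.node (.node (.leaf 1454080) (.leaf 9277440)) (.leaf 7241728)))) (.node (.node (.node (.node (.leaf 1008853) (.leaf 4600486)) (.leaf 8605696)) (.node (.node (.leaf 5369856) (.leaf 5624422)) (.leaf 3162949))) (.node (.node (.node (.leaf 1594189) (.leaf 9982020)) (.leaf 9663153)) (.node (.leaf 4763733) (.leaf 10404311))))) (.node (.node (.node (.node (.node (.leaf 585728) (.leaf 3330340)) (.leaf 8241152)) (.node (.node (.leaf 4776440)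 (.leaf 11653441)) (.leaf 8663254))) (.node (.node (.node (.leaf 2748416) (.leaf 2842624)) (.leaf 9478144)) (.node (.node (.leaf 3970082) (.leaf 11490526)) (.leaf 10960896)))) (.node (.node (.node (.node (.leaf 443125) (.leaf 2580480)) (.leaf 8892416)) (.node (.node (.leaf 5489035) (.leaf 5575685)) (.leaf 9307349))) (.node (.node (.node (.leaf 3772416) (.leaf 10663147)) (.leaf 4760789)) (.node (.leaf 6886761) (.leaf 7488904)))))) (.node (.node (.node (.node (.node (.node (.leaf 331776) (.leaf 7512756)) (.leaf 8056832)) (.node (.node (.leaf 955622) (.leaf 10502539)) (.leaf 1560576))) (.node (.node (.node (.leaf 983837) (.leaf 6378264)) (.leaf 5493930)) (.node (.node (.leaf 1725710) (.leaf 11878982)) (.leaf 3273578)))) (.node (.node (.node (.node (.leaf 1404928) (.leaf 4506413)) (.leaf 8753152)) (.node (.node (.leaf 1208320) (.leaf 6140000)) (.leaf 10625024))) (.node (.node (.node (.leaf 3518464) (.leaf 8807108)) (.leaf 3425093)) (.node (.leaf 6599834) (.leaf 10527226))))) (.node (.node (.node (.node (.node (.leaf 868352) (.leaf 8454543))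 (.leaf 4973222)) (.node (.node (.leaf 4915200) (.leaf 11748697)) (.leaf 3236311))) (.node (.node (.node (.leaf 3039232) (.leaf 6849037)) (.leaf 2315282)) (.node (.leaf 5456580) (.leaf 8934720)))) (.node (.node (.node (.node (.leaf 1953792) (.leaf 8393437)) (.leaf 9043968)) (.node (.node (.leaf 6094848) (.leaf 9056306)) (.leaf 8254589))) (.node (.node (.node (.leaf 2254113) (.leaf 3752205)) (.leaf 9180327)) (.node (.leaf 5440706) (.leaf 10560461)))))))

def bigMvXa6 : Janko.Tree (ℕ) :=
  (.node (.node (.node (.node (.node (.node (.node (.leaf 65536) (.leaf 8872614)) (.leaf 5445035)) (.node (.node (.leaf 1279136) (.leaf 9295224)) (.leaf 1556480))) (.node (.node (.node (.leaf 2228224) (.leaf 5882914)) (.leaf 9195520)) (.node (.node (.leaf 741376) (.leaf 10613086)) (.leaf 7213376)))) (.node (.node (.node (.node (.leaf 110592) (.leaf 4149387)) (.leaf 8601600)) (.node (.node (.leaf 5378048) (.leaf 11006664)) (.leaf 10039326))) (.node (.node (.node (.leaf 828686) (.leaf 9409780)) (.leaf 9736192)) (.node (.leaf 1601926) (.leaf 10171369))))) (.node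 (.node (.node (.node (.node (.leaf 238626) (.leaf 11382784)) (.leaf 7218018)) (.node (.node (.leaf 4849664) (.leaf 7360512)) (.leaf 3765131))) (.node (.node (.node (.leaf 2744320) (.leaf 7558178)) (.leaf 9486336)) (.node (.node (.leaf 1921790) (.leaf 11907072)) (.leaf 8397304)))) (.node (.node (.node (.node (.leaf 1683456) (.leaf 11534336)) (.leaf 8896512)) (.node (.node (.leaf 5890048) (.leaf 10764295)) (.leaf 8540160))) (.node (.node (.node (.leaf 3805184) (.leaf 4231358)) (.leaf 5395193)) (.node (.leaf 1659938) (.leaf 9930153)))))) (.node (.node (.node (.node (.node (.node (.leaf 115201) (.leaf 11288576)) (.leaf 1028096)) (.node (.node (.leaf 4595712) (.leaf 10392820)) (.leaf 10268672))) (.node (.node (.node (.leaf 450560) (.leaf 5099520)) (.leaf 1294336)) (.node (.node (.leaf 6262784) (.leaf 7479821)) (.leaf 3592729)))) (.node (.node (.node (.node (.leaf 196693) (.leaf 4960910)) (.leaf 8736768)) (.node (.node (.leaf 651264) (.leaf 6809001)) (.leaf 1914097))) (.node (.node (.node (.leaf 3530752) (.leaf 10605809)) (.leaf 4719946)) (.node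 (.leaf 7364608) (.leaf 11108352))))) (.node (.node (.node (.node (.node (.leaf 880640) (.leaf 6280231)) (.leaf 8409088)) (.node (.node (.leaf 5120000) (.leaf 10904092)) (.leaf 10444800))) (.node (.node (.node (.leaf 3035136) (.leaf 11339155)) (.leaf 8778306)) (.node (.leaf 1856325) (.leaf 11046912)))) (.node (.node (.node (.node (.leaf 1204224) (.leaf 7426582)) (.leaf 9048064)) (.node (.node (.leaf 1668263) (.leaf 5288908)) (.leaf 9921647))) (.node (.node (.node (.leaf 4075520) (.leaf 11759616)) (.leaf 3977301)) (.node (.leaf 5067810) (.leaf 9520244)))))))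

def bigMvXa7 : Janko.Tree (ℕ) :=
  (.node (.node (.node (.node (.node (.node (.node (.leaf 29509) (.leaf 11247616)) (.leaf 7909376)) (.node (.node (.leaf 4337664) (.leaf 9503084)) (.leaf 6537703))) (.node (.node (.node (.leaf 627746) (.leaf 2727936)) (.leaf 9203712)) (.node (.node (.leaf 3293671) (.leaf 9421144)) (.leaf 6399211)))) (.node (.node (.node (.node (.leaf 1138688) (.leaf 8942080)) (.leaf 2630136)) (.node (.node (.leaf 5373952) (.leaf 11837440)) (.leaf 6198465))) (.node (.node (.node (.leaf 3137536) (.leaf 3903488)) (.leaf 7455778)) (.node (.leaf 1446179) (.leaf 9986678))))) (.node (.node (.node (.node (.node (.leaf 614400) (.leaf 2363392)) (.leaf 5993742)) (.node (.node (.leaf 4861952) (.leaf 9641984)) (.leaf 6799525))) (.node (.node (.node (.leaf 299008) (.leaf 11649024)) (.leaf 8352869)) (.node (.node (.leaf 3044578) (.leaf 11265313)) (.leaf 10461569)))) (.node (.node (.node (.node (.leaf 815468) (.leaf 4333998)) (.leaf 8904704)) (.node (.node (.leaf 5113063) (.leaf 9745082)) (.leaf 4407934))) (.node (.node (.node (.leaf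 3821568) (.leaf 10515271)) (.leaf 6132713)) (.node (.leaf 1639089) (.leaf 6087950)))))) (.node (.node (.node (.node (.node (.node (.leaf 160256) (.leaf 6861744)) (.leaf 8069120)) (.node (.node (.leaf 4603904) (.leaf 11772813)) (.leaf 1568768))) (.node (.node (.node (.leaf 2490368) (.leaf 6541998)) (.leaf 5701736)) (.node (.node (.leaf 774144) (.leaf 7078392)) (.leaf 8729494)))) (.node (.node (.node (.node (.leaf 1429504) (.leaf 11055848)) (.leaf 7675920)) (.node (.node (.leaf 4886746) (.leaf 6422598)) (.leaf 10633216))) (.node (.node (.node (.leaf 3538944) (.leaf 7705437)) (.leaf 1417216)) (.node (.leaf 7356416) (.leaf 10240092))))) (.node (.node (.node (.node (.node (.leaf 876544) (.leaf 4874953)) (.leaf 2741681)) (.node (.node (.leaf 5132288) (.leaf 9150511)) (.leaf 1696694))) (.node (.node (.node (.leaf 1520120) (.leaf 5522466)) (.leaf 2756608)) (.node (.leaf 6955008) (.leaf 2019328)))) (.node (.node (.node (.node (.leaf 1966080) (.leaf 6857941)) (.leaf 9060352)) (.node (.node (.leaf 6111232) (.leaf 11575799)) (.leaf 1830912))) (.node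 (.node (.node (.leaf 1033250) (.leaf 11501791)) (.leaf 10027008)) (.node (.leaf 1070266) (.leaf 8483709)))))))

def bigMvXa8 : Janko.Tree (ℕ) :=
  (.node (.node (.node (.node (.node (.node (.node (.leaf 4096) (.leaf 8421454)) (.leaf 7917568)) (.node (.node (.leaf 4349952) (.leaf 11432335)) (.leaf 3153920))) (.node (.node (.node (.leaf 2248704) (.leaf 9860130)) (.leaf 9199616)) (.node (.node (.leaf 6320128) (.leaf 11809311)) (.leaf 7320461)))) (.node (.node (.node (.node (.leaf 1118413) (.leaf 3286050)) (.leaf 8622080)) (.node (.node (.leaf 622592) (.leaf 11679135)) (.leaf 5972493))) (.node (.node (.node (.leaf 3305472) (.leaf 6500366)) (.leaf 3785412)) (.node (.leaf 1589248) (.leaf 10699223))))) (.node (.node (.node (.node (.node (.leaf 630784) (.leaf 4670540)) (.leaf 8237056)) (.node (.node (.leaf 4857856) (.leaf 11486303)) (.leaf 6497148))) (.node (.node (.node (.leaf 2781184) (.leaf 2850816)) (.leaf 9494528)) (.node (.node (.leaf 6766592) (.leaf 11900116)) (.leaf 10973184)))) (.node (.node (.node (.node (.leaf 1699840) (.leaf 11538432))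 (.leaf 7996629)) (.node (.node (.leaf 5841954) (.leaf 11870208)) (.leaf 7110724))) (.node (.node (.node (.leaf 3817472) (.leaf 9842773)) (.leaf 7717028)) (.node (.leaf 5961008) (.leaf 2174976)))))) (.node (.node (.node (.node (.node (.node (.leaf 24576) (.leaf 3207373)) (.leaf 8065024)) (.node (.node (.leaf 532480) (.leaf 10715897)) (.leaf 3281553))) (.node (.node (.node (.leaf 303104) (.leaf 7188480)) (.leaf 5460222)) (.node (.node (.leaf 6565888) (.leaf 11330765)) (.leaf 6758600)))) (.node (.node (.node (.node (.leaf 1437696) (.leaf 11509760)) (.leaf 4698112)) (.node (.node (.leaf 5656576) (.leaf 4452352)) (.leaf 3495134))) (.node (.node (.node (.leaf 3510272) (.leaf 11215843)) (.leaf 8713094)) (.node (.leaf 7376896) (.leaf 8029412))))) (.node (.node (.node (.node (.node (.leaf 426893) (.leaf 2424832)) (.leaf 8433664)) (.node (.node (.leaf 5128192) (.leaf 9540345)) (.leaf 10448896))) (.node (.node (.node (.leaf 1474924) (.leaf 10835042)) (.leaf 9609216)) (.node (.leaf 6013558) (.leaf 7335958)))) (.node (.node (.node (.node (.leaf 1974272)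 (.leaf 6775242)) (.leaf 7758568)) (.node (.node (.leaf 6115328) (.leaf 7070725)) (.leaf 10772480))) (.node (.node (.node (.leaf 513210) (.leaf 11506048)) (.leaf 8520547)) (.node (.leaf 4789012) (.leaf 9065023)))))))

def bigMvXa9 : Janko.Tree (ℕ) :=
  (.node (.node (.node (.node (.node (.node (.node (.leaf 86016) (.leaf 11243520)) (.leaf 7913472)) (.node (.node (.leaf 4362240) (.leaf 11674125)) (.leaf 9457665))) (.node (.node (.node (.leaf 595073) (.leaf 9462124)) (.leaf 2592768)) (.node (.node (.leaf 3867963) (.leaf 5365760)) (.leaf 1871872)))) (.node (.node (.node (.node (.leaf 1150976) (.leaf 7864510)) (.leaf 8634368)) (.node (.node (.leaf 5402624) (.leaf 5145682)) (.leaf 10167701))) (.node (.node (.node (.leaf 3317760) (.leaf 11161696)) (.leaf 1372160)) (.node (.leaf 6324361) (.leaf 11087872))))) (.node (.node (.node (.node (.node (.leaf 643072) (.leaf 8876635)) (.leaf 2695168)) (.node (.node (.leaf 4154154) (.leaf 11612410)) (.leaf 9437267))) (.node (.node (.node (.leaf 676898) (.leaf 10683808)) (.leaf 9498624)) (.node (.node (.leaf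 6778880) (.leaf 8111312)) (.leaf 10977280)))) (.node (.node (.node (.node (.leaf 1708032) (.leaf 5300224)) (.leaf 8916992)) (.node (.node (.leaf 2888738) (.leaf 10006648)) (.leaf 8909304))) (.node (.node (.node (.leaf 3833856) (.leaf 11317395)) (.leaf 7029497)) (.node (.leaf 6927664) (.leaf 11149312)))))) (.node (.node (.node (.node (.node (.node (.leaf 368640) (.leaf 10702848)) (.leaf 5079040)) (.node (.node (.leaf 4620288) (.leaf 11240408)) (.leaf 10105359))) (.node (.node (.node (.leaf 1085626) (.leaf 7499776)) (.leaf 9342976)) (.node (.node (.leaf 6561792) (.leaf 11702340)) (.leaf 6755141)))) (.node (.node (.node (.node (.leaf 185081) (.leaf 11285071)) (.leaf 1344633)) (.node (.node (.leaf 2790724) (.leaf 11797742)) (.leaf 3900390))) (.node (.node (.node (.leaf 1712696) (.leaf 4171113)) (.leaf 5714352)) (.node (.leaf 7082745) (.leaf 7566164))))) (.node (.node (.node (.node (.node (.leaf 905216) (.leaf 10331050)) (.leaf 5214347)) (.node (.node (.leaf 4080822) (.leaf 8343944)) (.leaf 10186795))) (.node (.node (.node (.leaf 3019256)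 (.leaf 11681792)) (.leaf 2564096)) (.node (.leaf 6881687) (.leaf 4302194)))) (.node (.node (.node (.node (.leaf 1082657) (.leaf 2682880)) (.leaf 9039872)) (.node (.node (.leaf 6123520) (.leaf 10200366)) (.leaf 5689344))) (.node (.node (.node (.leaf 4091904) (.leaf 11763712)) (.leaf 10035200)) (.node (.leaf 2770046) (.leaf 6406541)))))))

def bigMvXa10 : Janko.Tree (ℕ) :=
  (.node (.node (.node (.node (.node (.node (.node (.leaf 102400) (.leaf 5567921)) (.leaf 3749168)) (.node (.node (.leaf 4358144) (.leaf 11203293)) (.leaf 6636654))) (.node (.node (.node (.leaf 245760) (.leaf 8594645)) (.leaf 9211904)) (.node (.node (.leaf 6336512) (.leaf 10519859)) (.leaf 8864256)))) (.node (.node (.node (.node (.leaf 1167360) (.leaf 6627889)) (.leaf 3003825)) (.node (.node (.leaf 5398528) (.leaf 9962660)) (.leaf 10547200))) (.node (.node (.node (.leaf 3313664) (.leaf 11104723)) (.leaf 3912743)) (.node (.leaf 7180288) (.leaf 9405867))))) (.node (.node (.node (.node (.node (.leaf 606208) (.leaf 5309082)) (.leaf 8269824)) (.node (.node (.leaf 2301952)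 (.leaf 11800576)) (.leaf 6268008))) (.node (.node (.node (.leaf 2777088) (.leaf 5670274)) (.leaf 2293887)) (.node (.node (.leaf 6222172) (.leaf 9102491)) (.leaf 2482176)))) (.node (.node (.node (.node (.leaf 1720320) (.leaf 10319102)) (.leaf 8921088)) (.node (.node (.leaf 1299417) (.leaf 11874304)) (.leaf 6468118))) (.node (.node (.node (.leaf 3850240) (.leaf 9233019)) (.leaf 9273470)) (.node (.leaf 3367051) (.leaf 8844417)))))) (.node (.node (.node (.node (.node (.node (.leaf 364544) (.leaf 5260417)) (.leaf 8077312)) (.node (.node (.leaf 1573376) (.leaf 9536419)) (.leaf 6812152))) (.node (.node (.node (.leaf 2514944) (.leaf 9740937)) (.leaf 4026869)) (.node (.node (.leaf 3461285) (.leaf 11371072)) (.leaf 7103679)))) (.node (.node (.node (.node (.leaf 151552) (.leaf 2531328)) (.leaf 5923708)) (.node (.node (.leaf 5652480) (.leaf 7234402)) (.leaf 6299736))) (.node (.node (.node (.leaf 885573) (.leaf 4650177)) (.leaf 6992725)) (.node (.leaf 7393280) (.leaf 5026596))))) (.node (.node (.node (.node (.node (.leaf 684117) (.leaf 4543732)) (.leaf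 8437760)) (.node (.node (.leaf 5156864) (.leaf 11121492)) (.leaf 1672462))) (.node (.node (.node (.leaf 3072000) (.leaf 8999044)) (.leaf 9621504)) (.node (.leaf 914673) (.leaf 11059200)))) (.node (.node (.node (.node (.leaf 496674) (.leaf 10723364)) (.leaf 7701686)) (.node (.node (.leaf 6107136) (.leaf 7328929)) (.leaf 10776576))) (.node (.node (.node (.leaf 4100096) (.leaf 7594821)) (.leaf 9897130)) (.node (.leaf 5710974) (.leaf 11198464)))))))

def bigMvXa11 : Janko.Tree (ℕ) :=
  (.node (.node (.node (.node (.node (.node (.node (.leaf 118784) (.leaf 2265088)) (.leaf 4547317)) (.node (.node (.leaf 2925546) (.leaf 5014562)) (.leaf 10174464))) (.node (.node (.node (.leaf 2260992) (.leaf 5092113)) (.leaf 8848332)) (.node (.node (.leaf 6316032) (.leaf 5694106)) (.leaf 10302779)))) (.node (.node (.node (.node (.leaf 1179648) (.leaf 5244071)) (.leaf 8617984)) (.node (.node (.leaf 4247552) (.leaf 11845632)) (.leaf 8000325))) (.node (.node (.node (.leaf 376832) (.leaf 8565528)) (.leaf 4383015)) (.node (.leaf 892928) (.leaf 2068480))))) (.node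 (.node (.node (.node (.node (.leaf 540757) (.leaf 5571705)) (.leaf 8273920)) (.node (.node (.leaf 2405700) (.leaf 10794182)) (.leaf 1864681))) (.node (.node (.node (.leaf 2813952) (.leaf 8790262)) (.leaf 2343673)) (.node (.node (.leaf 1635141) (.leaf 9024672)) (.leaf 1982464)))) (.node (.node (.node (.node (.leaf 1716224) (.leaf 4379952)) (.leaf 8929280)) (.node (.node (.leaf 671744) (.leaf 11158237)) (.leaf 2450667))) (.node (.node (.node (.leaf 3858432) (.leaf 3248128)) (.leaf 9940992)) (.node (.leaf 7532544) (.leaf 6340888)))))) (.node (.node (.node (.node (.node (.node (.leaf 82677) (.leaf 11309056)) (.leaf 7279317)) (.node (.node (.leaf 1163867) (.leaf 6427561)) (.leaf 3666606))) (.node (.node (.node (.leaf 2486443) (.leaf 11567981)) (.leaf 7938048)) (.node (.node (.leaf 6582272) (.leaf 11711592)) (.leaf 5153934)))) (.node (.node (.node (.node (.leaf 1458176) (.leaf 5870734)) (.leaf 4866552)) (.node (.node (.leaf 1241088) (.leaf 11735997)) (.leaf 8630797))) (.node (.node (.node (.leaf 2982518) (.leaf 6255642)) (.leaf 6673221)) (.node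 (.leaf 7385088) (.leaf 5628226))))) (.node (.node (.node (.node (.node (.leaf 917504) (.leaf 4829688)) (.leaf 4678235)) (.node (.node (.leaf 1376949) (.leaf 9916670)) (.leaf 9691341))) (.node (.node (.node (.leaf 3084288) (.leaf 11694080)) (.leaf 7889804)) (.node (.leaf 6971392) (.leaf 6214471)))) (.node (.node (.node (.node (.leaf 1998848) (.leaf 9352005)) (.leaf 9084928)) (.node (.node (.leaf 3150328) (.leaf 10477944)) (.leaf 4592453))) (.node (.node (.node (.leaf 475136) (.leaf 8954569)) (.leaf 3831160)) (.node (.leaf 7725056) (.leaf 6063529)))))))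

def bigMvXa12 : Janko.Tree (ℕ) :=
  (.node (.node (.node (.node (.node (.node (.node (.leaf 98304) (.leaf 6689565)) (.leaf 4244708)) (.node (.node (.leaf 1978368) (.leaf 10536040)) (.leaf 10182656))) (.node (.node (.node (.leaf 754176) (.leaf 4714606)) (.leaf 9220096)) (.node (.node (.leaf 1479160) (.leaf 9630362)) (.leaf 5325041)))) (.node (.node (.node (.node (.leaf 987640) (.leaf 11448320)) (.leaf 5550841)) (.node (.node (.leaf 5419008) (.leaf 8009074)) (.leaf 1736704))) (.node (.node (.node (.leaf 3342336) (.leaf 6804731)) (.leaf 8102658)) (.node (.leaf 6227132) (.leaf 10249031))))) (.node (.node (.node (.node (.node (.leaf 611362) (.leaf 5452289)) (.leaf 8290304)) (.node (.node (.leaf 2388472) (.leaf 9376040)) (.leaf 8536694))) (.node (.node (.node (.leaf 2826240) (.leaf 8205125)) (.leaf 1335296)) (.node (.node (.leaf 3457869) (.leaf 9073746)) (.leaf 8492309)))) (.node (.node (.node (.node (.leaf 836493) (.leaf 6878242)) (.leaf 8925184)) (.node (.node (.leaf 5931008) (.leaf 10913201)) (.leaf 7811909))) (.node (.node (.node (.leaf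 3862528) (.leaf 10969597)) (.leaf 6356992)) (.node (.leaf 6201429) (.leaf 7856483)))))) (.node (.node (.node (.node (.node (.node (.leaf 385024) (.leaf 10708323)) (.leaf 6873858)) (.node (.node (.leaf 4227211) (.leaf 11146026)) (.leaf 4477169))) (.node (.node (.node (.leaf 656053) (.leaf 9687286)) (.leaf 8417679)) (.node (.node (.leaf 6594560) (.leaf 9077830)) (.leaf 4682862)))) (.node (.node (.node (.node (.leaf 758336) (.leaf 11513856)) (.leaf 8798208)) (.node (.node (.leaf 5677056) (.leaf 11744089)) (.leaf 3989614))) (.node (.node (.node (.leaf 3514775) (.leaf 7131670)) (.leaf 7168757)) (.node (.leaf 5738566) (.leaf 7730524))))) (.node (.node (.node (.node (.node (.leaf 398640) (.leaf 10888218)) (.leaf 4137716)) (.node (.node (.leaf 5169152) (.leaf 7201915)) (.leaf 10080640))) (.node (.node (.node (.leaf 3080192) (.leaf 9348415)) (.leaf 5685316)) (.node (.leaf 6979584) (.leaf 7837020)))) (.node (.node (.node (.node (.leaf 1959228) (.leaf 7610869)) (.leaf 9089024)) (.node (.node (.leaf 3126579) (.leaf 5329549)) (.leaf 10376158))) (.node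 (.node (.node (.leaf 946767) (.leaf 9945088)) (.leaf 7495812)) (.node (.leaf 7619151) (.leaf 10597420)))))))

def bigMvXa13 : Janko.Tree (ℕ) :=
  (.node (.node (.node (.node (.node (.node (.node (.leaf 54705) (.leaf 9146507)) (.leaf 1290240)) (.node (.node (.leaf 2151748) (.leaf 4940834)) (.leaf 10059981))) (.node (.node (.node (.leaf 2269184) (.leaf 11419768)) (.leaf 5964834)) (.node (.node (.leaf 3109893) (.leaf 10797532)) (.leaf 4845598)))) (.node (.node (.node (.node (.leaf 471837) (.leaf 11452416)) (.leaf 8650752)) (.node (.node (.leaf 5431296) (.leaf 5140904)) (.leaf 3551645))) (.node (.node (.node (.leaf 3338240) (.leaf 8733248)) (.leaf 6604124)) (.node (.leaf 1794048) (.leaf 2278444))))) (.node (.node (.node (.node (.node (.leaf 667648) (.leaf 9871686)) (.leaf 8286208)) (.node (.node (.leaf 4898816) (.leaf 4710721)) (.leaf 8675774))) (.node (.node (.node (.leaf 2838528) (.leaf 6737964)) (.leaf 4617429)) (.node (.node (.leaf 1610135) (.leaf 11142013)) (.leaf 10207523)))) (.node (.node (.node (.node (.leaf 418629) (.leaf 10805716))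 (.leaf 1196032)) (.node (.node (.leaf 5926912) (.leaf 5473488)) (.leaf 6694236))) (.node (.node (.node (.leaf 3624967) (.leaf 5062861)) (.leaf 9957376)) (.node (.leaf 7544832) (.leaf 3490362)))))) (.node (.node (.node (.node (.node (.node (.leaf 401408) (.leaf 11051460)) (.leaf 5292789)) (.node (.node (.leaf 2106010) (.leaf 3875737)) (.leaf 4964557))) (.node (.node (.node (.leaf 2539520) (.leaf 2801664)) (.leaf 9363456)) (.node (.node (.leaf 4792766) (.leaf 11719516)) (.leaf 6946901)))) (.node (.node (.node (.node (.leaf 718017) (.leaf 2543616)) (.leaf 8802304)) (.node (.node (.leaf 3998754) (.leaf 10866991)) (.leaf 5534060))) (.node (.node (.node (.leaf 3579904) (.leaf 6090752)) (.leaf 2589730)) (.node (.leaf 5743810) (.leaf 9207831))))) (.node (.node (.node (.node (.node (.leaf 581632) (.leaf 9442538)) (.leaf 5935732)) (.node (.node (.leaf 5173248) (.leaf 11816960)) (.leaf 10358784))) (.node (.node (.node (.leaf 1495949) (.leaf 3572997)) (.leaf 3743744)) (.node (.leaf 6210040) (.leaf 5246999)))) (.node (.node (.node (.node (.leaf 217088)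 (.leaf 4584630)) (.leaf 8164311)) (.node (.node (.leaf 6078968) (.leaf 6492365)) (.leaf 10784768))) (.node (.node (.node (.leaf 4120576) (.leaf 10409158)) (.leaf 10047488)) (.node (.leaf 7749632) (.leaf 9228756)))))))

def bigMvXa14 : Janko.Tree (ℕ) :=
  (.node (.node (.node (.node (.node (.node (.node (.leaf 143360) (.leaf 10272878)) (.leaf 5349598)) (.node (.node (.leaf 4399104) (.leaf 5542847)) (.leaf 6918457))) (.node (.node (.node (.leaf 2285568) (.leaf 2732032)) (.leaf 5283840)) (.node (.node (.leaf 3093880) (.leaf 11563698)) (.leaf 8901120)))) (.node (.node (.node (.node (.leaf 204800) (.leaf 10277069)) (.leaf 4976640)) (.node (.node (.leaf 5447680) (.leaf 4842923)) (.leaf 5730683))) (.node (.node (.node (.leaf 1680654) (.leaf 10031174)) (.leaf 3985598)) (.node (.leaf 7208960) (.leaf 8655418))))) (.node (.node (.node (.node (.node (.leaf 679936) (.leaf 9654799)) (.leaf 8298496)) (.node (.node (.leaf 4911104) (.leaf 8311621)) (.leaf 9855590))) (.node (.node (.node (.leaf 2809856) (.leaf 10568490)) (.leaf 9515008)) (.node (.node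 (.leaf 3076982) (.leaf 10769250)) (.leaf 10584568)))) (.node (.node (.node (.node (.leaf 844454) (.leaf 6763502)) (.leaf 2031755)) (.node (.node (.leaf 1254434) (.leaf 9892531)) (.leaf 1798144))) (.node (.node (.node (.leaf 430080) (.leaf 11378715)) (.leaf 9965568)) (.node (.leaf 3600993) (.leaf 4097372)))))) (.node (.node (.node (.node (.node (.node (.leaf 413696) (.leaf 9491041)) (.leaf 2864555)) (.node (.node (.leaf 996464) (.leaf 10465941)) (.leaf 7397889))) (.node (.node (.node (.leaf 2547712) (.leaf 8295679)) (.leaf 9371648)) (.node (.node (.leaf 6578176) (.leaf 11440556)) (.leaf 7528988)))) (.node (.node (.node (.node (.leaf 1482752) (.leaf 11039798)) (.leaf 7148457)) (.node (.node (.leaf 5648384) (.leaf 4513792)) (.leaf 6005973))) (.node (.node (.node (.leaf 3575808) (.leaf 10149956)) (.leaf 7591336)) (.node (.leaf 897024) (.leaf 2125824))))) (.node (.node (.node (.node (.node (.leaf 942080) (.leaf 5878521)) (.leaf 8462336)) (.node (.node (.leaf 602112) (.leaf 11236512)) (.leaf 5920014))) (.node (.node (.node (.leaf 737792) (.leaf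 3420694)) (.leaf 9646080)) (.node (.leaf 1945710) (.leaf 8307630)))) (.node (.node (.node (.node (.leaf 2011136) (.leaf 10818375)) (.leaf 1232896)) (.node (.node (.leaf 712704) (.leaf 9053366)) (.leaf 7074443))) (.node (.node (.node (.leaf 1200150) (.leaf 10657835)) (.leaf 1901056)) (.node (.leaf 7761920) (.leaf 2207744)))))))

def bigMvXa15 : Janko.Tree (ℕ) :=
  (.node (.node (.node (.node (.node (.node (.node (.leaf 61952) (.leaf 9134592)) (.leaf 7946240)) (.node (.node (.leaf 4411392) (.leaf 9336241)) (.leaf 8831480))) (.node (.node (.node (.leaf 2297856) (.leaf 10544226)) (.leaf 4563769)) (.node (.node (.leaf 6365184) (.leaf 11559492)) (.leaf 10790203)))) (.node (.node (.node (.node (.leaf 126976) (.leaf 11460608)) (.leaf 8167610)) (.node (.node (.leaf 5410816) (.leaf 4182016)) (.leaf 6746949))) (.node (.node (.node (.leaf 3362816) (.leaf 3350854)) (.leaf 9760768)) (.node (.leaf 5001909) (.leaf 7255344))))) (.node (.node (.node (.node (.node (.leaf 373128) (.leaf 2933059)) (.leaf 6910157)) (.node (.node (.leaf 4923392) (.leaf 10810566))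 (.leaf 4019013))) (.node (.node (.node (.leaf 2859008) (.leaf 2871296)) (.leaf 9510912)) (.node (.node (.leaf 2994680) (.leaf 11911168)) (.leaf 4088866)))) (.node (.node (.node (.node (.leaf 1753088) (.leaf 2609152)) (.leaf 8937472)) (.node (.node (.leaf 5951488) (.leaf 5976402)) (.leaf 9937101))) (.node (.node (.node (.leaf 3878912) (.leaf 3687086)) (.leaf 7053673)) (.node (.leaf 7553024) (.leaf 11015516)))))) (.node (.node (.node (.node (.node (.node (.leaf 380928) (.leaf 8786712)) (.leaf 7643136)) (.node (.node (.leaf 2044660) (.leaf 4211675)) (.leaf 3384093))) (.node (.node (.node (.leaf 2560000) (.leaf 9368605)) (.leaf 9388032)) (.node (.node (.leaf 786432) (.leaf 6787669)) (.leaf 6185045)))) (.node (.node (.node (.node (.leaf 799364) (.leaf 9553306)) (.leaf 1175552)) (.node (.node (.leaf 647168) (.leaf 8016400)) (.leaf 3678969))) (.node (.node (.node (.leaf 3596288) (.leaf 10155206)) (.leaf 9838592)) (.node (.leaf 7413760) (.leaf 8590182))))) (.node (.node (.node (.node (.node (.leaf 455501) (.leaf 4780032)) (.leaf 6303774)) (.node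 (.node (.leaf 5193728) (.leaf 9355765)) (.leaf 9225520))) (.node (.node (.node (.leaf 1503910) (.leaf 11698176)) (.leaf 1909794)) (.node (.leaf 6995968) (.leaf 4167004)))) (.node (.node (.node (.node (.leaf 577558) (.leaf 11583488)) (.leaf 9097216)) (.node (.node (.leaf 6156288) (.leaf 7476049)) (.leaf 4371324))) (.node (.node (.node (.leaf 2281976) (.leaf 3371008)) (.leaf 10063872)) (.node (.leaf 7770112) (.leaf 8348487)))))))

def bigMvXa16 : Janko.Tree (ℕ) :=
  (.node (.node (.node (.node (.node (.node (.node (.leaf 163840) (.leaf 4903185)) (.leaf 5382366)) (.node (.node (.leaf 1324192) (.leaf 10552156)) (.leaf 3068408))) (.node (.node (.node (.leaf 565752) (.leaf 10252970)) (.leaf 4813853)) (.node (.node (.leaf 6178099) (.leaf 6328450)) (.leaf 10850304)))) (.node (.node (.node (.node (.leaf 520378) (.leaf 10989568)) (.leaf 5836896)) (.node (.node (.leaf 4354064) (.leaf 7381112)) (.leaf 1761445))) (.node (.node (.node (.leaf 3375104) (.leaf 5751466)) (.leaf 9764864)) (.node (.leaf 7229440) (.leaf 6730485))))) (.node (.node (.node (.node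 (.node (.leaf 57344) (.leaf 8441856)) (.leaf 8314880)) (.node (.node (.leaf 4919296) (.leaf 11645151)) (.leaf 1646592))) (.node (.node (.node (.leaf 2212650) (.leaf 11657216)) (.leaf 4817114)) (.node (.node (.leaf 6717552) (.leaf 10937130)) (.leaf 4390912)))) (.node (.node (.node (.node (.leaf 1622925) (.leaf 5357568)) (.leaf 6070667)) (.node (.node (.leaf 5967872) (.leaf 6611207)) (.leaf 7009017))) (.node (.node (.node (.leaf 3895296) (.leaf 11456717)) (.leaf 1466368)) (.node (.leaf 6509602) (.leaf 11165696)))))) (.node (.node (.node (.node (.node (.node (.leaf 319573) (.leaf 2753016)) (.leaf 4059136)) (.node (.node (.leaf 4673536) (.leaf 5792313)) (.leaf 10285056))) (.node (.node (.node (.leaf 2555904) (.leaf 5109097)) (.leaf 9396224)) (.node (.node (.leaf 852332) (.leaf 10433398)) (.leaf 9901459)))) (.node (.node (.node (.node (.leaf 352942) (.leaf 8774136)) (.leaf 8225613)) (.node (.node (.leaf 2401324) (.leaf 7549996)) (.leaf 2474094))) (.node (.node (.node (.leaf 3347341) (.leaf 7680836)) (.leaf 9834496)) (.node (.leaf 7421952)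 (.leaf 2764836))))) (.node (.node (.node (.node (.node (.leaf 226338) (.leaf 11427840)) (.leaf 2396858)) (.node (.node (.leaf 5189632) (.leaf 4072699)) (.leaf 7312361))) (.node (.node (.node (.leaf 1487352) (.leaf 3981650)) (.leaf 2659147)) (.node (.leaf 7004160) (.leaf 2848171)))) (.node (.node (.node (.node (.leaf 2023424) (.leaf 2674688)) (.leaf 9109504)) (.node (.node (.leaf 6152192) (.leaf 11002336)) (.leaf 6558139))) (.node (.node (.node (.leaf 2470956) (.leaf 5944590)) (.leaf 1823975)) (.node (.leaf 7766016) (.leaf 4932585)))))))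

def bigMvXa17 : Janko.Tree (ℕ) :=
  (.node (.node (.node (.node (.node (.node (.node (.leaf 176128) (.leaf 5788515)) (.leaf 1011712)) (.node (.node (.leaf 4427776) (.leaf 10453762)) (.leaf 3055858))) (.node (.node (.node (.leaf 262349) (.leaf 4772601)) (.leaf 1265664)) (.node (.node (.leaf 6381568) (.leaf 11604332)) (.leaf 10858496)))) (.node (.node (.node (.node (.leaf 1216512) (.leaf 3917104)) (.leaf 8183994)) (.node (.node (.leaf 4464640) (.leaf 7745536)) (.leaf 1941758))) (.node (.node (.node (.leaf 3387392) (.leaf 11395133)) (.leaf 2351200)) (.node (.leaf 7237632) (.leaf 2433186))))) (.node (.node (.node (.node (.node (.leaf 696320) (.leaf 2392064)) (.leaf 8318976)) (.node (.node (.leaf 569344) (.leaf 5427390)) (.leaf 1769836))) (.node (.node (.node (.leaf 2875392) (.leaf 9769869)) (.leaf 8532480)) (.node (.node (.leaf 819200) (.leaf 10203373)) (.leaf 9429244)))) (.node (.node (.node (.node (.leaf 1773568) (.leaf 11554816)) (.leaf 8949760)) (.node (.node (.leaf 5947392) (.leaf 11468943)) (.leaf 4936529))) (.node (.node (.node (.leaf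 3907584) (.leaf 6587093)) (.leaf 1511788)) (.node (.leaf 967806) (.leaf 6967607)))))) (.node (.node (.node (.node (.node (.node (.leaf 181552) (.leaf 4347199)) (.leaf 7721987)) (.node (.node (.leaf 4685824) (.leaf 7098515)) (.leaf 10289152))) (.node (.node (.node (.leaf 2163531) (.leaf 9637956)) (.leaf 9383936)) (.node (.node (.leaf 6623232) (.leaf 8258712)) (.leaf 10915840)))) (.node (.node (.node (.node (.leaf 725356) (.leaf 9159157)) (.leaf 8814592)) (.node (.node (.leaf 1426466) (.leaf 8659558)) (.leaf 2061413))) (.node (.node (.node (.leaf 409600) (.leaf 7639876)) (.leaf 5223344)) (.node (.leaf 5231274) (.leaf 2138112))))) (.node (.node (.node (.node (.node (.leaf 939324) (.leaf 2457600)) (.leaf 2056331)) (.node (.node (.leaf 2797568) (.leaf 11813268)) (.leaf 9319555))) (.node (.node (.node (.leaf 3031949) (.leaf 9782494)) (.leaf 1359872)) (.node (.leaf 7012352) (.leaf 2446380)))) (.node (.node (.node (.node (.leaf 2039808) (.leaf 11587584)) (.leaf 9105408)) (.node (.node (.leaf 1507832) (.leaf 11859328)) (.leaf 7270400))) (.node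 (.node (.node (.leaf 1262962) (.leaf 10735616)) (.leaf 7492545)) (.node (.leaf 4179292) (.leaf 4117512)))))))

def bigMvXa18 : Janko.Tree (ℕ) :=
  (.node (.node (.node (.node (.node (.node (.node (.leaf 172032) (.leaf 4665947)) (.leaf 7962624)) (.node (.node (.leaf 4440064) (.leaf 5759300)) (.leaf 8552653))) (.node (.node (.node (.leaf 307285) (.leaf 8430805)) (.leaf 9240576)) (.node (.node (.leaf 6393856) (.leaf 10383472)) (.leaf 1884160)))) (.node (.node (.node (.node (.leaf 1224704) (.leaf 4190217)) (.leaf 8671232)) (.node (.node (.leaf 2195456) (.leaf 8175697)) (.leaf 10571776))) (.node (.node (.node (.leaf 3358720) (.leaf 6844446)) (.leaf 2506752)) (.node (.leaf 7245824) (.leaf 2670592))))) (.node (.node (.node (.node (.node (.leaf 361024) (.leaf 5345858)) (.leaf 5562909)) (.node (.node (.leaf 4952064) (.leaf 11117858)) (.leaf 10399744))) (.node (.node (.node (.leaf 2883584) (.leaf 11661312)) (.leaf 8061092)) (.node (.node (.leaf 6823936) (.leaf 9707818)) (.leaf 9711868)))) (.node (.node (.node (.node (.leaf 1785856) (.leaf 7389204))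 (.leaf 7021153)) (.node (.node (.leaf 2240651) (.leaf 9569013)) (.leaf 7467093))) (.node (.node (.node (.leaf 3891200) (.leaf 6772133)) (.leaf 8516465)) (.node (.leaf 4342612) (.leaf 8245248)))))) (.node (.node (.node (.node (.node (.node (.leaf 446464) (.leaf 5526961)) (.leaf 8114176)) (.node (.node (.leaf 2818187) (.leaf 10690628)) (.leaf 10293248))) (.node (.node (.node (.leaf 1414178) (.leaf 7249920)) (.leaf 3769378)) (.node (.node (.leaf 6631424) (.leaf 8025083)) (.leaf 5825351)))) (.node (.node (.node (.node (.leaf 1515520) (.leaf 11478158)) (.leaf 2367992)) (.node (.node (.leaf 5705728) (.leaf 9847597)) (.leaf 10076280))) (.node (.node (.node (.leaf 3166882) (.leaf 10056005)) (.leaf 9850880)) (.node (.leaf 7045127) (.leaf 2687669))))) (.node (.node (.node (.node (.node (.leaf 970752) (.leaf 3638277)) (.leaf 4662596)) (.node (.node (.leaf 5218304) (.leaf 11252046)) (.leaf 3945214))) (.node (.node (.node (.leaf 3133440) (.leaf 9827367)) (.leaf 4329794)) (.node (.leaf 3924681) (.leaf 2184313)))) (.node (.node (.node (.node (.leaf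 2052096) (.leaf 3781666)) (.leaf 4007038)) (.node (.node (.leaf 6172672) (.leaf 11280518)) (.leaf 4518725))) (.node (.node (.node (.leaf 573944) (.leaf 10522660)) (.leaf 6410896)) (.node (.leaf 2376864) (.leaf 2220032)))))))

def bigMvXa19 : Janko.Tree (ℕ) :=
  (.node (.node (.node (.node (.node (.node (.node (.leaf 79061) (.leaf 11259904)) (.leaf 2617344)) (.node (.node (.leaf 4435968) (.leaf 10564444)) (.leaf 10052097))) (.node (.node (.node (.leaf 2322432) (.leaf 4530350)) (.leaf 9236480)) (.node (.node (.leaf 6402048) (.leaf 7263140)) (.leaf 5096106)))) (.node (.node (.node (.node (.leaf 1236992) (.leaf 4366336)) (.leaf 1146880)) (.node (.node (.leaf 4740099) (.leaf 9797962)) (.leaf 6546245))) (.node (.node (.node (.leaf 3310055) (.leaf 7451790)) (.leaf 1388544)) (.node (.leaf 2245445) (.leaf 9265374))))) (.node (.node (.node (.node (.node (.leaf 704512) (.leaf 9606418)) (.leaf 1064960)) (.node (.node (.leaf 4947968) (.leaf 3813376)) (.leaf 10023806))) (.node (.node (.node (.leaf 2879488) (.leaf 3158520)) (.leaf 2109662)) (.node (.node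 (.leaf 6836224) (.leaf 9302772)) (.leaf 10993664)))) (.node (.node (.node (.node (.leaf 1781760) (.leaf 11191528)) (.leaf 8360880)) (.node (.node (.leaf 4416567) (.leaf 11092811)) (.leaf 10727424))) (.node (.node (.node (.leaf 3584395) (.leaf 3846800)) (.leaf 6361330)) (.node (.leaf 7573504) (.leaf 7435612)))))) (.node (.node (.node (.node (.node (.node (.leaf 49152) (.leaf 4252885)) (.leaf 8122368)) (.node (.node (.leaf 4694016) (.leaf 10629120)) (.leaf 6136445))) (.node (.node (.node (.leaf 316450) (.leaf 11580445)) (.leaf 4821568)) (.node (.node (.leaf 5207344) (.leaf 9253450)) (.leaf 9454827)))) (.node (.node (.node (.node (.leaf 1527808) (.leaf 7570558)) (.leaf 8826880)) (.node (.node (.leaf 5734400) (.leaf 9327942)) (.leaf 10665984))) (.node (.node (.node (.leaf 3620864) (.leaf 5681679)) (.leaf 8757333)) (.node (.leaf 909312) (.leaf 3560590))))) (.node (.node (.node (.node (.node (.leaf 978944) (.leaf 11436032)) (.leaf 4645467)) (.node (.node (.leaf 5234688) (.leaf 11272696)) (.leaf 10265603))) (.node (.node (.node (.leaf 3145728)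 (.leaf 9908292)) (.leaf 4641904)) (.node (.leaf 1450745) (.leaf 3671310)))) (.node (.node (.node (.node (.leaf 1107056) (.leaf 4219175)) (.leaf 1245184)) (.node (.node (.leaf 5264042) (.leaf 11842346)) (.leaf 7286852))) (.node (.node (.node (.leaf 1172640) (.leaf 10073339)) (.leaf 7955650)) (.node (.leaf 7742812) (.leaf 3757326)))))))

def bigMvXa20 : Janko.Tree (ℕ) :=
  (.node (.node (.node (.node (.node (.node (.node (.leaf 70960) (.leaf 3399799)) (.leaf 6784034)) (.node (.node (.leaf 503808) (.leaf 7447024)) (.leaf 6373444))) (.node (.node (.node (.leaf 2330624) (.leaf 10743934)) (.leaf 9248768)) (.node (.node (.leaf 6418432) (.leaf 10695893)) (.leaf 3183248)))) (.node (.node (.node (.node (.leaf 1212416) (.leaf 9592832)) (.leaf 8683520)) (.node (.node (.leaf 5476352) (.leaf 11755894)) (.leaf 7058641))) (.node (.node (.node (.leaf 3411968) (.leaf 11689984)) (.leaf 9773056)) (.node (.leaf 7258112) (.leaf 5341406))))) (.node (.node (.node (.node (.node (.leaf 720896) (.leaf 6164993)) (.leaf 8331264)) (.node (.node (.leaf 4157579) (.leaf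 11633719)) (.leaf 3548165))) (.node (.node (.node (.leaf 2707851) (.leaf 7536725)) (.leaf 2327032)) (.node (.node (.leaf 4457280) (.leaf 11883282)) (.leaf 10949494)))) (.node (.node (.node (.node (.leaf 188416) (.leaf 5468504)) (.leaf 8970240)) (.node (.node (.leaf 5088290) (.leaf 5615821)) (.leaf 3301766))) (.node (.node (.node (.leaf 438272) (.leaf 10956850)) (.leaf 3437735)) (.node (.leaf 7581696) (.leaf 11173888)))))) (.node (.node (.node (.node (.node (.node (.leaf 214142) (.leaf 2338816)) (.leaf 8118272)) (.node (.node (.leaf 1192634) (.leaf 10441342)) (.leaf 2237173))) (.node (.node (.node (.leaf 1156033) (.leaf 9650716)) (.leaf 8073232)) (.node (.node (.leaf 6619136) (.leaf 11792993)) (.leaf 8368965)))) (.node (.node (.node (.node (.leaf 1540096) (.leaf 5505024)) (.leaf 8234054)) (.node (.node (.leaf 5746688) (.leaf 7631352)) (.leaf 3015417))) (.node (.node (.node (.leaf 2970104) (.leaf 3186688)) (.leaf 2724898)) (.node (.leaf 6083957) (.leaf 8990720))))) (.node (.node (.node (.node (.node (.leaf 974848) (.leaf 11076852)) (.leaf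 4801210)) (.node (.node (.leaf 5251072) (.leaf 4038656)) (.leaf 9954593))) (.node (.node (.node (.leaf 3141632) (.leaf 11347320)) (.leaf 4883500)) (.node (.leaf 864256) (.leaf 10129662)))) (.node (.node (.node (.node (.leaf 229376) (.leaf 10457937)) (.leaf 2715648)) (.node (.node (.leaf 6193152) (.leaf 10985628)) (.leaf 1847296))) (.node (.node (.node (.leaf 4173824) (.leaf 6649193)) (.leaf 3555832)) (.node (.leaf 7794688) (.leaf 8822854)))))))

def bigMvXa21 : Janko.Tree (ℕ) :=
  (.node (.node (.node (.node (.node (.node (.node (.leaf 16384) (.leaf 10539542)) (.leaf 7472226)) (.node (.node (.leaf 4472832) (.leaf 11519114)) (.leaf 9400824))) (.node (.node (.node (.leaf 295673) (.leaf 11546777)) (.leaf 8966376)) (.node (.node (.leaf 6414336) (.leaf 9081876)) (.leaf 10088448)))) (.node (.node (.node (.node (.leaf 136226) (.leaf 8704174)) (.leaf 8679424)) (.node (.node (.leaf 5484544) (.leaf 6238890)) (.leaf 7267495))) (.node (.node (.node (.leaf 1934370) (.leaf 7778494)) (.leaf 8262469)) (.node (.leaf 4551493) (.leaf 10507477))))) (.node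 (.node (.node (.node (.node (.leaf 733184) (.leaf 8811057)) (.leaf 8339456)) (.node (.node (.leaf 4980736) (.leaf 10220779)) (.leaf 4261059))) (.node (.node (.node (.leaf 2908160) (.leaf 7975975)) (.leaf 8585720)) (.node (.node (.leaf 3589290) (.leaf 11686750)) (.leaf 1990656)))) (.node (.node (.node (.node (.leaf 1818624) (.leaf 7950558)) (.leaf 7663616)) (.node (.node (.leaf 860664) (.leaf 11211937)) (.leaf 8127687))) (.node (.node (.node (.leaf 3940352) (.leaf 9695302)) (.leaf 3634407)) (.node (.leaf 7577600) (.leaf 6554552)))))) (.node (.node (.node (.node (.node (.node (.leaf 466944) (.leaf 2700496)) (.leaf 8134656)) (.node (.node (.leaf 2785747) (.leaf 4702208)) (.leaf 2805760))) (.node (.node (.node (.leaf 2605056) (.leaf 10190985)) (.leaf 9412608)) (.node (.node (.leaf 3454222) (.leaf 11751492)) (.leaf 7206245)))) (.node (.node (.node (.node (.leaf 1536000) (.leaf 11522048)) (.leaf 4907847)) (.node (.node (.leaf 5754880) (.leaf 5903647)) (.leaf 3101030))) (.node (.node (.node (.leaf 3649536) (.leaf 7655805)) (.leaf 8148023)) (.node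 (.leaf 6951970) (.leaf 4756907))))) (.node (.node (.node (.node (.node (.leaf 94208) (.leaf 2912782)) (.leaf 5546932)) (.node (.node (.leaf 5210112) (.leaf 11080139)) (.leaf 7295886))) (.node (.node (.node (.leaf 348160) (.leaf 9298759)) (.leaf 2966562)) (.node (.leaf 7041024) (.leaf 11067392)))) (.node (.node (.node (.node (.leaf 255409) (.leaf 3949812)) (.leaf 9125888)) (.node (.node (.leaf 6168576) (.leaf 10933418)) (.leaf 10297800))) (.node (.node (.node (.leaf 4186112) (.leaf 7898146)) (.leaf 3065208)) (.node (.leaf 5043244) (.leaf 7541207)))))))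

def bigMvXa22 : Janko.Tree (ℕ) :=
  (.node (.node (.node (.node (.node (.node (.node (.leaf 42028) (.leaf 10137630)) (.leaf 7987200)) (.node (.node (.leaf 4468736) (.leaf 10577000)) (.leaf 3379592))) (.node (.node (.node (.leaf 266240) (.leaf 7369992)) (.leaf 4276224)) (.node (.node (.leaf 3395976) (.leaf 5619712)) (.leaf 7352684)))) (.node (.node (.node (.node (.leaf 517154) (.leaf 9482746)) (.leaf 2601626)) (.node (.node (.leaf 5480448) (.leaf 6529816)) (.leaf 6906984))) (.node (.node (.node (.leaf 1663821) (.leaf 10588804)) (.leaf 2921506)) (.node (.leaf 1950754) (.leaf 11096064))))) (.node (.node (.node (.node (.node (.leaf 344598) (.leaf 4895224)) (.leaf 7221533)) (.node (.node (.leaf 4993024) (.leaf 7783197)) (.leaf 2573616))) (.node (.node (.node (.leaf 1385506) (.leaf 6074453)) (.leaf 9560064)) (.node (.node (.leaf 831488) (.leaf 11903410)) (.leaf 10364262)))) (.node (.node (.node (.node (.leaf 1814528) (.leaf 7065720)) (.leaf 1905968)) (.node (.node (.leaf 3645944) (.leaf 11386944)) (.leaf 2954544))) (.node (.node (.node (.leaf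 3936256) (.leaf 10313796)) (.leaf 6042778)) (.node (.leaf 4023620) (.leaf 10281554)))))) (.node (.node (.node (.node (.node (.node (.leaf 479232) (.leaf 11325440)) (.leaf 8142848)) (.node (.node (.leaf 561357) (.leaf 9925833)) (.leaf 6455487))) (.node (.node (.node (.leaf 1078306) (.leaf 8044866)) (.leaf 4285710)) (.node (.node (.leaf 1938476) (.leaf 11350514)) (.leaf 8041300)))) (.node (.node (.node (.node (.leaf 746381) (.leaf 8093835)) (.leaf 8474694)) (.node (.node (.leaf 5767168) (.leaf 7598890)) (.leaf 10650361))) (.node (.node (.node (.leaf 3661824) (.leaf 8172014)) (.leaf 9392814)) (.node (.leaf 5698594) (.leaf 9785468))))) (.node (.node (.node (.node (.node (.leaf 1003520) (.leaf 9802254)) (.leaf 8507392)) (.node (.node (.leaf 5267456) (.leaf 8447253)) (.leaf 10481664))) (.node (.node (.node (.leaf 3174400) (.leaf 11182648)) (.leaf 9678848)) (.node (.leaf 6308514) (.leaf 2048000)))) (.node (.node (.node (.node (.leaf 2080768) (.leaf 4084394)) (.leaf 9129984)) (.node (.node (.leaf 1869176) (.leaf 5136384)) (.leaf 8983210))) (.node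 (.node (.node (.leaf 4198400) (.leaf 11399357)) (.leaf 10096640)) (.node (.leaf 4654363) (.leaf 4526270)))))))

def bigMvXa23 : Janko.Tree (ℕ) :=
  (.node (.node (.node (.node (.node (.node (.node (.leaf 221184) (.leaf 4510641)) (.leaf 3544334)) (.node (.node (.leaf 1302528) (.leaf 4498245)) (.leaf 9123135))) (.node (.node (.node (.leaf 499898) (.leaf 10920669)) (.leaf 5338340)) (.node (.node (.leaf 6438912) (.leaf 10814051)) (.leaf 9749188)))) (.node (.node (.node (.node (.leaf 1273856) (.leaf 7419074)) (.leaf 8691712)) (.node (.node (.leaf 2551808) (.leaf 11776432)) (.leaf 7283458))) (.node (.node (.node (.leaf 1463522) (.leaf 6853825)) (.leaf 6271480)) (.node (.leaf 3334587) (.leaf 9310430))))) (.node (.node (.node (.node (.node (.leaf 270849) (.leaf 3887294)) (.leaf 8335360)) (.node (.node (.leaf 5005312) (.leaf 5018112)) (.leaf 6701310))) (.node (.node (.node (.leaf 1348642) (.leaf 9794884)) (.leaf 9564160)) (.node (.node (.leaf 1741213) (.leaf 11822250)) (.leaf 2528475)))) (.node (.node (.node (.node (.leaf 840974) (.leaf 3653779))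 (.leaf 5076196)) (.node (.node (.leaf 3839409) (.leaf 6574769)) (.leaf 3289088))) (.node (.node (.node (.leaf 795682) (.leaf 9172249)) (.leaf 9819303)) (.node (.leaf 7602176) (.leaf 11177984)))))) (.node (.node (.node (.node (.node (.node (.leaf 491520) (.leaf 5604326)) (.leaf 8138752)) (.node (.node (.leaf 663637) (.leaf 10928178)) (.leaf 6120119))) (.node (.node (.node (.leaf 2621440) (.leaf 8459376)) (.leaf 9416704)) (.node (.node (.leaf 6664192) (.leaf 11805579)) (.leaf 9143612)))) (.node (.node (.node (.node (.leaf 1564672) (.leaf 3355381)) (.leaf 2347008)) (.node (.node (.leaf 5763072) (.leaf 11862016)) (.leaf 1889177))) (.node (.node (.node (.leaf 3674112) (.leaf 8749261)) (.leaf 7185442)) (.node (.leaf 6218757) (.leaf 10801877))))) (.node (.node (.node (.node (.node (.leaf 999424) (.leaf 4825691)) (.leaf 8503296)) (.node (.node (.leaf 5279744) (.leaf 10981376)) (.leaf 8766658))) (.node (.node (.node (.leaf 3170304) (.leaf 8569939)) (.leaf 4375365)) (.node (.leaf 3048636) (.leaf 11071488)))) (.node (.node (.node (.node (.leaf 2088960)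 (.leaf 9588941)) (.leaf 9138176)) (.node (.node (.leaf 1544704) (.leaf 11498619)) (.leaf 9380898))) (.node (.node (.node (.leaf 4194304) (.leaf 3474358)) (.leaf 8479512)) (.node (.leaf 1184812) (.leaf 7000450)))))))

def bigMvXa24 : Janko.Tree (ℕ) :=
  (.node (.node (.node (.node (.node (.node (.node (.leaf 208896) (.leaf 4202635)) (.leaf 4576290)) (.node (.node (.leaf 4493312) (.leaf 4067832)) (.leaf 10211328))) (.node (.node (.node (.leaf 2355200) (.leaf 10412266)) (.leaf 4255966)) (.node (.node (.leaf 6443008) (.leaf 10343086)) (.leaf 7340160)))) (.node (.node (.node (.node (.leaf 1286144) (.leaf 5776068)) (.leaf 8695808)) (.node (.node (.leaf 5509120) (.leaf 6533120)) (.leaf 5226526))) (.node (.node (.node (.leaf 3416901) (.leaf 7984363)) (.leaf 8835833)) (.node (.leaf 2679842) (.leaf 2097152))))) (.node (.node (.node (.node (.node (.leaf 147969) (.leaf 6722225)) (.leaf 6976174)) (.node (.node (.leaf 4968448) (.leaf 5009920)) (.leaf 6350121))) (.node (.node (.node (.leaf 2928640) (.leaf 7901987)) (.leaf 9555968)) (.node (.node (.leaf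 6868992) (.leaf 11895912)) (.leaf 7517454)))) (.node (.node (.node (.node (.leaf 1843200) (.leaf 5046776)) (.leaf 2134016)) (.node (.node (.leaf 6008832) (.leaf 9974273)) (.leaf 7176260))) (.node (.node (.node (.leaf 3956736) (.leaf 11100280)) (.leaf 9990144)) (.node (.leaf 7614464) (.leaf 2511526)))))) (.node (.node (.node (.node (.node (.node (.leaf 487424) (.leaf 3690581)) (.leaf 5124556)) (.node (.node (.leaf 4726784) (.leaf 7036928)) (.leaf 8946722))) (.node (.node (.node (.leaf 2633728) (.leaf 5595136)) (.leaf 8610819)) (.node (.node (.leaf 3961046) (.leaf 10641478)) (.leaf 6387014)))) (.node (.node (.node (.node (.leaf 529413) (.leaf 8032578)) (.leaf 1187840)) (.node (.node (.leaf 5779456) (.leaf 7344697)) (.leaf 10670080))) (.node (.node (.node (.leaf 3641344) (.leaf 8708096)) (.leaf 1790456)) (.node (.leaf 6284025) (.leaf 8450262))))) (.node (.node (.node (.node (.node (.leaf 459810) (.leaf 8880640)) (.leaf 1110016)) (.node (.node (.leaf 2946082) (.leaf 10162448)) (.leaf 5334050))) (.node (.node (.node (.leaf 1500165) (.leaf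 11018404)) (.leaf 9682944)) (.node (.leaf 4956672) (.leaf 4134236)))) (.node (.node (.node (.node (.leaf 2076672) (.leaf 6046605)) (.leaf 6939463)) (.node (.node (.leaf 873703) (.leaf 11608476)) (.leaf 10821632))) (.node (.node (.node (.leaf 2311451) (.leaf 11543683)) (.leaf 1523712)) (.node (.leaf 4162884) (.leaf 3928864)))))))

def bigMvXa25 : Janko.Tree (ℕ) :=
  (.node (.node (.node (.node (.node (.node (.node (.leaf 90251) (.leaf 4047652)) (.leaf 4297956)) (.node (.node (.leaf 4501504) (.leaf 6370034)) (.leaf 8250520))) (.node (.node (.node (.leaf 2318541) (.leaf 11321848)) (.leaf 4854169)) (.node (.node (.leaf 6447104) (.leaf 10388841)) (.leaf 10757351)))) (.node (.node (.node (.node (.leaf 1269760) (.leaf 9155888)) (.leaf 8699904)) (.node (.node (.leaf 5517312) (.leaf 8106877)) (.leaf 6652416))) (.node (.node (.node (.leaf 1675942) (.leaf 3449429)) (.leaf 5161384)) (.node (.leaf 3564814) (.leaf 10637382))))) (.node (.node (.node (.node (.node (.leaf 73728) (.leaf 7880999)) (.leaf 1073152)) (.node (.node (.leaf 5021696) (.leaf 10498554))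 (.leaf 3007397))) (.node (.node (.node (.leaf 2940928) (.leaf 8413304)) (.leaf 5664768)) (.node (.node (.leaf 6864896) (.leaf 11133367)) (.leaf 6296020)))) (.node (.node (.node (.node (.leaf 1859584) (.leaf 9244672)) (.leaf 5636096)) (.node (.node (.leaf 3699069) (.leaf 6964058)) (.leaf 5644288))) (.node (.node (.node (.leaf 3973120) (.leaf 11298137)) (.leaf 5915091)) (.node (.leaf 7626752) (.leaf 4613009)))))) (.node (.node (.node (.node (.node (.node (.leaf 234812) (.leaf 5353976)) (.leaf 1044480)) (.node (.node (.leaf 4734976) (.leaf 10351092)) (.leaf 4207126))) (.node (.node (.node (.leaf 2641920) (.leaf 10367988)) (.leaf 1310720)) (.node (.node (.leaf 3215831) (.leaf 6792462)) (.leaf 1961984)))) (.node (.node (.node (.node (.leaf 340481) (.leaf 8717356)) (.leaf 7934895)) (.node (.node (.leaf 5795840) (.leaf 10485935)) (.leaf 9068806))) (.node (.node (.node (.leaf 688419) (.leaf 10196166)) (.leaf 2650238)) (.node (.leaf 6127616) (.leaf 5817771))))) (.node (.node (.node (.node (.node (.leaf 1019904) (.leaf 10117822)) (.leaf 8527872))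 (.node (.node (.leaf 2584576) (.leaf 7634944)) (.leaf 10068316))) (.node (.node (.node (.leaf 3198976) (.leaf 6549890)) (.leaf 1877236)) (.node (.leaf 5390731) (.leaf 10838136)))) (.node (.node (.node (.node (.leaf 959522) (.leaf 7893681)) (.leaf 4838444)) (.node (.node (.leaf 3933121) (.leaf 11637597)) (.leaf 10093380))) (.node (.node (.node (.leaf 4222976) (.leaf 5436547)) (.leaf 7160281)) (.node (.leaf 4146524) (.leaf 2478834)))))))

def bigMvXa26 : Janko.Tree (ℕ) :=
  (.node (.node (.node (.node (.node (.node (.node (.leaf 107953) (.leaf 8467035)) (.leaf 4125718)) (.node (.node (.leaf 4489216) (.leaf 10593384)) (.leaf 9527939))) (.node (.node (.node (.leaf 2037084) (.leaf 4309214)) (.leaf 8598008)) (.node (.node (.leaf 749568) (.leaf 11641372)) (.leaf 9757380)))) (.node (.node (.node (.node (.leaf 1135353) (.leaf 11227617)) (.leaf 8687616)) (.node (.node (.leaf 5513216) (.leaf 7308469)) (.leaf 1732608))) (.node (.node (.node (.leaf 783173) (.leaf 11726848)) (.leaf 7172933)) (.node (.leaf 7290880) (.leaf 4579673))))) (.node (.node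 (.node (.node (.node (.leaf 139735) (.leaf 11334826)) (.leaf 8364032)) (.node (.node (.leaf 5033984) (.leaf 9970421)) (.leaf 8512393))) (.node (.node (.node (.leaf 2936832) (.leaf 10953726)) (.leaf 9572352)) (.node (.node (.leaf 848037) (.leaf 11789289)) (.leaf 8979490)))) (.node (.node (.node (.node (.leaf 1835008) (.leaf 2637824)) (.leaf 5722112)) (.node (.node (.leaf 1692152) (.leaf 8218024)) (.leaf 4485877))) (.node (.node (.node (.leaf 3952640) (.leaf 5117033)) (.leaf 9994240)) (.node (.leaf 7622656) (.leaf 8323791)))))) (.node (.node (.node (.node (.node (.node (.leaf 123938) (.leaf 5911130)) (.leaf 4945025)) (.node (.node (.leaf 4747264) (.leaf 9880056)) (.leaf 10321920))) (.node (.node (.node (.leaf 2654208) (.leaf 8627394)) (.leaf 9424896)) (.node (.node (.leaf 6684672) (.leaf 10895470)) (.leaf 6616334)))) (.node (.node (.node (.node (.leaf 1581056) (.leaf 9191925)) (.leaf 8855552)) (.node (.node (.leaf 5804032) (.leaf 5423377)) (.leaf 10146466))) (.node (.node (.node (.leaf 761856) (.leaf 11722983)) (.leaf 3605937)) (.node (.leaf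 5071605) (.leaf 8097982))))) (.node (.node (.node (.node (.node (.leaf 1036288) (.leaf 7980245)) (.leaf 8523776)) (.node (.node (.leaf 2598116) (.leaf 10781749)) (.leaf 10489856))) (.node (.node (.node (.leaf 3211264) (.leaf 3682509)) (.leaf 9700450)) (.node (.leaf 1434104) (.leaf 8500146)))) (.node (.node (.node (.node (.leaf 2117632) (.leaf 5408105)) (.leaf 5672960)) (.node (.node (.leaf 3088888) (.leaf 11714766)) (.leaf 5800999))) (.node (.node (.node (.leaf 2691072) (.leaf 11224437)) (.leaf 3326812)) (.node (.leaf 7815168) (.leaf 5305145)))))))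

def bigMvXa27 : Janko.Tree (ℕ) :=
  (.node (.node (.node (.node (.node (.node (.node (.leaf 258048) (.leaf 7463967)) (.leaf 5583070)) (.node (.node (.leaf 4521984) (.leaf 7791860)) (.leaf 1552384))) (.node (.node (.node (.leaf 2383872) (.leaf 4731384)) (.leaf 4751864)) (.node (.node (.leaf 6451200) (.leaf 11629037)) (.leaf 6840641)))) (.node (.node (.node (.node (.leaf 1314816) (.leaf 11481088)) (.leaf 4927992)) (.node (.node (.leaf 5537792) (.leaf 9532078)) (.leaf 3429189))) (.node (.node (.node (.leaf 389120) (.leaf 11730944)) (.leaf 6833393)) (.node (.leaf 7303168) (.leaf 8086446))))) (.node (.node (.node (.node (.node (.leaf 770048) (.leaf 5956096)) (.leaf 6505776)) (.node (.node (.leaf 5038080) (.leaf 6034559)) (.leaf 10416128))) (.node (.node (.node (.leaf 2957312) (.leaf 7733939)) (.leaf 9576448)) (.node (.node (.leaf 3298117) (.leaf 11891934)) (.leaf 2172252)))) (.node (.node (.node (.node (.leaf 1880064) (.leaf 11571200)) (.leaf 9003008)) (.node (.node (.leaf 6025216) (.leaf 6607140)) (.leaf 10739712))) (.node (.node (.node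 (.leaf 1765985) (.leaf 9597462)) (.leaf 9998336)) (.node (.leaf 950272) (.leaf 2203648)))))) (.node (.node (.node (.node (.node (.node (.leaf 242342) (.leaf 5940610)) (.leaf 8159232)) (.node (.node (.leaf 4743168) (.leaf 9585216)) (.leaf 8019968))) (.node (.node (.node (.leaf 2666496) (.leaf 10215994)) (.leaf 1393905)) (.node (.node (.leaf 6696960) (.leaf 10002454)) (.leaf 4317184)))) (.node (.node (.node (.node (.leaf 192512) (.leaf 11526144)) (.leaf 7050136)) (.node (.node (.leaf 5812224) (.leaf 9807276)) (.leaf 7226514))) (.node (.node (.node (.leaf 421888) (.leaf 11268226)) (.leaf 1750277)) (.node (.leaf 2867908) (.leaf 11137024))))) (.node (.node (.node (.node (.node (.leaf 1048576) (.leaf 3731472)) (.leaf 5718155)) (.node (.node (.leaf 2360349) (.leaf 7709730)) (.leaf 3568789))) (.node (.node (.node (.leaf 3223552) (.leaf 9789525)) (.leaf 9703424)) (.node (.leaf 5997048) (.leaf 5386240)))) (.node (.node (.node (.node (.leaf 2129920) (.leaf 9257650)) (.leaf 2949874)) (.node (.node (.leaf 6246400) (.leaf 7861470)) (.leaf 7586474)))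 (.node (.node (.node (.leaf 507904) (.leaf 8668351)) (.leaf 2892280)) (.node (.leaf 7823360) (.leaf 3994894)))))))

def bigMvXa28 : Janko.Tree (ℕ) :=
  (.node (.node (.node (.node (.node (.node (.node (.leaf 249856) (.leaf 7521577)) (.leaf 8011776)) (.node (.node (.leaf 2535528) (.leaf 7524437)) (.leaf 9626726))) (.node (.node (.node (.leaf 2371584) (.leaf 5182874)) (.leaf 5316608)) (.node (.node (.leaf 6463488) (.leaf 5771264)) (.leaf 2855970)))) (.node (.node (.node (.node (.leaf 1327104) (.leaf 11423744)) (.leaf 4834628)) (.node (.node (.leaf 638976) (.leaf 7923036)) (.leaf 4289349))) (.node (.node (.node (.leaf 1687620) (.leaf 5055150)) (.leaf 9474657)) (.node (.leaf 7315456) (.leaf 4998577))))) (.node (.node (.node (.node (.node (.leaf 778240) (.leaf 3445418)) (.leaf 2102306)) (.node (.node (.leaf 3609185) (.leaf 10862660)) (.leaf 10424320))) (.node (.node (.node (.leaf 2495522) (.leaf 10395648)) (.leaf 9580544)) (.node (.node (.leaf 2999672) (.leaf 11473376)) (.leaf 8303742)))) (.node (.node (.node (.node (.leaf 902029) (.leaf 6590856))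 (.leaf 9007104)) (.node (.node (.leaf 6037504) (.leaf 9950115)) (.leaf 7193798))) (.node (.node (.node (.leaf 3277858) (.leaf 4481873)) (.leaf 6251827)) (.node (.leaf 7651328) (.leaf 6471700)))))) (.node (.node (.node (.node (.node (.node (.leaf 524288) (.leaf 8081703)) (.leaf 7714140)) (.node (.node (.leaf 4767744) (.leaf 10732742)) (.leaf 3178900))) (.node (.node (.node (.leaf 2662400) (.leaf 2830336)) (.leaf 9433088)) (.node (.node (.leaf 5256496) (.leaf 11043433)) (.leaf 7373592)))) (.node (.node (.node (.node (.leaf 324055) (.leaf 11530240)) (.leaf 3264717)) (.node (.node (.leaf 5808128) (.leaf 8401332)) (.leaf 10678272))) (.node (.node (.node (.leaf 3114172) (.leaf 10178560)) (.leaf 9883648)) (.node (.leaf 7299780) (.leaf 11027459))))) (.node (.node (.node (.node (.node (.leaf 1015808) (.leaf 2453504)) (.leaf 8556544)) (.node (.node (.leaf 5312512) (.leaf 10158352)) (.leaf 3322263))) (.node (.node (.node (.leaf 3190784) (.leaf 7885192)) (.leaf 6190274)) (.node (.leaf 7090176) (.leaf 4112384)))) (.node (.node (.node (.node (.leaf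 2113536) (.leaf 11591680)) (.leaf 3536065)) (.node (.node (.leaf 6103949) (.leaf 6890155)) (.leaf 1851392))) (.node (.node (.node (.leaf 546225) (.leaf 11670571)) (.leaf 3060216)) (.node (.leaf 7831552) (.leaf 9360603)))))))

def bigMvXa29 : Janko.Tree (ℕ) :=
  (.node (.node (.node (.node (.node (.node (.node (.leaf 274432) (.leaf 4633179)) (.leaf 4314436)) (.node (.node (.leaf 4534272) (.leaf 8885451)) (.leaf 6148600))) (.node (.node (.node (.leaf 1114616) (.leaf 8615261)) (.leaf 9281536)) (.node (.node (.leaf 6475776) (.leaf 11855152)) (.leaf 7458884)))) (.node (.node (.node (.node (.leaf 1339392) (.leaf 2523136)) (.leaf 4624384)) (.node (.node (.leaf 5558272) (.leaf 9670978)) (.leaf 7438661))) (.node (.node (.node (.leaf 1442296) (.leaf 3797264)) (.leaf 8356478)) (.node (.leaf 7323648) (.leaf 6344814))))) (.node (.node (.node (.node (.node (.leaf 765952) (.leaf 11407360)) (.leaf 8376320)) (.node (.node (.leaf 5058560) (.leaf 11154558)) (.leaf 10420224))) (.node (.node (.node (.leaf 434261) (.leaf 3052770)) (.leaf 7738529)) (.node (.node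 (.leaf 6893568) (.leaf 11924403)) (.leaf 11022336)))) (.node (.node (.node (.node (.leaf 1892352) (.leaf 6821171)) (.leaf 8994816)) (.node (.node (.leaf 6049792) (.leaf 9617935)) (.leaf 10309632))) (.node (.node (.node (.leaf 463998) (.leaf 10830979)) (.leaf 6235417)) (.node (.leaf 7647232) (.leaf 4448256)))))) (.node (.node (.node (.node (.node (.node (.leaf 156224) (.leaf 6182081)) (.leaf 8187904)) (.node (.node (.leaf 4432058) (.leaf 6668288)) (.leaf 10334208))) (.node (.node (.node (.leaf 2143018) (.leaf 11391857)) (.leaf 6053951)) (.node (.node (.leaf 6705152) (.leaf 11850227)) (.leaf 8762345)))) (.node (.node (.node (.node (.leaf 1605632) (.leaf 10875834)) (.leaf 8851456)) (.node (.node (.leaf 5828608) (.leaf 8495707)) (.leaf 7942669))) (.node (.node (.node (.leaf 3719168) (.leaf 6680968)) (.leaf 3658726)) (.node (.leaf 6989149) (.leaf 2154496))))) (.node (.node (.node (.node (.node (.leaf 963770) (.leaf 6480077)) (.leaf 8544256)) (.node (.node (.leaf 5320704) (.leaf 11255942)) (.leaf 6161270))) (.node (.node (.node (.leaf 3244032)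 (.leaf 11363761)) (.leaf 1363968)) (.node (.leaf 7086080) (.leaf 8987022)))) (.node (.node (.node (.node (.leaf 1143937) (.leaf 2711552)) (.leaf 5641564)) (.node (.node (.leaf 729088) (.leaf 5201920)) (.leaf 8913510))) (.node (.node (.node (.leaf 2646238) (.leaf 10474600)) (.leaf 10113024)) (.node (.leaf 7827456) (.leaf 4293666)))))))

def bigMvXa30 : Janko.Tree (ℕ) :=
  (.node (.node (.node (.node (.node (.node (.node (.leaf 286720) (.leaf 11276288)) (.leaf 4014080)) (.node (.node (.leaf 4538368) (.leaf 10494729)) (.leaf 10231808))) (.node (.node (.node (.leaf 2290764) (.leaf 9666560)) (.leaf 9285632)) (.node (.node (.leaf 6459392) (.leaf 5832704)) (.leaf 7841012)))) (.node (.node (.node (.node (.leaf 1355776) (.leaf 4424244)) (.leaf 7819559)) (.node (.node (.leaf 5554176) (.leaf 11830555)) (.leaf 2576574))) (.node (.node (.node (.leaf 3403888) (.leaf 3228304)) (.leaf 1396736)) (.node (.leaf 7331840) (.leaf 5464901))))) (.node (.node (.node (.node (.node (.leaf 201461) (.leaf 5177848)) (.leaf 8388608)) (.node (.node (.leaf 4386816) (.leaf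 7151701)) (.leaf 6676548))) (.node (.node (.node (.leaf 2973696) (.leaf 8582474)) (.leaf 7562366)) (.node (.node (.leaf 6030643) (.leaf 11916657)) (.leaf 5633150)))) (.node (.node (.node (.node (.leaf 1896448) (.leaf 10924842)) (.leaf 4690082)) (.node (.node (.leaf 6021120) (.leaf 10019329)) (.leaf 10711040))) (.node (.node (.node (.leaf 4001792) (.leaf 9933558)) (.leaf 1490944)) (.node (.leaf 2146304) (.leaf 3220413)))))) (.node (.node (.node (.node (.node (.node (.leaf 484565) (.leaf 5031288)) (.leaf 8200192)) (.node (.node (.leaf 4784128) (.leaf 9601024)) (.leaf 3527950))) (.node (.node (.node (.leaf 1052672) (.leaf 7930538)) (.leaf 8770040)) (.node (.node (.leaf 4986050) (.leaf 11886959)) (.leaf 9815310)))) (.node (.node (.node (.node (.leaf 1617920) (.leaf 7786926)) (.leaf 5898766)) (.node (.node (.leaf 659456) (.leaf 11011302)) (.leaf 8860160))) (.node (.node (.node (.leaf 3727360) (.leaf 5727040)) (.leaf 6656976)) (.node (.leaf 7483392) (.leaf 7106871))))) (.node (.node (.node (.node (.node (.leaf 291874) (.leaf 10847237)) (.leaf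 8090545)) (.node (.node (.leaf 2614596) (.leaf 11341995)) (.leaf 8193016))) (.node (.node (.node (.leaf 3252224) (.leaf 3441894)) (.leaf 8278039)) (.node (.leaf 3723264) (.leaf 11083776)))) (.node (.node (.node (.node (.leaf 636064) (.leaf 4063858)) (.leaf 8381483)) (.node (.node (.leaf 3695065) (.leaf 9016053)) (.leaf 9831458))) (.node (.node (.node (.leaf 4263936) (.leaf 8963353)) (.leaf 6984938)) (.node (.leaf 991232) (.leaf 2568415)))))))

def bigMvXa31 : Janko.Tree (ℕ) :=
  (.node (.node (.node (.node (.node (.node (.node (.leaf 282624) (.leaf 3129595)) (.leaf 1024000)) (.node (.node (.leaf 4404152) (.leaf 11596358)) (.leaf 10085691))) (.node (.node (.node (.leaf 2416640) (.leaf 6435967)) (.leaf 1282048)) (.node (.node (.leaf 6231284) (.leaf 5849088)) (.leaf 10870784)))) (.node (.node (.node (.node (.leaf 1351680) (.leaf 8265841)) (.leaf 3843265)) (.node (.node (.leaf 4723192) (.leaf 11113393)) (.leaf 6242808))) (.node (.node (.node (.leaf 3477504) (.leaf 9331374)) (.leaf 2626615)) (.node (.leaf 6735002) (.leaf 7992133))))) (.node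 (.node (.node (.node (.node (.leaf 811008) (.leaf 11415552)) (.leaf 8372224)) (.node (.node (.leaf 598187) (.leaf 11404721)) (.leaf 6390231))) (.node (.node (.node (.leaf 1806717) (.leaf 8131770)) (.leaf 4109628)) (.node (.node (.leaf 6914048) (.leaf 11920046)) (.leaf 9659518)))) (.node (.node (.node (.node (.leaf 1757579) (.leaf 11314459)) (.leaf 5907490)) (.node (.node (.leaf 3617529) (.leaf 6709550)) (.leaf 9724560))) (.node (.node (.node (.leaf 4009984) (.leaf 10621686)) (.leaf 3466491)) (.node (.leaf 7667712) (.leaf 3736418)))))) (.node (.node (.node (.node (.node (.node (.leaf 548864) (.leaf 7164689)) (.leaf 8208384)) (.node (.node (.leaf 4796416) (.leaf 8282646)) (.leaf 10346496))) (.node (.node (.node (.leaf 1307972) (.leaf 7197940)) (.leaf 9449472)) (.node (.node (.leaf 6713344) (.leaf 10900875)) (.leaf 8406176)))) (.node (.node (.node (.node (.leaf 1630208) (.leaf 9216766)) (.leaf 2380280)) (.node (.node (.leaf 5844992) (.leaf 11867397)) (.leaf 6902590))) (.node (.node (.node (.leaf 3739648) (.leaf 9864077)) (.leaf 3469816))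 (.node (.leaf 5887189) (.leaf 2224917))))) (.node (.node (.node (.node (.node (.leaf 279681) (.leaf 11412305)) (.leaf 5530209)) (.node (.node (.leaf 2093056) (.leaf 9446229)) (.leaf 3260920))) (.node (.node (.node (.leaf 3256320) (.leaf 3883517)) (.leaf 7799079)) (.node (.leaf 7118848) (.leaf 9094314)))) (.node (.node (.node (.node (.leaf 2166784) (.leaf 2905329)) (.leaf 7442982)) (.node (.node (.leaf 6258688) (.leaf 9114101)) (.leaf 4129565))) (.node (.node (.node (.leaf 4272128) (.leaf 9339179)) (.leaf 6525462)) (.node (.leaf 7852032) (.leaf 8385349)))))))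

def bigMvXa : Janko.Tree (ℕ) := (.node (.node (.node (.node (.node bigMvXa0 bigMvXa16) (.node bigMvXa8 bigMvXa24)) (.node (.node bigMvXa4 bigMvXa20) (.node bigMvXa12 bigMvXa28))) (.node (.node (.node bigMvXa2 bigMvXa18) (.node bigMvXa10 bigMvXa26)) (.node (.node bigMvXa6 bigMvXa22) (.node bigMvXa14 bigMvXa30)))) (.node (.node (.node (.node bigMvXa1 bigMvXa17) (.node bigMvXa9 bigMvXa25)) (.node (.node bigMvXa5 bigMvXa21) (.node bigMvXa13 bigMvXa29))) (.node (.node (.node bigMvXa3 bigMvXa19) (.node bigMvXa11 bigMvXa27)) (.node (.node bigMvXa7 bigMvXa23) (.node bigMvXa15 bigMvXa31)))))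

theorem big_mvXa0 : ((List.range 256).all fun i => movesOK baseB bigCert bigGens bigT 2912 (baseP.getD 0 0) bigMvXa (Nat.add 0 i)) = true := by decide +kernel

theorem big_mvXa1 : ((List.range 256).all fun i => movesOK baseB bigCert bigGens bigT 2912 (baseP.getD 0 0) bigMvXa (Nat.add 256 i)) = true := by decide +kernel

theorem big_mvXa2 : ((List.range 256).all fun i => movesOK baseB bigCert bigGens bigT 2912 (baseP.getD 0 0) bigMvXa (Nat.add 512 i)) = true := by decide +kernel

theorem big_mvXa3 : ((List.range 256).all fun i => movesOK baseB bigCert bigGens bigT 2912 (baseP.getD 0 0) bigMvXa (Nat.add 768 i)) = true := by decide +kernel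

theorem big_mvXa4 : ((List.range 256).all fun i => movesOK baseB bigCert bigGens bigT 2912 (baseP.getD 0 0) bigMvXa (Nat.add 1024 i)) = true := by decide +kernel

theorem big_mvXa5 : ((List.range 256).all fun i => movesOK baseB bigCert bigGens bigT 2912 (baseP.getD 0 0) bigMvXa (Nat.add 1280 i)) = true := by decide +kernel

theorem big_mvXa6 : ((List.range 256).all fun i => movesOK baseB bigCert bigGens bigT 2912 (baseP.getD 0 0) bigMvXa (Nat.add 1536 i)) = true := by decide +kernel

theorem big_mvXa7 : ((List.range 256).all fun i => movesOK baseB bigCert bigGens bigT 2912 (baseP.getD 0 0) bigMvXa (Nat.add 1792 i)) = true := by decide +kernel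

theorem big_mvXa8 : ((List.range 256).all fun i => movesOK baseB bigCert bigGens bigT 2912 (baseP.getD 0 0) bigMvXa (Nat.add 2048 i)) = true := by decide +kernel

theorem big_mvXa9 : ((List.range 256).all fun i => movesOK baseB bigCert bigGens bigT 2912 (baseP.getD 0 0) bigMvXa (Nat.add 2304 i)) = true := by decide +kernel

theorem big_mvXa10 : ((List.range 256).all fun i => movesOK baseB bigCert bigGens bigT 2912 (baseP.getD 0 0) bigMvXa (Nat.add 2560 i)) = true := by decide +kernel

theorem big_mvXa11 : ((List.range 96).all fun i => movesOK baseB bigCert bigGens bigT 2912 (baseP.getD 0 0) bigMvXa (Nat.add 2816 i)) = true := by decide +kernel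

theorem big_mvXa : ∀ i < 2912, movesOK baseB bigCert bigGens bigT 2912 (baseP.getD 0 0) bigMvXa i = true := by
  intro i hi
  by_cases h0 : i < 256
  · have := List.all_eq_true.1 big_mvXa0 (i - 0) (List.mem_range.2 (by omega)); rwa [show Nat.add 0 (i - 0) = i from Nat.add_sub_cancel' (by omega)] at this
  by_cases h1 : i < 512
  · have := List.all_eq_true.1 big_mvXa1 (i - 256) (List.mem_range.2 (by omega)); rwa [show Nat.add 256 (i - 256) = i from Nat.add_sub_cancel' (by omega)] at this
  by_cases h2 : i < 768
  · have := List.all_eq_true.1 big_mvXa2 (i - 512) (List.mem_range.2 (by omega)); rwa [show Nat.add 512 (i - 512) = i from Nat.add_sub_cancel' (by omega)] at this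
  by_cases h3 : i < 1024
  · have := List.all_eq_true.1 big_mvXa3 (i - 768) (List.mem_range.2 (by omega)); rwa [show Nat.add 768 (i - 768) = i from Nat.add_sub_cancel' (by omega)] at this
  by_cases h4 : i < 1280
  · have := List.all_eq_true.1 big_mvXa4 (i - 1024) (List.mem_range.2 (by omega)); rwa [show Nat.add 1024 (i - 1024) = i from Nat.add_sub_cancel' (by omega)] at this
  by_cases h5 : i < 1536
  · have := List.all_eq_true.1 big_mvXa5 (i - 1280) (List.mem_range.2 (by omega)); rwa [show Nat.add 1280 (i - 1280) = i from Nat.add_sub_cancel' (by omega)] at this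
  by_cases h6 : i < 1792
  · have := List.all_eq_true.1 big_mvXa6 (i - 1536) (List.mem_range.2 (by omega)); rwa [show Nat.add 1536 (i - 1536) = i from Nat.add_sub_cancel' (by omega)] at this
  by_cases h7 : i < 2048
  · have := List.all_eq_true.1 big_mvXa7 (i - 1792) (List.mem_range.2 (by omega)); rwa [show Nat.add 1792 (i - 1792) = i from Nat.add_sub_cancel' (by omega)] at this
  by_cases h8 : i < 2304
  · have := List.all_eq_true.1 big_mvXa8 (i - 2048) (List.mem_range.2 (by omega)); rwa [show Nat.add 2048 (i - 2048) = i from Nat.add_sub_cancel' (by omega)] at this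
  by_cases h9 : i < 2560
  · have := List.all_eq_true.1 big_mvXa9 (i - 2304) (List.mem_range.2 (by omega)); rwa [show Nat.add 2304 (i - 2304) = i from Nat.add_sub_cancel' (by omega)] at this
  by_cases h10 : i < 2816
  · have := List.all_eq_true.1 big_mvXa10 (i - 2560) (List.mem_range.2 (by omega)); rwa [show Nat.add 2560 (i - 2560) = i from Nat.add_sub_cancel' (by omega)] at this
  have := List.all_eq_true.1 big_mvXa11 (i - 2816) (List.mem_range.2 (by omega)); rwa [show Nat.add 2816 (i - 2816) = i from Nat.add_sub_cancel' (by omega)] at this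


def bigMvXb0 : Janko.Tree (ℕ) :=
  (.node (.node (.node (.node (.node (.node (.node (.leaf 120) (.leaf 11214848)) (.leaf 7860224)) (.node (.node (.leaf 4280320) (.leaf 10727745)) (.leaf 5412201))) (.node (.node (.node (.leaf 2183168) (.leaf 10531863)) (.leaf 7758766)) (.node (.node (.leaf 1786147) (.leaf 11248909)) (.leaf 3576717)))) (.node (.node (.node (.node (.leaf 221184) (.leaf 4391669)) (.leaf 5899652)) (.node (.node (.leaf 5337088) (.leaf 4083712)) (.leaf 6918144))) (.node (.node (.node (.leaf 2118365) (.leaf 7361646)) (.leaf 4780678)) (.node (.leaf 7122944) (.leaf 5542191))))) (.node (.node (.node (.node (.node (.leaf 540672) (.leaf 11350016)) (.leaf 8220672)) (.node (.node (.leaf 4788224) (.leaf 10379707)) (.leaf 10350592))) (.node (.node (.node (.leaf 2699264) (.leaf 5521408)) (.leaf 9457664)) (.node (.node (.leaf 6169080) (.leaf 10523130)) (.leaf 4009984)))) (.node (.node (.node (.node (.leaf 1638400) (.leaf 4293264)) (.leaf 8876032)) (.node (.node (.leaf 4850732) (.leaf 7509307)) (.leaf 4969029))) (.node (.node (.node (.leaf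 3751936) (.leaf 9426182)) (.leaf 7385774)) (.node (.leaf 3581180) (.leaf 10916342)))))) (.node (.node (.node (.node (.node (.node (.leaf 271128) (.leaf 11280384)) (.leaf 1574214)) (.node (.node (.leaf 4562944) (.leaf 11788288)) (.leaf 7856685))) (.node (.node (.node (.leaf 2433024) (.leaf 5632000)) (.leaf 9302016)) (.node (.node (.leaf 6500352) (.leaf 6357112)) (.leaf 10874880)))) (.node (.node (.node (.node (.leaf 487928) (.leaf 11489280)) (.leaf 8184596)) (.node (.node (.leaf 5595136) (.leaf 8130882)) (.leaf 1744896))) (.node (.node (.node (.leaf 3485696) (.leaf 3945506)) (.leaf 9797632)) (.node (.leaf 7335936) (.leaf 4927992))))) (.node (.node (.node (.node (.node (.leaf 819200) (.leaf 5948450)) (.leaf 4096725)) (.node (.node (.leaf 2859701) (.leaf 10977329)) (.leaf 5152992))) (.node (.node (.node (.leaf 1655318) (.leaf 7804208)) (.leaf 4485554)) (.node (.leaf 5043504) (.leaf 10141816)))) (.node (.node (.node (.node (.leaf 1921024) (.leaf 11141333)) (.leaf 7607557)) (.node (.node (.leaf 1855488) (.leaf 8348405)) (.leaf 10760192)))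 (.node (.node (.node (.leaf 4022272) (.leaf 11195032)) (.leaf 3428856)) (.node (.leaf 6530230) (.leaf 6034626)))))))

def bigMvXb1 : Janko.Tree (ℕ) :=
  (.node (.node (.node (.node (.node (.node (.node (.leaf 4216) (.leaf 2236416)) (.leaf 4747723)) (.node (.node (.leaf 2732536) (.leaf 11776000)) (.leaf 10125312))) (.node (.node (.node (.leaf 2170880) (.leaf 2711552)) (.leaf 2302456)) (.node (.node (.leaf 1647126) (.leaf 7279839)) (.leaf 8950658)))) (.node (.node (.node (.node (.leaf 1081344) (.leaf 6763332)) (.leaf 5342442)) (.node (.node (.leaf 1200653) (.leaf 11829248)) (.leaf 10506240))) (.node (.node (.node (.leaf 1692173) (.leaf 10753048)) (.leaf 2727936)) (.node (.leaf 4575965) (.leaf 6673353))))) (.node (.node (.node (.node (.node (.leaf 565248) (.leaf 3392245)) (.leaf 2429134)) (.node (.node (.leaf 4816896) (.leaf 10547220)) (.leaf 6706410))) (.node (.node (.node (.leaf 451186) (.leaf 10015938)) (.leaf 5510026)) (.node (.node (.leaf 3146247) (.leaf 8979729)) (.leaf 10932224)))) (.node (.node (.node (.node (.leaf 324270) (.leaf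 4129710)) (.leaf 8192534)) (.node (.node (.leaf 2457600) (.leaf 11457394)) (.leaf 6927521))) (.node (.node (.node (.leaf 3195017) (.leaf 4502288)) (.leaf 4489898)) (.node (.leaf 7495680) (.leaf 9306230)))))) (.node (.node (.node (.node (.node (.node (.leaf 307200) (.leaf 11284480)) (.leaf 8036352)) (.node (.node (.leaf 4387541) (.leaf 5653443)) (.leaf 10252288))) (.node (.node (.node (.leaf 2420736) (.leaf 6066455)) (.leaf 7762154)) (.node (.node (.leaf 6516736) (.leaf 5926912)) (.leaf 7229920)))) (.node (.node (.node (.node (.leaf 1372160) (.leaf 8237169)) (.leaf 2519544)) (.node (.node (.leaf 5095454) (.leaf 11387384)) (.leaf 10604544))) (.node (.node (.node (.leaf 3073001) (.leaf 5263392)) (.leaf 8475310)) (.node (.leaf 7340032) (.leaf 10445192))))) (.node (.node (.node (.node (.node (.leaf 835584) (.leaf 9978598)) (.leaf 8180664)) (.node (.node (.leaf 4890767) (.leaf 11808768)) (.leaf 8656176))) (.node (.node (.node (.leaf 2998272) (.leaf 6164502)) (.leaf 9596928)) (.node (.leaf 5943978) (.leaf 6873391)))) (.node (.node (.node (.node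 (.leaf 1581246) (.leaf 11579392)) (.leaf 9023488)) (.node (.node (.leaf 918091) (.leaf 11551335)) (.leaf 3248400))) (.node (.node (.node (.leaf 2715900) (.leaf 5472754)) (.leaf 6062592)) (.node (.leaf 7680000) (.leaf 10785440)))))))

def bigMvXb2 : Janko.Tree (ℕ) :=
  (.node (.node (.node (.node (.node (.node (.node (.leaf 20480) (.leaf 9044745)) (.leaf 7880704)) (.node (.node (.leaf 4296704) (.leaf 6022577)) (.leaf 3507470))) (.node (.node (.node (.leaf 2199552) (.leaf 10528147)) (.leaf 6648647)) (.node (.node (.leaf 6283264) (.leaf 8376788)) (.leaf 3739648)))) (.node (.node (.node (.node (.leaf 1105920) (.leaf 8921672)) (.leaf 2848177)) (.node (.node (.leaf 5345280) (.leaf 9757380)) (.leaf 7172881))) (.node (.node (.node (.leaf 1880188) (.leaf 10003487)) (.leaf 2764800)) (.node (.leaf 7131136) (.leaf 5370090))))) (.node (.node (.node (.node (.node (.leaf 49272) (.leaf 9699328)) (.leaf 8224768)) (.node (.node (.leaf 2798035) (.leaf 5116378)) (.leaf 3896084))) (.node (.node (.node (.leaf 299008) (.leaf 8459457)) (.leaf 6271786)) (.node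 (.node (.leaf 3334144) (.leaf 9606502)) (.leaf 10952704)))) (.node (.node (.node (.node (.leaf 1650688) (.leaf 10949007)) (.leaf 1843882)) (.node (.node (.leaf 5865472) (.leaf 8074310)) (.leaf 10690560))) (.node (.node (.node (.leaf 3764224) (.leaf 5484870)) (.leaf 9908224)) (.node (.leaf 3941673) (.leaf 8135562)))))) (.node (.node (.node (.node (.node (.node (.leaf 24576) (.leaf 8528778)) (.leaf 1028096)) (.node (.node (.leaf 4579328) (.leaf 10871782)) (.leaf 2695168))) (.node (.node (.node (.leaf 2449408) (.leaf 3863183)) (.leaf 4211751)) (.node (.node (.leaf 4039899) (.leaf 11317879)) (.leaf 10887168)))) (.node (.node (.node (.node (.leaf 1163384) (.leaf 6911084)) (.leaf 8425472)) (.node (.node (.leaf 3088504) (.leaf 11150218)) (.leaf 6956360))) (.node (.node (.node (.leaf 782988) (.leaf 5514400)) (.leaf 9809920)) (.node (.leaf 6623770) (.leaf 2109440))))) (.node (.node (.node (.node (.node (.leaf 843776) (.leaf 8958709)) (.leaf 5891350)) (.node (.node (.leaf 5091328) (.leaf 3915776)) (.leaf 4628550))) (.node (.node (.node (.leaf 1888256)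 (.leaf 11071773)) (.leaf 9098314)) (.node (.leaf 6263621) (.leaf 4076940)))) (.node (.node (.node (.node (.leaf 1937408) (.leaf 11396287)) (.leaf 4797329)) (.node (.node (.leaf 6082560) (.leaf 5198328)) (.leaf 10764288))) (.node (.node (.node (.leaf 4046848) (.leaf 10363088)) (.leaf 8541470)) (.node (.leaf 4657272) (.leaf 8553663)))))))

def bigMvXb3 : Janko.Tree (ℕ) :=
  (.node (.node (.node (.node (.node (.node (.node (.leaf 13013) (.leaf 5734673)) (.leaf 7884800)) (.node (.node (.leaf 4300800) (.leaf 11383953)) (.leaf 7738407))) (.node (.node (.node (.leaf 943452) (.leaf 9450056)) (.leaf 8680342)) (.node (.node (.leaf 6287360) (.leaf 11793602)) (.leaf 9355799)))) (.node (.node (.node (.node (.leaf 209840) (.leaf 9806426)) (.leaf 8270119)) (.node (.node (.leaf 668498) (.leaf 11023242)) (.leaf 9564498))) (.node (.node (.node (.leaf 3118262) (.leaf 10839150)) (.leaf 8011915)) (.node (.leaf 7147520) (.leaf 10048234))))) (.node (.node (.node (.node (.node (.leaf 275393) (.leaf 5767399)) (.leaf 8232960)) (.node (.node (.leaf 4833280) (.leaf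 3880320)) (.leaf 6567207))) (.node (.node (.node (.leaf 544768) (.leaf 9712522)) (.leaf 5517896)) (.node (.node (.leaf 6733824) (.leaf 9766001)) (.leaf 7824038)))) (.node (.node (.node (.node (.leaf 1662976) (.leaf 10097600)) (.leaf 8884224)) (.node (.node (.leaf 3100672) (.leaf 11632779)) (.leaf 8057533))) (.node (.node (.node (.leaf 3780608) (.leaf 7160342)) (.leaf 1445888)) (.node (.leaf 6243362) (.leaf 8823168)))))) (.node (.node (.node (.node (.node (.node (.leaf 66714) (.leaf 3871329)) (.leaf 4404235)) (.node (.node (.leaf 2003669) (.leaf 10744490)) (.leaf 1634838))) (.node (.node (.node (.leaf 1008120) (.leaf 9286579)) (.leaf 9318400)) (.node (.node (.leaf 5914909) (.leaf 9646598)) (.leaf 10891264)))) (.node (.node (.node (.node (.leaf 1396736) (.leaf 11501568)) (.leaf 5841035)) (.node (.node (.leaf 5619712) (.leaf 4435968)) (.leaf 3592953))) (.node (.node (.node (.leaf 1557317) (.leaf 11641890)) (.leaf 6664239)) (.node (.leaf 7344128) (.leaf 10289222))))) (.node (.node (.node (.node (.node (.leaf 73728) (.leaf 5800986)) (.leaf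 4088600)) (.node (.node (.leaf 2262045) (.leaf 7356900)) (.leaf 10432512))) (.node (.node (.node (.leaf 1598779) (.leaf 4845688)) (.leaf 9293894)) (.node (.leaf 6107640) (.leaf 11038720)))) (.node (.node (.node (.node (.leaf 684152) (.leaf 2650112)) (.leaf 2917564)) (.node (.node (.leaf 1618447) (.leaf 11416136)) (.leaf 1830912))) (.node (.node (.node (.leaf 4034560) (.leaf 10441962)) (.leaf 10022912)) (.node (.leaf 7692288) (.leaf 11190272)))))))

def bigMvXb4 : Janko.Tree (ℕ) :=
  (.node (.node (.node (.node (.node (.node (.node (.leaf 40960) (.leaf 7749775)) (.leaf 7888896)) (.node (.node (.leaf 4313088) (.leaf 9642947)) (.leaf 6979683))) (.node (.node (.node (.leaf 2207744) (.leaf 11055794)) (.leaf 8511992)) (.node (.node (.leaf 6299648) (.leaf 9396637)) (.leaf 7483923)))) (.node (.node (.node (.node (.leaf 122880) (.leaf 8930186)) (.leaf 4186703)) (.node (.node (.leaf 622592) (.leaf 11620517)) (.leaf 9421079))) (.node (.node (.node (.leaf 3280896) (.leaf 10158322)) (.leaf 1368064)) (.node (.leaf 3829760) (.leaf 3654340))))) (.node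 (.node (.node (.node (.node (.leaf 467757) (.leaf 9732327)) (.leaf 4473738)) (.node (.node (.leaf 561152) (.leaf 5030160)) (.leaf 6812942))) (.node (.node (.node (.leaf 2740224) (.leaf 7001186)) (.leaf 8658944)) (.node (.node (.leaf 6737920) (.leaf 9364795)) (.leaf 5829014)))) (.node (.node (.node (.node (.leaf 1667072) (.leaf 4698616)) (.leaf 1187840)) (.node (.node (.leaf 5877760) (.leaf 11576145)) (.leaf 6365870))) (.node (.node (.node (.leaf 3784704) (.leaf 5067687)) (.leaf 9916416)) (.node (.leaf 6533291) (.leaf 8143432)))))) (.node (.node (.node (.node (.node (.node (.leaf 319488) (.leaf 4822358)) (.leaf 5539243)) (.node (.node (.leaf 4587520) (.leaf 11527381)) (.leaf 10264576))) (.node (.node (.node (.leaf 2461696) (.leaf 5219367)) (.leaf 9322496)) (.node (.node (.leaf 1454736) (.leaf 11894784)) (.leaf 10580681)))) (.node (.node (.node (.node (.leaf 1302648) (.leaf 6050594)) (.leaf 8744960)) (.node (.node (.leaf 4686892) (.leaf 11800939)) (.leaf 10403840))) (.node (.node (.node (.leaf 3514368) (.leaf 10519285)) (.leaf 1925544))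 (.node (.leaf 3818791) (.leaf 9679170))))) (.node (.node (.node (.node (.node (.leaf 851968) (.leaf 8799114)) (.leaf 8404992)) (.node (.node (.leaf 5103616) (.leaf 11812864)) (.leaf 5190574))) (.node (.node (.node (.leaf 3031040) (.leaf 3559937)) (.leaf 9003454)) (.node (.leaf 6946816) (.leaf 4604865)))) (.node (.node (.node (.node (.leaf 1945600) (.leaf 3499252)) (.leaf 4702604)) (.node (.node (.leaf 1487352) (.leaf 11707110)) (.leaf 3256592))) (.node (.node (.node (.leaf 4063232) (.leaf 6038831)) (.leaf 2761496)) (.node (.leaf 2491611) (.leaf 9987189)))))))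

def bigMvXb5 : Janko.Tree (ℕ) :=
  (.node (.node (.node (.node (.node (.node (.node (.leaf 53248) (.leaf 11239424)) (.leaf 7897088)) (.node (.node (.leaf 4325376) (.leaf 10584064)) (.leaf 10149888))) (.node (.node (.node (.leaf 2036437) (.leaf 10326618)) (.leaf 9187328)) (.node (.node (.leaf 1810959) (.leaf 9676069)) (.leaf 6087977)))) (.node (.node (.node (.node (.leaf 1016312) (.leaf 2655302)) (.leaf 4768742)) (.node (.node (.leaf 2708705) (.leaf 11690070)) (.leaf 10534912))) (.node (.node (.node (.leaf 696976) (.leaf 10670710)) (.leaf 9740288)) (.node (.leaf 7155712) (.leaf 2060288))))) (.node (.node (.node (.node (.node (.leaf 598016) (.leaf 11374592)) (.leaf 8245248)) (.node (.node (.leaf 4841472) (.leaf 10330159)) (.leaf 5009444))) (.node (.node (.node (.leaf 2723840) (.leaf 7569547)) (.leaf 5771264)) (.node (.node (.leaf 6750208) (.leaf 11817544)) (.leaf 10969088)))) (.node (.node (.node (.node (.leaf 1675264) (.leaf 9196104)) (.leaf 3313828)) (.node (.node (.leaf 5881856) (.leaf 11662354)) (.leaf 8864320))) (.node (.node (.node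 (.leaf 3796992) (.leaf 11043083)) (.leaf 9924608)) (.node (.leaf 7512064) (.leaf 8675832)))))) (.node (.node (.node (.node (.node (.node (.leaf 344064) (.leaf 3409050)) (.leaf 3097262)) (.node (.node (.leaf 2248792) (.leaf 10723510)) (.leaf 6444360))) (.node (.node (.node (.leaf 1274381) (.leaf 7247196)) (.leaf 9330688)) (.node (.node (.leaf 6509787) (.leaf 10911926)) (.leaf 6942840)))) (.node (.node (.node (.node (.leaf 1421312) (.leaf 2523136)) (.leaf 6849304)) (.node (.node (.leaf 5627904) (.leaf 4592405)) (.leaf 7189162))) (.node (.node (.node (.leaf 3522560) (.leaf 8995240)) (.leaf 9818112)) (.node (.leaf 3024169) (.leaf 11104256))))) (.node (.node (.node (.node (.node (.leaf 872448) (.leaf 8802888)) (.leaf 2585080)) (.node (.node (.leaf 4027653) (.leaf 10596472)) (.leaf 3584731))) (.node (.node (.node (.leaf 2974022) (.leaf 8585847)) (.leaf 2876317)) (.node (.leaf 5968448) (.leaf 7677276)))) (.node (.node (.node (.node (.leaf 259116) (.leaf 4150311)) (.leaf 4272973)) (.node (.node (.leaf 1942562) (.leaf 10420648)) (.leaf 3908992)))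 (.node (.node (.node (.leaf 2281592) (.leaf 6804750)) (.leaf 2499330)) (.node (.leaf 7704576) (.leaf 10228563)))))))

def bigMvXb6 : Janko.Tree (ℕ) :=
  (.node (.node (.node (.node (.node (.node (.node (.leaf 57344) (.leaf 7270725)) (.leaf 4007260)) (.node (.node (.leaf 495616) (.leaf 9048868)) (.leaf 10153984))) (.node (.node (.node (.leaf 2147029) (.leaf 11002482)) (.leaf 1290492)) (.node (.node (.leaf 6311936) (.leaf 10858565)) (.leaf 6538052)))) (.node (.node (.node (.node (.leaf 549095) (.leaf 9315398)) (.leaf 8613888)) (.node (.node (.leaf 5268082) (.leaf 7660016)) (.leaf 1703936))) (.node (.node (.node (.leaf 3293184) (.leaf 10940653)) (.leaf 8442360)) (.node (.leaf 3166345) (.leaf 5382852))))) (.node (.node (.node (.node (.node (.leaf 286863) (.leaf 10806671)) (.leaf 8249344)) (.node (.node (.leaf 4853760) (.leaf 7655951)) (.leaf 10375168))) (.node (.node (.node (.leaf 2756608) (.leaf 6570547)) (.leaf 9482240)) (.node (.node (.leaf 802816) (.leaf 10956913)) (.leaf 5313013)))) (.node (.node (.node (.node (.leaf 1687552) (.leaf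 9274287)) (.leaf 7365486)) (.node (.node (.leaf 5894144) (.leaf 5575490)) (.leaf 3874816))) (.node (.node (.node (.leaf 3809280) (.leaf 9557254)) (.leaf 9920512)) (.node (.leaf 6866281) (.leaf 8294400)))))) (.node (.node (.node (.node (.node (.node (.leaf 155768) (.leaf 5988961)) (.leaf 7917707)) (.node (.node (.leaf 1995544) (.leaf 9237861)) (.leaf 3495288))) (.node (.node (.node (.leaf 2286028) (.leaf 11628544)) (.leaf 9338880)) (.node (.node (.leaf 6549504) (.leaf 11850443)) (.leaf 10903552)))) (.node (.node (.node (.node (.leaf 680024) (.leaf 11505664)) (.leaf 8757248)) (.node (.node (.leaf 5640192) (.leaf 5374070)) (.leaf 6894753))) (.node (.node (.node (.leaf 3534848) (.leaf 3158016)) (.leaf 8122549)) (.node (.leaf 1769472) (.leaf 4457100))))) (.node (.node (.node (.node (.node (.leaf 860160) (.leaf 2899968)) (.leaf 8417280)) (.node (.node (.leaf 5124096) (.leaf 3936256)) (.leaf 6279854))) (.node (.node (.node (.leaf 3047424) (.leaf 5455992)) (.leaf 2368530)) (.node (.leaf 5616408) (.leaf 2572722)))) (.node (.node (.node (.node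 (.leaf 509276) (.leaf 9404416)) (.leaf 9052160)) (.node (.node (.leaf 3319074) (.leaf 11731883)) (.leaf 8844419))) (.node (.node (.node (.leaf 2815195) (.leaf 7197579)) (.leaf 1490944)) (.node (.leaf 5980366) (.leaf 8196695)))))))

def bigMvXb7 : Janko.Tree (ℕ) :=
  (.node (.node (.node (.node (.node (.node (.node (.leaf 77824) (.leaf 10187744)) (.leaf 1975534)) (.node (.node (.leaf 4333568) (.leaf 11760453)) (.leaf 9958417))) (.node (.node (.node (.leaf 2240512) (.leaf 2839112)) (.leaf 4608504)) (.node (.node (.leaf 3175719) (.leaf 8619441)) (.leaf 3608576)))) (.node (.node (.node (.node (.leaf 1142784) (.leaf 7082069)) (.leaf 4056497)) (.node (.node (.leaf 5386240) (.leaf 8290535)) (.leaf 5857814))) (.node (.node (.node (.leaf 848266) (.leaf 9225286)) (.leaf 7950406)) (.node (.leaf 3661824) (.leaf 2879984))))) (.node (.node (.node (.node (.node (.leaf 618496) (.leaf 11052215)) (.leaf 8253440)) (.node (.node (.leaf 2355704) (.leaf 11260743)) (.leaf 3715979))) (.node (.node (.node (.leaf 2768896) (.leaf 3638688)) (.leaf 5791744)) (.node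 (.node (.leaf 6459896) (.leaf 11224294)) (.leaf 7779676)))) (.node (.node (.node (.node (.leaf 180224) (.leaf 9204618)) (.leaf 4539050)) (.node (.node (.leaf 5358553) (.leaf 11854872)) (.leaf 10702848))) (.node (.node (.node (.leaf 421888) (.leaf 11743232)) (.leaf 3081221)) (.node (.leaf 5612045) (.leaf 10138308)))))) (.node (.node (.node (.node (.node (.node (.leaf 28792) (.leaf 9191928)) (.leaf 1241259)) (.node (.node (.leaf 1253880) (.leaf 10633977)) (.leaf 7086740))) (.node (.node (.node (.leaf 2408591) (.leaf 2777088)) (.leaf 5403530)) (.node (.node (.leaf 3028149) (.leaf 11436489)) (.leaf 9311258)))) (.node (.node (.node (.node (.leaf 443160) (.leaf 10642393)) (.leaf 1393432)) (.node (.node (.leaf 2782090) (.leaf 8925596)) (.leaf 10368282))) (.node (.node (.node (.leaf 2937514) (.leaf 9269539)) (.leaf 9826304)) (.node (.leaf 1802240) (.leaf 4633618))))) (.node (.node (.node (.node (.node (.leaf 888832) (.leaf 6746869)) (.leaf 2507418)) (.node (.node (.leaf 2384376) (.leaf 9019720)) (.leaf 6714663))) (.node (.node (.node (.leaf 1679479)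 (.leaf 11677696)) (.leaf 9613312)) (.node (.leaf 1700737) (.leaf 7574572)))) (.node (.node (.node (.node (.leaf 1315068) (.leaf 11534980)) (.leaf 9064448)) (.node (.node (.leaf 3613206) (.leaf 8692315)) (.leaf 9008476))) (.node (.node (.node (.leaf 2957518) (.leaf 10990254)) (.leaf 4346390)) (.node (.leaf 4322538) (.leaf 8287114)))))))

def bigMvXb8 : Janko.Tree (ℕ) :=
  (.node (.node (.node (.node (.node (.node (.node (.leaf 34011) (.leaf 10269370)) (.leaf 7901184)) (.node (.node (.leaf 4354048) (.leaf 11059339)) (.leaf 10166272))) (.node (.node (.node (.leaf 312487) (.leaf 9683850)) (.leaf 8737272)) (.node (.node (.leaf 6324224) (.leaf 9199778)) (.leaf 3690496)))) (.node (.node (.node (.node (.leaf 557702) (.leaf 2473984)) (.leaf 8626176)) (.node (.node (.leaf 5038286) (.leaf 11198695)) (.leaf 2392184))) (.node (.node (.node (.leaf 3309568) (.leaf 11710464)) (.leaf 5939882)) (.node (.leaf 2806279) (.leaf 2662400))))) (.node (.node (.node (.node (.node (.leaf 634880) (.leaf 8684426)) (.leaf 8257536)) (.node (.node (.leaf 4870144) (.leaf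 7549673)) (.leaf 9381169))) (.node (.node (.node (.leaf 2785280) (.leaf 8971011)) (.leaf 2134311)) (.node (.node (.leaf 6770688) (.leaf 11219958)) (.leaf 3286198)))) (.node (.node (.node (.node (.leaf 1695744) (.leaf 8577528)) (.leaf 2887680)) (.node (.node (.leaf 2516199) (.leaf 5705774)) (.leaf 3698688))) (.node (.node (.node (.leaf 1462958) (.leaf 9262064)) (.leaf 9835253)) (.node (.leaf 7520256) (.leaf 8811066)))))) (.node (.node (.node (.node (.node (.node (.leaf 165083) (.leaf 4494004)) (.leaf 4706510)) (.node (.node (.leaf 1213082) (.leaf 10829824)) (.leaf 7226180))) (.node (.node (.node (.leaf 2502656) (.leaf 10249608)) (.leaf 7843840)) (.node (.node (.leaf 827557) (.leaf 11293804)) (.leaf 6767583)))) (.node (.node (.node (.node (.leaf 795158) (.leaf 10113195)) (.leaf 8769536)) (.node (.node (.leaf 643072) (.leaf 8652136)) (.leaf 9638292))) (.node (.node (.node (.leaf 3547136) (.leaf 5460088)) (.leaf 5931654)) (.node (.leaf 3417242) (.leaf 4091992))))) (.node (.node (.node (.node (.node (.leaf 172566) (.leaf 9929412)) (.leaf 7815924))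 (.node (.node (.leaf 5140480) (.leaf 9871991)) (.leaf 3269294))) (.node (.node (.node (.leaf 339968) (.leaf 9519499)) (.leaf 9617408)) (.node (.leaf 6631424) (.leaf 4584482)))) (.node (.node (.node (.node (.leaf 1970176) (.leaf 10035954)) (.leaf 9068544)) (.node (.node (.leaf 6119424) (.leaf 11882496)) (.leaf 7348224))) (.node (.node (.node (.leaf 1998936) (.leaf 3330048)) (.leaf 10031104)) (.node (.leaf 2245500) (.leaf 7746182)))))))

def bigMvXb9 : Janko.Tree (ℕ) :=
  (.node (.node (.node (.node (.node (.node (.node (.leaf 90112) (.leaf 5449019)) (.leaf 7921664)) (.node (.node (.leaf 4341760) (.leaf 10736401)) (.leaf 10170368))) (.node (.node (.node (.leaf 606712) (.leaf 11362304)) (.leaf 4924764)) (.node (.node (.leaf 6332416) (.leaf 5431880)) (.leaf 6230852)))) (.node (.node (.node (.node (.leaf 1155072) (.leaf 3813739)) (.leaf 8638464)) (.node (.node (.leaf 4015452) (.leaf 11841536)) (.leaf 6448435))) (.node (.node (.node (.leaf 1483256) (.leaf 8008147)) (.leaf 5804616)) (.node (.leaf 7176192) (.leaf 7566684))))) (.node (.node (.node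 (.node (.node (.leaf 638976) (.leaf 9856034)) (.leaf 8265728)) (.node (.node (.leaf 664344) (.leaf 8188269)) (.leaf 10383360))) (.node (.node (.node (.leaf 2789376) (.leaf 7729656)) (.leaf 6128192)) (.node (.node (.leaf 6774784) (.leaf 10617731)) (.leaf 8467587)))) (.node (.node (.node (.node (.leaf 1712128) (.leaf 6606848)) (.leaf 8912896)) (.node (.node (.leaf 5910528) (.leaf 9233319)) (.leaf 10706944))) (.node (.node (.node (.leaf 3837952) (.leaf 3371542)) (.leaf 9932800)) (.node (.leaf 7524352) (.leaf 2166784)))))) (.node (.node (.node (.node (.node (.node (.leaf 144361) (.leaf 11296768)) (.leaf 5476574)) (.node (.node (.leaf 2343416) (.leaf 10740314)) (.leaf 7267140))) (.node (.node (.node (.leaf 1967365) (.leaf 11461104)) (.leaf 9347072)) (.node (.node (.leaf 2453540) (.leaf 6320906)) (.leaf 8487568)))) (.node (.node (.node (.node (.leaf 901120) (.leaf 6685448)) (.leaf 1209281)) (.node (.node (.leaf 1152018) (.leaf 9208383)) (.leaf 1761280))) (.node (.node (.node (.leaf 439064) (.leaf 10129528)) (.leaf 1409024)) (.node (.leaf 892928)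 (.leaf 11112448))))) (.node (.node (.node (.node (.node (.leaf 897024) (.leaf 5919778)) (.leaf 4727006)) (.node (.node (.leaf 4424493) (.leaf 4408676)) (.leaf 2363896))) (.node (.node (.node (.leaf 3063808) (.leaf 7532726)) (.leaf 5853327)) (.node (.leaf 3805548) (.leaf 7947408)))) (.node (.node (.node (.node (.leaf 1118962) (.leaf 11542575)) (.leaf 8299309)) (.node (.node (.leaf 4195589) (.leaf 4980736)) (.leaf 8078151))) (.node (.node (.node (.leaf 1078140) (.leaf 9211904)) (.leaf 8065144)) (.node (.leaf 7720960) (.leaf 4419584)))))))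

def bigMvXb10 : Janko.Tree (ℕ) :=
  (.node (.node (.node (.node (.node (.node (.node (.leaf 106496) (.leaf 9773327)) (.leaf 5059575)) (.node (.node (.leaf 4370432) (.leaf 11596055)) (.leaf 1536000))) (.node (.node (.node (.leaf 1089767) (.leaf 3965323)) (.leaf 5148672)) (.node (.node (.leaf 5275767) (.leaf 9147125)) (.leaf 6730906)))) (.node (.node (.node (.node (.leaf 1171456) (.leaf 7139550)) (.leaf 8642560)) (.node (.node (.leaf 4214784) (.leaf 5255602)) (.leaf 10543104))) (.node (.node (.node (.leaf 3325952) (.leaf 8582441)) (.leaf 9744384)) (.node (.leaf 5845644) (.leaf 10571846))))) (.node (.node (.node (.node (.node (.leaf 655360) (.leaf 8852059)) (.leaf 7282991)) (.node (.node (.leaf 4878336) (.leaf 8413505)) (.leaf 8421704))) (.node (.node (.node (.leaf 2801664) (.leaf 2854912)) (.leaf 7697603)) (.node (.node (.leaf 1471410) (.leaf 9891884)) (.leaf 8598741)))) (.node (.node (.node (.node (.leaf 1606039) (.leaf 8499856)) (.leaf 2416656)) (.node (.node (.leaf 959805) (.leaf 9851062)) (.leaf 3298116))) (.node (.node (.node (.leaf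 3842048) (.leaf 9823000)) (.leaf 3801088)) (.node (.leaf 7528448) (.leaf 11019580)))))) (.node (.node (.node (.node (.node (.node (.leaf 193198) (.leaf 4359238)) (.leaf 8081408)) (.node (.node (.leaf 2114003) (.leaf 5309098)) (.leaf 7991821))) (.node (.node (.node (.leaf 2314744) (.leaf 10613531)) (.leaf 7795501)) (.node (.node (.leaf 1630681) (.leaf 8828328)) (.leaf 6226978)))) (.node (.node (.node (.node (.leaf 767291) (.leaf 9085834)) (.leaf 8777728)) (.node (.node (.leaf 5664768) (.leaf 9512052)) (.leaf 6959865))) (.node (.node (.node (.leaf 3555328) (.leaf 6193483)) (.leaf 8795170)) (.node (.leaf 7389184) (.leaf 3233094))))) (.node (.node (.node (.node (.node (.leaf 716920) (.leaf 10088824)) (.leaf 8445952)) (.node (.node (.leaf 602112) (.leaf 6963456)) (.leaf 9790658))) (.node (.node (.node (.leaf 3076096) (.leaf 11685888)) (.leaf 9625600)) (.node (.leaf 1917967) (.leaf 9462104)))) (.node (.node (.node (.node (.leaf 1406269) (.leaf 6291710)) (.leaf 9080832)) (.node (.node (.leaf 6131712) (.leaf 10499046)) (.leaf 7127325))) (.node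 (.node (.node (.leaf 2527807) (.leaf 10052341)) (.leaf 2895872)) (.node (.leaf 4306268) (.leaf 5284415)))))))

def bigMvXb11 : Janko.Tree (ℕ) :=
  (.node (.node (.node (.node (.node (.node (.node (.leaf 110592) (.leaf 2547851)) (.leaf 3679425)) (.node (.node (.leaf 516988) (.leaf 5488919)) (.leaf 10178560))) (.node (.node (.node (.leaf 1135096) (.leaf 9630990)) (.leaf 6345650)) (.node (.node (.leaf 6348800) (.leaf 7500546)) (.leaf 2994710)))) (.node (.node (.node (.node (.leaf 1175552) (.leaf 4896048)) (.leaf 3539701)) (.node (.node (.leaf 5414912) (.leaf 7315578)) (.leaf 9326662))) (.node (.node (.node (.leaf 3305862) (.leaf 8311541)) (.leaf 5813130)) (.node (.leaf 7192576) (.leaf 5169578))))) (.node (.node (.node (.node (.node (.leaf 578328) (.leaf 10630430)) (.leaf 8278016)) (.node (.node (.leaf 586689) (.leaf 3760128)) (.leaf 1613824))) (.node (.node (.node (.leaf 2818048) (.leaf 10073127)) (.leaf 7909651)) (.node (.node (.leaf 3892505) (.leaf 10163256)) (.leaf 7544862)))) (.node (.node (.node (.node (.leaf 1728512) (.leaf 10555888))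 (.leaf 4256248)) (.node (.node (.leaf 5922816) (.leaf 11878400)) (.leaf 1798144))) (.node (.node (.node (.leaf 921710) (.leaf 6595166)) (.leaf 7311360)) (.node (.leaf 925696) (.leaf 11153408)))))) (.node (.node (.node (.node (.node (.node (.leaf 177334) (.leaf 11304960)) (.leaf 8085504)) (.node (.node (.leaf 4636672) (.leaf 11309569)) (.leaf 1568768))) (.node (.node (.node (.leaf 2163501) (.leaf 2793472)) (.leaf 9359360)) (.node (.node (.leaf 6586368) (.leaf 11727512)) (.leaf 9220653)))) (.node (.node (.node (.node (.leaf 1450518) (.leaf 8953903)) (.leaf 8790016)) (.node (.node (.leaf 5660672) (.leaf 5984489)) (.leaf 9609410))) (.node (.node (.node (.leaf 1602559) (.leaf 4964462)) (.leaf 9011579)) (.node (.leaf 3044014) (.leaf 8090452))))) (.node (.node (.node (.node (.node (.leaf 839800) (.leaf 11419951)) (.leaf 4317651)) (.node (.node (.leaf 975661) (.leaf 9720876)) (.leaf 6610944))) (.node (.node (.node (.leaf 1458680) (.leaf 10818867)) (.leaf 1351680)) (.node (.leaf 6559002) (.leaf 6923415)))) (.node (.node (.node (.node (.leaf 225280)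 (.leaf 3620900)) (.leaf 2233387)) (.node (.node (.leaf 6135808) (.leaf 11322101)) (.leaf 9056632))) (.node (.node (.node (.leaf 2487666) (.leaf 11654180)) (.leaf 3359224)) (.node (.leaf 7733248) (.leaf 2203648)))))))

def bigMvXb12 : Janko.Tree (ℕ) :=
  (.node (.node (.node (.node (.node (.node (.node (.leaf 131072) (.leaf 6378664)) (.leaf 1139741)) (.node (.node (.leaf 4382720) (.leaf 6153193)) (.leaf 9179972))) (.node (.node (.node (.leaf 1098374) (.leaf 6968418)) (.leaf 9216000)) (.node (.node (.leaf 3478737) (.leaf 7623628)) (.leaf 1875968)))) (.node (.node (.node (.node (.leaf 1191936) (.leaf 9245176)) (.leaf 2331997)) (.node (.node (.leaf 5423104) (.leaf 10109980)) (.leaf 10551296))) (.node (.node (.node (.leaf 1753088) (.leaf 10294282)) (.leaf 4939776)) (.node (.leaf 6513681) (.leaf 10355425))))) (.node (.node (.node (.node (.node (.leaf 529634) (.leaf 7578436)) (.leaf 1056768)) (.node (.node (.leaf 4886528) (.leaf 11539068)) (.leaf 10387456))) (.node (.node (.node (.leaf 2830336) (.leaf 4715027)) (.leaf 6254987)) (.node (.node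 (.leaf 1429592) (.leaf 11871417)) (.leaf 7652234)))) (.node (.node (.node (.node (.leaf 201496) (.leaf 10961446)) (.leaf 7217988)) (.node (.node (.leaf 5935104) (.leaf 9016066)) (.leaf 10711040))) (.node (.node (.node (.leaf 3866624) (.leaf 10695316)) (.leaf 9953280)) (.node (.leaf 3036194) (.leaf 3223832)))))) (.node (.node (.node (.node (.node (.node (.leaf 389120) (.leaf 5677523)) (.leaf 4567536)) (.node (.node (.leaf 4640768) (.leaf 9388271)) (.leaf 8373518))) (.node (.node (.node (.leaf 282624) (.leaf 5300367)) (.leaf 9367552)) (.node (.node (.leaf 6598656) (.leaf 11891915)) (.leaf 9479409)))) (.node (.node (.node (.node (.leaf 807031) (.leaf 9170944)) (.leaf 4145447)) (.node (.node (.leaf 5681152) (.leaf 4732331)) (.leaf 7292199))) (.node (.node (.node (.leaf 778240) (.leaf 4109080)) (.leaf 5051205)) (.node (.leaf 7405568) (.leaf 6669140))))) (.node (.node (.node (.node (.node (.leaf 929792) (.leaf 7999992)) (.leaf 1101824)) (.node (.node (.leaf 2053342) (.leaf 8700176)) (.leaf 1658880))) (.node (.node (.node (.leaf 3092480) (.leaf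 4526614)) (.leaf 3703303)) (.node (.leaf 6983680) (.leaf 8860278)))) (.node (.node (.node (.node (.leaf 1225279) (.leaf 10678292)) (.leaf 9093120)) (.node (.node (.leaf 712704) (.leaf 11453377)) (.leaf 3990249))) (.node (.node (.node (.leaf 2535999) (.leaf 10920637)) (.leaf 10039296)) (.node (.leaf 5080434) (.leaf 11202560)))))))

def bigMvXb13 : Janko.Tree (ℕ) :=
  (.node (.node (.node (.node (.node (.node (.node (.leaf 8192) (.leaf 5534200)) (.leaf 7933952)) (.node (.node (.leaf 4002870) (.leaf 10019884)) (.leaf 2588791))) (.node (.node (.node (.leaf 2273280) (.leaf 9655566)) (.leaf 9228288)) (.node (.node (.leaf 6361088) (.leaf 11555729)) (.leaf 10465605)))) (.node (.node (.node (.node (.leaf 135288) (.leaf 4235461)) (.leaf 1643253)) (.node (.node (.leaf 5435392) (.leaf 10847258)) (.leaf 3974160))) (.node (.node (.node (.leaf 3350528) (.leaf 9547923)) (.leaf 9752576)) (.node (.leaf 7204864) (.leaf 5587219))))) (.node (.node (.node (.node (.node (.leaf 626808) (.leaf 10457777)) (.leaf 2359800)) (.node (.node (.leaf 569344) (.leaf 10801295))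 (.leaf 10391552))) (.node (.node (.node (.leaf 2842624) (.leaf 2867200)) (.leaf 2773905)) (.node (.node (.leaf 6795264) (.leaf 11031678)) (.leaf 10981376)))) (.node (.node (.node (.node (.leaf 1740800) (.leaf 8729080)) (.leaf 4535366)) (.node (.node (.leaf 5099899) (.leaf 11755549)) (.leaf 4239390))) (.node (.node (.node (.leaf 701102) (.leaf 8918421)) (.leaf 3822702)) (.node (.leaf 7540736) (.leaf 11161600)))))) (.node (.node (.node (.node (.node (.node (.leaf 405504) (.leaf 9748964)) (.leaf 8093696)) (.node (.node (.leaf 4653056) (.leaf 6116613)) (.leaf 5833216))) (.node (.node (.node (.leaf 2531328) (.leaf 3711044)) (.leaf 8708672)) (.node (.node (.leaf 6602752) (.leaf 6172672)) (.leaf 3068024)))) (.node (.node (.node (.node (.leaf 1474560) (.leaf 11517952)) (.leaf 1183744)) (.node (.node (.leaf 5685248) (.leaf 7914893)) (.leaf 9949184))) (.node (.node (.node (.leaf 3567616) (.leaf 11666205)) (.leaf 6742512)) (.node (.leaf 7409664) (.leaf 11128832))))) (.node (.node (.node (.node (.node (.leaf 937984) (.leaf 2424832)) (.leaf 8454144))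 (.node (.node (.leaf 5177344) (.leaf 5112438)) (.leaf 4908336))) (.node (.node (.node (.leaf 434968) (.leaf 10347023)) (.leaf 9633792)) (.node (.leaf 6987776) (.leaf 2031616)))) (.node (.node (.node (.node (.leaf 970983) (.leaf 3744910)) (.leaf 2020141)) (.node (.node (.leaf 3969816) (.leaf 11370557)) (.leaf 10461608))) (.node (.node (.node (.leaf 4116480) (.leaf 3362816)) (.leaf 10043392)) (.node (.leaf 5165631) (.leaf 11006448)))))))

def bigMvXb14 : Janko.Tree (ℕ) :=
  (.node (.node (.node (.node (.node (.node (.node (.leaf 139264) (.leaf 6694132)) (.leaf 1311914)) (.node (.node (.leaf 4395008) (.leaf 8634732)) (.leaf 6787576))) (.node (.node (.node (.leaf 2289664) (.leaf 9495434)) (.leaf 5669825)) (.node (.node (.leaf 5600024) (.leaf 11874417)) (.leaf 6484088)))) (.node (.node (.node (.node (.leaf 582593) (.leaf 8667197)) (.leaf 2228421)) (.node (.node (.leaf 5439488) (.leaf 11067976)) (.leaf 6304581))) (.node (.node (.node (.leaf 3039369) (.leaf 8720626)) (.leaf 6422648)) (.node (.leaf 7213056) (.leaf 7418648))))) (.node (.node (.node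 (.node (.node (.leaf 69632) (.leaf 5354177)) (.leaf 8302592)) (.node (.node (.leaf 4915200) (.leaf 8147501)) (.leaf 7381993))) (.node (.node (.node (.leaf 2850816) (.leaf 8167588)) (.leaf 1327104)) (.node (.node (.leaf 1577485) (.leaf 9532245)) (.leaf 10985472)))) (.node (.node (.node (.node (.leaf 771071) (.leaf 10663106)) (.leaf 8933376)) (.node (.node (.leaf 4427957) (.leaf 8856121)) (.leaf 8672048))) (.node (.node (.node (.leaf 3617701) (.leaf 8320207)) (.leaf 9961472)) (.node (.leaf 7053707) (.leaf 2884436)))))) (.node (.node (.node (.node (.node (.node (.leaf 409600) (.leaf 11179120)) (.leaf 1074044)) (.node (.node (.leaf 4661248) (.leaf 10781842)) (.leaf 10280960))) (.node (.node (.node (.leaf 2551808) (.leaf 8569874)) (.leaf 9375744)) (.node (.node (.leaf 3834857) (.leaf 7876905)) (.leaf 6870076)))) (.node (.node (.node (.node (.leaf 1478656) (.leaf 3228783)) (.leaf 3425013)) (.node (.node (.leaf 5693440) (.leaf 10244493)) (.leaf 8384676))) (.node (.node (.node (.leaf 3588096) (.leaf 3170304)) (.leaf 8209117)) (.node (.leaf 3859784)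 (.leaf 2822466))))) (.node (.node (.node (.node (.node (.leaf 946176) (.leaf 5816320)) (.leaf 4620891)) (.node (.node (.leaf 5185536) (.leaf 7201915)) (.leaf 10452992))) (.node (.node (.node (.leaf 3104768) (.leaf 11354329)) (.leaf 8631490)) (.node (.leaf 3597640) (.leaf 3789692)))) (.node (.node (.node (.node (.leaf 2015232) (.leaf 10896016)) (.leaf 5550372)) (.node (.node (.leaf 3645766) (.leaf 11805081)) (.leaf 3436968))) (.node (.node (.node (.leaf 1271022) (.leaf 8045396)) (.leaf 10055680)) (.node (.leaf 4900000) (.leaf 8315464)))))))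

def bigMvXb15 : Janko.Tree (ℕ) :=
  (.node (.node (.node (.node (.node (.node (.node (.leaf 61560) (.leaf 2438057)) (.leaf 2470392)) (.node (.node (.leaf 503808) (.leaf 9966459)) (.leaf 5182084))) (.node (.node (.node (.leaf 2293760) (.leaf 11126037)) (.leaf 1265664)) (.node (.node (.leaf 2827303) (.leaf 9446137)) (.leaf 4813955)))) (.node (.node (.node (.node (.leaf 1167503) (.leaf 11391086)) (.leaf 8663040)) (.node (.node (.leaf 5451776) (.leaf 11601173)) (.leaf 5554796))) (.node (.node (.node (.leaf 3366912) (.leaf 11718656)) (.leaf 4030878)) (.node (.leaf 876544) (.leaf 7070345))))) (.node (.node (.node (.node (.node (.leaf 381462) (.leaf 2593434)) (.leaf 8306688)) (.node (.node (.leaf 4902912) (.leaf 6997320)) (.leaf 5252014))) (.node (.node (.node (.leaf 1012216) (.leaf 9761352)) (.leaf 8594645)) (.node (.node (.leaf 3526878) (.leaf 11826465)) (.leaf 7872651)))) (.node (.node (.node (.node (.leaf 1748992) (.leaf 9073968)) (.leaf 4763648)) (.node (.node (.leaf 5955584) (.leaf 4743168)) (.leaf 9089274))) (.node (.node (.node (.leaf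 3883008) (.leaf 10069211)) (.leaf 7378030)) (.node (.leaf 7078283) (.leaf 8262105)))))) (.node (.node (.node (.node (.node (.node (.leaf 425984) (.leaf 9970763)) (.leaf 5156887)) (.node (.node (.leaf 532480) (.leaf 7353513)) (.leaf 7812400))) (.node (.node (.node (.leaf 2130091) (.leaf 5530437)) (.leaf 1294336)) (.node (.node (.leaf 3772935) (.leaf 9994904)) (.leaf 5997175)))) (.node (.node (.node (.node (.leaf 1495040) (.leaf 3793842)) (.leaf 2941820)) (.node (.node (.leaf 5701632) (.leaf 4517888)) (.leaf 7368704))) (.node (.node (.node (.leaf 417792) (.leaf 6111474)) (.leaf 8815126)) (.node (.leaf 6149496) (.leaf 11132928))))) (.node (.node (.node (.node (.node (.leaf 537330) (.leaf 11252579)) (.leaf 8470528)) (.node (.node (.leaf 2703360) (.leaf 8274350)) (.leaf 8160021))) (.node (.node (.node (.leaf 365787) (.leaf 11084919)) (.leaf 9650176)) (.node (.leaf 6074368) (.leaf 2667071)))) (.node (.node (.node (.node (.leaf 979590) (.leaf 2670592)) (.leaf 9101312)) (.node (.node (.leaf 1610232) (.leaf 7435201)) (.leaf 10788864))) (.node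 (.node (.node (.leaf 4136960) (.leaf 4555286)) (.leaf 1586395)) (.node (.leaf 7753728) (.leaf 6481103)))))))

def bigMvXb16 : Janko.Tree (ℕ) :=
  (.node (.node (.node (.node (.node (.node (.node (.leaf 167936) (.leaf 2277376)) (.leaf 7954432)) (.node (.node (.leaf 966656) (.leaf 3956990)) (.leaf 10146034))) (.node (.node (.node (.leaf 2310144) (.leaf 5796597)) (.leaf 7021762)) (.node (.node (.leaf 6373376) (.leaf 9839037)) (.leaf 10854400)))) (.node (.node (.node (.node (.leaf 591082) (.leaf 11158800)) (.leaf 4100900)) (.node (.node (.leaf 672536) (.leaf 8753538)) (.leaf 8896632))) (.node (.node (.node (.leaf 3379200) (.leaf 4882622)) (.leaf 5603328)) (.node (.leaf 7221248) (.leaf 4375470))))) (.node (.node (.node (.node (.node (.leaf 328814) (.leaf 9490966)) (.leaf 1413253)) (.node (.node (.leaf 4931584) (.leaf 6002040)) (.leaf 8880885))) (.node (.node (.node (.leaf 1094136) (.leaf 10883132)) (.leaf 9527296)) (.node (.node (.leaf 6815744) (.leaf 11481227)) (.leaf 7094392)))) (.node (.node (.node (.node (.leaf 188416) (.leaf 9241482))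 (.leaf 8945664)) (.node (.node (.leaf 5971968) (.leaf 11564245)) (.leaf 10719232))) (.node (.node (.node (.leaf 3899392) (.leaf 9999646)) (.leaf 6464034)) (.node (.leaf 7557120) (.leaf 2445998)))))) (.node (.node (.node (.node (.node (.node (.leaf 361240) (.leaf 11313152)) (.leaf 5018928)) (.node (.node (.leaf 4669440) (.leaf 7927170)) (.leaf 6717974))) (.node (.node (.node (.leaf 2568192) (.leaf 7168519)) (.leaf 8982558)) (.node (.node (.leaf 3343655) (.leaf 11236588)) (.leaf 3551352)))) (.node (.node (.node (.node (.leaf 1503232) (.leaf 5206702)) (.leaf 5022389)) (.node (.node (.leaf 5709824) (.leaf 11768494)) (.leaf 10653696))) (.node (.node (.node (.leaf 3604480) (.leaf 8787343)) (.leaf 9842688)) (.node (.leaf 6681110) (.leaf 6197934))))) (.node (.node (.node (.node (.node (.leaf 954368) (.leaf 10342519)) (.leaf 1987352)) (.node (.node (.leaf 5201920) (.leaf 4560060)) (.leaf 6160888))) (.node (.node (.node (.leaf 3112960) (.leaf 2985984)) (.leaf 1991862)) (.node (.leaf 3825664) (.leaf 2225020)))) (.node (.node (.node (.node (.leaf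 2027520) (.leaf 9736348)) (.leaf 9113600)) (.node (.node (.leaf 3006976) (.leaf 5087232)) (.leaf 10792960))) (.node (.node (.node (.leaf 4141056) (.leaf 9278050)) (.leaf 3953698)) (.node (.leaf 6341334) (.leaf 8909486)))))))

def bigMvXb17 : Janko.Tree (ℕ) :=
  (.node (.node (.node (.node (.node (.node (.node (.leaf 147456) (.leaf 5746718)) (.leaf 5120678)) (.node (.node (.leaf 4431872) (.leaf 7516303)) (.leaf 10194944))) (.node (.node (.node (.leaf 459696) (.leaf 11514302)) (.leaf 7831723)) (.node (.node (.leaf 741376) (.leaf 6726491)) (.leaf 10842222)))) (.node (.node (.node (.node (.leaf 1114616) (.leaf 2680001)) (.leaf 4510200)) (.node (.node (.leaf 4522279) (.leaf 6055260)) (.leaf 10563584))) (.node (.node (.node (.leaf 3383296) (.leaf 10134921)) (.leaf 5657838)) (.node (.leaf 7241728) (.leaf 2348061))))) (.node (.node (.node (.node (.node (.leaf 692758) (.leaf 10540087)) (.leaf 7049786)) (.node (.node (.leaf 2180166) (.leaf 11625508)) (.leaf 1860048))) (.node (.node (.node (.leaf 2298909) (.leaf 6881814)) (.leaf 8556812)) (.node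 (.node (.leaf 1840514) (.leaf 8409088)) (.leaf 10559623)))) (.node (.node (.node (.node (.leaf 1777664) (.leaf 5054968)) (.leaf 8783152)) (.node (.node (.leaf 5976064) (.leaf 4751360)) (.leaf 6643917))) (.node (.node (.node (.leaf 3903488) (.leaf 11497552)) (.leaf 6100263)) (.node (.leaf 1037467) (.leaf 10174507)))))) (.node (.node (.node (.node (.node (.node (.leaf 397432) (.leaf 9593022)) (.leaf 7562294)) (.node (.node (.leaf 4689920) (.leaf 5407453)) (.leaf 9581699))) (.node (.node (.node (.leaf 1085944) (.leaf 6308526)) (.leaf 4173824)) (.node (.node (.leaf 6218232) (.leaf 11117277)) (.leaf 4183079)))) (.node (.node (.node (.node (.leaf 151552) (.leaf 2543616)) (.leaf 6238584)) (.node (.node (.leaf 5713920) (.leaf 11763843)) (.leaf 10649600))) (.node (.node (.node (.leaf 3133821) (.leaf 11048004)) (.leaf 9846784)) (.node (.leaf 7426048) (.leaf 8061991))))) (.node (.node (.node (.node (.node (.leaf 94208) (.leaf 11431936)) (.leaf 8482816)) (.node (.node (.leaf 5214208) (.leaf 9027983)) (.leaf 5673456))) (.node (.node (.node (.leaf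 348160) (.leaf 10495189)) (.leaf 8564861)) (.node (.leaf 7008256) (.leaf 9904293)))) (.node (.node (.node (.node (.leaf 2043904) (.leaf 11572106)) (.leaf 9117696)) (.node (.node (.leaf 1721498) (.leaf 10908207)) (.leaf 10797056))) (.node (.node (.node (.leaf 4153344) (.leaf 11771904)) (.leaf 6091408)) (.node (.leaf 2618606) (.leaf 5034190)))))))

def bigMvXb18 : Janko.Tree (ℕ) :=
  (.node (.node (.node (.node (.node (.node (.node (.leaf 184320) (.leaf 4362240)) (.leaf 7966720)) (.node (.node (.leaf 4415488) (.leaf 9126938)) (.leaf 7668321))) (.node (.node (.node (.leaf 1122392) (.leaf 8646788)) (.leaf 2335224)) (.node (.node (.leaf 6385664) (.leaf 5722869)) (.leaf 3375710)))) (.node (.node (.node (.node (.leaf 1228800) (.leaf 4113430)) (.leaf 4284446)) (.node (.node (.leaf 3239936) (.leaf 11837886)) (.leaf 10567680))) (.node (.node (.node (.leaf 3395584) (.leaf 5399472)) (.leaf 8115028)) (.node (.leaf 5419432) (.leaf 7238284))))) (.node (.node (.node (.node (.node (.leaf 337193) (.leaf 8725386)) (.leaf 1147384)) (.node (.node (.leaf 2216602)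 (.leaf 10515461)) (.leaf 10060280))) (.node (.node (.node (.leaf 2863104) (.leaf 10322882)) (.leaf 9535488)) (.node (.node (.leaf 6828032) (.leaf 11494100)) (.leaf 4126044)))) (.node (.node (.node (.node (.leaf 1765376) (.leaf 11558912)) (.leaf 8962048)) (.node (.node (.leaf 2254121) (.leaf 8602786)) (.leaf 7766853))) (.node (.node (.node (.leaf 3919872) (.leaf 3272704)) (.leaf 3564024)) (.node (.leaf 2069852) (.leaf 9912572)))))) (.node (.node (.node (.node (.node (.node (.leaf 245966) (.leaf 6394695)) (.leaf 2088960)) (.node (.node (.leaf 4677632) (.leaf 6452326)) (.leaf 10297344))) (.node (.node (.node (.leaf 2580480) (.leaf 8741001)) (.leaf 4858512)) (.node (.node (.leaf 6635520) (.leaf 11740028)) (.leaf 10334351)))) (.node (.node (.node (.node (.leaf 1511424) (.leaf 6353327)) (.leaf 4441404)) (.node (.node (.leaf 5726208) (.leaf 8103016)) (.leaf 10657792))) (.node (.node (.node (.leaf 3624960) (.leaf 3178496)) (.leaf 1417216)) (.node (.leaf 3657728) (.leaf 8070026))))) (.node (.node (.node (.node (.node (.leaf 119359) (.leaf 11366846))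 (.leaf 1204788)) (.node (.node (.leaf 5222400) (.leaf 11530513)) (.leaf 1836174))) (.node (.node (.node (.leaf 3137536) (.leaf 9831439)) (.leaf 1355776)) (.node (.leaf 3846144) (.leaf 2073537)))) (.node (.node (.node (.node (.leaf 2048000) (.leaf 3323173)) (.leaf 8434732)) (.node (.node (.leaf 6176768) (.leaf 11821577)) (.leaf 2196013))) (.node (.node (.node (.leaf 4161536) (.leaf 7869837)) (.leaf 10080256)) (.node (.leaf 983040) (.leaf 10338772)))))))

def bigMvXb19 : Janko.Tree (ℕ) :=
  (.node (.node (.node (.node (.node (.node (.node (.leaf 160536) (.leaf 6526226)) (.leaf 4808910)) (.node (.node (.leaf 4448256) (.leaf 3518464)) (.leaf 9659431))) (.node (.node (.node (.leaf 676632) (.leaf 9515914)) (.leaf 7958528)) (.node (.node (.leaf 6406144) (.leaf 5591040)) (.leaf 4231288)))) (.node (.node (.node (.node (.leaf 1232896) (.leaf 11465665)) (.leaf 4265030)) (.node (.node (.leaf 4252894) (.leaf 11088778)) (.leaf 10575872))) (.node (.node (.node (.leaf 688814) (.leaf 3108864)) (.leaf 9622766)) (.node (.leaf 4977071) (.leaf 11091968)))))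 (.node (.node (.node (.node (.node (.leaf 708608) (.leaf 5296632)) (.leaf 8327168)) (.node (.node (.leaf 4960256) (.leaf 10183156)) (.leaf 10211416))) (.node (.node (.node (.leaf 2891776) (.leaf 6697285)) (.leaf 8507519)) (.node (.node (.leaf 6840320) (.leaf 11915264)) (.leaf 10997760)))) (.node (.node (.node (.node (.leaf 1794048) (.leaf 2609152)) (.leaf 8966144)) (.node (.node (.leaf 2326648) (.leaf 11174791)) (.leaf 7372800))) (.node (.node (.node (.leaf 3923968) (.leaf 3276800)) (.leaf 7537698)) (.node (.leaf 4411822) (.leaf 2174976)))))) (.node (.node (.node (.node (.node (.node (.leaf 454656) (.leaf 7848527)) (.leaf 8105984)) (.node (.node (.leaf 3887940) (.leaf 11657761)) (.leaf 10301440))) (.node (.node (.node (.leaf 2372637) (.leaf 9859594)) (.leaf 9265374)) (.node (.node (.leaf 6639616) (.leaf 6426624)) (.leaf 10674571)))) (.node (.node (.node (.node (.leaf 1531904) (.leaf 9109504)) (.leaf 4289016)) (.node (.node (.leaf 5738496) (.leaf 11015395)) (.leaf 7401472))) (.node (.node (.node (.leaf 3633152) (.leaf 10965191)) (.leaf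 4805666)) (.node (.leaf 7209440) (.leaf 8519886))))) (.node (.node (.node (.node (.node (.leaf 962560) (.leaf 7975941)) (.leaf 8491008)) (.node (.node (.leaf 5238784) (.leaf 11477239)) (.leaf 10277368))) (.node (.node (.node (.leaf 3125248) (.leaf 10371547)) (.leaf 8053058)) (.node (.leaf 3252706) (.leaf 7398426)))) (.node (.node (.node (.node (.leaf 2064384) (.leaf 9384842)) (.leaf 3387826)) (.node (.node (.leaf 6184960) (.leaf 11886592)) (.leaf 3338759))) (.node (.node (.node (.leaf 475136) (.leaf 9777473)) (.leaf 10084352)) (.node (.leaf 7786496) (.leaf 5751939)))))))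

def bigMvXb20 : Janko.Tree (ℕ) :=
  (.node (.node (.node (.node (.node (.node (.node (.leaf 196608) (.leaf 11264000)) (.leaf 7970816)) (.node (.node (.leaf 4460544) (.leaf 4051247)) (.leaf 8516642))) (.node (.node (.node (.leaf 2101752) (.leaf 5993713)) (.leaf 9252864)) (.node (.node (.leaf 5174693) (.leaf 10826235)) (.leaf 10862592)))) (.node (.node (.node (.node (.leaf 1249280) (.leaf 9077493)) (.leaf 2388472)) (.node (.node (.leaf 1236992) (.leaf 8889192)) (.leaf 1724416))) (.node (.node (.node (.leaf 3403776) (.leaf 8098326)) (.leaf 7893644)) (.node (.leaf 6758824) (.leaf 7582933))))) (.node (.node (.node (.node (.node (.leaf 724992) (.leaf 11255808)) (.leaf 6575462)) (.node (.node (.leaf 4972544) (.leaf 7016448)) (.leaf 1626112))) (.node (.node (.node (.leaf 2400376) (.leaf 6144000)) (.leaf 4350174)) (.node (.node (.leaf 6844416) (.leaf 11673782)) (.leaf 10667116)))) (.node (.node (.node (.node (.leaf 1806336) (.leaf 4722776)) (.leaf 8974336)) (.node (.node (.leaf 5579147) (.leaf 6014095)) (.leaf 6410926))) (.node (.node (.node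 (.leaf 3932160) (.leaf 10469844)) (.leaf 6316274)) (.node (.leaf 1287516) (.leaf 2946374)))))) (.node (.node (.node (.node (.node (.node (.leaf 36864) (.leaf 10974641)) (.leaf 8126464)) (.node (.node (.leaf 594424) (.leaf 7836711)) (.leaf 10305536))) (.node (.node (.node (.leaf 2596864) (.leaf 3650073)) (.leaf 8688120)) (.node (.node (.leaf 6651904) (.leaf 7394601)) (.leaf 8049197)))) (.node (.node (.node (.node (.leaf 1519616) (.leaf 7672761)) (.leaf 8835072)) (.node (.node (.leaf 5742592) (.leaf 11857920)) (.leaf 7422928))) (.node (.node (.node (.leaf 3412944) (.leaf 8282896)) (.leaf 4601129)) (.node (.leaf 7438336) (.leaf 9589270))))) (.node (.node (.node (.node (.node (.leaf 987136) (.leaf 4551834)) (.leaf 1110016)) (.node (.node (.leaf 5242880) (.leaf 9990540)) (.leaf 10473472))) (.node (.node (.node (.leaf 3153920) (.leaf 8229490)) (.leaf 9666560)) (.node (.leaf 7032832) (.leaf 4645757)))) (.node (.node (.node (.node (.leaf 2039951) (.leaf 7685287)) (.leaf 5194634)) (.node (.node (.leaf 6189056) (.leaf 10310751)) (.leaf 10809344)))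 (.node (.node (.node (.leaf 4169728) (.leaf 7963391)) (.leaf 10092544)) (.node (.leaf 4121948) (.leaf 3354646)))))))

def bigMvXb21 : Janko.Tree (ℕ) :=
  (.node (.node (.node (.node (.node (.node (.node (.leaf 102606) (.leaf 7331959)) (.leaf 7979008)) (.node (.node (.leaf 2466834) (.leaf 11649537)) (.leaf 10203136))) (.node (.node (.node (.leaf 1376256) (.leaf 11186258)) (.leaf 4133789)) (.node (.node (.leaf 4330205) (.leaf 9937175)) (.leaf 8532078)))) (.node (.node (.node (.node (.leaf 610447) (.leaf 11468800)) (.leaf 2954274)) (.node (.node (.leaf 5468160) (.leaf 4759742)) (.leaf 3469534))) (.node (.node (.node (.leaf 3420160) (.leaf 11722752)) (.leaf 6754861)) (.node (.leaf 7262208) (.leaf 9503224))))) (.node (.node (.node (.node (.node (.leaf 729088) (.leaf 3187680)) (.leaf 8343552)) (.node (.node (.leaf 4984832) (.leaf 4478222)) (.leaf 8340253))) (.node (.node (.node (.leaf 2634713) (.leaf 2904064)) (.leaf 9551872)) (.node (.node (.leaf 6852608) (.leaf 11694897)) (.leaf 10231918)))) (.node (.node (.node (.node (.leaf 1564944) (.leaf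 11359457)) (.leaf 6415705)) (.node (.node (.leaf 3462378) (.leaf 10257663)) (.leaf 7114752))) (.node (.node (.node (.leaf 3019329) (.leaf 9040991)) (.leaf 9981952)) (.node (.leaf 7589888) (.leaf 8749742)))))) (.node (.node (.node (.node (.node (.node (.leaf 462848) (.leaf 8606602)) (.leaf 7602199)) (.node (.node (.leaf 4710400) (.leaf 7430144)) (.leaf 7119504))) (.node (.node (.node (.leaf 2600960) (.leaf 8716792)) (.leaf 6296344)) (.node (.node (.leaf 6656000) (.leaf 9883785)) (.leaf 7045515)))) (.node (.node (.node (.node (.leaf 1548288) (.leaf 10360032)) (.leaf 4993983)) (.node (.node (.leaf 5758976) (.leaf 9691409)) (.leaf 9351332))) (.node (.node (.node (.leaf 3056302) (.leaf 9400824)) (.leaf 9523595)) (.node (.leaf 7442432) (.leaf 6398638))))) (.node (.node (.node (.node (.node (.leaf 480193) (.leaf 3748484)) (.leaf 8041882)) (.node (.node (.leaf 5259264) (.leaf 6329231)) (.leaf 1671168))) (.node (.node (.node (.leaf 868879) (.leaf 3002368)) (.leaf 9670656)) (.node (.leaf 856064) (.leaf 2056192)))) (.node (.node (.node (.node (.leaf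 1004778) (.leaf 5365760)) (.leaf 8774136)) (.node (.node (.leaf 6201344) (.leaf 8397973)) (.leaf 2979192))) (.node (.node (.node (.leaf 4190208) (.leaf 6976219)) (.leaf 6247752)) (.node (.leaf 6862031) (.leaf 2220032)))))))

def bigMvXb22 : Janko.Tree (ℕ) :=
  (.node (.node (.node (.node (.node (.node (.node (.leaf 212992) (.leaf 11268096)) (.leaf 7983104)) (.node (.node (.leaf 4481024) (.leaf 6972006)) (.leaf 3301861))) (.node (.node (.node (.leaf 2077338) (.leaf 2744320)) (.leaf 8335503)) (.node (.node (.leaf 1717518) (.leaf 9876724)) (.leaf 7106560)))) (.node (.node (.node (.node (.leaf 1261568) (.leaf 10621369)) (.leaf 5133456)) (.node (.node (.leaf 5492736) (.leaf 4259840)) (.leaf 10449677))) (.node (.node (.node (.leaf 385024) (.leaf 8622227)) (.leaf 3490478)) (.node (.leaf 7274496) (.leaf 11100160))))) (.node (.node (.node (.node (.node (.leaf 745472) (.leaf 10502825)) (.leaf 4875568)) (.node (.node (.leaf 4997120) (.leaf 10076996)) (.leaf 3682509))) (.node (.node (.node (.leaf 2912256) (.leaf 11604529)) (.leaf 5730838)) (.node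 (.node (.leaf 5390406) (.leaf 11863084)) (.leaf 7741872)))) (.node (.node (.node (.node (.leaf 1826816) (.leaf 2683102)) (.leaf 8213422)) (.node (.node (.leaf 1869233) (.leaf 6779414)) (.leaf 5689863))) (.node (.node (.node (.leaf 3289259) (.leaf 3719946)) (.leaf 1466368)) (.node (.leaf 1217142) (.leaf 7462934)))))) (.node (.node (.node (.node (.node (.node (.leaf 483328) (.leaf 10715283)) (.leaf 1052672)) (.node (.node (.leaf 2909572) (.leaf 7163904)) (.leaf 10313728))) (.node (.node (.node (.leaf 2613248) (.leaf 6939310)) (.leaf 8217110)) (.node (.node (.leaf 6435502) (.leaf 11902976)) (.leaf 2155675)))) (.node (.node (.node (.node (.leaf 373270) (.leaf 2555904)) (.leaf 8839168)) (.node (.node (.leaf 651264) (.leaf 11232138)) (.leaf 9175290))) (.node (.node (.node (.leaf 3665920) (.leaf 11617542)) (.leaf 9539979)) (.node (.leaf 7450624) (.leaf 2138112))))) (.node (.node (.node (.node (.node (.leaf 524288) (.leaf 6930462)) (.leaf 5247480)) (.node (.node (.leaf 2257400) (.leaf 11584460)) (.leaf 10477568))) (.node (.node (.node (.leaf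 906555) (.leaf 11081052)) (.leaf 3207876)) (.node (.leaf 6005973) (.leaf 4572342)))) (.node (.node (.node (.node (.leaf 573944) (.leaf 11407363)) (.leaf 9134080)) (.node (.node (.leaf 914200) (.leaf 11846298)) (.leaf 10813440))) (.node (.node (.node (.leaf 4177920) (.leaf 8831141)) (.leaf 1908736)) (.node (.leaf 1069948) (.leaf 8762672)))))))

def bigMvXb23 : Janko.Tree (ℕ) :=
  (.node (.node (.node (.node (.node (.node (.node (.leaf 217088) (.leaf 4072216)) (.leaf 7995392)) (.node (.node (.leaf 2441422) (.leaf 3928625)) (.leaf 1552384))) (.node (.node (.node (.leaf 2212344) (.leaf 11301132)) (.leaf 2322520)) (.node (.node (.leaf 6430720) (.leaf 8590151)) (.leaf 8991681)))) (.node (.node (.node (.node (.leaf 1277952) (.leaf 7938302)) (.leaf 7025489)) (.node (.node (.leaf 950898) (.leaf 4308992)) (.leaf 5137307))) (.node (.node (.node (.leaf 3432448) (.leaf 3346936)) (.leaf 9139474)) (.node (.leaf 4990146) (.leaf 10994758))))) (.node (.node (.node (.node (.node (.leaf 99367) (.leaf 4452886)) (.leaf 7099076)) (.node (.node (.leaf 5001216)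 (.leaf 3854945)) (.leaf 6615889))) (.node (.node (.node (.leaf 2924544) (.leaf 4597014)) (.leaf 1544312)) (.node (.node (.leaf 3503399) (.leaf 11244024)) (.leaf 2736275)))) (.node (.node (.node (.node (.leaf 1540233) (.leaf 7586199)) (.leaf 2012182)) (.node (.node (.leaf 3777843) (.leaf 11329884)) (.leaf 10731520))) (.node (.node (.node (.leaf 1774844) (.leaf 10937211)) (.leaf 4268171)) (.node (.leaf 7598080) (.leaf 8020464)))))) (.node (.node (.node (.node (.node (.node (.leaf 471040) (.leaf 11333632)) (.leaf 8151040)) (.node (.node (.leaf 2622698) (.leaf 7249967)) (.leaf 1589248))) (.node (.node (.node (.leaf 2625536) (.leaf 11547120)) (.leaf 2642817)) (.node (.node (.leaf 6660096) (.leaf 10822633)) (.leaf 4228444)))) (.node (.node (.node (.node (.leaf 1560576) (.leaf 9031979)) (.leaf 4465734)) (.node (.node (.leaf 4624888) (.leaf 11428518)) (.leaf 7042343))) (.node (.node (.node (.leaf 3670016) (.leaf 4612781)) (.leaf 9863168)) (.node (.leaf 7458816) (.leaf 4673742))))) (.node (.node (.node (.node (.node (.leaf 303608) (.leaf 11440128))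 (.leaf 5231096)) (.node (.node (.leaf 5271552) (.leaf 11347320)) (.leaf 9474734))) (.node (.node (.node (.leaf 3182592) (.leaf 9061534)) (.leaf 2753198)) (.node (.leaf 7057408) (.leaf 9297920)))) (.node (.node (.node (.node (.leaf 659960) (.leaf 6337016)) (.leaf 9122326)) (.node (.node (.leaf 6209536) (.leaf 10011661)) (.leaf 6079785))) (.node (.node (.node (.leaf 4206592) (.leaf 3530935)) (.leaf 6878478)) (.node (.leaf 7798784) (.leaf 10416814)))))))

def bigMvXb24 : Janko.Tree (ℕ) :=
  (.node (.node (.node (.node (.node (.node (.node (.leaf 233472) (.leaf 11272192)) (.leaf 7037453)) (.node (.node (.leaf 4497408) (.leaf 6819840)) (.leaf 3129344))) (.node (.node (.node (.leaf 2351104) (.leaf 2966769)) (.leaf 9256960)) (.node (.node (.leaf 1516645) (.leaf 8524844)) (.leaf 1896448)))) (.node (.node (.node (.node (.leaf 1282048) (.leaf 3544257)) (.leaf 6722040)) (.node (.node (.leaf 4399914) (.leaf 11146484)) (.leaf 1913393))) (.node (.node (.node (.leaf 3440640) (.leaf 8495760)) (.leaf 1388544)) (.node (.leaf 4444717) (.leaf 7988061)))))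 (.node (.node (.node (.node (.node (.leaf 82040) (.leaf 5071618)) (.leaf 8351744)) (.node (.node (.leaf 5013504) (.leaf 8503727)) (.leaf 6205944))) (.node (.node (.node (.leaf 2932736) (.leaf 4718868)) (.leaf 6476805)) (.node (.node (.leaf 3162949) (.leaf 10609304)) (.leaf 10879101)))) (.node (.node (.node (.node (.leaf 1847296) (.leaf 11567104)) (.leaf 8986624)) (.node (.node (.leaf 3011558) (.leaf 11276766)) (.leaf 1814528))) (.node (.node (.node (.leaf 3960832) (.leaf 8429899)) (.leaf 7865605)) (.node (.leaf 7618560) (.leaf 4944078)))))) (.node (.node (.node (.node (.node (.node (.leaf 499712) (.leaf 11337728)) (.leaf 2007040)) (.node (.node (.leaf 1426200) (.leaf 11379504)) (.leaf 5108091))) (.node (.node (.node (.leaf 290816) (.leaf 10199748)) (.leaf 9129984)) (.node (.node (.leaf 6676480) (.leaf 9545083)) (.leaf 10924032)))) (.node (.node (.node (.node (.leaf 238631) (.leaf 2560000)) (.leaf 8847360)) (.node (.node (.leaf 5783552) (.leaf 11866112)) (.leaf 3998961))) (.node (.node (.node (.leaf 3686400) (.leaf 7709364)) (.leaf 9867264))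 (.node (.leaf 909312) (.leaf 11121492))))) (.node (.node (.node (.node (.node (.leaf 491663) (.leaf 6025363)) (.leaf 1339531)) (.node (.node (.leaf 5287936) (.leaf 7701030)) (.leaf 10485760))) (.node (.node (.node (.leaf 2990740) (.leaf 5960472)) (.leaf 9687040)) (.node (.leaf 7061504) (.leaf 7627597)))) (.node (.node (.node (.node (.leaf 1323512) (.leaf 5394432)) (.leaf 8368158)) (.node (.node (.leaf 763099) (.leaf 7255321)) (.leaf 1851392))) (.node (.node (.node (.leaf 1959260) (.leaf 5952140)) (.leaf 7004451)) (.node (.leaf 1000385) (.leaf 11206656)))))))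

def bigMvXb25 : Janko.Tree (ℕ) :=
  (.node (.node (.node (.node (.node (.node (.node (.leaf 241664) (.leaf 2482740)) (.leaf 1019904)) (.node (.node (.leaf 4505600) (.leaf 8873153)) (.leaf 5567107))) (.node (.node (.node (.leaf 1348051) (.leaf 8544837)) (.leaf 2478605)) (.node (.node (.leaf 3728196) (.leaf 9508166)) (.leaf 2306320)))) (.node (.node (.node (.node (.leaf 1298432) (.leaf 11448463)) (.leaf 4695326)) (.node (.node (.leaf 647168) (.leaf 7712856)) (.leaf 3473408))) (.node (.node (.node (.leaf 705458) (.leaf 10065224)) (.leaf 5235986)) (.node (.leaf 7286784) (.leaf 6124588))))) (.node (.node (.node (.node (.node (.leaf 722102) (.leaf 11399168)) (.leaf 8359936)) (.node (.node (.leaf 2085368) (.leaf 5649766)) (.leaf 10407936))) (.node (.node (.node (.leaf 2691192) (.leaf 9155018)) (.leaf 9568256)) (.node (.node (.leaf 6390597) (.leaf 11919360)) (.leaf 11010048)))) (.node (.node (.node (.node (.leaf 1863680) (.leaf 11424370)) (.leaf 8478926)) (.node (.node (.leaf 6017024) (.leaf 7135619)) (.leaf 8331311))) (.node (.node (.node (.leaf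 3977216) (.leaf 5506410)) (.leaf 1790486)) (.node (.leaf 5501180) (.leaf 8200192)))))) (.node (.node (.node (.node (.node (.node (.leaf 357060) (.leaf 10396624)) (.leaf 4912254)) (.node (.node (.leaf 4739072) (.leaf 8242155)) (.leaf 7640283))) (.node (.node (.node (.leaf 2637824) (.leaf 11609392)) (.leaf 8462558)) (.node (.node (.leaf 786432) (.leaf 8356374)) (.leaf 5378809)))) (.node (.node (.node (.node (.leaf 811533) (.leaf 11289080)) (.leaf 4952970)) (.node (.node (.leaf 5787648) (.leaf 11715597)) (.leaf 9880789))) (.node (.node (.node (.leaf 1527945) (.leaf 3198976)) (.leaf 7300403)) (.node (.leaf 7467008) (.leaf 6214318))))) (.node (.node (.node (.node (.node (.leaf 1024000) (.leaf 4936802)) (.leaf 1381018)) (.node (.node (.leaf 4838429) (.leaf 10772617)) (.leaf 3191288))) (.node (.node (.node (.leaf 3203072) (.leaf 9573399)) (.leaf 1359872)) (.node (.leaf 7073792) (.leaf 7595356)))) (.node (.node (.node (.node (.leaf 2105344) (.leaf 7827456)) (.leaf 9142272)) (.node (.node (.leaf 6221824) (.leaf 5144576)) (.leaf 3600384))) (.node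 (.node (.node (.leaf 4218880) (.leaf 4829398)) (.leaf 1737998)) (.node (.leaf 7806976) (.leaf 10945767)))))))

def bigMvXb26 : Janko.Tree (ℕ) :=
  (.node (.node (.node (.node (.node (.node (.node (.leaf 16384) (.leaf 6628320)) (.leaf 8003584)) (.node (.node (.leaf 4513792) (.leaf 7492376)) (.leaf 4366870))) (.node (.node (.node (.leaf 2375680) (.leaf 11211937)) (.leaf 5443806)) (.node (.node (.leaf 1892879) (.leaf 6276130)) (.leaf 5129037)))) (.node (.node (.node (.node (.leaf 1306624) (.leaf 11472896)) (.leaf 3769743)) (.node (.node (.leaf 5525504) (.leaf 10216774)) (.leaf 7631224))) (.node (.node (.node (.leaf 3448832) (.leaf 6545408)) (.leaf 9781248)) (.node (.leaf 7294976) (.leaf 6807699))))) (.node (.node (.node (.node (.node (.leaf 369898) (.leaf 4547317)) (.leaf 4776951)) (.node (.node (.leaf 1049043) (.leaf 3850240)) (.leaf 10261166))) (.node (.node (.node (.leaf 2949120) (.leaf 11170168)) (.leaf 1933837)) (.node (.node (.leaf 3085289) (.leaf 11326202)) (.leaf 10482314)))) (.node (.node (.node (.node (.leaf 1871872) (.leaf 9282442))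 (.leaf 8998912)) (.node (.node (.leaf 881021) (.leaf 8609962)) (.leaf 6521351))) (.node (.node (.node (.leaf 3981312) (.leaf 8900678)) (.leaf 5227140)) (.node (.leaf 7634944) (.leaf 6541359)))))) (.node (.node (.node (.node (.node (.node (.leaf 512000) (.leaf 11341824)) (.leaf 8163328)) (.node (.node (.leaf 2605560) (.leaf 8110293)) (.leaf 1983707))) (.node (.node (.node (.leaf 2658304) (.leaf 11587773)) (.leaf 9428992)) (.node (.node (.leaf 4773168) (.leaf 9434325)) (.leaf 10928128)))) (.node (.node (.node (.node (.leaf 1508534) (.leaf 2564096)) (.leaf 8324250)) (.node (.node (.leaf 4080466) (.leaf 9336140)) (.leaf 7259282))) (.node (.node (.node (.leaf 3694592) (.leaf 5719079)) (.leaf 8893466)) (.node (.leaf 7475200) (.leaf 8389468))))) (.node (.node (.node (.node (.node (.leaf 1040384) (.leaf 7943423)) (.leaf 8536064)) (.node (.node (.leaf 614400) (.leaf 11035276)) (.leaf 7456025))) (.node (.node (.node (.leaf 3215360) (.leaf 11026772)) (.leaf 9695232)) (.node (.leaf 1708439) (.leaf 6951620)))) (.node (.node (.node (.node (.leaf 2121728)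 (.leaf 9560111)) (.leaf 5624516)) (.node (.node (.leaf 6234112) (.leaf 9412721)) (.leaf 9454870))) (.node (.node (.node (.leaf 4165775) (.leaf 3757198)) (.leaf 6935822)) (.node (.leaf 991232) (.leaf 8364678)))))))

def bigMvXb27 : Janko.Tree (ℕ) :=
  (.node (.node (.node (.node (.node (.node (.node (.leaf 253952) (.leaf 5293371)) (.leaf 5362848)) (.node (.node (.leaf 1963356) (.leaf 11780096)) (.leaf 10223616))) (.node (.node (.node (.leaf 2379776) (.leaf 9703805)) (.leaf 5427422)) (.node (.node (.leaf 6455296) (.leaf 11227535)) (.leaf 3453304)))) (.node (.node (.node (.node (.leaf 126976) (.leaf 10757276)) (.leaf 8704000)) (.node (.node (.leaf 1130496) (.leaf 4379476)) (.leaf 8942896))) (.node (.node (.node (.leaf 3457024) (.leaf 5808836)) (.leaf 8806400)) (.node (.leaf 884736) (.leaf 7782512))))) (.node (.node (.node (.node (.node (.leaf 352942) (.leaf 11403264)) (.leaf 7930235)) (.node (.node (.leaf 5025792) (.leaf 9248906)) (.leaf 2920733))) (.node (.node (.node (.leaf 1126520) (.leaf 10867931)) (.leaf 6104098)) (.node (.node (.leaf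 6885376) (.leaf 11911281)) (.leaf 8033514)))) (.node (.node (.node (.node (.leaf 377366) (.leaf 6492524)) (.leaf 6181914)) (.node (.node (.leaf 6029312) (.leaf 11444528)) (.leaf 9487735))) (.node (.node (.node (.leaf 1433720) (.leaf 7648282)) (.leaf 9801903)) (.node (.leaf 4736213) (.leaf 10511029)))))) (.node (.node (.node (.node (.node (.node (.leaf 87110) (.leaf 2810538)) (.leaf 8171520)) (.node (.node (.leaf 4755456) (.leaf 6783301)) (.leaf 9814301))) (.node (.node (.node (.leaf 2646016) (.leaf 5779552)) (.leaf 7689411)) (.node (.node (.leaf 6701056) (.leaf 7717756)) (.leaf 7770251)))) (.node (.node (.node (.node (.leaf 1593344) (.leaf 6140335)) (.leaf 8451307)) (.node (.node (.leaf 2093560) (.leaf 7234875)) (.leaf 1781760))) (.node (.node (.node (.leaf 3706880) (.leaf 8438138)) (.leaf 6010151)) (.node (.leaf 7471104) (.leaf 4338735))))) (.node (.node (.node (.node (.node (.leaf 1044480) (.leaf 3629571)) (.leaf 8548352)) (.node (.node (.leaf 5304320) (.leaf 6590998)) (.leaf 2969688))) (.node (.node (.node (.leaf 3219456) (.leaf 10601727))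 (.leaf 9707520)) (.node (.leaf 5698499) (.leaf 10687814)))) (.node (.node (.node (.node (.leaf 2125824) (.leaf 9417288)) (.leaf 9150464)) (.node (.node (.leaf 737280) (.leaf 11637348)) (.leaf 9105527))) (.node (.node (.node (.leaf 4243456) (.leaf 11747832)) (.leaf 10100736)) (.node (.leaf 5349598) (.leaf 8766277)))))))

def bigMvXb28 : Janko.Tree (ℕ) :=
  (.node (.node (.node (.node (.node (.node (.node (.leaf 114808) (.leaf 11064684)) (.leaf 8015872)) (.node (.node (.leaf 553464) (.leaf 6800368)) (.leaf 8176110))) (.node (.node (.node (.leaf 2396160) (.leaf 11612160)) (.leaf 1401682)) (.node (.node (.leaf 6467584) (.leaf 7905784)) (.leaf 4059997)))) (.node (.node (.node (.node (.leaf 1318912) (.leaf 9184490)) (.leaf 1258138)) (.node (.node (.leaf 5545984) (.leaf 10220870)) (.leaf 10588160))) (.node (.node (.node (.leaf 758285) (.leaf 9974416)) (.leaf 9785344)) (.node (.leaf 7307264) (.leaf 2097152))))) (.node (.node (.node (.node (.node (.leaf 430766) (.leaf 5210616)) (.leaf 7615719)) (.node (.node (.leaf 5046272) (.leaf 7029669)) (.leaf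 10412032))) (.node (.node (.node (.leaf 2961408) (.leaf 3948968)) (.leaf 5775360)) (.node (.node (.leaf 6897664) (.leaf 11923456)) (.leaf 10490581)))) (.node (.node (.node (.node (.leaf 332462) (.leaf 9392128)) (.leaf 1336513)) (.node (.node (.leaf 6041600) (.leaf 11108928)) (.leaf 6582715))) (.node (.node (.node (.leaf 3641739) (.leaf 7181531)) (.leaf 5873664)) (.node (.leaf 4223901) (.leaf 7143600)))))) (.node (.node (.node (.node (.node (.node (.leaf 520192) (.leaf 6857613)) (.leaf 5280596)) (.node (.node (.leaf 2871296) (.leaf 6824442)) (.leaf 5005382))) (.node (.node (.node (.leaf 2674688) (.leaf 5887283)) (.leaf 9437184)) (.node (.node (.leaf 6688768) (.leaf 10900248)) (.leaf 10121712)))) (.node (.node (.node (.node (.leaf 401802) (.leaf 4682232)) (.leaf 8155985)) (.node (.node (.leaf 5820416) (.leaf 7324235)) (.leaf 9728569))) (.node (.node (.node (.leaf 1819943) (.leaf 6554085)) (.leaf 9887744)) (.node (.leaf 7479296) (.leaf 10637382))))) (.node (.node (.node (.node (.node (.leaf 1060864) (.leaf 9769536)) (.leaf 7447364)) (.node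 (.node (.leaf 5316608) (.leaf 5320910)) (.leaf 9942241))) (.node (.node (.node (.leaf 3235840) (.leaf 4019013)) (.leaf 5333674)) (.node (.leaf 4203559) (.leaf 7644204)))) (.node (.node (.node (.node (.leaf 2142208) (.leaf 5497593)) (.leaf 3060143)) (.node (.node (.leaf 3511566) (.leaf 5644900)) (.leaf 8733249))) (.node (.node (.node (.leaf 631978) (.leaf 6505309)) (.leaf 10104832)) (.node (.leaf 7819264) (.leaf 3265349)))))))

def bigMvXb29 : Janko.Tree (ℕ) :=
  (.node (.node (.node (.node (.node (.node (.node (.leaf 278528) (.leaf 2749364)) (.leaf 2270226)) (.node (.node (.leaf 1180701) (.leaf 7840807)) (.leaf 10235904))) (.node (.node (.node (.leaf 2404352) (.leaf 9601188)) (.leaf 4104487)) (.node (.node (.leaf 6471680) (.leaf 7067040)) (.leaf 6562580)))) (.node (.node (.node (.node (.leaf 1343488) (.leaf 5862348)) (.leaf 8712192)) (.node (.node (.leaf 5562368) (.leaf 7553327)) (.leaf 3142469))) (.node (.node (.node (.leaf 3465216) (.leaf 3121152)) (.leaf 9470513)) (.node (.leaf 7327744) (.leaf 4793537))))) (.node (.node (.node (.node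 (.node (.leaf 790528) (.leaf 10027847)) (.leaf 8380416)) (.node (.node (.leaf 2630157) (.leaf 5907638)) (.leaf 10428416))) (.node (.node (.node (.leaf 1684714) (.leaf 8819746)) (.leaf 9584640)) (.node (.node (.leaf 6901760) (.leaf 11591793)) (.leaf 4785429)))) (.node (.node (.node (.node (.leaf 733840) (.leaf 10851280)) (.leaf 1733825)) (.node (.node (.leaf 6045696) (.leaf 5063265)) (.leaf 10747904))) (.node (.node (.node (.leaf 1955050) (.leaf 4948914)) (.leaf 9576533)) (.node (.leaf 6890029) (.leaf 10834757)))))) (.node (.node (.node (.node (.node (.node (.leaf 251177) (.leaf 2338816)) (.leaf 4825592)) (.node (.node (.leaf 4248218) (.leaf 11796480)) (.leaf 4469021))) (.node (.node (.node (.leaf 316184) (.leaf 8401295)) (.leaf 9441280)) (.node (.node (.leaf 3150510) (.leaf 11899544)) (.leaf 9946382)))) (.node (.node (.node (.node (.leaf 750254) (.leaf 5870486)) (.leaf 3994209)) (.node (.node (.leaf 2265592) (.leaf 11522270)) (.leaf 10400665))) (.node (.node (.node (.leaf 3723264) (.leaf 3572970)) (.leaf 9895936)) (.node (.leaf 6250496)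 (.leaf 4862740))))) (.node (.node (.node (.node (.node (.leaf 754372) (.leaf 10769028)) (.leaf 8560640)) (.node (.node (.leaf 5324800) (.leaf 4067328)) (.leaf 6579013))) (.node (.node (.node (.leaf 774678) (.leaf 9716671)) (.leaf 6418932)) (.node (.leaf 7102464) (.leaf 7852938)))) (.node (.node (.node (.node (.leaf 2150400) (.leaf 6402406)) (.leaf 9158656)) (.node (.node (.leaf 1930177) (.leaf 10776740)) (.leaf 7791317))) (.node (.node (.node (.leaf 1196536) (.leaf 7504087)) (.leaf 3400214)) (.node (.leaf 3986116) (.leaf 9344219)))))))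

def bigMvXb30 : Janko.Tree (ℕ) :=
  (.node (.node (.node (.node (.node (.node (.node (.leaf 262144) (.leaf 2576888)) (.leaf 8024064)) (.node (.node (.leaf 4542464) (.leaf 11682456)) (.leaf 10240000))) (.node (.node (.node (.leaf 266240) (.leaf 11510145)) (.leaf 9289728)) (.node (.node (.leaf 6488064) (.leaf 10273339)) (.leaf 5465023)))) (.node (.node (.node (.node (.leaf 1331200) (.leaf 9036682)) (.leaf 1159168)) (.node (.node (.leaf 5570560) (.leaf 7090432)) (.leaf 6369400))) (.node (.node (.node (.leaf 393216) (.leaf 4920601)) (.leaf 9793536)) (.node (.leaf 7319552) (.leaf 10436895))))) (.node (.node (.node (.node (.node (.leaf 798720) (.leaf 11411456)) (.leaf 8392704)) (.node (.node (.leaf 4665804) (.leaf 7726267)) (.leaf 7413929))) (.node (.node (.node (.leaf 934680) (.leaf 6439032)) (.leaf 5559440)) (.node (.node (.leaf 6905856) (.leaf 11784856)) (.leaf 10626288)))) (.node (.node (.node (.node (.leaf 1900544) (.leaf 9408512)) (.leaf 4617245)) (.node (.node (.leaf 6057984) (.leaf 8938464)) (.leaf 10318865))) (.node (.node (.node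 (.leaf 996700) (.leaf 11751424)) (.leaf 6837402)) (.node (.leaf 4198539) (.leaf 2187264)))))) (.node (.node (.node (.node (.node (.node (.leaf 45056) (.leaf 11096903)) (.leaf 8204288)) (.node (.node (.leaf 4530680) (.leaf 7013738)) (.leaf 10286262))) (.node (.node (.node (.leaf 2686976) (.leaf 11644928)) (.leaf 6833555)) (.node (.node (.leaf 6709248) (.leaf 11834714)) (.leaf 10700046)))) (.node (.node (.node (.node (.leaf 1622016) (.leaf 9167754)) (.leaf 2192454)) (.node (.node (.leaf 5836800) (.leaf 4648960)) (.leaf 10682368))) (.node (.node (.node (.leaf 3731456) (.leaf 11735040)) (.leaf 9900032)) (.node (.leaf 6914761) (.leaf 5756064))))) (.node (.node (.node (.node (.node (.leaf 1032917) (.leaf 5481024)) (.leaf 1221112)) (.node (.node (.leaf 2024349) (.leaf 7775580)) (.leaf 4277443))) (.node (.node (.node (.leaf 414532) (.leaf 7304302)) (.leaf 9466762)) (.node (.leaf 7110656) (.leaf 5824898)))) (.node (.node (.node (.node (.leaf 229376) (.leaf 8905217)) (.leaf 9162752)) (.node (.node (.leaf 3244156) (.leaf 10646008)) (.leaf 5902760)))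 (.node (.node (.node (.leaf 2720928) (.leaf 3444736)) (.leaf 1523712)) (.node (.leaf 4043820) (.leaf 3675462)))))))

def bigMvXb31 : Janko.Tree (ℕ) :=
  (.node (.node (.node (.node (.node (.node (.node (.leaf 294912) (.leaf 3212322)) (.leaf 8028160)) (.node (.node (.leaf 4158165) (.leaf 6992633)) (.leaf 8118589))) (.node (.node (.node (.leaf 2412544) (.leaf 3483027)) (.leaf 7664377)) (.node (.node (.leaf 6496256) (.leaf 11699086)) (.leaf 1904640)))) (.node (.node (.node (.node (.leaf 1363968) (.leaf 11485184)) (.leaf 5964568)) (.node (.node (.leaf 5582848) (.leaf 11137608)) (.leaf 10592256))) (.node (.node (.node (.leaf 1758433) (.leaf 8138819)) (.leaf 2318612)) (.node (.leaf 3014656) (.leaf 6095970))))) (.node (.node (.node (.node (.node (.leaf 815104) (.leaf 2495425)) (.leaf 7152944)) (.node (.node (.leaf 5074944) (.leaf 3911680)) (.leaf 1884846))) (.node (.node (.node (.leaf 2981888) (.leaf 11669504)) (.leaf 5607424)) (.node (.node (.leaf 831488) (.leaf 11907185)) (.leaf 9373099)))) (.node (.node (.node (.node (.leaf 1499256) (.leaf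 11166423)) (.leaf 7185345)) (.node (.node (.leaf 1439069) (.leaf 11076342)) (.leaf 1822720))) (.node (.node (.node (.leaf 1066332) (.leaf 10207552)) (.leaf 6157607)) (.node (.leaf 6792509) (.leaf 5637038)))))) (.node (.node (.node (.node (.node (.node (.leaf 446603) (.leaf 11183374)) (.leaf 4866734)) (.node (.node (.leaf 4800512) (.leaf 8696613)) (.leaf 6381888))) (.node (.node (.node (.leaf 2082014) (.leaf 2834432)) (.leaf 1978994)) (.node (.node (.leaf 1442478) (.leaf 9663221)) (.leaf 2511478)))) (.node (.node (.node (.node (.leaf 823792) (.leaf 5160960)) (.leaf 8867840)) (.node (.node (.leaf 5849088) (.leaf 5084230)) (.leaf 1950961))) (.node (.node (.node (.leaf 3735552) (.leaf 9499842)) (.leaf 6620112)) (.node (.leaf 7487488) (.leaf 2929652))))) (.node (.node (.node (.node (.node (.leaf 205894) (.leaf 4956846)) (.leaf 8572928)) (.node (.node (.leaf 5328896) (.leaf 10007746)) (.leaf 9724798))) (.node (.node (.node (.leaf 3260416) (.leaf 11702272)) (.leaf 5763978)) (.node (.leaf 864256) (.leaf 3052150)))) (.node (.node (.node (.node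 (.leaf 2158592) (.leaf 10425777)) (.leaf 1245184)) (.node (.node (.leaf 6266880) (.leaf 7610767)) (.leaf 6070272))) (.node (.node (.node (.leaf 1384952) (.leaf 10192161)) (.leaf 10117120)) (.node (.leaf 2540714) (.leaf 6258991)))))))

def bigMvXb : Janko.Tree (ℕ) := (.node (.node (.node (.node (.node bigMvXb0 bigMvXb16) (.node bigMvXb8 bigMvXb24)) (.node (.node bigMvXb4 bigMvXb20) (.node bigMvXb12 bigMvXb28))) (.node (.node (.node bigMvXb2 bigMvXb18) (.node bigMvXb10 bigMvXb26)) (.node (.node bigMvXb6 bigMvXb22) (.node bigMvXb14 bigMvXb30)))) (.node (.node (.node (.node bigMvXb1 bigMvXb17) (.node bigMvXb9 bigMvXb25)) (.node (.node bigMvXb5 bigMvXb21) (.node bigMvXb13 bigMvXb29))) (.node (.node (.node bigMvXb3 bigMvXb19) (.node bigMvXb11 bigMvXb27)) (.node (.node bigMvXb7 bigMvXb23) (.node bigMvXb15 bigMvXb31)))))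

theorem big_mvXb0 : ((List.range 256).all fun i => movesOK baseB bigCert bigGens bigT 2912 (baseP.getD 1 0) bigMvXb (Nat.add 0 i)) = true := by decide +kernel

theorem big_mvXb1 : ((List.range 256).all fun i => movesOK baseB bigCert bigGens bigT 2912 (baseP.getD 1 0) bigMvXb (Nat.add 256 i)) = true := by decide +kernel

theorem big_mvXb2 : ((List.range 256).all fun i => movesOK baseB bigCert bigGens bigT 2912 (baseP.getD 1 0) bigMvXb (Nat.add 512 i)) = true := by decide +kernel

theorem big_mvXb3 : ((List.range 256).all fun i => movesOK baseB bigCert bigGens bigT 2912 (baseP.getD 1 0) bigMvXb (Nat.add 768 i)) = true := by decide +kernel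

theorem big_mvXb4 : ((List.range 256).all fun i => movesOK baseB bigCert bigGens bigT 2912 (baseP.getD 1 0) bigMvXb (Nat.add 1024 i)) = true := by decide +kernel

theorem big_mvXb5 : ((List.range 256).all fun i => movesOK baseB bigCert bigGens bigT 2912 (baseP.getD 1 0) bigMvXb (Nat.add 1280 i)) = true := by decide +kernel

theorem big_mvXb6 : ((List.range 256).all fun i => movesOK baseB bigCert bigGens bigT 2912 (baseP.getD 1 0) bigMvXb (Nat.add 1536 i)) = true := by decide +kernel

theorem big_mvXb7 : ((List.range 256).all fun i => movesOK baseB bigCert bigGens bigT 2912 (baseP.getD 1 0) bigMvXb (Nat.add 1792 i)) = true := by decide +kernel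

theorem big_mvXb8 : ((List.range 256).all fun i => movesOK baseB bigCert bigGens bigT 2912 (baseP.getD 1 0) bigMvXb (Nat.add 2048 i)) = true := by decide +kernel

theorem big_mvXb9 : ((List.range 256).all fun i => movesOK baseB bigCert bigGens bigT 2912 (baseP.getD 1 0) bigMvXb (Nat.add 2304 i)) = true := by decide +kernel

theorem big_mvXb10 : ((List.range 256).all fun i => movesOK baseB bigCert bigGens bigT 2912 (baseP.getD 1 0) bigMvXb (Nat.add 2560 i)) = true := by decide +kernel

theorem big_mvXb11 : ((List.range 96).all fun i => movesOK baseB bigCert bigGens bigT 2912 (baseP.getD 1 0) bigMvXb (Nat.add 2816 i)) = true := by decide +kernel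

theorem big_mvXb : ∀ i < 2912, movesOK baseB bigCert bigGens bigT 2912 (baseP.getD 1 0) bigMvXb i = true := by
  intro i hi
  by_cases h0 : i < 256
  · have := List.all_eq_true.1 big_mvXb0 (i - 0) (List.mem_range.2 (by omega)); rwa [show Nat.add 0 (i - 0) = i from Nat.add_sub_cancel' (by omega)] at this
  by_cases h1 : i < 512
  · have := List.all_eq_true.1 big_mvXb1 (i - 256) (List.mem_range.2 (by omega)); rwa [show Nat.add 256 (i - 256) = i from Nat.add_sub_cancel' (by omega)] at this
  by_cases h2 : i < 768
  · have := List.all_eq_true.1 big_mvXb2 (i - 512) (List.mem_range.2 (by omega)); rwa [show Nat.add 512 (i - 512) = i from Nat.add_sub_cancel' (by omega)] at this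
  by_cases h3 : i < 1024
  · have := List.all_eq_true.1 big_mvXb3 (i - 768) (List.mem_range.2 (by omega)); rwa [show Nat.add 768 (i - 768) = i from Nat.add_sub_cancel' (by omega)] at this
  by_cases h4 : i < 1280
  · have := List.all_eq_true.1 big_mvXb4 (i - 1024) (List.mem_range.2 (by omega)); rwa [show Nat.add 1024 (i - 1024) = i from Nat.add_sub_cancel' (by omega)] at this
  by_cases h5 : i < 1536
  · have := List.all_eq_true.1 big_mvXb5 (i - 1280) (List.mem_range.2 (by omega)); rwa [show Nat.add 1280 (i - 1280) = i from Nat.add_sub_cancel' (by omega)] at this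
  by_cases h6 : i < 1792
  · have := List.all_eq_true.1 big_mvXb6 (i - 1536) (List.mem_range.2 (by omega)); rwa [show Nat.add 1536 (i - 1536) = i from Nat.add_sub_cancel' (by omega)] at this
  by_cases h7 : i < 2048
  · have := List.all_eq_true.1 big_mvXb7 (i - 1792) (List.mem_range.2 (by omega)); rwa [show Nat.add 1792 (i - 1792) = i from Nat.add_sub_cancel' (by omega)] at this
  by_cases h8 : i < 2304
  · have := List.all_eq_true.1 big_mvXb8 (i - 2048) (List.mem_range.2 (by omega)); rwa [show Nat.add 2048 (i - 2048) = i from Nat.add_sub_cancel' (by omega)] at this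
  by_cases h9 : i < 2560
  · have := List.all_eq_true.1 big_mvXb9 (i - 2304) (List.mem_range.2 (by omega)); rwa [show Nat.add 2304 (i - 2304) = i from Nat.add_sub_cancel' (by omega)] at this
  by_cases h10 : i < 2816
  · have := List.all_eq_true.1 big_mvXb10 (i - 2560) (List.mem_range.2 (by omega)); rwa [show Nat.add 2560 (i - 2560) = i from Nat.add_sub_cancel' (by omega)] at this
  have := List.all_eq_true.1 big_mvXb11 (i - 2816) (List.mem_range.2 (by omega)); rwa [show Nat.add 2816 (i - 2816) = i from Nat.add_sub_cancel' (by omega)] at this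


def bigMvXc0 : Janko.Tree (ℕ) :=
  (.node (.node (.node (.node (.node (.node (.node (.leaf 4096) (.leaf 2457643)) (.leaf 7864320)) (.node (.node (.leaf 4284416) (.leaf 3440640)) (.leaf 7033765))) (.node (.node (.node (.leaf 1269760) (.leaf 6558020)) (.leaf 8680342)) (.node (.node (.leaf 3072504) (.leaf 5607471)) (.leaf 9487242)))) (.node (.node (.node (.node (.leaf 270541) (.leaf 11215165)) (.leaf 2417432)) (.node (.node (.leaf 5341184) (.leaf 10999054)) (.leaf 10506240))) (.node (.node (.node (.leaf 3231744) (.leaf 10711574)) (.leaf 9723904)) (.node (.leaf 7131136) (.leaf 3048054))))) (.node (.node (.node (.node (.node (.leaf 40960) (.leaf 11354112)) (.leaf 6656496)) (.node (.node (.leaf 552960) (.leaf 8049582)) (.leaf 10358784))) (.node (.node (.node (.leaf 2707456) (.leaf 6779414)) (.leaf 3257257)) (.node (.node (.leaf 6721536) (.leaf 11777294)) (.leaf 2253304)))) (.node (.node (.node (.node (.leaf 1642496) (.leaf 6291741)) (.leaf 4981765)) (.node (.node (.leaf 2929698) (.leaf 11510871)) (.leaf 7098515))) (.node (.node (.node (.leaf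 3756032) (.leaf 4502288)) (.leaf 4489898)) (.node (.leaf 3145871) (.leaf 3588407)))))) (.node (.node (.node (.node (.node (.node (.leaf 307200) (.leaf 4858848)) (.leaf 8036352)) (.node (.node (.leaf 2077730) (.leaf 10346882)) (.leaf 8167919))) (.node (.node (.node (.leaf 1262234) (.leaf 9404486)) (.leaf 9306112)) (.node (.node (.leaf 6504448) (.leaf 9490502)) (.leaf 1900544)))) (.node (.node (.node (.node (.leaf 1372160) (.leaf 4604090)) (.leaf 5923895)) (.node (.node (.leaf 5599232) (.leaf 11559993)) (.leaf 9847360))) (.node (.node (.node (.leaf 3489792) (.leaf 5284011)) (.leaf 4916455)) (.node (.leaf 4019013) (.leaf 10445192))))) (.node (.node (.node (.node (.node (.leaf 827392) (.leaf 7140604)) (.leaf 2719868)) (.node (.node (.leaf 1405986) (.leaf 11072756)) (.leaf 3129730))) (.node (.node (.node (.leaf 323584) (.leaf 5457090)) (.leaf 9588736)) (.node (.leaf 6926336) (.leaf 9925408)))) (.node (.node (.node (.node (.leaf 767010) (.leaf 9249553)) (.leaf 1216512)) (.node (.node (.leaf 6070272) (.leaf 8344309)) (.leaf 8990891))) (.node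 (.node (.node (.leaf 4026368) (.leaf 6312724)) (.leaf 5854607)) (.node (.leaf 4064526) (.leaf 10785440)))))))

def bigMvXc1 : Janko.Tree (ℕ) :=
  (.node (.node (.node (.node (.node (.node (.node (.leaf 13045) (.leaf 3839280)) (.leaf 7872512)) (.node (.node (.leaf 2605056) (.leaf 7172933)) (.leaf 1556600))) (.node (.node (.node (.leaf 229376) (.leaf 10916956)) (.leaf 2290168)) (.node (.node (.leaf 6279168) (.leaf 10855647)) (.leaf 9355799)))) (.node (.node (.node (.node (.leaf 102400) (.leaf 7394309)) (.leaf 4769201)) (.node (.node (.leaf 5345280) (.leaf 11436699)) (.leaf 10514432))) (.node (.node (.node (.leaf 1516788) (.leaf 3662358)) (.leaf 9630990)) (.node (.leaf 7004921) (.leaf 8806786))))) (.node (.node (.node (.node (.node (.leaf 569344) (.leaf 3379957)) (.leaf 8224768)) (.node (.node (.leaf 4820992) (.leaf 7111617)) (.leaf 10366976))) (.node (.node (.node (.leaf 2715648) (.leaf 3506555)) (.leaf 8135466)) (.node (.node (.leaf 1709326) (.leaf 11550745)) (.leaf 1966080)))) (.node (.node (.node (.node (.leaf 1650688) (.leaf 3182864))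 (.leaf 1843882)) (.node (.node (.leaf 4391669) (.leaf 11289443)) (.leaf 10686464))) (.node (.node (.node (.leaf 1630208) (.leaf 10174464)) (.leaf 8188637)) (.node (.leaf 7499776) (.leaf 10858661)))))) (.node (.node (.node (.node (.node (.node (.leaf 222242) (.leaf 2728895)) (.leaf 8040448)) (.node (.node (.leaf 516096) (.leaf 3571712)) (.leaf 5062656))) (.node (.node (.node (.leaf 266240) (.leaf 11620352)) (.leaf 4735480)) (.node (.node (.leaf 4039899) (.leaf 10375490)) (.leaf 10564236)))) (.node (.node (.node (.node (.leaf 1384448) (.leaf 11497472)) (.leaf 2310144)) (.node (.node (.leaf 3088504) (.leaf 11771974)) (.leaf 1941504))) (.node (.node (.node (.leaf 1917685) (.leaf 8458618)) (.leaf 9339165)) (.node (.leaf 7188600) (.leaf 3970082))))) (.node (.node (.node (.node (.node (.leaf 839680) (.leaf 11419648)) (.leaf 6672384)) (.node (.node (.leaf 585728) (.leaf 10884294)) (.leaf 1638400))) (.node (.node (.node (.leaf 3002368) (.leaf 5817028)) (.leaf 9098314)) (.node (.leaf 831488) (.leaf 9548390)))) (.node (.node (.node (.node (.leaf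 200704) (.leaf 8999682)) (.leaf 6513918)) (.node (.node (.leaf 696320) (.leaf 10216185)) (.leaf 10764288))) (.node (.node (.node (.leaf 4034560) (.leaf 3301376)) (.leaf 4940625)) (.node (.leaf 7303854) (.leaf 6030530)))))))

def bigMvXc2 : Janko.Tree (ℕ) :=
  (.node (.node (.node (.node (.node (.node (.node (.leaf 24576) (.leaf 7749878)) (.leaf 6365398)) (.node (.node (.leaf 4300800) (.leaf 11313445)) (.leaf 7738407))) (.node (.node (.node (.leaf 423216) (.leaf 9564160)) (.leaf 3388149)) (.node (.node (.leaf 6287360) (.leaf 11543822)) (.leaf 7045881)))) (.node (.node (.node (.node (.leaf 1110016) (.leaf 10801357)) (.leaf 1136049)) (.node (.node (.leaf 5349376) (.leaf 9753284)) (.leaf 10522624))) (.node (.node (.node (.leaf 398606) (.leaf 9970693)) (.leaf 5219367)) (.node (.leaf 864256) (.leaf 7770112))))) (.node (.node (.node (.node (.node (.leaf 577536) (.leaf 11362304)) (.leaf 4263936)) (.node (.node (.leaf 2785747) (.leaf 3719168)) (.leaf 8217528))) (.node (.node (.node (.leaf 2723840) (.leaf 5259264)) (.leaf 8790565)) (.node (.node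 (.leaf 6729728) (.leaf 9290661)) (.leaf 7611515)))) (.node (.node (.node (.node (.leaf 1654784) (.leaf 9183282)) (.leaf 4826117)) (.node (.node (.leaf 3100672) (.leaf 8426464)) (.leaf 10694656))) (.node (.node (.node (.leaf 3768320) (.leaf 8508259)) (.leaf 9912320)) (.node (.leaf 3941197) (.leaf 5194912)))))) (.node (.node (.node (.node (.node (.node (.leaf 319488) (.leaf 8529124)) (.leaf 5539243)) (.node (.node (.leaf 894256) (.leaf 6018397)) (.leaf 10126104))) (.node (.node (.node (.leaf 2453504) (.leaf 7922001)) (.leaf 5849937)) (.node (.node (.leaf 6524928) (.leaf 6022339)) (.leaf 5939882)))) (.node (.node (.node (.node (.leaf 1392640) (.leaf 11501568)) (.leaf 8732672)) (.node (.node (.leaf 5091358) (.leaf 9515634)) (.leaf 6955853))) (.node (.node (.node (.leaf 426821) (.leaf 4895023)) (.leaf 5907726)) (.node (.leaf 7344128) (.leaf 4191254))))) (.node (.node (.node (.node (.node (.leaf 847872) (.leaf 6935578)) (.leaf 8396800)) (.node (.node (.leaf 5095424) (.leaf 8794882)) (.leaf 4961257))) (.node (.node (.node (.leaf 2974933) (.leaf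 5918720)) (.leaf 7237632)) (.node (.leaf 5955584) (.leaf 2011136)))) (.node (.node (.node (.node (.leaf 1368064) (.leaf 9315141)) (.leaf 4461389)) (.node (.node (.leaf 6086656) (.leaf 7812400)) (.leaf 10572200))) (.node (.node (.node (.leaf 2113536) (.leaf 10364030)) (.leaf 2363392)) (.node (.leaf 4031350) (.leaf 7632014)))))))

def bigMvXc3 : Janko.Tree (ℕ) :=
  (.node (.node (.node (.node (.node (.node (.node (.leaf 1328) (.leaf 11227136)) (.leaf 7888896)) (.node (.node (.leaf 2539691) (.leaf 9262293)) (.leaf 10015224))) (.node (.node (.node (.leaf 2207744) (.leaf 5517312)) (.leaf 1245184)) (.node (.node (.leaf 4805112) (.leaf 5308416)) (.leaf 1859584)))) (.node (.node (.node (.node (.leaf 1118208) (.leaf 6037868)) (.leaf 8589312)) (.node (.node (.leaf 5357568) (.leaf 11023588)) (.leaf 9421079))) (.node (.node (.node (.leaf 364544) (.leaf 8692288)) (.leaf 6144959)) (.node (.leaf 3350733) (.leaf 3199190))))) (.node (.node (.node (.node (.node (.leaf 581632) (.leaf 6812844)) (.leaf 7181616)) (.node (.node (.leaf 4837376) (.leaf 11464902))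 (.leaf 6566797))) (.node (.node (.node (.leaf 2732032) (.leaf 8287018)) (.leaf 8143658)) (.node (.node (.leaf 6737920) (.leaf 11809990)) (.leaf 8327669)))) (.node (.node (.node (.node (.leaf 1667072) (.leaf 9707520)) (.leaf 4584194)) (.node (.node (.leaf 5869568) (.leaf 5526463)) (.leaf 3592192))) (.node (.node (.node (.leaf 3784704) (.leaf 11153902)) (.leaf 9916416)) (.node (.leaf 5149915) (.leaf 6234902)))))) (.node (.node (.node (.node (.node (.node (.leaf 160257) (.leaf 8593942)) (.leaf 4002644)) (.node (.node (.leaf 4587520) (.leaf 3575808)) (.leaf 10260480))) (.node (.node (.node (.leaf 2461696) (.leaf 8962897)) (.leaf 9322496)) (.node (.node (.leaf 6533120) (.leaf 11678725)) (.leaf 10895360)))) (.node (.node (.node (.node (.leaf 1400832) (.leaf 6906988)) (.leaf 4911608)) (.node (.node (.leaf 5623808) (.leaf 6406424)) (.leaf 10612736))) (.node (.node (.node (.leaf 2696005) (.leaf 10519285)) (.leaf 1925544)) (.node (.leaf 7352320) (.leaf 10593298))))) (.node (.node (.node (.node (.node (.leaf 851968) (.leaf 10994830)) (.leaf 7602680))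 (.node (.node (.leaf 5103616) (.leaf 11812864)) (.leaf 7578437))) (.node (.node (.node (.leaf 3018752) (.leaf 10698752)) (.leaf 9605120)) (.node (.leaf 6938624) (.leaf 9499918)))) (.node (.node (.node (.node (.leaf 1945600) (.leaf 3499252)) (.leaf 2633999)) (.node (.node (.leaf 1527808) (.leaf 11416804)) (.leaf 9359784))) (.node (.node (.node (.leaf 450560) (.leaf 9437267)) (.leaf 8429773)) (.node (.leaf 2487330) (.leaf 9593328)))))))

def bigMvXc4 : Janko.Tree (ℕ) :=
  (.node (.node (.node (.node (.node (.node (.node (.leaf 45056) (.leaf 9794328)) (.leaf 7892992)) (.node (.node (.leaf 4317184) (.leaf 8663970)) (.leaf 10141696))) (.node (.node (.node (.leaf 1286144) (.leaf 7484184)) (.leaf 9187328)) (.node (.node (.leaf 6303744) (.leaf 11736195)) (.leaf 9364138)))) (.node (.node (.node (.node (.leaf 106496) (.leaf 8725580)) (.leaf 8597504)) (.node (.node (.leaf 5268082) (.leaf 11698894)) (.leaf 10526720))) (.node (.node (.node (.leaf 3284992) (.leaf 11706368)) (.leaf 9740288)) (.node (.leaf 7155712) (.leaf 7668398))))) (.node (.node (.node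 (.node (.node (.leaf 455714) (.leaf 11370496)) (.leaf 4474084)) (.node (.node (.leaf 4841472) (.leaf 11649233)) (.leaf 8742202))) (.node (.node (.node (.leaf 664817) (.leaf 11527207)) (.leaf 9474048)) (.node (.node (.leaf 6746112) (.leaf 11056158)) (.leaf 2282385)))) (.node (.node (.node (.node (.leaf 906053) (.leaf 8266013)) (.leaf 3313828)) (.node (.node (.leaf 4592373) (.leaf 9733125)) (.leaf 1789952))) (.node (.node (.node (.leaf 3792896) (.leaf 4662115)) (.leaf 9920512)) (.node (.leaf 5911694) (.leaf 9450656)))))) (.node (.node (.node (.node (.node (.node (.leaf 20480) (.leaf 3409050)) (.leaf 1024000)) (.node (.node (.leaf 2090018) (.leaf 6075129)) (.leaf 6356992))) (.node (.node (.node (.leaf 2469888) (.leaf 9618702)) (.leaf 9326592)) (.node (.node (.leaf 1922082) (.leaf 11898880)) (.leaf 10392615)))) (.node (.node (.node (.node (.leaf 1413120) (.leaf 6308496)) (.leaf 8749056)) (.node (.node (.leaf 5627904) (.leaf 11408710)) (.leaf 10620928))) (.node (.node (.node (.leaf 1929973) (.leaf 11199836)) (.leaf 9814016)) (.node (.leaf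 3817836) (.leaf 5874958))))) (.node (.node (.node (.node (.node (.leaf 860160) (.leaf 10129598)) (.leaf 5890840)) (.node (.node (.leaf 1410082) (.leaf 9453688)) (.leaf 7286784))) (.node (.node (.node (.leaf 709112) (.leaf 7897777)) (.leaf 6631961)) (.node (.leaf 5968448) (.leaf 4595958)))) (.node (.node (.node (.node (.leaf 779298) (.leaf 4150311)) (.leaf 3883686)) (.node (.node (.leaf 1475064) (.leaf 10154858)) (.leaf 10342685))) (.node (.node (.node (.leaf 1983758) (.leaf 8200904)) (.leaf 2499330)) (.node (.leaf 958464) (.leaf 10740398)))))))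

def bigMvXc5 : Janko.Tree (ℕ) :=
  (.node (.node (.node (.node (.node (.node (.node (.leaf 57344) (.leaf 8409096)) (.leaf 3556656)) (.node (.node (.leaf 4329472) (.leaf 11760453)) (.leaf 8152488))) (.node (.node (.node (.leaf 2224128) (.leaf 6456233)) (.leaf 5746688)) (.node (.node (.leaf 3026944) (.leaf 9503629)) (.leaf 7250712)))) (.node (.node (.node (.node (.leaf 1130496) (.leaf 10945232)) (.leaf 5337592)) (.node (.node (.leaf 2080990) (.leaf 7532709)) (.leaf 10539008))) (.node (.node (.node (.leaf 3293184) (.leaf 10940653)) (.leaf 1937408)) (.node (.leaf 5325482) (.leaf 5382852))))) (.node (.node (.node (.node (.node (.leaf 602112) (.leaf 11378688)) (.leaf 1614381)) (.node (.node (.leaf 2355704) (.leaf 11584065)) (.leaf 4997156))) (.node (.node (.node (.leaf 294912) (.leaf 11637528)) (.leaf 9482240)) (.node (.node (.leaf 6754304) (.leaf 11818212)) (.leaf 6538471)))) (.node (.node (.node (.node (.leaf 1679360) (.leaf 9495221)) (.leaf 4539050)) (.node (.node (.leaf 5885952) (.leaf 9573381)) (.leaf 3642563))) (.node (.node (.node (.leaf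 3801088) (.leaf 10105880)) (.leaf 6980582)) (.node (.leaf 5808967) (.leaf 11145216)))))) (.node (.node (.node (.node (.node (.node (.leaf 348160) (.leaf 4818262)) (.leaf 8060928)) (.node (.node (.leaf 2249549) (.leaf 8889539)) (.leaf 6443372))) (.node (.node (.node (.leaf 2478080) (.leaf 8249778)) (.leaf 9334784)) (.node (.node (.leaf 6541312) (.leaf 11850443)) (.leaf 10899456)))) (.node (.node (.node (.node (.leaf 1425408) (.leaf 11505664)) (.leaf 6841112)) (.node (.node (.leaf 2547712) (.leaf 7868946)) (.leaf 10629120))) (.node (.node (.node (.leaf 2670592) (.leaf 6242304)) (.leaf 7701808)) (.node (.leaf 7360512) (.leaf 4457100))))) (.node (.node (.node (.node (.node (.leaf 808206) (.leaf 11068202)) (.leaf 1085440)) (.node (.node (.leaf 5111808) (.leaf 10290521)) (.leaf 10440704))) (.node (.node (.node (.leaf 331776) (.leaf 11673600)) (.leaf 4862994)) (.node (.leaf 2663157) (.leaf 2015232)))) (.node (.node (.node (.node (.leaf 234530) (.leaf 2650112)) (.leaf 4973457)) (.node (.node (.leaf 4183284) (.leaf 9049211)) (.leaf 3518888)))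 (.node (.node (.node (.leaf 4071424) (.leaf 10683696)) (.leaf 2757400)) (.node (.leaf 4068622) (.leaf 8196695)))))))

def bigMvXc6 : Janko.Tree (ℕ) :=
  (.node (.node (.node (.node (.node (.node (.node (.leaf 69632) (.leaf 6758430)) (.leaf 7901184)) (.node (.node (.leaf 4333568) (.leaf 10293438)) (.leaf 10158080))) (.node (.node (.node (.leaf 2232320) (.leaf 9462669)) (.leaf 1278204)) (.node (.node (.leaf 4421032) (.leaf 9302522)) (.leaf 10768430)))) (.node (.node (.node (.node (.leaf 970891) (.leaf 8938501)) (.leaf 7725694)) (.node (.node (.leaf 618496) (.leaf 5592390)) (.leaf 5857814))) (.node (.node (.node (.leaf 918562) (.leaf 7012363)) (.leaf 3846144)) (.node (.leaf 3305862) (.leaf 2879984))))) (.node (.node (.node (.node (.node (.leaf 610304) (.leaf 11386880)) (.leaf 8253440)) (.node (.node (.leaf 1114112) (.leaf 9719808)) (.leaf 7071024))) (.node (.node (.node (.leaf 2760704) (.leaf 9642776)) (.leaf 8524898)) (.node (.node (.leaf 1533154) (.leaf 10473924)) (.leaf 8934096)))) (.node (.node (.node (.node (.leaf 1691648) (.leaf 6173328))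 (.leaf 8900608)) (.node (.node (.leaf 5898240) (.leaf 11854872)) (.leaf 10702848))) (.node (.node (.node (.leaf 3813376) (.leaf 10182656)) (.leaf 1445888)) (.node (.leaf 7516160) (.leaf 10355352)))))) (.node (.node (.node (.node (.node (.node (.leaf 114688) (.leaf 6251105)) (.leaf 7689250)) (.node (.node (.leaf 4599808) (.leaf 10666348)) (.leaf 8635699))) (.node (.node (.node (.leaf 2482176) (.leaf 9016053)) (.leaf 8471446)) (.node (.node (.leaf 6553600) (.leaf 5996544)) (.leaf 9311258)))) (.node (.node (.node (.node (.leaf 681173) (.leaf 3724507)) (.leaf 8761344)) (.node (.node (.leaf 5644288) (.leaf 8130560)) (.leaf 8659166))) (.node (.node (.node (.leaf 2937514) (.leaf 5976856)) (.leaf 4924117)) (.node (.leaf 7368704) (.leaf 3362816))))) (.node (.node (.node (.node (.node (.leaf 73728) (.leaf 11161764)) (.leaf 8421376)) (.node (.node (.leaf 1397948) (.leaf 11580442)) (.leaf 7327744))) (.node (.node (.node (.leaf 3051520) (.leaf 6026453)) (.leaf 1343488)) (.node (.leaf 2556962) (.leaf 11051008)))) (.node (.node (.node (.node (.leaf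 1961984) (.leaf 11534980)) (.leaf 9056256)) (.node (.node (.leaf 1540096) (.leaf 6320403)) (.leaf 8417936))) (.node (.node (.node (.leaf 4079616) (.leaf 11130042)) (.leaf 4346390)) (.node (.leaf 4011042) (.leaf 10224467)))))))

def bigMvXc7 : Janko.Tree (ℕ) :=
  (.node (.node (.node (.node (.node (.node (.node (.leaf 81920) (.leaf 10269370)) (.leaf 2270252)) (.node (.node (.leaf 4341760) (.leaf 3473408)) (.leaf 10162176))) (.node (.node (.node (.leaf 2244608) (.leaf 7103586)) (.leaf 1249280)) (.node (.node (.leaf 3175245) (.leaf 11830609)) (.leaf 10829824)))) (.node (.node (.node (.node (.leaf 1146880) (.leaf 7844374)) (.leaf 5370360)) (.node (.node (.leaf 5390336) (.leaf 11126171)) (.leaf 2392184))) (.node (.node (.node (.leaf 1700005) (.leaf 6345217)) (.leaf 5722112)) (.node (.leaf 7163904) (.leaf 2060288))))) (.node (.node (.node (.node (.node (.leaf 622592) (.leaf 2569490)) (.leaf 7247152)) (.node (.node (.leaf 561152) (.leaf 8291367)) (.leaf 10379264))) (.node (.node (.node (.leaf 2772992) (.leaf 11653120)) (.leaf 3612672)) (.node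 (.node (.leaf 6762496) (.leaf 11727202)) (.leaf 9192181)))) (.node (.node (.node (.node (.leaf 1695744) (.leaf 9240828)) (.leaf 1187840)) (.node (.node (.leaf 2516199) (.leaf 5571394)) (.leaf 5759340))) (.node (.node (.node (.leaf 2842624) (.leaf 8974336)) (.leaf 9835253)) (.node (.leaf 7520256) (.leaf 6693756)))))) (.node (.node (.node (.node (.node (.node (.leaf 360448) (.leaf 4494004)) (.leaf 1228971)) (.node (.node (.leaf 4608000) (.leaf 3600384)) (.leaf 10272768))) (.node (.node (.node (.leaf 2494464) (.leaf 11519050)) (.leaf 5813408)) (.node (.node (.leaf 1806809) (.leaf 8619249)) (.leaf 5087232)))) (.node (.node (.node (.node (.leaf 1433600) (.leaf 7685437)) (.leaf 5563825)) (.node (.node (.leaf 2782436) (.leaf 10372368)) (.leaf 5489877))) (.node (.node (.node (.leaf 3543040) (.leaf 4829304)) (.leaf 6803492)) (.node (.leaf 7372800) (.leaf 4046848))))) (.node (.node (.node (.node (.node (.leaf 651264) (.leaf 6734581)) (.leaf 5935301)) (.node (.node (.leaf 593920) (.leaf 10957914)) (.leaf 6714204))) (.node (.node (.node (.leaf 1565184)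 (.leaf 9860101)) (.leaf 7955482)) (.node (.leaf 843776) (.leaf 4186112)))) (.node (.node (.node (.node (.leaf 1970176) (.leaf 5633268)) (.leaf 9068544)) (.node (.node (.leaf 4813376) (.leaf 6230135)) (.leaf 2777088))) (.node (.node (.node (.leaf 4087808) (.leaf 11571586)) (.leaf 8065144)) (.node (.leaf 7712768) (.leaf 5764256)))))))

def bigMvXc8 : Janko.Tree (ℕ) :=
  (.node (.node (.node (.node (.node (.node (.node (.leaf 34062) (.leaf 11251712)) (.leaf 995328)) (.node (.node (.leaf 598187) (.leaf 10245218)) (.leaf 10170368))) (.node (.node (.node (.leaf 241664) (.leaf 11603968)) (.leaf 9180430)) (.node (.node (.leaf 6328320) (.leaf 11719024)) (.leaf 2609834)))) (.node (.node (.node (.node (.leaf 979083) (.leaf 5948686)) (.leaf 8630272)) (.node (.node (.leaf 4559906) (.leaf 11641374)) (.leaf 1703936))) (.node (.node (.node (.leaf 389285) (.leaf 11714560)) (.leaf 5321762)) (.node (.leaf 7168000) (.leaf 6948144))))) (.node (.node (.node (.node (.node (.leaf 638976) (.leaf 8798208)) (.leaf 8261632)) (.node (.node (.leaf 3486488) (.leaf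 11187317)) (.leaf 10383360))) (.node (.node (.node (.leaf 2789376) (.leaf 11277155)) (.leaf 2122023)) (.node (.node (.leaf 6774784) (.leaf 11883163)) (.leaf 8467587)))) (.node (.node (.node (.node (.leaf 1606039) (.leaf 9208645)) (.leaf 8912896)) (.node (.node (.leaf 667648) (.leaf 7529477)) (.leaf 10706944))) (.node (.node (.node (.leaf 901120) (.leaf 10601685)) (.leaf 8839960)) (.node (.leaf 4379381) (.leaf 3421112)))))) (.node (.node (.node (.node (.node (.node (.leaf 165134) (.leaf 7778621)) (.leaf 5707022)) (.node (.node (.leaf 4616192) (.leaf 3604480)) (.leaf 8847565))) (.node (.node (.node (.leaf 2506752) (.leaf 10826520)) (.leaf 3539669)) (.node (.node (.leaf 815269) (.leaf 9934085)) (.leaf 10907648)))) (.node (.node (.node (.node (.leaf 1441792) (.leaf 3945654)) (.leaf 6107341)) (.node (.node (.leaf 1152018) (.leaf 9889193)) (.leaf 4109483))) (.node (.node (.node (.leaf 2945024) (.leaf 3235960)) (.leaf 5932260)) (.node (.leaf 7380992) (.leaf 11112448))))) (.node (.node (.node (.node (.node (.leaf 897024) (.leaf 3547822)) (.leaf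 2273883)) (.node (.node (.leaf 5144576) (.leaf 11030935)) (.leaf 9285756))) (.node (.node (.node (.leaf 3063808) (.leaf 7242786)) (.leaf 2765637)) (.node (.leaf 6963200) (.leaf 2424902)))) (.node (.node (.node (.node (.leaf 1978368) (.leaf 11264918)) (.leaf 1823963)) (.node (.node (.leaf 4195589) (.leaf 11338898)) (.leaf 7558178))) (.node (.node (.node (.leaf 2000188) (.leaf 10834628)) (.leaf 6836254)) (.node (.leaf 4400476) (.leaf 10220470)))))))

def bigMvXc9 : Janko.Tree (ℕ) :=
  (.node (.node (.node (.node (.node (.node (.node (.leaf 94208) (.leaf 11255808)) (.leaf 6337351)) (.node (.node (.leaf 495616) (.leaf 7718207)) (.leaf 9171588))) (.node (.node (.node (.leaf 2256896) (.leaf 10576406)) (.leaf 2883584)) (.node (.node (.leaf 5275767) (.leaf 6587126)) (.leaf 10838016)))) (.node (.node (.node (.node (.leaf 1159168) (.leaf 10679602)) (.leaf 8642560)) (.node (.node (.leaf 1060864) (.leaf 11731084)) (.leaf 10543104))) (.node (.node (.node (.leaf 372736) (.leaf 6942720)) (.leaf 9084944)) (.node (.leaf 5845644) (.leaf 2064384))))) (.node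 (.node (.node (.node (.node (.leaf 647168) (.leaf 8880333)) (.leaf 6923534)) (.node (.node (.leaf 4878336) (.leaf 7385744)) (.leaf 9377073))) (.node (.node (.node (.leaf 2797568) (.leaf 10985999)) (.leaf 6120000)) (.node (.node (.leaf 6782976) (.leaf 9884366)) (.leaf 3282102)))) (.node (.node (.node (.node (.leaf 193349) (.leaf 6914168)) (.leaf 8388925)) (.node (.node (.leaf 5914624) (.leaf 9662603)) (.leaf 9966254))) (.node (.node (.node (.leaf 3842048) (.leaf 8045277)) (.leaf 9936896)) (.node (.leaf 4289570) (.leaf 4154684)))))) (.node (.node (.node (.node (.node (.node (.leaf 79152) (.leaf 11300864)) (.leaf 7697442)) (.node (.node (.leaf 4624384) (.leaf 9982500)) (.leaf 10276864))) (.node (.node (.node (.leaf 2510848) (.leaf 9392198)) (.leaf 9351168)) (.node (.node (.leaf 6574080) (.leaf 11842155)) (.leaf 9413445)))) (.node (.node (.node (.node (.leaf 1449984) (.leaf 6390621)) (.leaf 8777728)) (.node (.node (.leaf 5660672) (.leaf 11178844)) (.leaf 9442737))) (.node (.node (.node (.leaf 1881395) (.leaf 8684359)) (.leaf 2262007)) (.node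 (.leaf 7389184) (.leaf 4101468))))) (.node (.node (.node (.node (.node (.leaf 824590) (.leaf 10977830)) (.leaf 1093632)) (.node (.node (.leaf 4305067) (.leaf 6983959)) (.leaf 8537065))) (.node (.node (.node (.leaf 1458680) (.leaf 11685888)) (.leaf 4498060)) (.node (.leaf 6967296) (.leaf 4198400)))) (.node (.node (.node (.node (.leaf 279586) (.leaf 9344270)) (.leaf 9076736)) (.node (.node (.leaf 6127616) (.leaf 11441157)) (.leaf 2188021))) (.node (.node (.node (.leaf 4096000) (.leaf 3924676)) (.leaf 1490944)) (.node (.leaf 4322652) (.leaf 11194368)))))))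

def bigMvXc10 : Janko.Tree (ℕ) :=
  (.node (.node (.node (.node (.node (.node (.node (.leaf 110592) (.leaf 9200308)) (.leaf 999424)) (.node (.node (.leaf 4374528) (.leaf 3481600)) (.leaf 8737453))) (.node (.node (.node (.leaf 548864) (.leaf 11121032)) (.leaf 8996144)) (.node (.node (.leaf 6340608) (.leaf 8970350)) (.leaf 10842112)))) (.node (.node (.node (.node (.leaf 1175552) (.leaf 2473984)) (.leaf 8646656)) (.node (.node (.leaf 1746224) (.leaf 5239218)) (.leaf 8601822))) (.node (.node (.node (.leaf 3330048) (.leaf 10003461)) (.leaf 9748480)) (.node (.leaf 7184384) (.leaf 3249456))))) (.node (.node (.node (.node (.node (.leaf 659456) (.leaf 6091265)) (.leaf 6750208)) (.node (.node (.leaf 2741681) (.leaf 3751936)) (.leaf 8843478))) (.node (.node (.node (.leaf 2805760) (.leaf 3977216)) (.leaf 7909651)) (.node (.node (.leaf 873285) (.leaf 8651528)) (.leaf 7573504)))) (.node (.node (.node (.node (.leaf 180224) (.leaf 10961446)) (.leaf 5895009)) (.node (.node (.leaf 5702690) (.leaf 11878400)) (.leaf 8233006))) (.node (.node (.node (.leaf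 2237173) (.leaf 10146034)) (.leaf 9945088)) (.node (.leaf 4706816) (.leaf 5820452)))))) (.node (.node (.node (.node (.node (.node (.leaf 376832) (.leaf 11304960)) (.leaf 1725744)) (.node (.node (.leaf 4632576) (.leaf 11309569)) (.leaf 7979533))) (.node (.node (.node (.leaf 2519040) (.leaf 8057935)) (.leaf 7614965)) (.node (.node (.leaf 2990551) (.leaf 6111232)) (.leaf 9745223)))) (.node (.node (.node (.node (.leaf 1454080) (.leaf 8315723)) (.leaf 1167360)) (.node (.node (.leaf 4260890) (.leaf 4756293)) (.leaf 9609410))) (.node (.node (.node (.leaf 3559424) (.leaf 6152696)) (.leaf 7959745)) (.node (.leaf 4580085) (.leaf 8090452))))) (.node (.node (.node (.node (.node (.leaf 913408) (.leaf 10080632)) (.leaf 8450048)) (.node (.node (.leaf 4354219) (.leaf 9004444)) (.leaf 9786562))) (.node (.node (.node (.leaf 352768) (.leaf 11689984)) (.leaf 5678278)) (.node (.leaf 1785856) (.leaf 7775068)))) (.node (.node (.node (.node (.leaf 1990656) (.leaf 3620900)) (.leaf 3510740)) (.node (.node (.leaf 4203185) (.leaf 10257621)) (.leaf 3821688))) (.node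 (.node (.node (.leaf 4104192) (.leaf 10040053)) (.leaf 9164050)) (.node (.leaf 966656) (.leaf 10114396)))))))

def bigMvXc11 : Janko.Tree (ℕ) :=
  (.node (.node (.node (.node (.node (.node (.node (.leaf 122880) (.leaf 4685824)) (.leaf 3667137)) (.node (.node (.leaf 4382720) (.leaf 6705790)) (.leaf 6148600))) (.node (.node (.node (.leaf 2265088) (.leaf 11285602)) (.leaf 9216000)) (.node (.node (.leaf 6352896) (.leaf 11469570)) (.leaf 8258202)))) (.node (.node (.node (.node (.leaf 1183744) (.leaf 3142900)) (.leaf 7082069)) (.node (.node (.leaf 4572194) (.leaf 10891990)) (.leaf 9318470))) (.node (.node (.node (.leaf 868352) (.leaf 5780578)) (.leaf 8069746)) (.node (.leaf 7196672) (.leaf 8463404))))) (.node (.node (.node (.node (.node (.leaf 484386) (.leaf 7341294)) (.leaf 8282112)) (.node (.node (.leaf 4886528) (.leaf 11539068)) (.leaf 10387456))) (.node (.node (.node (.leaf 2822144) (.leaf 4715027)) (.leaf 5476352)) (.node (.node (.leaf 6791168) (.leaf 11235921)) (.leaf 10761637)))) (.node (.node (.node (.node (.leaf 1732608) (.leaf 6742773))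 (.leaf 1191936)) (.node (.node (.leaf 5280802) (.leaf 9900961)) (.leaf 4239390))) (.node (.node (.node (.leaf 836984) (.leaf 7233568)) (.leaf 9949184)) (.node (.leaf 5783552) (.leaf 3223832)))))) (.node (.node (.node (.node (.node (.node (.leaf 177422) (.leaf 3974149)) (.leaf 4567536)) (.node (.node (.leaf 4640768) (.leaf 11792384)) (.leaf 8373518))) (.node (.node (.node (.leaf 2527232) (.leaf 11101210)) (.leaf 1827982)) (.node (.node (.leaf 6590464) (.leaf 11891915)) (.leaf 5952816)))) (.node (.node (.node (.node (.leaf 1462272) (.leaf 8945711)) (.leaf 6267437)) (.node (.node (.leaf 643072) (.leaf 7258784)) (.leaf 7090176))) (.node (.node (.node (.leaf 3567616) (.leaf 4628984)) (.leaf 1729730)) (.node (.leaf 7401472) (.leaf 2117632))))) (.node (.node (.node (.node (.node (.leaf 921600) (.leaf 6316536)) (.leaf 4223115)) (.node (.node (.leaf 5165056) (.leaf 11514712)) (.leaf 3855664))) (.node (.node (.node (.leaf 339968) (.leaf 2977792)) (.leaf 3703303)) (.node (.leaf 6975488) (.leaf 4698155)))) (.node (.node (.node (.node (.leaf 212992)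 (.leaf 4293902)) (.leaf 2142638)) (.node (.node (.leaf 6139904) (.leaf 11191180)) (.leaf 3531970))) (.node (.node (.node (.leaf 4112384) (.leaf 3633159)) (.leaf 5436184)) (.node (.leaf 6050592) (.leaf 11202560)))))))

def bigMvXc12 : Janko.Tree (ℕ) :=
  (.node (.node (.node (.node (.node (.node (.node (.leaf 135168) (.leaf 4682595)) (.leaf 7933952)) (.node (.node (.leaf 4386816) (.leaf 10019884)) (.leaf 1536000))) (.node (.node (.node (.leaf 557056) (.leaf 8696843)) (.leaf 9224192)) (.node (.node (.leaf 3039232) (.leaf 7365120)) (.leaf 8393461)))) (.node (.node (.node (.node (.leaf 1196032) (.leaf 6488064)) (.leaf 2323669)) (.node (.node (.leaf 4367093) (.leaf 11043944)) (.leaf 9221154))) (.node (.node (.node (.leaf 930850) (.leaf 10420800)) (.leaf 6058104)) (.node (.leaf 7200768) (.leaf 3171143))))) (.node (.node (.node (.node (.node (.leaf 87074) (.leaf 5861376)) (.leaf 1865008)) (.node (.node (.leaf 4890624) (.leaf 7405568)) (.leaf 8245551))) (.node (.node (.node (.leaf 2834432) (.leaf 3952830)) (.leaf 9081876)) (.node (.node (.leaf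 6795264) (.leaf 11846541)) (.leaf 7652580)))) (.node (.node (.node (.node (.leaf 1740800) (.leaf 2588672)) (.leaf 7906037)) (.node (.node (.leaf 2503714) (.leaf 4730880)) (.leaf 3023534))) (.node (.node (.node (.leaf 3870720) (.leaf 8904909)) (.leaf 7704695)) (.node (.leaf 7540736) (.leaf 7160336)))))) (.node (.node (.node (.node (.node (.node (.leaf 393216) (.leaf 8569344)) (.leaf 5211406)) (.node (.node (.leaf 4644864) (.leaf 6996877)) (.leaf 10280960))) (.node (.node (.node (.leaf 2531328) (.leaf 5620549)) (.leaf 8082165)) (.node (.node (.leaf 6602752) (.leaf 11224130)) (.leaf 8094453)))) (.node (.node (.node (.node (.leaf 1470464) (.leaf 10166703)) (.leaf 4137255)) (.node (.node (.leaf 5685248) (.leaf 11629040)) (.leaf 10641408))) (.node (.node (.node (.leaf 684536) (.leaf 9061691)) (.leaf 9089071)) (.node (.leaf 3760128) (.leaf 6436166))))) (.node (.node (.node (.node (.node (.leaf 933888) (.leaf 3067904)) (.leaf 8454144)) (.node (.node (.leaf 1020075) (.leaf 9031760)) (.leaf 4908336))) (.node (.node (.node (.leaf 3096576) (.leaf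 4956846)) (.leaf 9633792)) (.node (.leaf 5494193) (.leaf 6901803)))) (.node (.node (.node (.node (.leaf 2007040) (.leaf 3809692)) (.leaf 6324655)) (.node (.node (.leaf 3031544) (.leaf 11453668)) (.leaf 10780672))) (.node (.node (.node (.leaf 4116480) (.leaf 5653443)) (.leaf 10043392)) (.node (.leaf 7741440) (.leaf 2950448)))))))

def bigMvXc13 : Janko.Tree (ℕ) :=
  (.node (.node (.node (.node (.node (.node (.node (.leaf 139264) (.leaf 3043840)) (.leaf 2229282)) (.node (.node (.leaf 4395008) (.leaf 6194369)) (.leaf 8500192))) (.node (.node (.node (.leaf 2277376) (.leaf 9823476)) (.leaf 7451000)) (.node (.node (.leaf 5718813) (.leaf 7951517)) (.leaf 7267643)))) (.node (.node (.node (.node (.leaf 524493) (.leaf 4162328)) (.leaf 8654848)) (.node (.node (.leaf 5439488) (.leaf 11412213)) (.leaf 4359194))) (.node (.node (.node (.leaf 3354624) (.leaf 3162616)) (.leaf 6422648)) (.node (.leaf 5141686) (.leaf 10232647))))) (.node (.node (.node (.node (.node (.leaf 671744) (.leaf 5354177)) (.leaf 2211840)) (.node (.node (.leaf 4902912) (.leaf 9384728))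 (.leaf 1913540))) (.node (.node (.node (.leaf 2200309) (.leaf 7856886)) (.leaf 8434901)) (.node (.node (.leaf 1438200) (.leaf 9868375)) (.leaf 7570793)))) (.node (.node (.node (.node (.leaf 1581893) (.leaf 3454233)) (.leaf 7794827)) (.node (.node (.leaf 5943296) (.leaf 11834290)) (.leaf 1794048))) (.node (.node (.node (.leaf 1867776) (.leaf 11747328)) (.leaf 9961472)) (.node (.leaf 6950912) (.leaf 10429205)))))) (.node (.node (.node (.node (.node (.node (.leaf 409600) (.leaf 6227014)) (.leaf 1934640)) (.node (.node (.leaf 4657152) (.leaf 8273964)) (.leaf 8896717))) (.node (.node (.node (.leaf 2130091) (.leaf 5108867)) (.leaf 7586629)) (.node (.node (.leaf 4477231) (.leaf 10322586)) (.leaf 7996450)))) (.node (.node (.node (.node (.leaf 1478656) (.leaf 9007572)) (.leaf 1171456)) (.node (.node (.leaf 5689344) (.leaf 10151242)) (.leaf 10645504))) (.node (.node (.node (.leaf 401408) (.leaf 8717317)) (.leaf 3957493)) (.node (.leaf 3416821) (.leaf 7193010))))) (.node (.node (.node (.node (.node (.leaf 99362) (.leaf 8885183)) (.leaf 4620891))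 (.node (.node (.leaf 5083604) (.leaf 4022272)) (.leaf 8160021))) (.node (.node (.node (.leaf 3104768) (.leaf 11326669)) (.leaf 1351680)) (.node (.leaf 6991872) (.leaf 4900267)))) (.node (.node (.node (.node (.leaf 1090604) (.leaf 3732622)) (.leaf 7676075)) (.node (.node (.leaf 4927488) (.leaf 11575905)) (.leaf 10788864))) (.node (.node (.node (.leaf 4124672) (.leaf 11104256)) (.leaf 10051584)) (.node (.leaf 7753728) (.leaf 8012834)))))))

def bigMvXc14 : Janko.Tree (ℕ) :=
  (.node (.node (.node (.node (.node (.node (.node (.leaf 147456) (.leaf 2438057)) (.leaf 2642142)) (.node (.node (.leaf 4403200) (.leaf 10973688)) (.leaf 5182084))) (.node (.node (.node (.leaf 2293760) (.leaf 9036569)) (.leaf 5776578)) (.node (.node (.leaf 2827303) (.leaf 10609182)) (.leaf 10846208)))) (.node (.node (.node (.node (.leaf 479232) (.leaf 11456512)) (.leaf 1138688)) (.node (.node (.leaf 3359778) (.leaf 9166952)) (.leaf 9703803))) (.node (.node (.node (.leaf 880640) (.leaf 10031807)) (.leaf 9756672)) (.node (.leaf 7217152) (.leaf 10179399))))) (.node (.node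 (.node (.node (.node (.leaf 53248) (.leaf 10122008)) (.leaf 8306688)) (.node (.node (.leaf 2318456) (.leaf 11109109)) (.leaf 7410992))) (.node (.node (.node (.leaf 2854912) (.leaf 2867200)) (.leaf 2397397)) (.node (.node (.leaf 3245170) (.leaf 9528149)) (.leaf 9552409)))) (.node (.node (.node (.node (.leaf 1748992) (.leaf 11546624)) (.leaf 8361127)) (.node (.node (.leaf 2876450) (.leaf 11375547)) (.leaf 10715136))) (.node (.node (.node (.leaf 1721614) (.leaf 3260416)) (.leaf 7127574)) (.node (.leaf 7548928) (.leaf 8122368)))))) (.node (.node (.node (.node (.node (.node (.leaf 417792) (.leaf 8578053)) (.leaf 5156887)) (.node (.node (.leaf 4665344) (.leaf 9523200)) (.leaf 1568768))) (.node (.node (.node (.leaf 676898) (.leaf 9626822)) (.leaf 9379840)) (.node (.node (.leaf 6610944) (.leaf 10196310)) (.leaf 8561152)))) (.node (.node (.node (.node (.leaf 1486848) (.leaf 3216495)) (.leaf 8810496)) (.node (.node (.leaf 5697536) (.leaf 6276444)) (.leaf 9266303))) (.node (.node (.node (.leaf 2713009) (.leaf 8295848)) (.leaf 8815126)) (.node (.leaf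 3858796) (.leaf 9142594))))) (.node (.node (.node (.node (.node (.leaf 950272) (.leaf 3006584)) (.leaf 1101824)) (.node (.node (.leaf 1339392) (.leaf 9024736)) (.leaf 6866190))) (.node (.node (.node (.leaf 1779121) (.leaf 11084919)) (.leaf 9650176)) (.node (.leaf 3597197) (.leaf 3151152)))) (.node (.node (.node (.node (.leaf 2019328) (.leaf 7316295)) (.leaf 4362411)) (.node (.node (.leaf 3932627) (.leaf 5366810)) (.leaf 8917423))) (.node (.node (.node (.leaf 4132864) (.leaf 3366912)) (.leaf 10059776)) (.node (.leaf 2028892) (.leaf 5805216)))))))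

def bigMvXc15 : Janko.Tree (ℕ) :=
  (.node (.node (.node (.node (.node (.node (.node (.leaf 155648) (.leaf 10138104)) (.leaf 1007616)) (.node (.node (.leaf 4415488) (.leaf 3700098)) (.leaf 10190848))) (.node (.node (.node (.leaf 2301952) (.leaf 11260014)) (.leaf 2434077)) (.node (.node (.leaf 5595928) (.leaf 6829079)) (.leaf 5791744)))) (.node (.node (.node (.node (.leaf 1208320) (.leaf 6496256)) (.leaf 6570925)) (.node (.node (.leaf 4575989) (.leaf 9818159)) (.leaf 5153629))) (.node (.node (.node (.leaf 3371008) (.leaf 9773834)) (.leaf 4653455)) (.node (.leaf 7221248) (.leaf 5928240))))) (.node (.node (.node (.node (.node (.leaf 688128) (.leaf 4689920)) (.leaf 1418544)) (.node (.node (.leaf 565248) (.leaf 9072845)) (.leaf 5190960))) (.node (.node (.node (.leaf 2863104) (.leaf 11150429)) (.leaf 3867889)) (.node (.node (.leaf 6807552) (.leaf 11711024)) (.leaf 7581696)))) (.node (.node (.node (.node (.leaf 1757184) (.leaf 9388718)) (.leaf 8941568)) (.node (.node (.leaf 5959680) (.leaf 10871656)) (.leaf 5046494))) (.node (.node (.node (.leaf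 3887104) (.leaf 9687733)) (.leaf 9973760)) (.node (.leaf 4551413) (.leaf 2995526)))))) (.node (.node (.node (.node (.node (.node (.leaf 430080) (.leaf 8582149)) (.leaf 1032192)) (.node (.node (.leaf 4669440) (.leaf 6624153)) (.leaf 8504163))) (.node (.node (.node (.leaf 282624) (.leaf 11633934)) (.leaf 8982558)) (.node (.node (.leaf 6615040) (.leaf 11244431)) (.leaf 10911744)))) (.node (.node (.node (.node (.leaf 1499136) (.leaf 3781554)) (.leaf 5657537)) (.node (.node (.leaf 2490368) (.leaf 5973296)) (.leaf 10649600))) (.node (.node (.node (.leaf 405504) (.leaf 8787343)) (.leaf 1736704)) (.node (.leaf 7417856) (.leaf 6988032))))) (.node (.node (.node (.node (.node (.leaf 954368) (.leaf 10187328)) (.leaf 8474624)) (.node (.node (.leaf 1422370) (.leaf 10654656)) (.leaf 1658880))) (.node (.node (.node (.leaf 3112960) (.leaf 11350233)) (.leaf 8627394)) (.node (.leaf 7000064) (.leaf 7824732)))) (.node (.node (.node (.node (.leaf 1098796) (.leaf 6398072)) (.leaf 1549423)) (.node (.node (.leaf 745984) (.leaf 7648069)) (.leaf 1835008))) (.node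 (.node (.node (.leaf 4141056) (.leaf 11767808)) (.leaf 1503232)) (.node (.leaf 974848) (.leaf 6468815)))))))

def bigMvXc16 : Janko.Tree (ℕ) :=
  (.node (.node (.node (.node (.node (.node (.node (.leaf 30000) (.leaf 7816113)) (.leaf 7028821)) (.node (.node (.leaf 4423680) (.leaf 10555826)) (.leaf 9654799))) (.node (.node (.node (.leaf 2314240) (.leaf 11608064)) (.leaf 9232384)) (.node (.node (.leaf 6377472) (.leaf 8819346)) (.leaf 7274496)))) (.node (.node (.node (.node (.leaf 590669) (.leaf 9397063)) (.leaf 4092692)) (.node (.node (.leaf 4522279) (.leaf 4846896)) (.leaf 10559488))) (.node (.node (.node (.leaf 3383296) (.leaf 3552141)) (.leaf 9768960)) (.node (.leaf 5419432) (.leaf 8766490))))) (.node (.node (.node (.node (.node (.leaf 328709) (.leaf 10265942)) (.leaf 1299883)) (.node (.node (.leaf 4935680) (.leaf 11625508)) (.leaf 9831458))) (.node (.node (.node (.leaf 2871296) (.leaf 9765228)) (.leaf 8556812)) (.node (.node (.leaf 6819840) (.leaf 11863163)) (.leaf 6131822)))) (.node (.node (.node (.node (.leaf 1765376) (.leaf 9281536))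 (.leaf 8783152)) (.node (.node (.leaf 4514549) (.leaf 11014175)) (.leaf 10723328))) (.node (.node (.node (.leaf 3903488) (.leaf 7492519)) (.leaf 4281279)) (.node (.leaf 5992448) (.leaf 3764527)))))) (.node (.node (.node (.node (.node (.node (.leaf 168693) (.leaf 11317248)) (.leaf 8101888)) (.node (.node (.leaf 4677632) (.leaf 11669548)) (.leaf 9581699))) (.node (.node (.node (.leaf 2572288) (.leaf 2801664)) (.leaf 6652962)) (.node (.node (.leaf 3343245) (.leaf 9958773)) (.leaf 9659125)))) (.node (.node (.node (.node (.leaf 1507328) (.leaf 6103748)) (.leaf 2909372)) (.node (.node (.leaf 5713920) (.leaf 11763843)) (.leaf 6115876))) (.node (.node (.node (.leaf 3608576) (.leaf 8827384)) (.leaf 7594821)) (.node (.leaf 7426048) (.leaf 6185646))))) (.node (.node (.node (.node (.node (.leaf 119842) (.leaf 9458273)) (.leaf 8482816)) (.node (.node (.leaf 5206016) (.leaf 7626752)) (.leaf 5673456))) (.node (.node (.node (.leaf 3117056) (.leaf 11334869)) (.leaf 2859701)) (.node (.leaf 7008256) (.leaf 8164478)))) (.node (.node (.node (.node (.leaf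 2031616) (.leaf 7659710)) (.leaf 8479937)) (.node (.node (.leaf 6164480) (.leaf 10903552)) (.leaf 10797056))) (.node (.node (.node (.leaf 4145152) (.leaf 8238114)) (.leaf 10072064)) (.node (.leaf 6333142) (.leaf 8893600)))))))

def bigMvXc17 : Janko.Tree (ℕ) :=
  (.node (.node (.node (.node (.node (.node (.node (.leaf 8192) (.leaf 8512000)) (.leaf 2179072)) (.node (.node (.leaf 1069845) (.leaf 10453953)) (.leaf 9667357))) (.node (.node (.node (.leaf 467741) (.leaf 7656463)) (.leaf 2654208)) (.node (.node (.leaf 6385664) (.leaf 5882569)) (.leaf 3334901)))) (.node (.node (.node (.node (.leaf 1220608) (.leaf 6206490)) (.leaf 1142784)) (.node (.node (.leaf 626688) (.leaf 6042972)) (.leaf 10567680))) (.node (.node (.node (.leaf 3391488) (.leaf 10534942)) (.leaf 8115028)) (.node (.leaf 3998754) (.leaf 4564002))))) (.node (.node (.node (.node (.node (.leaf 700416) (.leaf 10134772)) (.leaf 8323072)) (.node (.node (.leaf 4943872) (.leaf 3776512)) (.leaf 8950473))) (.node (.node (.node (.leaf 1257472) (.leaf 7672343)) (.leaf 9531392)) (.node (.node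 (.leaf 3318167) (.leaf 11866120)) (.leaf 5833116)))) (.node (.node (.node (.node (.leaf 435441) (.leaf 6718277)) (.leaf 8953856)) (.node (.node (.leaf 3154040) (.leaf 5694122)) (.leaf 6635725))) (.node (.node (.node (.leaf 3911680) (.leaf 9278232)) (.leaf 6099853)) (.node (.leaf 7561216) (.leaf 9425696)))))) (.node (.node (.node (.node (.node (.node (.leaf 438272) (.leaf 11321344)) (.leaf 8105984)) (.node (.node (.leaf 2371584) (.leaf 4763733)) (.leaf 5054464))) (.node (.node (.node (.leaf 2580480) (.leaf 7734576)) (.leaf 2625758)) (.node (.node (.leaf 6627328) (.leaf 11801111)) (.leaf 10604544)))) (.node (.node (.node (.node (.leaf 1511424) (.leaf 11269313)) (.leaf 8822784)) (.node (.node (.leaf 2560000) (.leaf 4554752)) (.leaf 1769472))) (.node (.node (.node (.leaf 3616768) (.leaf 11428115)) (.leaf 4215473)) (.node (.leaf 6394220) (.leaf 3093272))))) (.node (.node (.node (.node (.node (.leaf 962560) (.leaf 7377925)) (.leaf 7619728)) (.node (.node (.leaf 1355776) (.leaf 10949336)) (.leaf 2195456))) (.node (.node (.node (.leaf 3125248)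 (.leaf 8586027)) (.leaf 6869371)) (.node (.leaf 7016448) (.leaf 8688455)))) (.node (.node (.node (.node (.leaf 2048000) (.leaf 3323173)) (.leaf 7709533)) (.node (.node (.leaf 3133944) (.leaf 11821577)) (.leaf 3850240))) (.node (.node (.node (.leaf 4157440) (.leaf 10806576)) (.leaf 10076160)) (.node (.leaf 2466860) (.leaf 5414912)))))))

def bigMvXc18 : Janko.Tree (ℕ) :=
  (.node (.node (.node (.node (.node (.node (.node (.leaf 188416) (.leaf 5546206)) (.leaf 7459884)) (.node (.node (.leaf 499712) (.leaf 5604014)) (.leaf 3055616))) (.node (.node (.node (.leaf 1123541) (.leaf 8638596)) (.leaf 1323512)) (.node (.node (.leaf 5174693) (.leaf 11555180)) (.leaf 2543648)))) (.node (.node (.node (.node (.leaf 1232896) (.leaf 7693346)) (.leaf 6464239)) (.node (.node (.leaf 5459968) (.leaf 11173969)) (.leaf 7230606))) (.node (.node (.node (.leaf 3399680) (.leaf 4649989)) (.leaf 2941986)) (.node (.leaf 876544) (.leaf 9597580))))) (.node (.node (.node (.node (.node (.leaf 336901) (.leaf 11088628)) (.leaf 4509696)) (.node (.node (.leaf 2597530) (.leaf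 6919173)) (.leaf 9409570))) (.node (.node (.node (.leaf 303104) (.leaf 9274499)) (.leaf 9539584)) (.node (.node (.leaf 6832128) (.leaf 11871031)) (.leaf 2535595)))) (.node (.node (.node (.node (.leaf 184320) (.leaf 5374458)) (.leaf 3268608)) (.node (.node (.leaf 5980160) (.leaf 6448504)) (.leaf 8835192))) (.node (.node (.node (.leaf 2965504) (.leaf 11743232)) (.leaf 9134872)) (.node (.leaf 7565312) (.leaf 11169792)))))) (.node (.node (.node (.node (.node (.node (.leaf 312354) (.leaf 6681639)) (.leaf 2004316)) (.node (.node (.leaf 532480) (.leaf 11657761)) (.leaf 10252288))) (.node (.node (.node (.leaf 2584576) (.leaf 5767288)) (.leaf 7324706)) (.node (.node (.leaf 6639616) (.leaf 11740286)) (.leaf 3879970)))) (.node (.node (.node (.node (.leaf 1519616) (.leaf 10481714)) (.leaf 4850168)) (.node (.node (.leaf 5730304) (.leaf 5013547)) (.leaf 10661888))) (.node (.node (.node (.leaf 718037) (.leaf 10965191)) (.leaf 8303349)) (.node (.leaf 7430144) (.leaf 5403054))))) (.node (.node (.node (.node (.node (.leaf 536598) (.leaf 7136261)) (.leaf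 8491008)) (.node (.node (.leaf 5226496) (.leaf 10953851)) (.leaf 10461184))) (.node (.node (.node (.leaf 757830) (.leaf 9856433)) (.leaf 8053058)) (.node (.leaf 7024640) (.leaf 8966264)))) (.node (.node (.node (.node (.leaf 2056192) (.leaf 10989758)) (.leaf 2768896)) (.node (.node (.leaf 6180864) (.leaf 6767867)) (.leaf 6161258))) (.node (.node (.node (.leaf 4165632) (.leaf 5879088)) (.leaf 10084352)) (.node (.leaf 7786496) (.leaf 7118968)))))))

def bigMvXc19 : Janko.Tree (ℕ) :=
  (.node (.node (.node (.node (.node (.node (.node (.leaf 196608) (.leaf 6518034)) (.leaf 2191360)) (.node (.node (.leaf 4452352) (.leaf 4051247)) (.leaf 4882432))) (.node (.node (.node (.leaf 2326528) (.leaf 9761529)) (.leaf 3916834)) (.node (.node (.leaf 6410240) (.leaf 9736226)) (.leaf 9401720)))) (.node (.node (.node (.node (.leaf 1241088) (.leaf 10335266)) (.leaf 2428928)) (.node (.node (.leaf 5468160) (.leaf 8930464)) (.leaf 9700014))) (.node (.node (.node (.leaf 3403776) (.leaf 8098326)) (.leaf 6521669)) (.node (.leaf 4272885) (.leaf 7143949))))) (.node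 (.node (.node (.node (.node (.leaf 712704) (.leaf 3891319)) (.leaf 2666496)) (.node (.node (.leaf 4964352) (.leaf 5754880)) (.leaf 10403840))) (.node (.node (.node (.leaf 2895872) (.leaf 8699904)) (.leaf 4350174)) (.node (.node (.leaf 6844416) (.leaf 11682334)) (.leaf 6078736)))) (.node (.node (.node (.node (.leaf 1798144) (.leaf 3687618)) (.leaf 2040600)) (.node (.node (.leaf 2552866) (.leaf 6014095)) (.leaf 9253546))) (.node (.node (.node (.leaf 3928064) (.leaf 10469844)) (.leaf 6369485)) (.node (.leaf 1995810) (.leaf 8745646)))))) (.node (.node (.node (.node (.node (.node (.leaf 458752) (.leaf 5378552)) (.leaf 1036288)) (.node (.node (.leaf 4702208) (.leaf 5481905)) (.leaf 10305536))) (.node (.node (.node (.leaf 2592768) (.leaf 9646903)) (.leaf 8381173)) (.node (.node (.leaf 6643712) (.leaf 11391086)) (.leaf 5984256)))) (.node (.node (.node (.node (.leaf 799911) (.leaf 5615686)) (.leaf 8830976)) (.node (.node (.leaf 5742592) (.leaf 11694880)) (.leaf 5533696))) (.node (.node (.node (.leaf 3637248) (.leaf 5161604)) (.leaf 6283384)) (.node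 (.leaf 7434240) (.leaf 5447727))))) (.node (.node (.node (.node (.node (.leaf 90112) (.leaf 3469677)) (.leaf 6415435)) (.node (.node (.leaf 5242880) (.leaf 7505249)) (.leaf 10465280))) (.node (.node (.node (.leaf 344064) (.leaf 8229490)) (.leaf 5214208)) (.node (.leaf 3514775) (.leaf 11063296)))) (.node (.node (.node (.node (.leaf 2068480) (.leaf 8921592)) (.leaf 3338997)) (.node (.node (.leaf 6189056) (.leaf 11481096)) (.leaf 6648858))) (.node (.node (.node (.leaf 4169728) (.leaf 10928965)) (.leaf 10088448)) (.node (.leaf 4121948) (.leaf 5739651)))))))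

def bigMvXc20 : Janko.Tree (ℕ) :=
  (.node (.node (.node (.node (.node (.node (.node (.leaf 66293) (.leaf 7331959)) (.leaf 7974912)) (.node (.node (.leaf 4464640) (.leaf 3908080)) (.leaf 10203136))) (.node (.node (.node (.leaf 2334720) (.leaf 7348985)) (.leaf 1803458)) (.node (.node (.leaf 741376) (.leaf 8118767)) (.leaf 5665826)))) (.node (.node (.node (.node (.leaf 1253376) (.leaf 10093710)) (.leaf 2376184)) (.node (.node (.leaf 1126904) (.leaf 10719757)) (.leaf 9367552))) (.node (.node (.node (.leaf 380928) (.leaf 8622227)) (.leaf 7885452)) (.node (.leaf 7262208) (.leaf 4748721))))) (.node (.node (.node (.node (.node (.leaf 729088) (.leaf 8520365)) (.leaf 2450626)) (.node (.node (.leaf 4976640) (.leaf 3825664)) (.leaf 8340253))) (.node (.node (.node (.leaf 1327499) (.leaf 11006634)) (.leaf 5484544)) (.node (.node (.leaf 6848512) (.leaf 10495406)) (.leaf 10809596)))) (.node (.node (.node (.node (.leaf 1810432) (.leaf 4739576)) (.leaf 3272704)) (.node (.node (.leaf 5988352) (.leaf 11837664)) (.leaf 4436412))) (.node (.node (.node (.leaf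 3413026) (.leaf 9040991)) (.leaf 9977856)) (.node (.leaf 942080) (.leaf 9929318)))))) (.node (.node (.node (.node (.node (.node (.leaf 462848) (.leaf 3494110)) (.leaf 1761591)) (.node (.node (.leaf 4710400) (.leaf 11400007)) (.leaf 10309632))) (.node (.node (.node (.leaf 2600960) (.leaf 11343042)) (.leaf 6619906)) (.node (.node (.leaf 1295394) (.leaf 6459392)) (.leaf 3716130)))) (.node (.node (.node (.node (.leaf 151552) (.leaf 6476713)) (.leaf 4993983)) (.node (.node (.leaf 5750784) (.leaf 9994800)) (.leaf 2794511))) (.node (.node (.node (.leaf 3645440) (.leaf 6402048)) (.leaf 4412471)) (.node (.leaf 7442432) (.leaf 4481794))))) (.node (.node (.node (.node (.node (.leaf 991232) (.leaf 7075074)) (.leaf 5247480)) (.node (.node (.leaf 5255168) (.leaf 5288206)) (.leaf 9020278))) (.node (.node (.node (.leaf 3158016) (.leaf 8926093)) (.leaf 7876689)) (.node (.leaf 7036928) (.leaf 4637565)))) (.node (.node (.node (.node (.leaf 2072576) (.leaf 7291938)) (.leaf 5509120)) (.node (.node (.leaf 6197248) (.leaf 10302559)) (.leaf 9236670))) (.node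 (.node (.node (.leaf 4177920) (.leaf 10437830)) (.leaf 8299868)) (.node (.leaf 983040) (.leaf 7148588)))))))

def bigMvXc21 : Janko.Tree (ℕ) :=
  (.node (.node (.node (.node (.node (.node (.node (.leaf 204800) (.leaf 10035712)) (.leaf 7983104)) (.node (.node (.leaf 2613248) (.leaf 3728526)) (.leaf 5230712))) (.node (.node (.node (.leaf 2342912) (.leaf 7053312)) (.leaf 2183168)) (.node (.node (.leaf 4674403) (.leaf 11293184)) (.leaf 5566859)))) (.node (.node (.node (.node (.leaf 491520) (.leaf 7495680)) (.leaf 1524216)) (.node (.node (.leaf 630784) (.leaf 9510915)) (.leaf 7971874))) (.node (.node (.node (.leaf 3424256) (.leaf 6362454)) (.leaf 7282688)) (.node (.leaf 7270400) (.leaf 9671924))))) (.node (.node (.node (.node (.node (.leaf 737280) (.leaf 4129525)) (.leaf 4875568)) (.node (.node (.leaf 4988928) (.leaf 6599719)) (.leaf 3682509))) (.node (.node (.node (.leaf 2912256) (.leaf 9684344)) (.leaf 7729885)) (.node (.node (.leaf 6856704) (.leaf 11563631)) (.leaf 5582995)))) (.node (.node (.node (.node (.leaf 1676558) (.leaf 6800817))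 (.leaf 1204224)) (.node (.node (.leaf 3012017) (.leaf 9942229)) (.leaf 10547849))) (.node (.node (.node (.leaf 1594402) (.leaf 3276800)) (.leaf 9986048)) (.node (.leaf 1856782) (.leaf 2174976)))))) (.node (.node (.node (.node (.node (.node (.leaf 471040) (.leaf 8606948)) (.leaf 2957445)) (.node (.node (.leaf 2383872) (.leaf 9466815)) (.leaf 4469493))) (.node (.node (.node (.leaf 2215936) (.leaf 6439049)) (.leaf 1717518)) (.node (.node (.leaf 4308992) (.leaf 11902976)) (.leaf 9863168)))) (.node (.node (.node (.node (.leaf 1552384) (.leaf 6382719)) (.leaf 7767284)) (.node (.node (.leaf 3875725) (.leaf 10068912)) (.leaf 9175290))) (.node (.node (.node (.leaf 3653632) (.leaf 9577713)) (.leaf 3989504)) (.node (.leaf 7446528) (.leaf 3523888))))) (.node (.node (.node (.node (.node (.leaf 274432) (.leaf 5133456)) (.leaf 1573963)) (.node (.node (.leaf 5263360) (.leaf 9093419)) (.leaf 10477568))) (.node (.node (.node (.leaf 3166208) (.leaf 11081052)) (.leaf 9674752)) (.node (.leaf 1496277) (.leaf 2043904)))) (.node (.node (.node (.node (.leaf 1004757)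 (.leaf 5649652)) (.leaf 7398434)) (.node (.node (.leaf 5235986) (.leaf 8405178)) (.leaf 10813440))) (.node (.node (.node (.leaf 2106738) (.leaf 10531127)) (.leaf 6247309)) (.node (.leaf 5386948) (.leaf 8758576)))))))

def bigMvXc22 : Janko.Tree (ℕ) :=
  (.node (.node (.node (.node (.node (.node (.node (.leaf 217088) (.leaf 3375421)) (.leaf 7991296)) (.node (.node (.leaf 4485120) (.leaf 5522094)) (.leaf 10207232))) (.node (.node (.node (.leaf 2347008) (.leaf 11297036)) (.leaf 2831554)) (.node (.node (.leaf 6430720) (.leaf 7295944)) (.leaf 2838892)))) (.node (.node (.node (.node (.leaf 1265664) (.leaf 10211348)) (.leaf 2441216)) (.node (.node (.leaf 4407791) (.leaf 10863274)) (.leaf 5137307))) (.node (.node (.node (.leaf 3432448) (.leaf 3108864)) (.leaf 4870852)) (.node (.leaf 7278592) (.leaf 7422634))))) (.node (.node (.node (.node (.node (.leaf 749568) (.leaf 4781061)) (.leaf 8347648)) (.node (.node (.leaf 5001216) (.leaf 8851968)) (.leaf 1626112))) (.node (.node (.node (.leaf 2916352) (.leaf 2904064)) (.leaf 1544312)) (.node (.node (.leaf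 6860800) (.leaf 11886600)) (.leaf 5076002)))) (.node (.node (.node (.node (.leaf 1830912) (.leaf 3674232)) (.leaf 8205230)) (.node (.node (.leaf 693681) (.leaf 6971614)) (.leaf 5681671))) (.node (.node (.node (.leaf 3948544) (.leaf 10937211)) (.leaf 7861509)) (.node (.leaf 7598080) (.leaf 7967951)))))) (.node (.node (.node (.node (.node (.node (.leaf 50210) (.leaf 11329536)) (.leaf 1040384)) (.node (.node (.leaf 4718592) (.leaf 10752143)) (.leaf 10317824))) (.node (.node (.node (.leaf 2617344) (.leaf 8770244)) (.leaf 4268869)) (.node (.node (.leaf 6660096) (.leaf 10617590)) (.leaf 4338516)))) (.node (.node (.node (.node (.leaf 1560576) (.leaf 9110038)) (.leaf 3081347)) (.node (.node (.leaf 4506357) (.leaf 11232484)) (.leaf 9347236))) (.node (.node (.node (.leaf 3670016) (.leaf 6418432)) (.leaf 1908736)) (.node (.leaf 7454720) (.leaf 7930290))))) (.node (.node (.node (.node (.node (.leaf 132130) (.leaf 11272505)) (.leaf 1105920)) (.node (.node (.leaf 5271552) (.leaf 5006511)) (.leaf 10485760))) (.node (.node (.node (.leaf 1664167) (.leaf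 2998272)) (.leaf 2753198)) (.node (.leaf 7049216) (.leaf 5034488)))) (.node (.node (.node (.node (.leaf 2084864) (.leaf 11116942)) (.leaf 9122326)) (.node (.node (.leaf 3626417) (.leaf 11493426)) (.leaf 10817536))) (.node (.node (.node (.leaf 475136) (.leaf 7525152)) (.leaf 9535883)) (.node (.leaf 7798784) (.leaf 2220032)))))))

def bigMvXc23 : Janko.Tree (ℕ) :=
  (.node (.node (.node (.node (.node (.node (.node (.leaf 225280) (.leaf 5828881)) (.leaf 7999488)) (.node (.node (.leaf 3749168) (.leaf 9212696)) (.leaf 9102757))) (.node (.node (.node (.leaf 2351104) (.leaf 2744320)) (.leaf 9256960)) (.node (.node (.leaf 6296344) (.leaf 11448816)) (.leaf 7545890)))) (.node (.node (.node (.node (.leaf 1282048) (.leaf 5641564)) (.leaf 8442432)) (.node (.node (.leaf 5500928) (.leaf 8221324)) (.leaf 7254698))) (.node (.node (.node (.leaf 734434) (.leaf 8495760)) (.leaf 9777152)) (.node (.leaf 4444717) (.leaf 7480354))))) (.node (.node (.node (.node (.node (.leaf 753664) (.leaf 5071618)) (.leaf 1951024)) (.node (.node (.leaf 5009408) (.leaf 3833856))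 (.leaf 6701826))) (.node (.node (.node (.leaf 2815010) (.leaf 11490535)) (.leaf 5726742)) (.node (.node (.leaf 3503302) (.leaf 11858707)) (.leaf 5170395)))) (.node (.node (.node (.node (.leaf 1839104) (.leaf 8705066)) (.leaf 8986624)) (.node (.node (.leaf 6000640) (.leaf 8672250)) (.leaf 10735616))) (.node (.node (.node (.leaf 1893410) (.leaf 5116554)) (.leaf 3895296)) (.node (.leaf 7606272) (.leaf 10408432)))))) (.node (.node (.node (.node (.node (.node (.leaf 36864) (.leaf 10626273)) (.leaf 7914893)) (.node (.node (.leaf 4722688) (.leaf 6083246)) (.leaf 7636187))) (.node (.node (.node (.leaf 2629632) (.leaf 10659120)) (.leaf 1306624)) (.node (.node (.leaf 6668288) (.leaf 6817038)) (.leaf 1957888)))) (.node (.node (.node (.node (.leaf 1483781) (.leaf 6697717)) (.leaf 4796416)) (.node (.node (.leaf 1376256) (.leaf 11702474)) (.leaf 7042152))) (.node (.node (.node (.leaf 3678208) (.leaf 6595357)) (.leaf 3740706)) (.node (.leaf 7462912) (.leaf 4326228))))) (.node (.node (.node (.node (.node (.leaf 1011712) (.leaf 8877061)) (.leaf 8515584))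 (.node (.node (.leaf 606208) (.leaf 6853112)) (.leaf 6893568))) (.node (.node (.node (.leaf 3186688) (.leaf 9638269)) (.leaf 3203780)) (.node (.leaf 7061504) (.leaf 6217848)))) (.node (.node (.node (.node (.leaf 2093056) (.leaf 3863859)) (.leaf 3564578)) (.node (.node (.leaf 6213632) (.leaf 11423794)) (.leaf 4083742))) (.node (.node (.node (.leaf 4210688) (.leaf 9052562)) (.leaf 6685430)) (.node (.leaf 4433022) (.leaf 11206656)))))))

def bigMvXc24 : Janko.Tree (ℕ) :=
  (.node (.node (.node (.node (.node (.node (.node (.leaf 237568) (.leaf 9561332)) (.leaf 5411653)) (.node (.node (.leaf 3428352) (.leaf 10822144)) (.leaf 5555441))) (.node (.node (.node (.leaf 2359296) (.leaf 8544837)) (.leaf 2331128)) (.node (.node (.leaf 1688002) (.leaf 5772558)) (.leaf 2306320)))) (.node (.node (.node (.node (.leaf 1290240) (.leaf 3536065)) (.leaf 4695326)) (.node (.node (.leaf 2241637) (.leaf 10424320)) (.leaf 10579968))) (.node (.node (.node (.leaf 3444736) (.leaf 7828248)) (.leaf 6201344)) (.node (.leaf 4986050) (.leaf 7963918))))) (.node (.node (.node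 (.node (.node (.leaf 143936) (.leaf 4448790)) (.leaf 8355840)) (.node (.node (.leaf 5017600) (.leaf 5198882)) (.leaf 2675746))) (.node (.node (.node (.leaf 1213474) (.leaf 5022586)) (.leaf 6881814)) (.node (.node (.leaf 6873088) (.leaf 11919360)) (.leaf 9839349)))) (.node (.node (.node (.node (.leaf 1851392) (.leaf 10023280)) (.leaf 4076578)) (.node (.node (.leaf 3457528) (.leaf 9146685)) (.leaf 9622726))) (.node (.node (.node (.leaf 3964928) (.leaf 11567641)) (.leaf 1466368)) (.node (.leaf 1987835) (.leaf 5120678)))))) (.node (.node (.node (.node (.node (.node (.leaf 503808) (.leaf 11219960)) (.leaf 5363115)) (.node (.node (.leaf 2703864) (.leaf 8856064)) (.leaf 3707399))) (.node (.node (.node (.leaf 2637824) (.leaf 10048643)) (.leaf 6550752)) (.node (.node (.leaf 5178236) (.leaf 8352001)) (.leaf 9507430)))) (.node (.node (.node (.node (.leaf 259077) (.leaf 5709824)) (.leaf 5505633)) (.node (.node (.leaf 5787648) (.leaf 11239432)) (.leaf 9519104))) (.node (.node (.node (.leaf 3690496) (.leaf 3190784)) (.leaf 9871360)) (.node (.leaf 7467008)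 (.leaf 3962160))))) (.node (.node (.node (.node (.node (.leaf 286720) (.leaf 7803637)) (.leaf 5559729)) (.node (.node (.leaf 5292032) (.leaf 11600278)) (.leaf 1671168))) (.node (.node (.node (.leaf 3194880) (.leaf 6264052)) (.leaf 9691136)) (.node (.leaf 7065600) (.leaf 5038584)))) (.node (.node (.node (.node (.leaf 2101248) (.leaf 11248484)) (.leaf 2138949)) (.node (.node (.leaf 6221824) (.leaf 10449970)) (.leaf 9105527))) (.node (.node (.node (.leaf 4218880) (.leaf 10552590)) (.leaf 5452931)) (.node (.leaf 7806976) (.leaf 11210752)))))))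

def bigMvXc25 : Janko.Tree (ℕ) :=
  (.node (.node (.node (.node (.node (.node (.node (.leaf 245760) (.leaf 10241099)) (.leaf 8003584)) (.node (.node (.leaf 890160) (.leaf 8487568)) (.leaf 1885069))) (.node (.node (.node (.leaf 2367488) (.leaf 3921137)) (.leaf 5443806)) (.node (.node (.leaf 5029888) (.leaf 10772600)) (.leaf 5129037)))) (.node (.node (.node (.node (.leaf 1302528) (.leaf 8270014)) (.leaf 6168576)) (.node (.node (.leaf 634880) (.leaf 7722332)) (.leaf 10584064))) (.node (.node (.node (.leaf 3448832) (.leaf 10064717)) (.leaf 1388544)) (.node (.leaf 5252400) (.leaf 6562644))))) (.node (.node (.node (.node (.node (.leaf 761856) (.leaf 5963966)) (.leaf 5313570)) (.node (.node (.leaf 5025792) (.leaf 11804672)) (.leaf 8015872))) (.node (.node (.node (.leaf 315392) (.leaf 9150922)) (.leaf 9330758)) (.node (.node (.leaf 6877184) (.leaf 11874886)) (.leaf 7681294)))) (.node (.node (.node (.node (.leaf 1363968) (.leaf 10510700)) (.leaf 7414978)) (.node (.node (.leaf 4744405) (.leaf 8609962)) (.leaf 6508544))) (.node (.node (.node (.leaf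 2850816) (.leaf 7226685)) (.leaf 7881393)) (.node (.leaf 946176) (.leaf 9807129)))))) (.node (.node (.node (.node (.node (.node (.leaf 512000) (.leaf 6210755)) (.leaf 5837652)) (.node (.node (.leaf 2621944) (.leaf 8110293)) (.leaf 1589248))) (.node (.node (.node (.leaf 2646016) (.leaf 11587773)) (.leaf 2736128)) (.node (.node (.leaf 4773168) (.leaf 9543902)) (.leaf 4042752)))) (.node (.node (.node (.node (.leaf 1576960) (.leaf 8667179)) (.leaf 4953316)) (.node (.node (.leaf 925696) (.leaf 11826463)) (.leaf 8910037))) (.node (.node (.node (.leaf 3694592) (.leaf 10199889)) (.leaf 9875456)) (.node (.leaf 7471104) (.leaf 10395902))))) (.node (.node (.node (.node (.node (.leaf 1028096) (.leaf 7151806)) (.leaf 4833280)) (.node (.node (.leaf 1380352) (.leaf 10925417)) (.leaf 9118120))) (.node (.node (.node (.leaf 3207168) (.leaf 11026772)) (.leaf 9695232)) (.node (.leaf 7077888) (.leaf 11075584)))) (.node (.node (.node (.node (.leaf 2109440) (.leaf 3347490)) (.leaf 2818048)) (.node (.node (.leaf 720896) (.leaf 7206107)) (.leaf 9716671))) (.node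 (.node (.node (.leaf 4227072) (.leaf 5428528)) (.leaf 8209173)) (.node (.leaf 5058680) (.leaf 7832795)))))))

def bigMvXc26 : Janko.Tree (ℕ) :=
  (.node (.node (.node (.node (.node (.node (.node (.leaf 253952) (.leaf 9298383)) (.leaf 2053142)) (.node (.node (.leaf 4517888) (.leaf 11780096)) (.leaf 6898456))) (.node (.node (.node (.leaf 2379776) (.leaf 10416350)) (.leaf 1273856)) (.node (.node (.leaf 3085317) (.leaf 11060363)) (.leaf 1896448)))) (.node (.node (.node (.node (.leaf 1310720) (.leaf 11476992)) (.leaf 2445824)) (.node (.node (.leaf 5529600) (.leaf 8979339)) (.leaf 8549106))) (.node (.node (.node (.leaf 414533) (.leaf 8401650)) (.leaf 8311541)) (.node (.leaf 7299072) (.leaf 7782512))))) (.node (.node (.node (.node (.node (.leaf 369790) (.leaf 11403264)) (.leaf 4244514)) (.node (.node (.leaf 2023563) (.leaf 10792960)) (.leaf 10412032))) (.node (.node (.node (.leaf 2204405) (.leaf 9909356)) (.leaf 9478905)) (.node (.node (.leaf 1773733) (.leaf 11789046)) (.leaf 6350015)))) (.node (.node (.node (.node (.leaf 1875968) (.leaf 9204338))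 (.leaf 3936256)) (.node (.node (.leaf 3478008) (.leaf 11367191)) (.leaf 1814528))) (.node (.node (.node (.leaf 3985408) (.leaf 7623868)) (.leaf 9801903)) (.node (.leaf 7639040) (.leaf 8332569)))))) (.node (.node (.node (.node (.node (.node (.leaf 447522) (.leaf 2810538)) (.leaf 2037052)) (.node (.node (.leaf 544768) (.leaf 7942669)) (.leaf 6530318))) (.node (.node (.node (.leaf 507904) (.leaf 5795840)) (.leaf 7087317)) (.node (.node (.leaf 6688768) (.leaf 8148212)) (.leaf 9138933)))) (.node (.node (.node (.node (.leaf 1585152) (.leaf 6136239)) (.leaf 6005270)) (.node (.node (.leaf 2925146) (.leaf 9568907)) (.leaf 10674176))) (.node (.node (.node (.leaf 1617920) (.leaf 11722862)) (.leaf 9879552)) (.node (.leaf 6886028) (.leaf 2889008))))) (.node (.node (.node (.node (.node (.leaf 1044480) (.leaf 8241533)) (.leaf 8540160)) (.node (.node (.leaf 5304320) (.leaf 11612697)) (.leaf 9228664))) (.node (.node (.node (.leaf 3219456) (.leaf 11662722)) (.leaf 5333674)) (.node (.leaf 3579904) (.leaf 3035206)))) (.node (.node (.node (.node (.leaf 2125824)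 (.leaf 6931726)) (.leaf 5300981)) (.node (.node (.leaf 6238208) (.leaf 8872849)) (.leaf 7356780))) (.node (.node (.node (.leaf 4235264) (.leaf 8414401)) (.leaf 10100736)) (.node (.leaf 7819264) (.leaf 8365284)))))))

def bigMvXc27 : Janko.Tree (ℕ) :=
  (.node (.node (.node (.node (.node (.node (.node (.leaf 262144) (.leaf 9991199)) (.leaf 1224875)) (.node (.node (.leaf 2658304) (.leaf 9998336)) (.leaf 10227712))) (.node (.node (.node (.leaf 2387968) (.leaf 6300173)) (.leaf 9269248)) (.node (.node (.leaf 4948173) (.leaf 10285072)) (.leaf 4059997)))) (.node (.node (.node (.node (.leaf 1318912) (.leaf 10315006)) (.leaf 8708096)) (.node (.node (.leaf 5317112) (.leaf 5612206)) (.leaf 5407612))) (.node (.node (.node (.leaf 3461120) (.leaf 8573134)) (.leaf 8179876)) (.node (.leaf 7307264) (.leaf 3527714))))) (.node (.node (.node (.node (.node (.leaf 774144) (.leaf 4543221)) (.leaf 8368128)) (.node (.node (.leaf 573440) (.leaf 11166103)) (.leaf 3289088))) (.node (.node (.node (.leaf 2961408) (.leaf 9811214)) (.leaf 5202125)) (.node (.node (.leaf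 6889472) (.leaf 11908101)) (.leaf 4784916)))) (.node (.node (.node (.node (.leaf 1713422) (.leaf 9246072)) (.leaf 1336513)) (.node (.node (.leaf 6033408) (.leaf 11358212)) (.leaf 10743808))) (.node (.node (.node (.leaf 1623074) (.leaf 7210203)) (.leaf 5223044)) (.node (.leaf 7643136) (.leaf 10011746)))))) (.node (.node (.node (.node (.node (.node (.leaf 520192) (.leaf 3650061)) (.leaf 8175616)) (.node (.node (.leaf 4759552) (.leaf 6771013)) (.leaf 6664192))) (.node (.node (.node (.leaf 290816) (.leaf 9781284)) (.leaf 2748416)) (.node (.node (.leaf 3772416) (.leaf 10732357)) (.leaf 4055040)))) (.node (.node (.node (.node (.leaf 1597440) (.leaf 2564096)) (.leaf 8155985)) (.node (.node (.leaf 655360) (.leaf 4612096)) (.leaf 9728569))) (.node (.node (.node (.leaf 3710976) (.leaf 9158776)) (.leaf 6009677)) (.node (.leaf 909312) (.leaf 2150400))))) (.node (.node (.node (.node (.node (.leaf 1052672) (.leaf 4526890)) (.leaf 8552448)) (.node (.node (.leaf 1180701) (.leaf 5432135)) (.leaf 2982392))) (.node (.node (.node (.leaf 3227648) (.leaf 11384072))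 (.leaf 2576384)) (.node (.leaf 4751885) (.leaf 5042862)))) (.node (.node (.node (.node (.leaf 2134016) (.leaf 9417956)) (.leaf 3060143)) (.node (.node (.leaf 724992) (.leaf 10981800)) (.leaf 1847296))) (.node (.node (.node (.leaf 4247552) (.leaf 3436544)) (.leaf 8958022)) (.node (.leaf 1200248) (.leaf 4371084)))))))

def bigMvXc28 : Janko.Tree (ℕ) :=
  (.node (.node (.node (.node (.node (.node (.node (.leaf 61440) (.leaf 8774731)) (.leaf 8019968)) (.node (.node (.leaf 4530176) (.leaf 11445461)) (.leaf 10235904))) (.node (.node (.node (.leaf 2400256) (.leaf 9372290)) (.leaf 5124432)) (.node (.node (.leaf 6471680) (.leaf 7213265)) (.leaf 8729522)))) (.node (.node (.node (.node (.leaf 1331200) (.leaf 9027634)) (.leaf 8712192)) (.node (.node (.leaf 5550080) (.leaf 11522918)) (.leaf 7507968))) (.node (.node (.node (.leaf 3465216) (.leaf 11432882)) (.leaf 9470513)) (.node (.leaf 7319552) (.leaf 4793537))))) (.node (.node (.node (.node (.node (.leaf 782336) (.leaf 8086038)) (.leaf 4535330)) (.node (.node (.leaf 5050368) (.leaf 9614370)) (.leaf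 1634304))) (.node (.node (.node (.leaf 1238050) (.leaf 2920448)) (.leaf 9584640)) (.node (.node (.leaf 5423104) (.leaf 11912077)) (.leaf 6824806)))) (.node (.node (.node (.node (.leaf 1888256) (.leaf 10851280)) (.leaf 6177818)) (.node (.node (.leaf 6045696) (.leaf 9434194)) (.leaf 10747904))) (.node (.node (.node (.leaf 3993600) (.leaf 3297280)) (.leaf 10006528)) (.node (.leaf 4313088) (.leaf 10638165)))))) (.node (.node (.node (.node (.node (.node (.leaf 528384) (.leaf 11345920)) (.leaf 8183808)) (.node (.node (.leaf 4728021) (.leaf 11796480)) (.leaf 10330112))) (.node (.node (.node (.leaf 2678784) (.leaf 6725837)) (.leaf 3585457)) (.node (.node (.leaf 786432) (.leaf 8008147)) (.leaf 10458146)))) (.node (.node (.node (.node (.leaf 1601536) (.leaf 6374168)) (.leaf 8447211)) (.node (.node (.leaf 5824512) (.leaf 11281069)) (.leaf 10400665))) (.node (.node (.node (.leaf 1819469) (.leaf 9131135)) (.leaf 9891840)) (.node (.leaf 5799936) (.leaf 11092086))))) (.node (.node (.node (.node (.node (.leaf 1064960) (.leaf 9126497)) (.leaf 7439172))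 (.node (.node (.leaf 1015808) (.leaf 10888153)) (.leaf 10498048))) (.node (.node (.node (.leaf 3239936) (.leaf 3014656)) (.leaf 1359872)) (.node (.leaf 7094272) (.leaf 7761920)))) (.node (.node (.node (.node (.leaf 2146304) (.leaf 11595776)) (.leaf 9154560)) (.node (.node (.leaf 6254592) (.leaf 7938731)) (.leaf 8074521))) (.node (.node (.node (.leaf 4251648) (.leaf 11485538)) (.leaf 10108928)) (.node (.leaf 987136) (.leaf 8319510)))))))

def bigMvXc29 : Janko.Tree (ℕ) :=
  (.node (.node (.node (.node (.node (.node (.node (.leaf 209954) (.leaf 7918704)) (.leaf 8024064)) (.node (.node (.leaf 614400) (.leaf 3981312)) (.leaf 8172014))) (.node (.node (.node (.leaf 2408448) (.leaf 11616256)) (.leaf 2162983)) (.node (.node (.leaf 6479872) (.leaf 7058848)) (.leaf 5465023)))) (.node (.node (.node (.node (.leaf 1347584) (.leaf 10433767)) (.leaf 2297856)) (.node (.node (.leaf 1164501) (.leaf 6583482)) (.leaf 5514475))) (.node (.node (.node (.leaf 3137943) (.leaf 4920601)) (.leaf 9789440)) (.node (.leaf 1646592) (.leaf 6095970))))) (.node (.node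 (.node (.node (.node (.leaf 794624) (.leaf 7536760)) (.leaf 8384512)) (.node (.node (.leaf 4174616) (.leaf 10867982)) (.leaf 2901296))) (.node (.node (.node (.leaf 2969600) (.leaf 10880226)) (.leaf 5670158)) (.node (.node (.leaf 4277282) (.leaf 11895326)) (.leaf 8029532)))) (.node (.node (.node (.node (.leaf 386318) (.leaf 11461378)) (.leaf 9011200)) (.node (.node (.leaf 6053888) (.leaf 10297953)) (.leaf 7554082))) (.node (.node (.node (.leaf 1955132) (.leaf 10327310)) (.leaf 4232231)) (.node (.leaf 7476161) (.leaf 3326509)))))) (.node (.node (.node (.node (.node (.node (.leaf 250885) (.leaf 11096903)) (.leaf 8192000)) (.node (.node (.leaf 4775936) (.leaf 10491150)) (.leaf 10338304))) (.node (.node (.node (.leaf 2686976) (.leaf 11644928)) (.leaf 8126959)) (.node (.node (.leaf 6709248) (.leaf 11592262)) (.leaf 3798286)))) (.node (.node (.node (.node (.leaf 1609728) (.leaf 5866390)) (.leaf 8863744)) (.node (.node (.leaf 2846720) (.leaf 7745853)) (.leaf 1781760))) (.node (.node (.node (.leaf 2524342) (.leaf 10920773)) (.leaf 8615125)) (.node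 (.leaf 5579147) (.leaf 4427776))))) (.node (.node (.node (.node (.node (.leaf 939042) (.leaf 10970174)) (.leaf 8564736)) (.node (.node (.leaf 3830978) (.leaf 9953552)) (.leaf 7926753))) (.node (.node (.node (.leaf 3077125) (.leaf 10633977)) (.leaf 9601144)) (.node (.leaf 7106560) (.leaf 7853284)))) (.node (.node (.node (.node (.leaf 2154496) (.leaf 8278936)) (.leaf 3212056)) (.node (.node (.leaf 3252910) (.leaf 11038944)) (.leaf 3395584))) (.node (.node (.node (.leaf 4255744) (.leaf 11473782)) (.leaf 7791349)) (.node (.leaf 7839744) (.leaf 8377614)))))))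

def bigMvXc30 : Janko.Tree (ℕ) :=
  (.node (.node (.node (.node (.node (.node (.node (.leaf 16384) (.leaf 10097827)) (.leaf 1974272)) (.node (.node (.leaf 4546560) (.leaf 11784192)) (.leaf 2286435))) (.node (.node (.node (.leaf 2412544) (.leaf 10589501)) (.leaf 9293824)) (.node (.node (.leaf 6492160) (.leaf 9429901)) (.leaf 6123520)))) (.node (.node (.node (.node (.leaf 126976) (.leaf 9196021)) (.leaf 4801016)) (.node (.node (.leaf 5574656) (.leaf 6960488)) (.leaf 10027372))) (.node (.node (.node (.leaf 3309975) (.leaf 8138819)) (.leaf 9045223)) (.node (.leaf 884736) (.leaf 7988494))))) (.node (.node (.node (.node (.node (.leaf 802816) (.leaf 6483968)) (.leaf 1873200)) (.node (.node (.leaf 5066752) (.leaf 9896024)) (.leaf 9114492))) (.node (.node (.node (.leaf 1753592) (.leaf 11665408)) (.leaf 5185536)) (.node (.node (.leaf 6909952) (.leaf 11915846)) (.leaf 2986784)))) (.node (.node (.node (.node (.leaf 1904640) (.leaf 10055800)) (.leaf 2933794)) (.node (.node (.leaf 6062080) (.leaf 11396101)) (.leaf 10756096))) (.node (.node (.node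 (.leaf 4005888) (.leaf 11755520)) (.leaf 8720960)) (.node (.leaf 7663616) (.leaf 5637038)))))) (.node (.node (.node (.node (.node (.node (.leaf 540672) (.leaf 11183374)) (.leaf 4866734)) (.node (.node (.leaf 4788224) (.leaf 10670206)) (.leaf 5734605))) (.node (.node (.node (.leaf 2691072) (.leaf 6545613)) (.leaf 9445376)) (.node (.node (.leaf 3788800) (.leaf 11751810)) (.leaf 8754370)))) (.node (.node (.node (.node (.leaf 443426) (.leaf 8802997)) (.leaf 8867840)) (.node (.node (.leaf 5840896) (.leaf 5902870)) (.leaf 9826348))) (.node (.node (.node (.leaf 3735552) (.leaf 11157668)) (.leaf 9851027)) (.node (.leaf 7487488) (.leaf 9556768))))) (.node (.node (.node (.node (.node (.leaf 1073152) (.leaf 6451405)) (.leaf 4853760)) (.node (.node (.leaf 5328896) (.leaf 11002693)) (.leaf 8860016))) (.node (.node (.node (.leaf 705541) (.leaf 11010167)) (.leaf 3658637)) (.node (.leaf 7114752) (.leaf 11018310)))) (.node (.node (.node (.node (.leaf 2158592) (.leaf 10691797)) (.leaf 2892694)) (.node (.node (.leaf 811173) (.leaf 7311864)) (.leaf 5399586)))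 (.node (.node (.node (.leaf 1078306) (.leaf 10727745)) (.leaf 10117120)) (.node (.leaf 7847936) (.leaf 6258991)))))))

def bigMvXc31 : Janko.Tree (ℕ) :=
  (.node (.node (.node (.node (.node (.node (.node (.leaf 299008) (.leaf 8438859)) (.leaf 8032256)) (.node (.node (.leaf 2167736) (.leaf 11133831)) (.leaf 10248192))) (.node (.node (.node (.leaf 2420736) (.leaf 5496832)) (.leaf 7946462)) (.node (.node (.leaf 6426624) (.leaf 6066825)) (.leaf 10874880)))) (.node (.node (.node (.node (.leaf 1057525) (.leaf 6501471)) (.leaf 7836405)) (.node (.node (.leaf 5586944) (.leaf 11138276)) (.leaf 10596352))) (.node (.node (.node (.leaf 770455) (.leaf 3121152)) (.leaf 9797632)) (.node (.leaf 7335936) (.leaf 2097152))))) (.node (.node (.node (.node (.node (.leaf 819200) (.leaf 2404352)) (.leaf 4932270)) (.node (.node (.leaf 5079040) (.leaf 3899392)) (.leaf 8532182))) (.node (.node (.node (.leaf 1683960) (.leaf 6578498)) (.leaf 5394502)) (.node (.node (.leaf 5099550) (.leaf 11924365)) (.leaf 11034624)))) (.node (.node (.node (.node (.leaf 856459) (.leaf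 11141333)) (.leaf 7177153)) (.node (.node (.leaf 1430741) (.leaf 9842878)) (.leaf 9065654))) (.node (.node (.node (.leaf 4014080) (.leaf 5472754)) (.leaf 6157510)) (.node (.leaf 5297456) (.leaf 8078362)))))) (.node (.node (.node (.node (.node (.node (.leaf 356864) (.leaf 2338816)) (.leaf 8212480)) (.node (.node (.leaf 1155576) (.leaf 3805976)) (.leaf 10350592))) (.node (.node (.node (.leaf 2699264) (.leaf 8336209)) (.leaf 1314816)) (.node (.node (.leaf 790528) (.leaf 7020544)) (.leaf 10932224)))) (.node (.node (.node (.node (.leaf 172032) (.leaf 3178927)) (.leaf 4808704)) (.node (.node (.leaf 4207244) (.leaf 6676797)) (.leaf 4969029))) (.node (.node (.node (.leaf 3743744) (.leaf 10777639)) (.leaf 9904128)) (.node (.leaf 6607911) (.leaf 4440064))))) (.node (.node (.node (.node (.node (.leaf 1081344) (.leaf 3630513)) (.leaf 7513255)) (.node (.node (.leaf 1048576) (.leaf 9680230)) (.leaf 10502144))) (.node (.node (.node (.leaf 3264512) (.leaf 11047531)) (.leaf 9711616)) (.node (.leaf 7122944) (.leaf 5542191)))) (.node (.node (.node (.node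 (.leaf 2170880) (.leaf 8676072)) (.leaf 7758766)) (.node (.node (.leaf 6270976) (.leaf 11531363)) (.leaf 7590725))) (.node (.node (.node (.leaf 487424) (.leaf 6787958)) (.leaf 2954008)) (.node (.leaf 4298098) (.leaf 2684208)))))))

def bigMvXc : Janko.Tree (ℕ) := (.node (.node (.node (.node (.node bigMvXc0 bigMvXc16) (.node bigMvXc8 bigMvXc24)) (.node (.node bigMvXc4 bigMvXc20) (.node bigMvXc12 bigMvXc28))) (.node (.node (.node bigMvXc2 bigMvXc18) (.node bigMvXc10 bigMvXc26)) (.node (.node bigMvXc6 bigMvXc22) (.node bigMvXc14 bigMvXc30)))) (.node (.node (.node (.node bigMvXc1 bigMvXc17) (.node bigMvXc9 bigMvXc25)) (.node (.node bigMvXc5 bigMvXc21) (.node bigMvXc13 bigMvXc29))) (.node (.node (.node bigMvXc3 bigMvXc19) (.node bigMvXc11 bigMvXc27)) (.node (.node bigMvXc7 bigMvXc23) (.node bigMvXc15 bigMvXc31)))))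

theorem big_mvXc0 : ((List.range 256).all fun i => movesOK baseB bigCert bigGens bigT 2912 (baseP.getD 2 0) bigMvXc (Nat.add 0 i)) = true := by decide +kernel

theorem big_mvXc1 : ((List.range 256).all fun i => movesOK baseB bigCert bigGens bigT 2912 (baseP.getD 2 0) bigMvXc (Nat.add 256 i)) = true := by decide +kernel

theorem big_mvXc2 : ((List.range 256).all fun i => movesOK baseB bigCert bigGens bigT 2912 (baseP.getD 2 0) bigMvXc (Nat.add 512 i)) = true := by decide +kernel

theorem big_mvXc3 : ((List.range 256).all fun i => movesOK baseB bigCert bigGens bigT 2912 (baseP.getD 2 0) bigMvXc (Nat.add 768 i)) = true := by decide +kernel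

theorem big_mvXc4 : ((List.range 256).all fun i => movesOK baseB bigCert bigGens bigT 2912 (baseP.getD 2 0) bigMvXc (Nat.add 1024 i)) = true := by decide +kernel

theorem big_mvXc5 : ((List.range 256).all fun i => movesOK baseB bigCert bigGens bigT 2912 (baseP.getD 2 0) bigMvXc (Nat.add 1280 i)) = true := by decide +kernel

theorem big_mvXc6 : ((List.range 256).all fun i => movesOK baseB bigCert bigGens bigT 2912 (baseP.getD 2 0) bigMvXc (Nat.add 1536 i)) = true := by decide +kernel

theorem big_mvXc7 : ((List.range 256).all fun i => movesOK baseB bigCert bigGens bigT 2912 (baseP.getD 2 0) bigMvXc (Nat.add 1792 i)) = true := by decide +kernel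

theorem big_mvXc8 : ((List.range 256).all fun i => movesOK baseB bigCert bigGens bigT 2912 (baseP.getD 2 0) bigMvXc (Nat.add 2048 i)) = true := by decide +kernel

theorem big_mvXc9 : ((List.range 256).all fun i => movesOK baseB bigCert bigGens bigT 2912 (baseP.getD 2 0) bigMvXc (Nat.add 2304 i)) = true := by decide +kernel

theorem big_mvXc10 : ((List.range 256).all fun i => movesOK baseB bigCert bigGens bigT 2912 (baseP.getD 2 0) bigMvXc (Nat.add 2560 i)) = true := by decide +kernel

theorem big_mvXc11 : ((List.range 96).all fun i => movesOK baseB bigCert bigGens bigT 2912 (baseP.getD 2 0) bigMvXc (Nat.add 2816 i)) = true := by decide +kernel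

theorem big_mvXc : ∀ i < 2912, movesOK baseB bigCert bigGens bigT 2912 (baseP.getD 2 0) bigMvXc i = true := by
  intro i hi
  by_cases h0 : i < 256
  · have := List.all_eq_true.1 big_mvXc0 (i - 0) (List.mem_range.2 (by omega)); rwa [show Nat.add 0 (i - 0) = i from Nat.add_sub_cancel' (by omega)] at this
  by_cases h1 : i < 512
  · have := List.all_eq_true.1 big_mvXc1 (i - 256) (List.mem_range.2 (by omega)); rwa [show Nat.add 256 (i - 256) = i from Nat.add_sub_cancel' (by omega)] at this
  by_cases h2 : i < 768
  · have := List.all_eq_true.1 big_mvXc2 (i - 512) (List.mem_range.2 (by omega)); rwa [show Nat.add 512 (i - 512) = i from Nat.add_sub_cancel' (by omega)] at this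
  by_cases h3 : i < 1024
  · have := List.all_eq_true.1 big_mvXc3 (i - 768) (List.mem_range.2 (by omega)); rwa [show Nat.add 768 (i - 768) = i from Nat.add_sub_cancel' (by omega)] at this
  by_cases h4 : i < 1280
  · have := List.all_eq_true.1 big_mvXc4 (i - 1024) (List.mem_range.2 (by omega)); rwa [show Nat.add 1024 (i - 1024) = i from Nat.add_sub_cancel' (by omega)] at this
  by_cases h5 : i < 1536
  · have := List.all_eq_true.1 big_mvXc5 (i - 1280) (List.mem_range.2 (by omega)); rwa [show Nat.add 1280 (i - 1280) = i from Nat.add_sub_cancel' (by omega)] at this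
  by_cases h6 : i < 1792
  · have := List.all_eq_true.1 big_mvXc6 (i - 1536) (List.mem_range.2 (by omega)); rwa [show Nat.add 1536 (i - 1536) = i from Nat.add_sub_cancel' (by omega)] at this
  by_cases h7 : i < 2048
  · have := List.all_eq_true.1 big_mvXc7 (i - 1792) (List.mem_range.2 (by omega)); rwa [show Nat.add 1792 (i - 1792) = i from Nat.add_sub_cancel' (by omega)] at this
  by_cases h8 : i < 2304
  · have := List.all_eq_true.1 big_mvXc8 (i - 2048) (List.mem_range.2 (by omega)); rwa [show Nat.add 2048 (i - 2048) = i from Nat.add_sub_cancel' (by omega)] at this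
  by_cases h9 : i < 2560
  · have := List.all_eq_true.1 big_mvXc9 (i - 2304) (List.mem_range.2 (by omega)); rwa [show Nat.add 2304 (i - 2304) = i from Nat.add_sub_cancel' (by omega)] at this
  by_cases h10 : i < 2816
  · have := List.all_eq_true.1 big_mvXc10 (i - 2560) (List.mem_range.2 (by omega)); rwa [show Nat.add 2560 (i - 2560) = i from Nat.add_sub_cancel' (by omega)] at this
  have := List.all_eq_true.1 big_mvXc11 (i - 2816) (List.mem_range.2 (by omega)); rwa [show Nat.add 2816 (i - 2816) = i from Nat.add_sub_cancel' (by omega)] at this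


def bigMvXd0 : Janko.Tree (ℕ) :=
  (.node (.node (.node (.node (.node (.node (.node (.leaf 8192) (.leaf 8798332)) (.leaf 7868416)) (.node (.node (.leaf 4288512) (.leaf 4461787)) (.leaf 10121216))) (.node (.node (.node (.leaf 2187264) (.leaf 4252545)) (.leaf 9179136)) (.node (.node (.leaf 6275072) (.leaf 11461851)) (.leaf 10057011)))) (.node (.node (.node (.node (.leaf 1093632) (.leaf 8393238)) (.leaf 8581120)) (.node (.node (.leaf 1122526) (.leaf 11510488)) (.leaf 3138373))) (.node (.node (.node (.leaf 2028054) (.leaf 5898897)) (.leaf 9728000)) (.node (.leaf 5017720) (.leaf 9176317))))) (.node (.node (.node (.node (.node (.leaf 561152) (.leaf 11358208)) (.leaf 1044480)) (.node (.node (.leaf 4812800) (.leaf 9036205)) (.leaf 10362880))) (.node (.node (.node (.leaf 2711552) (.leaf 5730838)) (.leaf 9461760)) (.node (.node (.leaf 6586368) (.leaf 11199389)) (.leaf 10940416)))) (.node (.node (.node (.node (.leaf 1646592) (.leaf 8638840)) (.leaf 5861376)) (.node (.node (.leaf 5857280) (.leaf 7602680)) (.leaf 6575143))) (.node (.node (.node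 (.leaf 413696) (.leaf 7246542)) (.leaf 1560576)) (.node (.leaf 7491584) (.leaf 4338742)))))) (.node (.node (.node (.node (.node (.node (.leaf 131864) (.leaf 2293760)) (.leaf 4154196)) (.node (.node (.leaf 4567040) (.leaf 11138404)) (.leaf 3052096))) (.node (.node (.node (.leaf 2437120) (.leaf 9596928)) (.leaf 5493930)) (.node (.node (.leaf 6508544) (.leaf 10793394)) (.leaf 8802865)))) (.node (.node (.node (.node (.leaf 1376256) (.leaf 11493376)) (.leaf 8720384)) (.node (.node (.leaf 5603328) (.leaf 6963702)) (.leaf 3978008))) (.node (.node (.node (.leaf 3493888) (.leaf 5915092)) (.leaf 9801728)) (.node (.leaf 3355682) (.leaf 8192837))))) (.node (.node (.node (.node (.node (.leaf 831488) (.leaf 9741338)) (.leaf 7550256)) (.node (.node (.leaf 5083136) (.leaf 8455573)) (.leaf 10142535))) (.node (.node (.node (.leaf 2994176) (.leaf 10416965)) (.leaf 9592832)) (.node (.leaf 5795840) (.leaf 7901184)))) (.node (.node (.node (.node (.leaf 1925120) (.leaf 10441461)) (.leaf 9019392)) (.node (.node (.leaf 6074368) (.leaf 11404056)) (.leaf 3413174)))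 (.node (.node (.node (.leaf 589995) (.leaf 8004057)) (.leaf 2998784)) (.node (.leaf 7675904) (.leaf 10658629)))))))

def bigMvXd1 : Janko.Tree (ℕ) :=
  (.node (.node (.node (.node (.node (.node (.node (.leaf 16384) (.leaf 10044100)) (.leaf 7876608)) (.node (.node (.leaf 4292608) (.leaf 8164340)) (.leaf 10129408))) (.node (.node (.node (.leaf 2195456) (.leaf 8888408)) (.leaf 6353327)) (.node (.node (.leaf 3866624) (.leaf 9060352)) (.leaf 4035718)))) (.node (.node (.node (.node (.leaf 1101824) (.leaf 7795445)) (.leaf 8585216)) (.node (.node (.leaf 2396382) (.leaf 10626164)) (.leaf 10518528))) (.node (.node (.node (.leaf 3272704) (.leaf 10748839)) (.leaf 5095454)) (.node (.leaf 7139328) (.leaf 2052096))))) (.node (.node (.node (.node (.node (.leaf 573440) (.leaf 5710358)) (.leaf 8228864)) (.node (.node (.leaf 4825088) (.leaf 11089103)) (.leaf 1601536))) (.node (.node (.node (.leaf 1249296) (.leaf 7697141)) (.leaf 9465856)) (.node (.node (.leaf 6725632) (.leaf 11797363)) (.leaf 10948608)))) (.node (.node (.node (.node (.leaf 725678) (.leaf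 8951010)) (.leaf 1372160)) (.node (.node (.leaf 3425013) (.leaf 11514360)) (.leaf 7004921))) (.node (.node (.node (.leaf 3760128) (.leaf 11145934)) (.leaf 7008376)) (.node (.leaf 6886761) (.leaf 2154496)))))) (.node (.node (.node (.node (.node (.node (.leaf 315392) (.leaf 11288576)) (.leaf 8044544)) (.node (.node (.leaf 4575232) (.leaf 10622095)) (.leaf 1552384))) (.node (.node (.node (.leaf 2445312) (.leaf 11354317)) (.leaf 6639742)) (.node (.node (.leaf 1921195) (.leaf 10646798)) (.leaf 7664771)))) (.node (.node (.node (.node (.leaf 1388544) (.leaf 8848332)) (.leaf 8728576)) (.node (.node (.leaf 4624888) (.leaf 8135946)) (.leaf 8069544))) (.node (.node (.node (.leaf 3497984) (.leaf 3375638)) (.leaf 9805824)) (.node (.leaf 3106099) (.leaf 9084975))))) (.node (.node (.node (.node (.node (.leaf 69632) (.leaf 8556614)) (.leaf 3740942)) (.node (.node (.leaf 5087232) (.leaf 4088858)) (.leaf 9667452))) (.node (.node (.node (.leaf 3006464) (.leaf 2940928)) (.leaf 2561372)) (.node (.leaf 2089797) (.leaf 2007040)))) (.node (.node (.node (.node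 (.leaf 1933312) (.leaf 2646016)) (.leaf 9027584)) (.node (.node (.leaf 6078464) (.leaf 5476856)) (.leaf 6467856))) (.node (.node (.node (.leaf 4038656) (.leaf 9441778)) (.leaf 10018816)) (.node (.leaf 950272) (.leaf 2876686)))))))

def bigMvXd2 : Janko.Tree (ℕ) :=
  (.node (.node (.node (.node (.node (.node (.node (.leaf 28672) (.leaf 11223040)) (.leaf 4542464)) (.node (.node (.leaf 1098781) (.leaf 9934049)) (.leaf 3235840))) (.node (.node (.node (.leaf 2203648) (.leaf 6554134)) (.leaf 4056368)) (.node (.node (.leaf 782870) (.leaf 9838592)) (.leaf 10490046)))) (.node (.node (.node (.node (.leaf 1114112) (.leaf 8643891)) (.leaf 5785009)) (.node (.node (.leaf 5353472) (.leaf 4096000)) (.leaf 6980778))) (.node (.node (.node (.leaf 2897166) (.leaf 5124836)) (.leaf 1363968)) (.node (.leaf 4563626) (.leaf 10597680))))) (.node (.node (.node (.node (.node (.leaf 40960) (.leaf 2342912)) (.leaf 7221672)) (.node (.node (.leaf 4829184) (.leaf 10318938)) (.leaf 3765131))) (.node (.node (.node (.leaf 2727936) (.leaf 11265217)) (.leaf 8352869)) (.node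 (.node (.leaf 3728603) (.leaf 11804815)) (.leaf 10956800)))) (.node (.node (.node (.node (.leaf 1658880) (.leaf 10908158)) (.leaf 8880128)) (.node (.node (.leaf 1183744) (.leaf 8560640)) (.leaf 1785856))) (.node (.node (.node (.leaf 3772416) (.leaf 10663147)) (.leaf 6157317)) (.node (.leaf 7503872) (.leaf 10229066)))))) (.node (.node (.node (.node (.node (.node (.leaf 323584) (.leaf 11292672)) (.leaf 8048640)) (.node (.node (.leaf 4583424) (.leaf 7712812)) (.leaf 5972760))) (.node (.node (.node (.leaf 2457600) (.leaf 6201429)) (.leaf 9310208)) (.node (.node (.leaf 6529024) (.leaf 11838336)) (.leaf 7328278)))) (.node (.node (.node (.node (.leaf 618616) (.leaf 2580480)) (.leaf 8736768)) (.node (.node (.leaf 5615616) (.leaf 10826868)) (.leaf 10608640))) (.node (.node (.node (.leaf 3506176) (.leaf 6124588)) (.leaf 9155854)) (.node (.leaf 3810632) (.leaf 11035181))))) (.node (.node (.node (.node (.node (.leaf 369174) (.leaf 5936162)) (.leaf 5890223)) (.node (.node (.leaf 5099520) (.leaf 8380950)) (.leaf 6475798))) (.node (.node (.node (.leaf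 3014656) (.leaf 9224192)) (.leaf 9601024)) (.node (.leaf 6934528) (.leaf 8306769)))) (.node (.node (.node (.node (.leaf 1941504) (.leaf 7823360)) (.leaf 9031680)) (.node (.node (.leaf 6090752) (.leaf 9134584)) (.leaf 2605480))) (.node (.node (.node (.leaf 4050944) (.leaf 9446062)) (.leaf 1482752)) (.node (.leaf 7684096) (.leaf 5120113)))))))

def bigMvXd3 : Janko.Tree (ℕ) :=
  (.node (.node (.node (.node (.node (.node (.node (.leaf 36864) (.leaf 6329749)) (.leaf 2658304)) (.node (.node (.leaf 4308992) (.leaf 11620747)) (.leaf 10137600))) (.node (.node (.node (.leaf 2211840) (.leaf 11206768)) (.leaf 9139234)) (.node (.node (.leaf 6295552) (.leaf 5558861)) (.leaf 3743864)))) (.node (.node (.node (.node (.leaf 102400) (.leaf 5911130)) (.leaf 8593408)) (.node (.node (.leaf 2958104) (.leaf 11833344)) (.leaf 1750186))) (.node (.node (.node (.leaf 3276800) (.leaf 10641969)) (.leaf 9736192)) (.node (.leaf 7151616) (.leaf 8339456))))) (.node (.node (.node (.node (.node (.leaf 585728) (.leaf 8966205)) (.leaf 8237056)) (.node (.node (.leaf 557056)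 (.leaf 10691860)) (.leaf 10371072))) (.node (.node (.node (.leaf 1171456) (.leaf 6779650)) (.leaf 9469952)) (.node (.node (.leaf 1609728) (.leaf 10170953)) (.leaf 10960896)))) (.node (.node (.node (.node (.leaf 336303) (.leaf 9188571)) (.leaf 5812224)) (.node (.node (.leaf 5873664) (.leaf 9142776)) (.leaf 9307349))) (.node (.node (.node (.leaf 1888256) (.leaf 5685775)) (.leaf 8540846)) (.node (.leaf 3281067) (.leaf 10667312)))))) (.node (.node (.node (.node (.node (.node (.leaf 331776) (.leaf 8704646)) (.leaf 8056832)) (.node (.node (.leaf 4137685) (.leaf 10629240)) (.leaf 6299648))) (.node (.node (.node (.leaf 655360) (.leaf 5779456)) (.leaf 4173824)) (.node (.node (.leaf 761856) (.leaf 7619972)) (.leaf 3343394)))) (.node (.node (.node (.node (.leaf 1404928) (.leaf 8226062)) (.leaf 8740864)) (.node (.node (.leaf 638976) (.leaf 7242868)) (.leaf 6550810))) (.node (.node (.node (.leaf 3510272) (.leaf 3252361)) (.leaf 5023082)) (.node (.leaf 6791358) (.leaf 10982337))))) (.node (.node (.node (.node (.node (.leaf 791062) (.leaf 2408448))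 (.leaf 8400896)) (.node (.node (.leaf 2502799) (.leaf 10892398)) (.leaf 2815280))) (.node (.node (.node (.leaf 3022848) (.leaf 6848512)) (.leaf 1339392)) (.node (.leaf 6176768) (.leaf 11042816)))) (.node (.node (.node (.node (.leaf 1474680) (.leaf 5435392)) (.leaf 6086790)) (.node (.node (.leaf 6094848) (.leaf 10911764)) (.leaf 9691881))) (.node (.node (.node (.leaf 4059136) (.leaf 7562426)) (.leaf 6942720)) (.node (.leaf 5440706) (.leaf 5562909)))))))

def bigMvXd4 : Janko.Tree (ℕ) :=
  (.node (.node (.node (.node (.node (.node (.node (.leaf 49152) (.leaf 11235328)) (.leaf 2479408)) (.node (.node (.leaf 491520) (.leaf 8122902)) (.leaf 10145792))) (.node (.node (.node (.leaf 2220032) (.leaf 6341400)) (.leaf 9191424)) (.node (.node (.leaf 729088) (.leaf 11772661)) (.leaf 1859584)))) (.node (.node (.node (.node (.leaf 1126400) (.leaf 10822424)) (.leaf 8601600)) (.node (.node (.leaf 5365760) (.leaf 11830450)) (.leaf 10530816))) (.node (.node (.node (.leaf 3289088) (.leaf 4617221)) (.leaf 5525504)) (.node (.leaf 1871872) (.leaf 2207744)))))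 (.node (.node (.node (.node (.node (.leaf 593920) (.leaf 2347008)) (.leaf 8241152)) (.node (.node (.leaf 1277952) (.leaf 8945936)) (.leaf 6496292))) (.node (.node (.node (.leaf 2744320) (.leaf 2838528)) (.leaf 8446456)) (.node (.node (.leaf 1385776) (.leaf 10711984)) (.leaf 10964992)))) (.node (.node (.node (.node (.leaf 1671168) (.leaf 9117696)) (.leaf 6738677)) (.node (.node (.leaf 659456) (.leaf 4685824)) (.leaf 5379267))) (.node (.node (.node (.leaf 2102306) (.leaf 10523857)) (.leaf 5431660)) (.node (.leaf 7507968) (.leaf 7488904)))))) (.node (.node (.node (.node (.node (.node (.leaf 339968) (.leaf 2368134)) (.leaf 6386350)) (.node (.node (.leaf 4591616) (.leaf 10502539)) (.leaf 4861952))) (.node (.node (.node (.leaf 2473984) (.leaf 9293944)) (.leaf 1774833)) (.node (.node (.leaf 6537216) (.leaf 6009704)) (.leaf 8696226)))) (.node (.node (.node (.node (.leaf 1417216) (.leaf 9203712)) (.leaf 3239936)) (.node (.node (.leaf 5632000) (.leaf 8987152)) (.leaf 8107364))) (.node (.node (.node (.leaf 3518464) (.leaf 4187380)) (.leaf 7304323))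 (.node (.leaf 7356416) (.leaf 10573104))))) (.node (.node (.node (.node (.node (.leaf 864256) (.leaf 4935870)) (.leaf 8409088)) (.node (.node (.leaf 5107712) (.leaf 6763835)) (.leaf 3392045))) (.node (.node (.node (.leaf 3035136) (.leaf 9847015)) (.leaf 9609216)) (.node (.leaf 1486848) (.leaf 11046912)))) (.node (.node (.node (.node (.leaf 1949696) (.leaf 8941688)) (.leaf 9039872)) (.node (.node (.leaf 6103040) (.leaf 5657425)) (.leaf 7204864))) (.node (.node (.node (.leaf 4067328) (.leaf 10293284)) (.leaf 1740800)) (.node (.leaf 7700480) (.leaf 8483709)))))))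

def bigMvXd5 : Janko.Tree (ℕ) :=
  (.node (.node (.node (.node (.node (.node (.node (.leaf 61440) (.leaf 11243520)) (.leaf 991232)) (.node (.node (.leaf 963412) (.leaf 10650392)) (.leaf 3318548))) (.node (.node (.node (.leaf 1024725) (.leaf 7754418)) (.leaf 3859140)) (.node (.node (.leaf 6307840) (.leaf 11096064)) (.leaf 7447796)))) (.node (.node (.node (.node (.leaf 1134592) (.leaf 11256493)) (.leaf 8609792)) (.node (.node (.leaf 5373952) (.leaf 4100096)) (.leaf 3134277))) (.node (.node (.node (.leaf 1594550) (.leaf 9983304)) (.leaf 8790786)) (.node (.leaf 4735061) (.leaf 9347072))))) (.node (.node (.node (.node (.node (.leaf 606208) (.leaf 11382784)) (.leaf 5324943)) (.node (.node (.leaf 4845568) (.leaf 3735552)) (.leaf 5329751))) (.node (.node (.node (.leaf 2752512) (.leaf 11649024)) (.leaf 4728021)) (.node (.node (.leaf 794624) (.leaf 11907072)) (.leaf 10481711)))) (.node (.node (.node (.node (.leaf 176128) (.leaf 11534336)) (.leaf 6898456)) (.node (.node (.leaf 5202978) (.leaf 9872481)) (.leaf 10698752))) (.node (.node (.node (.leaf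 417792) (.leaf 3223552)) (.leaf 6050584)) (.node (.leaf 917504) (.leaf 4817400)))))) (.node (.node (.node (.node (.node (.node (.leaf 352256) (.leaf 6735002)) (.leaf 7164338)) (.node (.node (.leaf 4595712) (.leaf 4403695)) (.leaf 10268672))) (.node (.node (.node (.leaf 1155864) (.leaf 7689520)) (.leaf 1282048)) (.node (.node (.leaf 6545408) (.leaf 11686874)) (.leaf 8897386)))) (.node (.node (.node (.node (.leaf 135168) (.leaf 9626561)) (.leaf 4522279)) (.node (.node (.leaf 5636096) (.leaf 11776181)) (.leaf 4440702))) (.node (.node (.node (.leaf 3526656) (.leaf 10879096)) (.leaf 1400832)) (.node (.leaf 7364608) (.leaf 4047809))))) (.node (.node (.node (.node (.node (.leaf 876544) (.leaf 6280231)) (.leaf 8413184)) (.node (.node (.leaf 5115904) (.leaf 10384654)) (.leaf 9565488))) (.node (.node (.node (.leaf 3043328) (.leaf 11339155)) (.leaf 9487173)) (.node (.leaf 6950912) (.leaf 10999132)))) (.node (.node (.node (.node (.leaf 1957888) (.leaf 7479416)) (.leaf 9048064)) (.node (.node (.leaf 6107136) (.leaf 4915200)) (.leaf 9921647))) (.node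 (.node (.node (.leaf 1398077) (.leaf 6901925)) (.leaf 5050368)) (.node (.leaf 6378522) (.leaf 8278600)))))))

def bigMvXd6 : Janko.Tree (ℕ) :=
  (.node (.node (.node (.node (.node (.node (.node (.leaf 73728) (.leaf 8572928)) (.leaf 7905280)) (.node (.node (.leaf 2241404) (.leaf 11432335)) (.leaf 1527808))) (.node (.node (.node (.leaf 2236416) (.leaf 2715648)) (.leaf 9199616)) (.node (.node (.leaf 6316032) (.leaf 11559496)) (.leaf 7118848)))) (.node (.node (.node (.node (.leaf 1138688) (.leaf 9990720)) (.leaf 8617984)) (.node (.node (.leaf 5382144) (.leaf 10355540)) (.leaf 3534848))) (.node (.node (.node (.leaf 3297280) (.leaf 10089166)) (.leaf 5619712)) (.node (.leaf 7159808) (.leaf 9368260))))) (.node (.node (.node (.node (.node (.leaf 614400) (.leaf 2351104)) (.leaf 1265807)) (.node (.node (.leaf 4857856) (.leaf 10568759)) (.leaf 1605632))) (.node (.node (.node (.leaf 2764800) (.leaf 5002475)) (.leaf 9490432)) (.node (.node (.leaf 6758400) (.leaf 9023887)) (.leaf 10461569)))) (.node (.node (.node (.node (.leaf 319710) (.leaf 8975579))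 (.leaf 3118324)) (.node (.node (.leaf 1082639) (.leaf 6521767)) (.leaf 3796992))) (.node (.node (.node (.leaf 3817472) (.leaf 11456512)) (.leaf 5370617)) (.node (.leaf 6927664) (.leaf 4788728)))))) (.node (.node (.node (.node (.node (.node (.leaf 356352) (.leaf 2297856)) (.leaf 8065024)) (.node (.node (.leaf 2908335) (.leaf 7262224)) (.leaf 1729912))) (.node (.node (.node (.leaf 2486272) (.leaf 2772992)) (.leaf 9342976)) (.node (.node (.leaf 6557696) (.leaf 11445016)) (.leaf 3515753)))) (.node (.node (.node (.node (.leaf 1429504) (.leaf 7832718)) (.leaf 1159168)) (.node (.node (.leaf 5648384) (.leaf 6832928)) (.leaf 10023270))) (.node (.node (.node (.leaf 3245363) (.leaf 10117912)) (.leaf 9822208)) (.node (.leaf 3665920) (.leaf 2200204))))) (.node (.node (.node (.node (.node (.leaf 884736) (.leaf 4280824)) (.leaf 8425472)) (.node (.node (.leaf 5128192) (.leaf 10577257)) (.leaf 6710140))) (.node (.node (.node (.leaf 3055616) (.leaf 6430840)) (.leaf 9540090)) (.node (.leaf 839680) (.leaf 11055104)))) (.node (.node (.node (.node (.leaf 1224875)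 (.leaf 5451776)) (.leaf 5287936)) (.node (.node (.leaf 6111232) (.leaf 9044940)) (.leaf 10768384))) (.node (.node (.node (.leaf 4083712) (.leaf 10379989)) (.leaf 9781248)) (.node (.leaf 7708672) (.leaf 4498007)))))))

def bigMvXd7 : Janko.Tree (ℕ) :=
  (.node (.node (.node (.node (.node (.node (.node (.leaf 0) (.leaf 4853760)) (.leaf 7913472)) (.node (.node (.leaf 4345856) (.leaf 9494892)) (.leaf 9995232))) (.node (.node (.node (.leaf 237568) (.leaf 7000973)) (.leaf 9207808)) (.node (.node (.leaf 6320128) (.leaf 11351265)) (.leaf 10833920)))) (.node (.node (.node (.node (.leaf 987640) (.leaf 10535102)) (.leaf 8622080)) (.node (.node (.leaf 5394432) (.leaf 10240658)) (.leaf 6165635))) (.node (.node (.node (.leaf 3301376) (.leaf 5038593)) (.leaf 3785412)) (.node (.leaf 6656519) (.leaf 7426756))))) (.node (.node (.node (.node (.node (.leaf 626688) (.leaf 8876635)) (.leaf 2823472)) (.node (.node (.leaf 4866048) (.leaf 10225032)) (.leaf 6312724))) (.node (.node (.node (.leaf 2777088) (.leaf 9007134)) (.leaf 1318912)) (.node (.node (.leaf 3724430)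 (.leaf 11714589)) (.leaf 7345213)))) (.node (.node (.node (.node (.leaf 930584) (.leaf 11538432)) (.leaf 8908800)) (.node (.node (.leaf 5902336) (.leaf 5714059)) (.leaf 9827141))) (.node (.node (.node (.leaf 3825664) (.leaf 5539010)) (.leaf 9380679)) (.node (.leaf 3063928) (.leaf 10855157)))))) (.node (.node (.node (.node (.node (.node (.leaf 20480) (.leaf 2531832)) (.leaf 8073216)) (.node (.node (.leaf 4612096) (.leaf 10265731)) (.leaf 10105359))) (.node (.node (.node (.leaf 2498560) (.leaf 11632640)) (.leaf 5460222)) (.node (.node (.leaf 6561792) (.leaf 11366912)) (.leaf 5424154)))) (.node (.node (.node (.node (.leaf 811230) (.leaf 8328334)) (.leaf 8765440)) (.node (.node (.leaf 5652480) (.leaf 9819417)) (.leaf 10637312))) (.node (.node (.node (.leaf 2854912) (.leaf 4171113)) (.leaf 7168757)) (.node (.leaf 888832) (.leaf 10429068))))) (.node (.node (.node (.node (.node (.leaf 892928) (.leaf 4850377)) (.leaf 8429568)) (.node (.node (.leaf 5136384) (.leaf 11477837)) (.leaf 10448896))) (.node (.node (.node (.leaf 3059712) (.leaf 10970500))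 (.leaf 4837880)) (.node (.leaf 6959104) (.leaf 7335958)))) (.node (.node (.node (.node (.leaf 278699) (.leaf 9335576)) (.leaf 5271552)) (.node (.node (.leaf 1794582) (.leaf 10728302)) (.leaf 4236021))) (.node (.node (.node (.leaf 458752) (.leaf 10814232)) (.leaf 8086038)) (.node (.leaf 4322132) (.leaf 11108848)))))))

def bigMvXd8 : Janko.Tree (ℕ) :=
  (.node (.node (.node (.node (.node (.node (.node (.leaf 86016) (.leaf 8422510)) (.leaf 6304452)) (.node (.node (.leaf 4358144) (.leaf 7156504)) (.leaf 1679864))) (.node (.node (.node (.leaf 2252800) (.leaf 10273705)) (.leaf 9052160)) (.node (.node (.leaf 6136800) (.leaf 7889629)) (.leaf 7545514)))) (.node (.node (.node (.node (.leaf 1150976) (.leaf 11100664)) (.leaf 5046272)) (.node (.node (.leaf 5398528) (.leaf 4112384)) (.leaf 6612007))) (.node (.node (.node (.leaf 3313664) (.leaf 3175085)) (.leaf 1732608)) (.node (.leaf 7172096) (.leaf 9270598))))) (.node (.node (.node (.node (.node (.leaf 483832) (.leaf 7840514)) (.leaf 1048576)) (.node (.node (.leaf 4874240) (.leaf 11162185)) (.leaf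 1650688))) (.node (.node (.node (.leaf 2793472) (.leaf 10683808)) (.leaf 9498624)) (.node (.node (.leaf 873614) (.leaf 7721913)) (.leaf 4126044)))) (.node (.node (.node (.node (.leaf 1703936) (.leaf 5140480)) (.leaf 6808077)) (.node (.node (.leaf 5906432) (.leaf 11010897)) (.leaf 7176192))) (.node (.node (.node (.leaf 3829760) (.leaf 9851672)) (.leaf 9928704)) (.node (.leaf 6878478) (.leaf 3490362)))))) (.node (.node (.node (.node (.node (.node (.leaf 364544) (.leaf 10589351)) (.leaf 5292789)) (.node (.node (.leaf 1167864) (.leaf 7946635)) (.leaf 3432952))) (.node (.node (.node (.leaf 274432) (.leaf 11636736)) (.leaf 4206592)) (.node (.node (.leaf 6569984) (.leaf 11698393)) (.leaf 6512811)))) (.node (.node (.node (.node (.leaf 1445888) (.leaf 9708686)) (.leaf 8773632)) (.node (.node (.leaf 5530437) (.leaf 11380042)) (.leaf 3478750))) (.node (.node (.node (.leaf 393216) (.leaf 10126104)) (.leaf 6992725)) (.node (.leaf 7385088) (.leaf 8029418))))) (.node (.node (.node (.node (.node (.leaf 901120) (.leaf 10540066)) (.leaf 8437760)) (.node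 (.node (.leaf 5148672) (.leaf 11662082)) (.leaf 3325952))) (.node (.node (.node (.leaf 815104) (.leaf 6394220)) (.leaf 1343488)) (.node (.leaf 6829278) (.leaf 6214471)))) (.node (.node (.node (.node (.leaf 1982464) (.leaf 7615309)) (.leaf 9072640)) (.node (.node (.leaf 1765910) (.leaf 4952064)) (.leaf 9757730))) (.node (.node (.node (.leaf 4091904) (.leaf 3711230)) (.leaf 5546310)) (.node (.leaf 7716864) (.leaf 6406541)))))))

def bigMvXd9 : Janko.Tree (ℕ) :=
  (.node (.node (.node (.node (.node (.node (.node (.leaf 98304) (.leaf 2256896)) (.leaf 6493488)) (.node (.node (.leaf 4366336) (.leaf 11039593)) (.leaf 4600121))) (.node (.node (.node (.leaf 2016368) (.leaf 5194092)) (.leaf 9211904)) (.node (.node (.leaf 1471456) (.leaf 9916606)) (.leaf 10302779)))) (.node (.node (.node (.node (.leaf 1163264) (.leaf 5244071)) (.leaf 5025792)) (.node (.node (.leaf 5406720) (.leaf 11845632)) (.leaf 3547136))) (.node (.node (.node (.leaf 3321856) (.leaf 11104723)) (.leaf 3912743)) (.node (.leaf 1630727) (.leaf 9695940))))) (.node (.node (.node (.node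 (.node (.leaf 651264) (.leaf 2355200)) (.leaf 7988494)) (.node (.node (.leaf 1298432) (.leaf 11707286)) (.leaf 8598118))) (.node (.node (.node (.leaf 610304) (.leaf 9580544)) (.leaf 9502720)) (.node (.node (.leaf 4063517) (.leaf 11899877)) (.leaf 10432559)))) (.node (.node (.node (.node (.leaf 1716224) (.leaf 9622465)) (.leaf 4145909)) (.node (.node (.leaf 5918720) (.leaf 8462848)) (.leaf 8094638))) (.node (.node (.node (.leaf 3846144) (.leaf 4190765)) (.leaf 9940992)) (.node (.leaf 921600) (.leaf 7349364)))))) (.node (.node (.node (.node (.node (.node (.leaf 372736) (.leaf 4891892)) (.leaf 8077312)) (.node (.node (.leaf 4628480) (.leaf 7627474)) (.leaf 1564672))) (.node (.node (.node (.leaf 1966251) (.leaf 11248534)) (.leaf 1286144)) (.node (.node (.leaf 6578176) (.leaf 11703624)) (.leaf 9388102)))) (.node (.node (.node (.node (.leaf 139264) (.leaf 7565483)) (.leaf 8781824)) (.node (.node (.leaf 2790337) (.leaf 8298496)) (.leaf 6381656))) (.node (.node (.node (.leaf 3551232) (.leaf 3158016)) (.leaf 5788866)) (.node (.leaf 3604480) (.leaf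 10498848))))) (.node (.node (.node (.node (.node (.leaf 909312) (.leaf 11423744)) (.leaf 8441856)) (.node (.node (.leaf 5152768) (.leaf 10403966)) (.leaf 10174507))) (.node (.node (.node (.leaf 3067904) (.leaf 2982760)) (.leaf 3871938)) (.node (.leaf 6210040) (.leaf 11059200)))) (.node (.node (.node (.node (.leaf 1986560) (.leaf 2654208)) (.leaf 1220608)) (.node (.node (.leaf 3228161) (.leaf 8553133)) (.leaf 10776576))) (.node (.node (.node (.leaf 2118484) (.leaf 10785358)) (.leaf 10014925)) (.node (.leaf 7725056) (.leaf 8204288)))))))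

def bigMvXd10 : Janko.Tree (ℕ) :=
  (.node (.node (.node (.node (.node (.node (.node (.leaf 114688) (.leaf 9978368)) (.leaf 7925760)) (.node (.node (.leaf 4378624) (.leaf 7651460)) (.leaf 7439675))) (.node (.node (.node (.leaf 2260992) (.leaf 5587705)) (.leaf 5678017)) (.node (.node (.leaf 6344704) (.leaf 9585432)) (.leaf 5956097)))) (.node (.node (.node (.node (.leaf 524792) (.leaf 4141590)) (.leaf 4760344)) (.node (.node (.leaf 5410816) (.leaf 4973936)) (.leaf 6857496))) (.node (.node (.node (.leaf 3334144) (.leaf 11485904)) (.leaf 8470927)) (.node (.leaf 7188480) (.leaf 9373099))))) (.node (.node (.node (.node (.node (.leaf 45056) (.leaf 8200696)) (.leaf 4530176)) (.node (.node (.leaf 4882432) (.leaf 11179051)) (.leaf 6713344))) (.node (.node (.node (.leaf 2809856) (.leaf 4887298)) (.leaf 7520651)) (.node (.node (.leaf 6787072) (.leaf 11739794)) (.leaf 3908912)))) (.node (.node (.node (.node (.leaf 1724416) (.leaf 9159032)) (.leaf 8925184)) (.node (.node (.leaf 5895288) (.leaf 4739944)) (.leaf 3821568))) (.node (.node (.node (.leaf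 3854336) (.leaf 11670296)) (.leaf 4748529)) (.node (.leaf 6100002) (.leaf 10675504)))))) (.node (.node (.node (.node (.node (.node (.leaf 380928) (.leaf 9150968)) (.leaf 6668288)) (.node (.node (.leaf 2106010) (.leaf 9253546)) (.leaf 2990080))) (.node (.node (.node (.leaf 2523136) (.leaf 2781184)) (.leaf 9355264)) (.node (.node (.leaf 6582272) (.leaf 10392631)) (.leaf 10081314)))) (.node (.node (.node (.node (.leaf 721430) (.leaf 5870734)) (.leaf 8785920)) (.node (.node (.leaf 5668864) (.leaf 11853824)) (.leaf 6705637))) (.node (.node (.node (.leaf 3563520) (.leaf 6255642)) (.leaf 5091707)) (.node (.leaf 7397376) (.leaf 11116544))))) (.node (.node (.node (.node (.node (.leaf 389240) (.leaf 4658307)) (.leaf 5595640)) (.node (.node (.leaf 5160960) (.leaf 10368186)) (.leaf 7210203))) (.node (.node (.node (.leaf 3080192) (.leaf 8528012)) (.leaf 2584719)) (.node (.leaf 6971392) (.leaf 7636316)))) (.node (.node (.node (.node (.leaf 1994752) (.leaf 7541444)) (.leaf 2835293)) (.node (.node (.leaf 700416) (.leaf 11219478)) (.leaf 7353112))) (.node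 (.node (.node (.leaf 4108288) (.leaf 7574341)) (.leaf 5611605)) (.node (.leaf 7729152) (.leaf 10789087)))))))

def bigMvXd11 : Janko.Tree (ℕ) :=
  (.node (.node (.node (.node (.node (.node (.node (.leaf 126976) (.leaf 6689565)) (.leaf 7929856)) (.node (.node (.leaf 4326228) (.leaf 11166191)) (.leaf 10059981))) (.node (.node (.node (.leaf 565752) (.leaf 8712878)) (.leaf 2519040)) (.node (.node (.leaf 733184) (.leaf 8708672)) (.leaf 6488598)))) (.node (.node (.node (.node (.leaf 1187840) (.leaf 6180864)) (.leaf 1130496)) (.node (.node (.leaf 5419008) (.leaf 4116480)) (.leaf 5158205))) (.node (.node (.node (.leaf 3338240) (.leaf 4666225)) (.leaf 8102658)) (.node (.leaf 868352) (.leaf 10249031))))) (.node (.node (.node (.node (.node (.leaf 663552) (.leaf 8143352)) (.leaf 8286208)) (.node (.node (.leaf 2404495) (.leaf 10732039)) (.leaf 7214299))) (.node (.node (.node (.leaf 2826240) (.leaf 4641167)) (.leaf 9506816)) (.node (.node (.leaf 6324728) (.leaf 11490333)) (.leaf 10584568)))) (.node (.node (.node (.node (.leaf 1736704) (.leaf 4351280))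 (.leaf 7308056)) (.node (.node (.leaf 5926912) (.leaf 7853303)) (.leaf 4383783))) (.node (.node (.node (.leaf 3862528) (.leaf 3532152)) (.leaf 1449984)) (.node (.leaf 7536640) (.leaf 4588309)))))) (.node (.node (.node (.node (.node (.node (.leaf 385024) (.leaf 4645376)) (.leaf 8089600)) (.node (.node (.leaf 1119529) (.leaf 6402985)) (.leaf 6599190))) (.node (.node (.node (.leaf 446635) (.leaf 5681152)) (.leaf 9363456)) (.node (.node (.leaf 3420160) (.leaf 11711816)) (.leaf 9704482)))) (.node (.node (.node (.node (.leaf 1466368) (.leaf 6862141)) (.leaf 8794112)) (.node (.node (.leaf 5672960) (.leaf 9536608)) (.leaf 9003623))) (.node (.node (.node (.leaf 3571712) (.leaf 4228135)) (.leaf 9830400)) (.node (.leaf 3686400) (.leaf 11120640))))) (.node (.node (.node (.node (.node (.leaf 925696) (.leaf 6604124)) (.leaf 6660785)) (.node (.node (.leaf 2310648) (.leaf 5362848)) (.leaf 2692400))) (.node (.node (.node (.leaf 3088384) (.leaf 8663552)) (.leaf 9629696)) (.node (.leaf 6632185) (.leaf 2019328)))) (.node (.node (.node (.node (.leaf 2002944)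 (.leaf 10552668)) (.leaf 9089024)) (.node (.node (.leaf 3183277) (.leaf 10158150)) (.leaf 1830912))) (.node (.node (.node (.leaf 2286704) (.leaf 7873270)) (.leaf 3806584)) (.node (.leaf 7737344) (.leaf 8151040)))))))

def bigMvXd12 : Janko.Tree (ℕ) :=
  (.node (.node (.node (.node (.node (.node (.node (.leaf 4096) (.leaf 9560568)) (.leaf 4243599)) (.node (.node (.leaf 4390912) (.leaf 9322566)) (.leaf 5501048))) (.node (.node (.node (.leaf 2269184) (.leaf 11419768)) (.leaf 2131248)) (.node (.node (.leaf 6356992) (.leaf 11809321)) (.leaf 7807746)))) (.node (.node (.node (.node (.leaf 110592) (.leaf 10993835)) (.leaf 8650752)) (.node (.node (.leaf 5427200) (.leaf 10974556)) (.leaf 1708032))) (.node (.node (.node (.leaf 3346432) (.leaf 6038016)) (.leaf 2449408)) (.node (.leaf 6767016) (.leaf 10290480))))) (.node (.node (.node (.node (.node (.leaf 667648) (.leaf 9986109)) (.leaf 8294400)) (.node (.node (.leaf 4894720) (.leaf 10798017)) (.leaf 4924764))) (.node (.node (.node (.leaf 1643253) (.leaf 9065371)) (.leaf 8061092)) (.node (.node (.leaf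 3458282) (.leaf 7749632)) (.leaf 10207523)))) (.node (.node (.node (.node (.leaf 1687774) (.leaf 11542528)) (.leaf 8626176)) (.node (.node (.leaf 5939200) (.leaf 9774270)) (.leaf 8917112))) (.node (.node (.node (.leaf 3203072) (.leaf 5518571)) (.leaf 6235451)) (.node (.leaf 2760704) (.leaf 11157504)))))) (.node (.node (.node (.node (.node (.node (.leaf 397312) (.leaf 7270725)) (.leaf 1877296)) (.node (.node (.leaf 4648960) (.leaf 4412149)) (.leaf 7389976))) (.node (.node (.node (.leaf 2535424) (.leaf 5693440)) (.leaf 5345502)) (.node (.node (.leaf 3403776) (.leaf 11871446)) (.leaf 6193728)))) (.node (.node (.node (.node (.leaf 799364) (.leaf 4678136)) (.leaf 7148457)) (.node (.node (.leaf 2592911) (.leaf 11186896)) (.leaf 6116014))) (.node (.node (.node (.leaf 3575808) (.leaf 4965381)) (.leaf 1409024)) (.node (.leaf 5743810) (.leaf 11124736))))) (.node (.node (.node (.node (.node (.leaf 81920) (.leaf 5235112)) (.leaf 2634426)) (.node (.node (.leaf 5173248) (.leaf 4072482)) (.leaf 6042286))) (.node (.node (.node (.leaf 3100672) (.leaf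 8344086)) (.leaf 9637888)) (.node (.leaf 1701086) (.leaf 4960886)))) (.node (.node (.node (.node (.leaf 1143288) (.leaf 10306397)) (.leaf 8548856)) (.node (.node (.leaf 6144000) (.leaf 11694689)) (.leaf 7074443))) (.node (.node (.node (.leaf 521328) (.leaf 10723533)) (.leaf 1753592)) (.node (.leaf 7745536) (.leaf 6628622)))))))

def bigMvXd13 : Janko.Tree (ℕ) :=
  (.node (.node (.node (.node (.node (.node (.node (.leaf 54040) (.leaf 2757112)) (.leaf 7938048)) (.node (.node (.leaf 2150488) (.leaf 4912162)) (.leaf 10186752))) (.node (.node (.node (.leaf 2281472) (.leaf 2786574)) (.leaf 1253376)) (.node (.node (.leaf 3895296) (.leaf 11588168)) (.leaf 8901120)))) (.node (.node (.node (.node (.leaf 1200128) (.leaf 9876065)) (.leaf 8658944)) (.node (.node (.leaf 5443584) (.leaf 4334953)) (.leaf 3212101))) (.node (.node (.node (.leaf 3358720) (.leaf 10031174)) (.leaf 2420736)) (.node (.leaf 1667496) (.leaf 10134212))))) (.node (.node (.node (.node (.node (.leaf 675840) (.leaf 4690151)) (.leaf 8020464)) (.node (.node (.leaf 4907008) (.leaf 9925228))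 (.leaf 5838172))) (.node (.node (.node (.leaf 2846720) (.leaf 5865472)) (.leaf 9510912)) (.node (.node (.leaf 6799360) (.leaf 11375402)) (.leaf 8016015)))) (.node (.node (.node (.node (.leaf 1744896) (.leaf 5448985)) (.leaf 7012961)) (.node (.node (.leaf 5947392) (.leaf 11875583)) (.leaf 3264632))) (.node (.node (.node (.leaf 3874816) (.leaf 10679602)) (.leaf 6223163)) (.node (.leaf 4014917) (.leaf 2166784)))))) (.node (.node (.node (.node (.node (.node (.leaf 168470) (.leaf 4608000)) (.leaf 1028096)) (.node (.node (.leaf 528384) (.leaf 7291801)) (.leaf 3384093))) (.node (.node (.node (.leaf 2543616) (.leaf 5279887)) (.leaf 1290240)) (.node (.node (.leaf 6606848) (.leaf 9769494)) (.leaf 6185080)))) (.node (.node (.node (.node (.leaf 360568) (.leaf 9553306)) (.leaf 8806400)) (.node (.node (.leaf 1839104) (.leaf 10772502)) (.leaf 5509484))) (.node (.node (.node (.leaf 3584000) (.leaf 3166208)) (.leaf 9834496)) (.node (.leaf 4375285) (.leaf 11063550))))) (.node (.node (.node (.node (.node (.leaf 942080) (.leaf 4997120)) (.leaf 8458240))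 (.node (.node (.leaf 5181440) (.leaf 11821056)) (.leaf 8836400))) (.node (.node (.node (.leaf 835584) (.leaf 11683071)) (.leaf 9641984)) (.node (.leaf 847872) (.leaf 10888496)))) (.node (.node (.node (.node (.leaf 2011136) (.leaf 4560054)) (.leaf 3814121)) (.node (.node (.leaf 6148096) (.leaf 7909566)) (.leaf 9974678))) (.node (.node (.node (.leaf 4128768) (.leaf 7193095)) (.leaf 4120766)) (.node (.leaf 7757824) (.leaf 2680112)))))))

def bigMvXd14 : Janko.Tree (ℕ) :=
  (.node (.node (.node (.node (.node (.node (.node (.leaf 151552) (.leaf 2724344)) (.leaf 7942144)) (.node (.node (.leaf 4407296) (.leaf 10514552)) (.leaf 7451963))) (.node (.node (.node (.leaf 468080) (.leaf 10544226)) (.leaf 2802625)) (.node (.node (.leaf 897024) (.leaf 11755775)) (.leaf 4776448)))) (.node (.node (.node (.node (.leaf 1204224) (.leaf 7061836)) (.leaf 3843077)) (.node (.node (.leaf 4518645) (.leaf 11076423)) (.leaf 3850383))) (.node (.node (.node (.leaf 3362816) (.leaf 6845265)) (.leaf 4317866)) (.node (.leaf 1655990) (.leaf 4104192))))) (.node (.node (.node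 (.node (.node (.leaf 684032) (.leaf 11390976)) (.leaf 7402800)) (.node (.node (.leaf 4919296) (.leaf 3768320)) (.leaf 9843396))) (.node (.node (.node (.leaf 299008) (.leaf 11153572)) (.leaf 9519104)) (.node (.node (.leaf 6803456) (.leaf 8253440)) (.leaf 1974272)))) (.node (.node (.node (.node (.leaf 843864) (.leaf 11550720)) (.leaf 8937472)) (.node (.node (.leaf 5951488) (.leaf 11329753)) (.leaf 9937101))) (.node (.node (.node (.leaf 3878912) (.leaf 8758040)) (.leaf 9969664)) (.node (.leaf 3633547) (.leaf 6062694)))))) (.node (.node (.node (.node (.node (.node (.leaf 421888) (.leaf 2314240)) (.leaf 8097792)) (.node (.node (.leaf 971888) (.leaf 4432629)) (.leaf 2380568))) (.node (.node (.node (.leaf 2555904) (.leaf 9749567)) (.leaf 9383936)) (.node (.node (.leaf 774144) (.leaf 6365830)) (.leaf 7529582)))) (.node (.node (.node (.node (.leaf 1490944) (.leaf 8024262)) (.leaf 7971320)) (.node (.node (.leaf 643072) (.leaf 11800799)) (.leaf 3646201))) (.node (.node (.node (.leaf 3592192) (.leaf 7111183)) (.leaf 4841592)) (.node (.leaf 7413760)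 (.leaf 8590182))))) (.node (.node (.node (.node (.node (.leaf 598187) (.leaf 5013504)) (.leaf 8466432)) (.node (.node (.leaf 5189632) (.leaf 11473295)) (.leaf 2884912))) (.node (.node (.node (.leaf 3108864) (.leaf 3462357)) (.leaf 9654272)) (.node (.leaf 6995968) (.leaf 8954542)))) (.node (.node (.node (.node (.leaf 1107056) (.leaf 2666496)) (.leaf 9097216)) (.node (.node (.leaf 6152192) (.leaf 9196726)) (.leaf 6771112))) (.node (.node (.node (.leaf 1262962) (.leaf 11743918)) (.leaf 1499136)) (.node (.leaf 7766016) (.leaf 8348487)))))))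

def bigMvXd15 : Janko.Tree (ℕ) :=
  (.node (.node (.node (.node (.node (.node (.node (.leaf 159744) (.leaf 5009613)) (.leaf 7950336)) (.node (.node (.leaf 4419584) (.leaf 10547992)) (.leaf 2568836))) (.node (.node (.node (.leaf 2306048) (.leaf 10252970)) (.leaf 6034563)) (.node (.node (.leaf 6369280) (.leaf 11596176)) (.leaf 8221429)))) (.node (.node (.node (.node (.leaf 1212416) (.leaf 5268662)) (.leaf 8667136)) (.node (.node (.leaf 622592) (.leaf 9314304)) (.leaf 10555392))) (.node (.node (.node (.leaf 3154606) (.leaf 3581190)) (.leaf 9764864)) (.node (.leaf 7225344) (.leaf 7238960))))) (.node (.node (.node (.node (.node (.leaf 692224) (.leaf 8630881)) (.leaf 8310784)) (.node (.node (.leaf 4927488) (.leaf 10810663)) (.leaf 10395648))) (.node (.node (.node (.leaf 2867200) (.leaf 11657216)) (.leaf 9523200)) (.node (.node (.leaf 6811648) (.leaf 8405031)) (.leaf 10989568)))) (.node (.node (.node (.node (.leaf 1761280) (.leaf 10339141)) (.leaf 6128192)) (.node (.node (.leaf 5963776) (.leaf 11174615)) (.leaf 7467093))) (.node (.node (.node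 (.leaf 3891200) (.leaf 7377582)) (.leaf 1454080)) (.node (.leaf 5750784) (.leaf 6967607)))))) (.node (.node (.node (.node (.node (.node (.leaf 24576) (.leaf 4702720)) (.leaf 1905968)) (.node (.node (.leaf 1315514) (.leaf 8360860)) (.leaf 7131928))) (.node (.node (.node (.leaf 2564096) (.leaf 9613312)) (.leaf 9392128)) (.node (.node (.leaf 6619136) (.leaf 9958032)) (.leaf 9901459)))) (.node (.node (.node (.node (.leaf 147456) (.leaf 2539520)) (.leaf 8814592)) (.node (.node (.leaf 5705728) (.leaf 8492031)) (.leaf 5305002))) (.node (.node (.node (.leaf 3600384) (.leaf 10408470)) (.leaf 6746869)) (.node (.leaf 3093880) (.leaf 8127643))))) (.node (.node (.node (.node (.node (.leaf 455862) (.leaf 10465972)) (.leaf 8478720)) (.node (.node (.leaf 5197824) (.leaf 11272696)) (.leaf 10453295))) (.node (.node (.node (.leaf 1504438) (.leaf 9892057)) (.leaf 1893410)) (.node (.leaf 3048110) (.leaf 7127748)))) (.node (.node (.node (.node (.leaf 2023424) (.leaf 11567326)) (.leaf 9105408)) (.node (.node (.leaf 6160384) (.leaf 5066752)) (.leaf 4710721)))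 (.node (.node (.node (.leaf 754350) (.leaf 5944590)) (.leaf 10067968)) (.node (.leaf 7774208) (.leaf 4871595)))))))

def bigMvXd16 : Janko.Tree (ℕ) :=
  (.node (.node (.node (.node (.node (.node (.node (.leaf 172032) (.leaf 10113716)) (.leaf 7958528)) (.node (.node (.leaf 2043904) (.leaf 8385884)) (.leaf 6410240))) (.node (.node (.node (.leaf 245760) (.leaf 2732032)) (.leaf 8246209)) (.node (.node (.leaf 3503374) (.leaf 8934521)) (.leaf 9082022)))) (.node (.node (.node (.node (.leaf 1216512) (.leaf 11464704)) (.leaf 8671232)) (.node (.node (.leaf 5455872) (.leaf 8762030)) (.leaf 7495934))) (.node (.node (.node (.leaf 3125934) (.leaf 9786253)) (.leaf 2830336)) (.node (.leaf 7233536) (.leaf 2072576))))) (.node (.node (.node (.node (.node (.leaf 696320) (.leaf 5665272)) (.leaf 8318976)) (.node (.node (.leaf 4939776) (.leaf 10899646)) (.leaf 1617920))) (.node (.node (.node (.leaf 1191936) (.leaf 5734400)) (.leaf 2962673)) (.node (.node (.leaf 6267717) (.leaf 11911181)) (.leaf 5251829)))) (.node (.node (.node (.node (.leaf 1769472) (.leaf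 11554816)) (.leaf 2334720)) (.node (.node (.leaf 4801570) (.leaf 10257281)) (.leaf 8364714))) (.node (.node (.node (.leaf 737280) (.leaf 4223733)) (.leaf 6361330)) (.node (.leaf 933888) (.leaf 5878446)))))) (.node (.node (.node (.node (.node (.node (.leaf 434176) (.leaf 8614760)) (.leaf 6645006)) (.node (.node (.leaf 4681728) (.leaf 11625017)) (.leaf 3834542))) (.node (.node (.node (.leaf 2576384) (.leaf 11527194)) (.leaf 9400320)) (.node (.node (.leaf 6623232) (.leaf 11867372)) (.leaf 6946936)))) (.node (.node (.node (.node (.leaf 328366) (.leaf 2819420)) (.leaf 8818688)) (.node (.node (.leaf 5718016) (.leaf 10182870)) (.leaf 10076280))) (.node (.node (.node (.leaf 3612672) (.leaf 11469327)) (.leaf 1413120)) (.node (.leaf 1519616) (.leaf 2736164))))) (.node (.node (.node (.node (.node (.leaf 958464) (.leaf 5133260)) (.leaf 2925735)) (.node (.node (.leaf 5210112) (.leaf 11813268)) (.leaf 6058670))) (.node (.node (.node (.leaf 3121152) (.leaf 9572690)) (.leaf 9412893)) (.node (.leaf 2974933) (.leaf 9011454)))) (.node (.node (.node (.node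 (.leaf 2035712) (.leaf 4219175)) (.leaf 2302456)) (.node (.node (.leaf 6168576) (.leaf 11449281)) (.leaf 3695111))) (.node (.node (.node (.leaf 4149248) (.leaf 7333168)) (.leaf 9953936)) (.node (.leaf 7778304) (.leaf 2617840)))))))

def bigMvXd17 : Janko.Tree (ℕ) :=
  (.node (.node (.node (.node (.node (.node (.node (.leaf 180224) (.leaf 9744657)) (.leaf 7962624)) (.node (.node (.leaf 4435968) (.leaf 3965765)) (.leaf 3027186))) (.node (.node (.node (.leaf 2318336) (.leaf 11211159)) (.leaf 9236480)) (.node (.node (.leaf 6389760) (.leaf 9650523)) (.leaf 3678208)))) (.node (.node (.node (.node (.leaf 946347) (.leaf 2482176)) (.leaf 8303096)) (.node (.node (.leaf 4547317) (.leaf 11781197)) (.leaf 1917182))) (.node (.node (.node (.leaf 648496) (.leaf 6197857)) (.leaf 3331420)) (.node (.leaf 2245445) (.leaf 3637268))))) (.node (.node (.node (.node (.node (.leaf 344598) (.leaf 8811057)) (.leaf 7880704)) (.node (.node (.leaf 4947968) (.leaf 4247742)) (.leaf 7484450))) (.node (.node (.node (.leaf 2879488) (.leaf 10564118)) (.leaf 9000322)) (.node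 (.node (.leaf 6823936) (.leaf 10163543)) (.leaf 9711868)))) (.node (.node (.node (.node (.leaf 1781760) (.leaf 7954432)) (.leaf 8957952)) (.node (.node (.leaf 671744) (.leaf 8962048)) (.leaf 4580085))) (.node (.node (.node (.leaf 3915776) (.leaf 6566052)) (.leaf 8516465)) (.node (.leaf 1037660) (.leaf 2170880)))))) (.node (.node (.node (.node (.node (.node (.leaf 442368) (.leaf 8647448)) (.leaf 8110080)) (.node (.node (.leaf 4694016) (.leaf 7897821)) (.leaf 2069237))) (.node (.node (.node (.leaf 2290168) (.leaf 10236041)) (.leaf 9404416)) (.node (.node (.leaf 3925026) (.leaf 10412566)) (.leaf 7885863)))) (.node (.node (.node (.node (.leaf 405504) (.leaf 5238784)) (.leaf 8474694)) (.node (.node (.leaf 5722112) (.leaf 5550245)) (.leaf 10109698))) (.node (.node (.node (.leaf 3620864) (.leaf 11731470)) (.leaf 8684578)) (.node (.leaf 2798250) (.leaf 9220853))))) (.node (.node (.node (.node (.node (.leaf 966656) (.leaf 2428928)) (.leaf 8486912)) (.node (.node (.leaf 5218304) (.leaf 7201418)) (.leaf 10457088))) (.node (.node (.node (.leaf 3129344)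 (.leaf 10601345)) (.leaf 6697717)) (.node (.leaf 7020544) (.leaf 6272348)))) (.node (.node (.node (.node (.leaf 258552) (.leaf 9376328)) (.leaf 1232896)) (.node (.node (.leaf 6172672) (.leaf 7598353)) (.leaf 10801152))) (.node (.node (.node (.leaf 471040) (.leaf 4362240)) (.leaf 5005382)) (.node (.leaf 7782400) (.leaf 5145000)))))))

def bigMvXd18 : Janko.Tree (ℕ) :=
  (.node (.node (.node (.node (.node (.node (.node (.leaf 192512) (.leaf 11259904)) (.leaf 3544334)) (.node (.node (.leaf 4444160) (.leaf 10560380)) (.leaf 10052097))) (.node (.node (.node (.leaf 2322432) (.leaf 11546777)) (.leaf 9244672)) (.node (.node (.leaf 6397952) (.leaf 11629812)) (.leaf 5264423)))) (.node (.node (.node (.node (.leaf 204971) (.leaf 8176060)) (.leaf 8675328)) (.node (.node (.leaf 5464064) (.leaf 11318488)) (.leaf 2110197))) (.node (.node (.node (.leaf 376832) (.leaf 8733184)) (.leaf 9634046)) (.node (.leaf 7249920) (.leaf 10818375))))) (.node (.node (.node (.node (.node (.leaf 704512) (.leaf 9606418)) (.leaf 8283402)) (.node (.node (.leaf 4956160) (.leaf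 8634488)) (.leaf 7742198))) (.node (.node (.node (.leaf 2887680) (.leaf 8778980)) (.leaf 1327104)) (.node (.node (.leaf 3589290) (.leaf 11826001)) (.leaf 3444783)))) (.node (.node (.node (.node (.leaf 1789952) (.leaf 4473793)) (.leaf 1196032)) (.node (.node (.leaf 4637993) (.leaf 10334328)) (.leaf 1798144))) (.node (.node (.node (.leaf 430080) (.leaf 10375332)) (.leaf 1938466)) (.node (.leaf 7569408) (.leaf 4809208)))))) (.node (.node (.node (.node (.node (.node (.leaf 450560) (.leaf 2326528)) (.leaf 8118272)) (.node (.node (.leaf 4698112) (.leaf 10862973)) (.leaf 3309732))) (.node (.node (.node (.leaf 2588672) (.leaf 7431362)) (.leaf 6911170)) (.node (.node (.leaf 914466) (.leaf 11674774)) (.leaf 7582533)))) (.node (.node (.node (.node (.leaf 1523712) (.leaf 5259264)) (.leaf 8826880)) (.node (.node (.leaf 3388149) (.leaf 11215079)) (.leaf 2465902))) (.node (.node (.node (.leaf 3629056) (.leaf 6332416)) (.leaf 9854976)) (.node (.leaf 1847296) (.leaf 3560590))))) (.node (.node (.node (.node (.node (.leaf 974848) (.leaf 11436032)) (.leaf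 4661391)) (.node (.node (.leaf 5230592) (.leaf 5112207)) (.leaf 6455800))) (.node (.node (.node (.leaf 3141632) (.leaf 4399837)) (.leaf 9658368)) (.node (.leaf 851968) (.leaf 6472437)))) (.node (.node (.node (.node (.leaf 2060288) (.leaf 6751525)) (.leaf 9121792)) (.node (.node (.leaf 3555328) (.leaf 9183656)) (.leaf 10805248))) (.node (.node (.node (.leaf 549368) (.leaf 9102615)) (.leaf 3019408)) (.node (.leaf 2121728) (.leaf 3757326)))))))

def bigMvXd19 : Janko.Tree (ℕ) :=
  (.node (.node (.node (.node (.node (.node (.node (.leaf 78616) (.leaf 8565765)) (.leaf 6784034)) (.node (.node (.leaf 4456448) (.leaf 11719657)) (.leaf 10199040))) (.node (.node (.node (.leaf 1274078) (.leaf 10743934)) (.leaf 7218318)) (.node (.node (.leaf 6414336) (.leaf 11371426)) (.leaf 9720866)))) (.node (.node (.node (.node (.leaf 1245184) (.leaf 10735616)) (.leaf 8679424)) (.node (.node (.leaf 5472256) (.leaf 7197903)) (.leaf 1720320))) (.node (.node (.node (.leaf 3407872) (.leaf 6915265)) (.leaf 8262469)) (.node (.leaf 7254016) (.leaf 9438433))))) (.node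 (.node (.node (.node (.node (.leaf 716800) (.leaf 8417280)) (.leaf 8331264)) (.node (.node (.leaf 4968448) (.leaf 11768490)) (.leaf 1757945))) (.node (.node (.node (.leaf 2899968) (.leaf 7704622)) (.leaf 9543680)) (.node (.node (.leaf 1516357) (.leaf 8606568)) (.leaf 11001856)))) (.node (.node (.node (.node (.leaf 1802240) (.leaf 8258497)) (.leaf 8970240)) (.node (.node (.leaf 5984256) (.leaf 9257857)) (.leaf 6819960))) (.node (.node (.node (.leaf 3351586) (.leaf 10286299)) (.leaf 1458176)) (.node (.leaf 7577600) (.leaf 4505600)))))) (.node (.node (.node (.node (.node (.node (.leaf 32768) (.leaf 7065805)) (.leaf 6976288)) (.node (.node (.leaf 4706304) (.leaf 10694776)) (.leaf 3294390))) (.node (.node (.node (.leaf 1347584) (.leaf 10190985)) (.leaf 9408512)) (.node (.node (.leaf 6647808) (.leaf 11735040)) (.leaf 8171684)))) (.node (.node (.node (.node (.leaf 1536000) (.leaf 5727580)) (.leaf 5820416)) (.node (.node (.leaf 2871296) (.leaf 11690692)) (.leaf 2159349))) (.node (.node (.node (.leaf 3641344) (.leaf 11584001)) (.leaf 4453109))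 (.node (.leaf 5698594) (.leaf 3887389))))) (.node (.node (.node (.node (.node (.leaf 983040) (.leaf 2433024)) (.leaf 8495104)) (.node (.node (.leaf 5246976) (.leaf 4026368)) (.leaf 10469376))) (.node (.node (.node (.leaf 3149824) (.leaf 9909576)) (.leaf 9662464)) (.node (.leaf 7028736) (.leaf 10842232)))) (.node (.node (.node (.node (.leaf 217088) (.leaf 6046605)) (.leaf 6939463)) (.node (.node (.leaf 1881395) (.leaf 11817233)) (.leaf 7992346))) (.node (.node (.node (.leaf 1040384) (.leaf 10203388)) (.leaf 5358786)) (.node (.leaf 7790592) (.leaf 2215936)))))))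

def bigMvXd20 : Janko.Tree (ℕ) :=
  (.node (.node (.node (.node (.node (.node (.node (.leaf 200704) (.leaf 2859281)) (.leaf 4932088)) (.node (.node (.leaf 4468736) (.leaf 11195260)) (.leaf 6374728))) (.node (.node (.node (.leaf 2338816) (.leaf 8269998)) (.leaf 2184129)) (.node (.node (.leaf 6422528) (.leaf 11616376)) (.leaf 3145728)))) (.node (.node (.node (.node (.leaf 118784) (.leaf 2490368)) (.leaf 7463625)) (.node (.node (.leaf 5480448) (.leaf 5469409)) (.leaf 9724416))) (.node (.node (.node (.leaf 3416064) (.leaf 8913688)) (.leaf 5661633)) (.node (.leaf 7266304) (.leaf 10507477))))) (.node (.node (.node (.node (.node (.leaf 144046) (.leaf 11395072)) (.leaf 8335360)) (.node (.node (.leaf 4980736) (.leaf 11346879)) (.leaf 7340396))) (.node (.node (.node (.leaf 2904064) (.leaf 7525144)) (.leaf 9547776)) (.node (.node (.leaf 4428608) (.leaf 11879386)) (.leaf 10929186)))) (.node (.node (.node (.node (.leaf 1814528) (.leaf 11563008)) (.leaf 4211445)) (.node (.node (.leaf 5992448) (.leaf 9897103)) (.leaf 7275015))) (.node (.node (.node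 (.leaf 3936256) (.leaf 5415380)) (.leaf 3662358)) (.node (.leaf 7585792) (.leaf 10281554)))))) (.node (.node (.node (.node (.node (.node (.leaf 213884) (.leaf 3690581)) (.leaf 8130560)) (.node (.node (.leaf 1229304) (.leaf 3653632)) (.leaf 9359828))) (.node (.node (.node (.leaf 979990) (.leaf 11640832)) (.leaf 8744960)) (.node (.node (.leaf 778240) (.leaf 11502759)) (.leaf 6190274)))) (.node (.node (.node (.node (.leaf 1544192) (.leaf 9474957)) (.leaf 2093560)) (.node (.node (.leaf 2527700) (.leaf 11239463)) (.leaf 9790659))) (.node (.node (.node (.leaf 3649536) (.leaf 7983713)) (.leaf 9859072)) (.node (.leaf 3449208) (.leaf 10424320))))) (.node (.node (.node (.node (.node (.leaf 995328) (.leaf 7590606)) (.leaf 8499200)) (.node (.node (.leaf 1979696) (.leaf 9339558)) (.leaf 1819790))) (.node (.node (.node (.leaf 3162112) (.leaf 6542082)) (.leaf 9110876)) (.node (.leaf 5390731) (.leaf 9778568)))) (.node (.node (.node (.node (.leaf 2076672) (.leaf 3949812)) (.leaf 9125888)) (.node (.node (.leaf 4674403) (.leaf 6140624)) (.leaf 7041031)))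 (.node (.node (.node (.leaf 4182016) (.leaf 5256323)) (.leaf 1507328)) (.node (.leaf 3670724) (.leaf 4198400)))))))

def bigMvXd21 : Janko.Tree (ℕ) :=
  (.node (.node (.node (.node (.node (.node (.node (.leaf 208896) (.leaf 2417908)) (.leaf 4903416)) (.node (.node (.leaf 4476928) (.leaf 4305653)) (.leaf 1991426))) (.node (.node (.node (.leaf 253952) (.leaf 2740224)) (.leaf 7078394)) (.node (.node (.leaf 6426624) (.leaf 8032790)) (.leaf 4822147)))) (.node (.node (.node (.node (.leaf 1257472) (.leaf 5103759)) (.leaf 8687616)) (.node (.node (.leaf 5488640) (.leaf 9240576)) (.leaf 10297464))) (.node (.node (.node (.leaf 3428352) (.leaf 7762110)) (.leaf 1380352)) (.node (.leaf 4535109) (.leaf 7037453))))) (.node (.node (.node (.node (.node (.leaf 741376) (.leaf 2383872)) (.leaf 2056192)) (.node (.node (.leaf 2891776) (.leaf 8250638)) (.leaf 7095330))) (.node (.node (.node (.leaf 955709) (.leaf 8368810)) (.leaf 9555968)) (.node (.node (.leaf 819200) (.leaf 11883080)) (.leaf 9397442)))) (.node (.node (.node (.node (.leaf 1822720) (.leaf 10715256))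 (.leaf 8978432)) (.node (.node (.leaf 5996544) (.leaf 4767744)) (.leaf 2126766))) (.node (.node (.node (.leaf 3944448) (.leaf 9810091)) (.leaf 3596822)) (.node (.leaf 7593984) (.leaf 7692784)))))) (.node (.node (.node (.node (.node (.node (.leaf 475136) (.leaf 11325440)) (.leaf 8138752)) (.node (.node (.leaf 4714496) (.leaf 5923653)) (.leaf 1585152))) (.node (.node (.node (.leaf 2609152) (.leaf 9617408)) (.leaf 6287480)) (.node (.node (.leaf 3707399) (.leaf 11752776)) (.leaf 8893747)))) (.node (.node (.node (.node (.leaf 1556480) (.leaf 2708217)) (.leaf 8389165)) (.node (.node (.leaf 5763072) (.leaf 11252846)) (.leaf 3072358))) (.node (.node (.node (.leaf 3657728) (.leaf 11203828)) (.leaf 5570955)) (.node (.leaf 4354095) (.leaf 8037204))))) (.node (.node (.node (.node (.node (.leaf 999424) (.leaf 11228128)) (.leaf 8503296)) (.node (.node (.leaf 602112) (.leaf 11677972)) (.leaf 3753102))) (.node (.node (.node (.leaf 3170304) (.leaf 9282375)) (.leaf 4485877)) (.node (.leaf 7045120) (.leaf 8864745)))) (.node (.node (.node (.node (.leaf 2080768)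 (.leaf 9318400)) (.leaf 5882914)) (.node (.node (.leaf 712704) (.leaf 11890688)) (.leaf 7259373))) (.node (.node (.node (.leaf 4194304) (.leaf 7090487)) (.leaf 10096640)) (.node (.leaf 3904816) (.leaf 9945796)))))))

def bigMvXd22 : Janko.Tree (ℕ) :=
  (.node (.node (.node (.node (.node (.node (.node (.leaf 156976) (.leaf 2277376)) (.leaf 1053509)) (.node (.node (.leaf 4489216) (.leaf 10593257)) (.leaf 10211328))) (.node (.node (.node (.leaf 2040312) (.leaf 9864433)) (.leaf 8323724)) (.node (.node (.leaf 6434816) (.leaf 9732096)) (.leaf 5690026)))) (.node (.node (.node (.node (.leaf 1269760) (.leaf 5931387)) (.leaf 8691712)) (.node (.node (.leaf 5496832) (.leaf 10765454)) (.leaf 6907208))) (.node (.node (.node (.leaf 1664219) (.leaf 11722862)) (.leaf 6742773)) (.node (.leaf 2805760) (.leaf 5316608))))) (.node (.node (.node (.node (.node (.leaf 57344) (.leaf 6438912)) (.leaf 6729728)) (.node (.node (.leaf 2863104) (.leaf 9069842)) (.leaf 2147141))) (.node (.node (.node (.leaf 2920448) (.leaf 3616915)) (.leaf 2265592)) (.node (.node (.leaf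 6864896) (.leaf 11887176)) (.leaf 11005952)))) (.node (.node (.node (.node (.leaf 1835008) (.leaf 9289950)) (.leaf 8982528)) (.node (.node (.leaf 3839409) (.leaf 11363096)) (.leaf 2929968))) (.node (.node (.node (.leaf 3952640) (.leaf 10315080)) (.leaf 7102998)) (.node (.leaf 4022360) (.leaf 5977392)))))) (.node (.node (.node (.node (.node (.node (.leaf 487424) (.leaf 11314431)) (.leaf 8146944)) (.node (.node (.leaf 2274414) (.leaf 4371374)) (.leaf 3940523))) (.node (.node (.node (.leaf 286720) (.leaf 8655534)) (.leaf 1302528)) (.node (.node (.leaf 1512110) (.leaf 9417476)) (.leaf 10919936)))) (.node (.node (.node (.node (.leaf 425984) (.leaf 8905217)) (.leaf 1175552)) (.node (.node (.leaf 5771264) (.leaf 11862016)) (.leaf 4256269))) (.node (.node (.node (.leaf 1462958) (.leaf 9449592)) (.leaf 6755061)) (.node (.leaf 905216) (.leaf 7553327))))) (.node (.node (.node (.node (.node (.leaf 1007616) (.leaf 11052345)) (.leaf 8511488)) (.node (.node (.leaf 5275648) (.leaf 5980436)) (.leaf 1970461))) (.node (.node (.node (.leaf 3178496) (.leaf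 11654057)) (.leaf 5186908)) (.node (.leaf 7053312) (.leaf 11071488)))) (.node (.node (.node (.node (.leaf 295416) (.leaf 9588941)) (.leaf 1393698)) (.node (.node (.leaf 6205440) (.leaf 11428812)) (.leaf 7643818))) (.node (.node (.node (.leaf 4202496) (.leaf 10445692)) (.leaf 1638934)) (.node (.leaf 2142208) (.leaf 8754202)))))))

def bigMvXd23 : Janko.Tree (ℕ) :=
  (.node (.node (.node (.node (.node (.node (.node (.leaf 229376) (.leaf 6533812)) (.leaf 1011712)) (.node (.node (.leaf 4493312) (.leaf 9515340)) (.leaf 10215424))) (.node (.node (.node (.leaf 463352) (.leaf 9671488)) (.leaf 5338346)) (.node (.node (.leaf 2387968) (.leaf 11792454)) (.leaf 8291676)))) (.node (.node (.node (.node (.leaf 307992) (.leaf 5768385)) (.leaf 4448760)) (.node (.node (.leaf 5505024) (.leaf 10986433)) (.leaf 9229211))) (.node (.node (.node (.leaf 3436544) (.leaf 6636024)) (.leaf 2441216)) (.node (.leaf 3305915) (.leaf 2084864))))) (.node (.node (.node (.node (.node (.leaf 90869) (.leaf 2686976)) (.leaf 1064960)) (.node (.node (.leaf 1576960) (.leaf 4166424))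 (.leaf 3802146))) (.node (.node (.node (.leaf 311296) (.leaf 9794794)) (.leaf 3919992)) (.node (.node (.leaf 6868992) (.leaf 11842202)) (.leaf 7517454)))) (.node (.node (.node (.node (.leaf 1843200) (.leaf 10686464)) (.leaf 5075087)) (.node (.node (.leaf 6004736) (.leaf 11452477)) (.leaf 1810432))) (.node (.node (.node (.leaf 3956736) (.leaf 11530790)) (.leaf 6418945)) (.node (.leaf 7610368) (.leaf 4513792)))))) (.node (.node (.node (.node (.node (.node (.leaf 495616) (.leaf 4723967)) (.leaf 7025968)) (.node (.node (.leaf 2621662) (.leaf 10945790)) (.leaf 7512235))) (.node (.node (.node (.leaf 540894) (.leaf 11301932)) (.leaf 9420800)) (.node (.node (.leaf 6672384) (.leaf 11760341)) (.leaf 7406002)))) (.node (.node (.node (.node (.leaf 1568768) (.leaf 10437378)) (.leaf 8843264)) (.node (.node (.leaf 5775360) (.leaf 11857933)) (.leaf 10670080))) (.node (.node (.node (.leaf 3682304) (.leaf 3186688)) (.leaf 1425408)) (.node (.leaf 1540096) (.leaf 10707378))))) (.node (.node (.node (.node (.node (.leaf 1015808) (.leaf 4797019)) (.leaf 8519680))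 (.node (.node (.leaf 5283840) (.leaf 7771484)) (.leaf 7672093))) (.node (.node (.node (.leaf 3190784) (.leaf 7279585)) (.leaf 5739182)) (.node (.leaf 1946865) (.leaf 5386240)))) (.node (.node (.node (.node (.leaf 2097152) (.leaf 4076202)) (.leaf 6701826)) (.node (.node (.leaf 6217728) (.leaf 11498678)) (.leaf 10093380))) (.node (.node (.node (.leaf 4214784) (.leaf 6594560)) (.leaf 7917913)) (.node (.leaf 7802880) (.leaf 2719868)))))))

def bigMvXd24 : Janko.Tree (ℕ) :=
  (.node (.node (.node (.node (.node (.node (.node (.leaf 12288) (.leaf 8823633)) (.leaf 1852450)) (.node (.node (.leaf 4285710) (.leaf 4043256)) (.leaf 6283264))) (.node (.node (.node (.leaf 2363392) (.leaf 11190446)) (.leaf 9261056)) (.node (.node (.leaf 6447104) (.leaf 9568256)) (.leaf 10166928)))) (.node (.node (.node (.node (.leaf 1294336) (.leaf 5755588)) (.leaf 4415992)) (.node (.node (.leaf 5513216) (.leaf 4502156)) (.leaf 6652416))) (.node (.node (.node (.leaf 1827982) (.leaf 8749056)) (.leaf 7979512)) (.node (.leaf 7282688) (.leaf 6931726))))) (.node (.node (.node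 (.node (.node (.leaf 757760) (.leaf 6336717)) (.leaf 7967778)) (.node (.node (.leaf 569344) (.leaf 7114782)) (.leaf 10039800))) (.node (.node (.node (.leaf 2936832) (.leaf 10310907)) (.leaf 1331200)) (.node (.node (.leaf 1549125) (.leaf 11896136)) (.leaf 5748016)))) (.node (.node (.node (.node (.leaf 1855488) (.leaf 2629632)) (.leaf 8990720)) (.node (.node (.leaf 6012928) (.leaf 11764549)) (.leaf 10150025))) (.node (.node (.node (.leaf 3969024) (.leaf 11298137)) (.leaf 2470401)) (.node (.leaf 7622656) (.leaf 10330869)))))) (.node (.node (.node (.node (.node (.node (.leaf 507904) (.leaf 2330624)) (.leaf 8155136)) (.node (.node (.leaf 4730880) (.leaf 5341976)) (.leaf 10321920))) (.node (.node (.node (.leaf 1422104) (.leaf 8434168)) (.leaf 9303262)) (.node (.node (.leaf 6247086) (.leaf 11613563)) (.leaf 9679170)))) (.node (.node (.node (.node (.leaf 1572864) (.leaf 10850316)) (.leaf 8851456)) (.node (.node (.leaf 5791744) (.leaf 8396813)) (.leaf 3777433))) (.node (.node (.node (.leaf 409600) (.leaf 9687503)) (.leaf 6017896)) (.node (.leaf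 3379734) (.leaf 10847536))))) (.node (.node (.node (.node (.node (.leaf 1019904) (.leaf 10196099)) (.leaf 8523776)) (.node (.node (.leaf 5296128) (.leaf 10072714)) (.leaf 8234203))) (.node (.node (.node (.leaf 3198976) (.leaf 8184993)) (.leaf 5828608)) (.node (.leaf 7069696) (.leaf 10838136)))) (.node (.node (.node (.node (.leaf 221184) (.leaf 2674688)) (.leaf 1236992)) (.node (.node (.leaf 6225920) (.leaf 11645720)) (.leaf 4755576))) (.node (.node (.node (.leaf 1060864) (.leaf 5960835)) (.leaf 6837518)) (.node (.leaf 4161679) (.leaf 8356732)))))))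

def bigMvXd25 : Janko.Tree (ℕ) :=
  (.node (.node (.node (.node (.node (.node (.node (.leaf 249856) (.leaf 10179752)) (.leaf 4297665)) (.node (.node (.leaf 4509696) (.leaf 11441345)) (.leaf 9527939))) (.node (.node (.node (.leaf 2371584) (.leaf 5849349)) (.leaf 7500769)) (.node (.node (.leaf 6029312) (.leaf 5644288)) (.leaf 9217243)))) (.node (.node (.node (.node (.leaf 122880) (.leaf 2506752)) (.leaf 7893789)) (.node (.node (.leaf 5521408) (.leaf 11849728)) (.leaf 6840320))) (.node (.node (.node (.leaf 1676507) (.leaf 11726848)) (.leaf 8000546)) (.node (.leaf 880640) (.leaf 2225186))))) (.node (.node (.node (.node (.node (.leaf 765952) (.leaf 8315175)) (.leaf 6505776)) (.node (.node (.leaf 5029888) (.leaf 11284674)) (.leaf 1806855))) (.node (.node (.node (.leaf 2945024) (.leaf 9961663)) (.leaf 5215580)) (.node (.node (.leaf 823296) (.leaf 11023651)) (.leaf 7816096)))) (.node (.node (.node (.node (.leaf 1867776) (.leaf 6238890)) (.leaf 8994816)) (.node (.node (.leaf 6021120) (.leaf 11113632)) (.leaf 10739712))) (.node (.node (.node (.leaf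 3032098) (.leaf 3284992)) (.leaf 3781142)) (.node (.leaf 7630848) (.leaf 10486966)))))) (.node (.node (.node (.node (.node (.node (.leaf 234364) (.leaf 6070667)) (.leaf 8159232)) (.node (.node (.leaf 4743168) (.leaf 10720399)) (.leaf 5702937))) (.node (.node (.node (.leaf 2650112) (.leaf 5629276)) (.leaf 9424896)) (.node (.node (.leaf 6680576) (.leaf 11149756)) (.leaf 6616334)))) (.node (.node (.node (.node (.leaf 709400) (.leaf 5608796)) (.leaf 8855552)) (.node (.node (.leaf 5799936) (.leaf 4603904)) (.leaf 4178752))) (.node (.node (.node (.leaf 3698688) (.leaf 4989777)) (.leaf 6054680)) (.node (.leaf 2032373) (.leaf 7123652))))) (.node (.node (.node (.node (.node (.leaf 1032192) (.leaf 8884808)) (.leaf 8531968)) (.node (.node (.leaf 5300224) (.leaf 4300943)) (.leaf 3884313))) (.node (.node (.node (.leaf 1900544) (.leaf 6796161)) (.leaf 9699328)) (.node (.leaf 856064) (.leaf 7049786)))) (.node (.node (.node (.node (.leaf 2113536) (.leaf 9330688)) (.leaf 9146368)) (.node (.node (.leaf 6230016) (.leaf 7181149)) (.leaf 6132398))) (.node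 (.node (.node (.leaf 4231168) (.leaf 5989680)) (.leaf 6817038)) (.node (.leaf 7811072) (.leaf 10278114)))))))

def bigMvXd26 : Janko.Tree (ℕ) :=
  (.node (.node (.node (.node (.node (.node (.node (.leaf 107288) (.leaf 10006991)) (.leaf 8007680)) (.node (.node (.leaf 503808) (.leaf 10904344)) (.leaf 10219520))) (.node (.node (.node (.leaf 577656) (.leaf 11519386)) (.leaf 9265152)) (.node (.node (.leaf 6451200) (.leaf 11604393)) (.leaf 10866688)))) (.node (.node (.node (.node (.leaf 1004024) (.leaf 10952977)) (.leaf 1146880)) (.node (.node (.leaf 5533696) (.leaf 8082260)) (.leaf 7455778))) (.node (.node (.node (.leaf 3452928) (.leaf 6083216)) (.leaf 1581893)) (.node (.leaf 3624967) (.leaf 2413048))))) (.node (.node (.node (.node (.node (.leaf 770048) (.leaf 8209569)) (.leaf 7410882)) (.node (.node (.leaf 3609185) (.leaf 4425008)) (.leaf 7861645))) (.node (.node (.node (.leaf 2953216) (.leaf 2912256)) (.leaf 9576448)) (.node (.node (.leaf 6881280) (.leaf 11903193)) (.leaf 10883842)))) (.node (.node (.node (.node (.leaf 188416) (.leaf 11571200))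 (.leaf 7184384)) (.node (.node (.leaf 6025216) (.leaf 11333802)) (.leaf 2494464))) (.node (.node (.node (.leaf 438272) (.leaf 9057314)) (.leaf 1532589)) (.node (.leaf 6774831) (.leaf 4272299)))))) (.node (.node (.node (.node (.node (.node (.leaf 516096) (.leaf 2461696)) (.leaf 8167424)) (.node (.node (.leaf 4751360) (.leaf 10917297)) (.leaf 10326016))) (.node (.node (.node (.leaf 2662400) (.leaf 8922306)) (.leaf 8770040)) (.node (.node (.leaf 6692864) (.leaf 9233712)) (.leaf 9815310)))) (.node (.node (.node (.node (.leaf 1589248) (.leaf 11280888)) (.leaf 8859648)) (.node (.node (.leaf 5808128) (.leaf 8724480)) (.leaf 1777664))) (.node (.node (.node (.leaf 3702784) (.leaf 3207168)) (.leaf 1433600)) (.node (.leaf 7299780) (.leaf 4994074))))) (.node (.node (.node (.node (.node (.leaf 939356) (.leaf 10359541)) (.leaf 8544256)) (.node (.node (.leaf 2597825) (.leaf 9999389)) (.leaf 5166262))) (.node (.node (.node (.leaf 1713422) (.leaf 10870931)) (.leaf 6874382)) (.node (.leaf 7081984) (.leaf 5969027)))) (.node (.node (.node (.node (.leaf 512892)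 (.leaf 6525685)) (.leaf 5641564)) (.node (.node (.leaf 6242304) (.leaf 11306255)) (.leaf 6923303))) (.node (.node (.node (.leaf 4239360) (.leaf 10653901)) (.leaf 1697038)) (.node (.leaf 6291710) (.leaf 10859714)))))))

def bigMvXd27 : Janko.Tree (ℕ) :=
  (.node (.node (.node (.node (.node (.node (.node (.leaf 266240) (.leaf 5222904)) (.leaf 8011776)) (.node (.node (.leaf 4526080) (.leaf 10400703)) (.leaf 10231808))) (.node (.node (.node (.leaf 2392064) (.leaf 9478905)) (.leaf 9273344)) (.node (.node (.leaf 6459392) (.leaf 11748485)) (.leaf 5226920)))) (.node (.node (.node (.node (.leaf 1323008) (.leaf 10932497)) (.leaf 8536295)) (.node (.node (.leaf 5541888) (.leaf 11129684)) (.leaf 1929973))) (.node (.node (.node (.leaf 680158) (.leaf 11269311)) (.leaf 7995896)) (.node (.leaf 7311360) (.leaf 3994658))))) (.node (.node (.node (.node (.node (.leaf 185006) (.leaf 11068110)) (.leaf 8372224)) (.node (.node (.leaf 5042176) (.leaf 7143424)) (.leaf 10420224))) (.node (.node (.node (.leaf 2375800) (.leaf 9798776)) (.leaf 3981312)) (.node (.node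 (.leaf 6893568) (.leaf 11481487)) (.leaf 11014144)))) (.node (.node (.node (.node (.leaf 1884160) (.leaf 10924842)) (.leaf 2933115)) (.node (.node (.leaf 3260416) (.leaf 4784128)) (.leaf 10388841))) (.node (.node (.node (.leaf 3989504) (.leaf 10830979)) (.leaf 10002432)) (.node (.leaf 7647232) (.leaf 2179072)))))) (.node (.node (.node (.node (.node (.node (.leaf 242798) (.leaf 9482360)) (.leaf 8179712)) (.node (.node (.leaf 4763648) (.leaf 10510456)) (.leaf 8274572))) (.node (.node (.node (.leaf 2670592) (.leaf 4006210)) (.leaf 9433088)) (.node (.node (.leaf 1357104) (.leaf 10781177)) (.leaf 7373592)))) (.node (.node (.node (.node (.leaf 163840) (.leaf 2917189)) (.leaf 4134149)) (.node (.node (.leaf 5816320) (.leaf 8868352)) (.leaf 7558385))) (.node (.node (.node (.leaf 3715072) (.leaf 7640103)) (.leaf 9883648)) (.node (.leaf 3400437) (.leaf 11141120))))) (.node (.node (.node (.node (.node (.leaf 1056768) (.leaf 7057923)) (.leaf 5177848)) (.node (.node (.leaf 5308416) (.leaf 7476049)) (.leaf 10493952))) (.node (.node (.node (.leaf 3231744)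 (.leaf 3010560)) (.leaf 4080373)) (.node (.leaf 7086080) (.leaf 2048000)))) (.node (.node (.node (.node (.leaf 2138112) (.leaf 11591680)) (.leaf 4669944)) (.node (.node (.leaf 6250496) (.leaf 8507896)) (.leaf 5824512))) (.node (.node (.node (.leaf 479232) (.leaf 4945087)) (.leaf 4158812)) (.node (.leaf 7827456) (.leaf 10027800)))))))

def bigMvXd28 : Janko.Tree (ℕ) :=
  (.node (.node (.node (.node (.node (.node (.node (.leaf 270336) (.leaf 3097675)) (.leaf 6890800)) (.node (.node (.leaf 2064384) (.leaf 7533336)) (.leaf 7435288))) (.node (.node (.node (.leaf 262144) (.leaf 5170586)) (.leaf 9277440)) (.node (.node (.leaf 1441792) (.leaf 7418914)) (.leaf 7316295)))) (.node (.node (.node (.node (.leaf 1335296) (.leaf 2510848)) (.leaf 4833511)) (.node (.node (.leaf 5554176) (.leaf 4329472)) (.leaf 4264773))) (.node (.node (.node (.leaf 1495262) (.leaf 5034670)) (.leaf 2552866)) (.node (.leaf 3540007) (.leaf 9753080))))) (.node (.node (.node (.node (.node (.leaf 786432) (.leaf 9429496)) (.leaf 8376320)) (.node (.node (.leaf 5054464) (.leaf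 10760672)) (.leaf 2134016))) (.node (.node (.node (.leaf 2965504) (.leaf 4010821)) (.leaf 2850816)) (.node (.node (.leaf 3465438) (.leaf 11231271)) (.leaf 11018240)))) (.node (.node (.node (.node (.leaf 745472) (.leaf 5349598)) (.leaf 2843841)) (.node (.node (.leaf 3077125) (.leaf 11387706)) (.leaf 10154121))) (.node (.node (.node (.leaf 3997696) (.leaf 5313806)) (.leaf 3961624)) (.node (.leaf 7655424) (.leaf 9248911)))))) (.node (.node (.node (.node (.node (.node (.leaf 532480) (.leaf 8929280)) (.leaf 8187904)) (.node (.node (.leaf 4771840) (.leaf 11666736)) (.leaf 6501595))) (.node (.node (.node (.leaf 2682880) (.leaf 9760768)) (.leaf 9130745)) (.node (.node (.leaf 5207310) (.leaf 7848553)) (.leaf 3986702)))) (.node (.node (.node (.node (.leaf 402094) (.leaf 7443598)) (.leaf 6684811)) (.node (.node (.leaf 4984832) (.leaf 11601304)) (.leaf 5059423))) (.node (.node (.node (.leaf 3719168) (.leaf 10526867)) (.leaf 9868543)) (.node (.leaf 4387573) (.leaf 11134006))))) (.node (.node (.node (.node (.node (.leaf 94208) (.leaf 3933583)) (.leaf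 4719621)) (.node (.node (.leaf 5320704) (.leaf 11341995)) (.leaf 9889201))) (.node (.node (.node (.leaf 348160) (.leaf 9880344)) (.leaf 7975970)) (.node (.leaf 7098368) (.leaf 11079680)))) (.node (.node (.node (.node (.leaf 225280) (.leaf 11092865)) (.leaf 6349121)) (.node (.node (.leaf 3367446) (.leaf 5584282)) (.leaf 4571136))) (.node (.node (.node (.leaf 631288) (.leaf 10896016)) (.leaf 7421952)) (.node (.leaf 7835648) (.leaf 2228224)))))))

def bigMvXd29 : Janko.Tree (ℕ) :=
  (.node (.node (.node (.node (.node (.node (.node (.leaf 282624) (.leaf 11276288)) (.leaf 4314049)) (.node (.node (.leaf 4538368) (.leaf 10605336)) (.leaf 3194880))) (.node (.node (.node (.leaf 1090040) (.leaf 2748416)) (.leaf 9285632)) (.node (.node (.leaf 6483968) (.leaf 7229765)) (.leaf 7287311)))) (.node (.node (.node (.node (.leaf 1351680) (.leaf 8265841)) (.leaf 8716288)) (.node (.node (.leaf 5566464) (.leaf 8041300)) (.leaf 6852608))) (.node (.node (.node (.leaf 3469312) (.leaf 6517979)) (.leaf 5886744)) (.node (.leaf 2232320) (.leaf 6722373))))) (.node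 (.node (.node (.node (.node (.leaf 65536) (.leaf 2703864)) (.leaf 3788800)) (.node (.node (.leaf 5062656) (.leaf 7360582)) (.leaf 3794224))) (.node (.node (.node (.leaf 1683678) (.leaf 10085213)) (.leaf 2769733)) (.node (.node (.leaf 827392) (.leaf 11915848)) (.leaf 11026432)))) (.node (.node (.node (.node (.leaf 1896448) (.leaf 11575296)) (.leaf 1208320)) (.node (.node (.leaf 3003160) (.leaf 11579905)) (.leaf 10752000))) (.node (.node (.node (.leaf 4001792) (.leaf 9913370)) (.leaf 1478656)) (.node (.leaf 7659520) (.leaf 2601103)))))) (.node (.node (.node (.node (.node (.node (.leaf 536576) (.leaf 7864877)) (.leaf 8196096)) (.node (.node (.leaf 4780032) (.leaf 5079040)) (.leaf 10342400))) (.node (.node (.node (.leaf 2625758) (.leaf 9646326)) (.leaf 2643166)) (.node (.node (.leaf 5600560) (.leaf 10617564)) (.leaf 7820636)))) (.node (.node (.node (.node (.leaf 1613824) (.leaf 9163336)) (.leaf 1179648)) (.node (.node (.leaf 5832704) (.leaf 11310085)) (.leaf 6591480))) (.node (.node (.node (.leaf 3441064) (.leaf 6984938)) (.leaf 2970879))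 (.node (.leaf 3396118) (.leaf 7106871))))) (.node (.node (.node (.node (.node (.leaf 1069056) (.leaf 4976640)) (.leaf 1110016)) (.node (.node (.leaf 4481985) (.leaf 9457916)) (.leaf 3522782))) (.node (.node (.node (.leaf 3248128) (.leaf 9949976)) (.leaf 7799079)) (.node (.leaf 860160) (.leaf 11083776)))) (.node (.node (.node (.node (.leaf 1955164) (.leaf 11407864)) (.leaf 1241088)) (.node (.node (.leaf 6258688) (.leaf 5485305)) (.leaf 9327920))) (.node (.node (.node (.leaf 4259840) (.leaf 10474824)) (.leaf 7471224)) (.node (.leaf 7843840) (.leaf 7323648)))))))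

def bigMvXd30 : Janko.Tree (ℕ) :=
  (.node (.node (.node (.node (.node (.node (.node (.leaf 290816) (.leaf 9093624)) (.leaf 7320770)) (.node (.node (.leaf 4550656) (.leaf 10347802)) (.leaf 10244096))) (.node (.node (.node (.leaf 634880) (.leaf 4620792)) (.leaf 9297920)) (.node (.node (.leaf 749568) (.leaf 9682944)) (.leaf 2949632)))) (.node (.node (.node (.node (.leaf 1359872) (.leaf 9965702)) (.leaf 7381102)) (.node (.node (.leaf 5578752) (.leaf 4396187)) (.leaf 2547902))) (.node (.node (.node (.leaf 3473408) (.leaf 11171133)) (.leaf 2249999)) (.node (.leaf 3371765) (.leaf 2192197))))) (.node (.node (.node (.node (.node (.leaf 806912) (.leaf 2400256)) (.leaf 4898940)) (.node (.node (.leaf 5070848) (.leaf 7135317)) (.leaf 6677832))) (.node (.node (.node (.leaf 2977792) (.leaf 10704142)) (.leaf 9532262)) (.node (.node (.leaf 6444339) (.leaf 11920252)) (.leaf 11030528)))) (.node (.node (.node (.node (.leaf 1908736) (.leaf 2637824)) (.leaf 5574676)) (.node (.node (.leaf 688128) (.leaf 10036229)) (.leaf 7607550))) (.node (.node (.node (.leaf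 501084) (.leaf 6956399)) (.leaf 7034118)) (.node (.leaf 7667712) (.leaf 7369541)))))) (.node (.node (.node (.node (.node (.node (.leaf 544768) (.leaf 9675815)) (.leaf 2359800)) (.node (.node (.leaf 4792320) (.leaf 11506132)) (.leaf 1597440))) (.node (.node (.node (.leaf 2695168) (.leaf 4465322)) (.leaf 1310720)) (.node (.node (.leaf 5805250) (.leaf 11789114)) (.leaf 1961984)))) (.node (.node (.node (.node (.leaf 1626112) (.leaf 8832142)) (.leaf 8871936)) (.node (.node (.leaf 5844992) (.leaf 9078075)) (.leaf 7934193))) (.node (.node (.node (.leaf 803240) (.leaf 4342294)) (.leaf 1437696)) (.node (.leaf 1623074) (.leaf 9905478))))) (.node (.node (.node (.node (.node (.leaf 1077248) (.leaf 11412305)) (.leaf 8568832)) (.node (.node (.leaf 2614209) (.leaf 10477615)) (.leaf 8839693))) (.node (.node (.node (.leaf 3256320) (.leaf 3114299)) (.leaf 5759560)) (.node (.leaf 3039918) (.leaf 10260783)))) (.node (.node (.node (.node (.leaf 2162688) (.leaf 4878840)) (.leaf 9166848)) (.node (.node (.leaf 6262784) (.leaf 5841653)) (.leaf 6664949))) (.node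 (.node (.node (.leaf 4268032) (.leaf 7680285)) (.leaf 3215360)) (.node (.leaf 7016572) (.leaf 7787221)))))))

def bigMvXd31 : Janko.Tree (ℕ) :=
  (.node (.node (.node (.node (.node (.node (.node (.leaf 303104) (.leaf 3974112)) (.leaf 1999700)) (.node (.node (.leaf 4554752) (.leaf 10613136)) (.leaf 10101053))) (.node (.node (.node (.leaf 2424832) (.leaf 6988348)) (.leaf 6000766)) (.node (.node (.leaf 2453504) (.leaf 11416804)) (.leaf 3674197)))) (.node (.node (.node (.node (.leaf 1368064) (.leaf 2514944)) (.leaf 6479992)) (.node (.node (.leaf 5591040) (.leaf 11785428)) (.leaf 3084288))) (.node (.node (.node (.leaf 3481600) (.leaf 8701059)) (.leaf 4654351)) (.node (.leaf 6120110) (.leaf 7459329))))) (.node (.node (.node (.node (.node (.leaf 197400) (.leaf 11322394)) (.leaf 1073152)) (.node (.node (.leaf 581632) (.leaf 10875672)) (.leaf 3900078))) (.node (.node (.node (.leaf 2985984) (.leaf 8115386)) (.leaf 5625102)) (.node (.node (.leaf 6918144) (.leaf 11924040)) (.leaf 7921664)))) (.node (.node (.node (.node (.leaf 1912832) (.leaf 2700458))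 (.leaf 9015296)) (.node (.node (.leaf 6066176) (.leaf 11399752)) (.leaf 3731456))) (.node (.node (.node (.leaf 4018176) (.leaf 10351418)) (.leaf 10010624)) (.node (.leaf 2573045) (.leaf 11182080)))))) (.node (.node (.node (.node (.node (.node (.leaf 552960) (.leaf 8052780)) (.leaf 8216576)) (.node (.node (.leaf 4804608) (.leaf 10580038)) (.leaf 3569007))) (.node (.node (.node (.leaf 1306712) (.leaf 7734311)) (.leaf 9453568)) (.node (.node (.leaf 6717440) (.leaf 11608064)) (.leaf 10936320)))) (.node (.node (.node (.node (.leaf 1634304) (.leaf 9113600)) (.leaf 7394309)) (.node (.node (.leaf 5853184) (.leaf 10978049)) (.leaf 7295897))) (.node (.node (.node (.leaf 3747840) (.leaf 3219456)) (.leaf 6463488)) (.node (.leaf 3928856) (.leaf 10634016))))) (.node (.node (.node (.node (.node (.leaf 1085440) (.leaf 8450253)) (.leaf 8577024)) (.node (.node (.leaf 5332992) (.leaf 8213132)) (.leaf 1691648))) (.node (.node (.node (.leaf 3268608) (.leaf 10065211)) (.leaf 9715712)) (.node (.leaf 1863680) (.leaf 4633286)))) (.node (.node (.node (.node (.leaf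 2174976) (.leaf 11522809)) (.leaf 9170944)) (.node (.node (.leaf 3486990) (.leaf 10756444)) (.leaf 10048064))) (.node (.node (.node (.leaf 4276224) (.leaf 4030749)) (.leaf 5403802)) (.node (.leaf 7856128) (.leaf 9351168)))))))

def bigMvXd : Janko.Tree (ℕ) := (.node (.node (.node (.node (.node bigMvXd0 bigMvXd16) (.node bigMvXd8 bigMvXd24)) (.node (.node bigMvXd4 bigMvXd20) (.node bigMvXd12 bigMvXd28))) (.node (.node (.node bigMvXd2 bigMvXd18) (.node bigMvXd10 bigMvXd26)) (.node (.node bigMvXd6 bigMvXd22) (.node bigMvXd14 bigMvXd30)))) (.node (.node (.node (.node bigMvXd1 bigMvXd17) (.node bigMvXd9 bigMvXd25)) (.node (.node bigMvXd5 bigMvXd21) (.node bigMvXd13 bigMvXd29))) (.node (.node (.node bigMvXd3 bigMvXd19) (.node bigMvXd11 bigMvXd27)) (.node (.node bigMvXd7 bigMvXd23) (.node bigMvXd15 bigMvXd31)))))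

theorem big_mvXd0 : ((List.range 256).all fun i => movesOK baseB bigCert bigGens bigT 2912 (baseP.getD 3 0) bigMvXd (Nat.add 0 i)) = true := by decide +kernel

theorem big_mvXd1 : ((List.range 256).all fun i => movesOK baseB bigCert bigGens bigT 2912 (baseP.getD 3 0) bigMvXd (Nat.add 256 i)) = true := by decide +kernel

theorem big_mvXd2 : ((List.range 256).all fun i => movesOK baseB bigCert bigGens bigT 2912 (baseP.getD 3 0) bigMvXd (Nat.add 512 i)) = true := by decide +kernel

theorem big_mvXd3 : ((List.range 256).all fun i => movesOK baseB bigCert bigGens bigT 2912 (baseP.getD 3 0) bigMvXd (Nat.add 768 i)) = true := by decide +kernel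

theorem big_mvXd4 : ((List.range 256).all fun i => movesOK baseB bigCert bigGens bigT 2912 (baseP.getD 3 0) bigMvXd (Nat.add 1024 i)) = true := by decide +kernel

theorem big_mvXd5 : ((List.range 256).all fun i => movesOK baseB bigCert bigGens bigT 2912 (baseP.getD 3 0) bigMvXd (Nat.add 1280 i)) = true := by decide +kernel

theorem big_mvXd6 : ((List.range 256).all fun i => movesOK baseB bigCert bigGens bigT 2912 (baseP.getD 3 0) bigMvXd (Nat.add 1536 i)) = true := by decide +kernel

theorem big_mvXd7 : ((List.range 256).all fun i => movesOK baseB bigCert bigGens bigT 2912 (baseP.getD 3 0) bigMvXd (Nat.add 1792 i)) = true := by decide +kernel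

theorem big_mvXd8 : ((List.range 256).all fun i => movesOK baseB bigCert bigGens bigT 2912 (baseP.getD 3 0) bigMvXd (Nat.add 2048 i)) = true := by decide +kernel

theorem big_mvXd9 : ((List.range 256).all fun i => movesOK baseB bigCert bigGens bigT 2912 (baseP.getD 3 0) bigMvXd (Nat.add 2304 i)) = true := by decide +kernel

theorem big_mvXd10 : ((List.range 256).all fun i => movesOK baseB bigCert bigGens bigT 2912 (baseP.getD 3 0) bigMvXd (Nat.add 2560 i)) = true := by decide +kernel

theorem big_mvXd11 : ((List.range 96).all fun i => movesOK baseB bigCert bigGens bigT 2912 (baseP.getD 3 0) bigMvXd (Nat.add 2816 i)) = true := by decide +kernel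

theorem big_mvXd : ∀ i < 2912, movesOK baseB bigCert bigGens bigT 2912 (baseP.getD 3 0) bigMvXd i = true := by
  intro i hi
  by_cases h0 : i < 256
  · have := List.all_eq_true.1 big_mvXd0 (i - 0) (List.mem_range.2 (by omega)); rwa [show Nat.add 0 (i - 0) = i from Nat.add_sub_cancel' (by omega)] at this
  by_cases h1 : i < 512
  · have := List.all_eq_true.1 big_mvXd1 (i - 256) (List.mem_range.2 (by omega)); rwa [show Nat.add 256 (i - 256) = i from Nat.add_sub_cancel' (by omega)] at this
  by_cases h2 : i < 768
  · have := List.all_eq_true.1 big_mvXd2 (i - 512) (List.mem_range.2 (by omega)); rwa [show Nat.add 512 (i - 512) = i from Nat.add_sub_cancel' (by omega)] at this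
  by_cases h3 : i < 1024
  · have := List.all_eq_true.1 big_mvXd3 (i - 768) (List.mem_range.2 (by omega)); rwa [show Nat.add 768 (i - 768) = i from Nat.add_sub_cancel' (by omega)] at this
  by_cases h4 : i < 1280
  · have := List.all_eq_true.1 big_mvXd4 (i - 1024) (List.mem_range.2 (by omega)); rwa [show Nat.add 1024 (i - 1024) = i from Nat.add_sub_cancel' (by omega)] at this
  by_cases h5 : i < 1536
  · have := List.all_eq_true.1 big_mvXd5 (i - 1280) (List.mem_range.2 (by omega)); rwa [show Nat.add 1280 (i - 1280) = i from Nat.add_sub_cancel' (by omega)] at this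
  by_cases h6 : i < 1792
  · have := List.all_eq_true.1 big_mvXd6 (i - 1536) (List.mem_range.2 (by omega)); rwa [show Nat.add 1536 (i - 1536) = i from Nat.add_sub_cancel' (by omega)] at this
  by_cases h7 : i < 2048
  · have := List.all_eq_true.1 big_mvXd7 (i - 1792) (List.mem_range.2 (by omega)); rwa [show Nat.add 1792 (i - 1792) = i from Nat.add_sub_cancel' (by omega)] at this
  by_cases h8 : i < 2304
  · have := List.all_eq_true.1 big_mvXd8 (i - 2048) (List.mem_range.2 (by omega)); rwa [show Nat.add 2048 (i - 2048) = i from Nat.add_sub_cancel' (by omega)] at this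
  by_cases h9 : i < 2560
  · have := List.all_eq_true.1 big_mvXd9 (i - 2304) (List.mem_range.2 (by omega)); rwa [show Nat.add 2304 (i - 2304) = i from Nat.add_sub_cancel' (by omega)] at this
  by_cases h10 : i < 2816
  · have := List.all_eq_true.1 big_mvXd10 (i - 2560) (List.mem_range.2 (by omega)); rwa [show Nat.add 2560 (i - 2560) = i from Nat.add_sub_cancel' (by omega)] at this
  have := List.all_eq_true.1 big_mvXd11 (i - 2816) (List.mem_range.2 (by omega)); rwa [show Nat.add 2816 (i - 2816) = i from Nat.add_sub_cancel' (by omega)] at this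



end Cfsg.Agent.Lie.GTwoThreeMult
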