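import Cfsg.Agent.Lib.Lie.GTwoThreeMult.BigMoves

/-!
Cocycles and cosets for the part at 3 of the covering of the group of type G2 over three elements (generated).
-/

set_option autoImplicit false
set_option maxRecDepth 100000
set_option maxHeartbeats 0
set_option Elab.async false

namespace Cfsg.Agent.Lie.GTwoThreeMult

open Cfsg.Agent.Lie PermCover

def bigVp : ℕ := 0x4c5e31168c816340a8ab5dd81f7689dac236c3adf2156e045bcf76ebe01b2e539116841b01ae76883d9ca7e5491a82cec816996a08e9426cb2ba195466446560f1635a434f4dc366055119492fcb0b69762da85d443a9fc9a9f8d94e82c7911e858a238d9a9eb92c24063273254d348a204b4d562534e966434c554c14a2e2f8688d955ace69d2731a84808e0bc7487982b6b66f9f11d5f0b133f444ff84bfa1421083aa06e98203e0a1474345960466031a008693289881b4a7a86308e9d188b0989b6b848428ed5d3cab17516354cd217f2b2f441b40e6d84e1e1288b65e60b7701de0f177bc80c248137e02e0103844b004e0ce9c6694ae2a48f2d1b25eb2b0a248aa8214e680a115b24e121295a0f2000b858361e00868061c69c19f5087e355f6d483c39cee47338e1ae2863947c6924ad504a9af4de6920b2d1ca02a3b295867eac5324a383195576914a0fc946741ad955359c57d24bc4ac9a9b591c958c2c1519f28b638f144ee282b9886e935ea5aaf24a5b09487d8fd1ac8781493c96681ea116eabaecce6c020e865eccf8a3d224cd89b39ea18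

theorem big_vp : ((List.range 364).all fun k => Nat.beq (PermNine.pg bigVp k) (imgW bigGens (bigCert.wd 137) k)) = true := by decide +kernel

def bigMvp0 : Janko.Tree (ℕ) :=
  (.node (.node (.node (.node (.node (.node (.node (.leaf 137) (.leaf 10485782)) (.leaf 8523864)) (.node (.node (.leaf 8819263) (.leaf 10539779)) (.leaf 5808842))) (.node (.node (.node (.leaf 1175758) (.leaf 6493212)) (.leaf 10829903)) (.node (.node (.leaf 1586407) (.leaf 10179506)) (.leaf 6599646)))) (.node (.node (.node (.node (.leaf 520838) (.leaf 10392380)) (.leaf 5714117)) (.node (.node (.leaf 1261568) (.leaf 11924710)) (.leaf 3641884))) (.node (.node (.node (.leaf 983573) (.leaf 9482959)) (.leaf 3002895)) (.node (.leaf 11260140) (.leaf 5690516))))) (.node (.node (.node (.node (.node (.leaf 458825) (.leaf 3331207)) (.leaf 7070368)) (.node (.node (.leaf 5329990) (.leaf 5649759)) (.leaf 9557073))) (.node (.node (.node (.leaf 5194634) (.leaf 8914262)) (.leaf 10708212)) (.node (.node (.leaf 7045516) (.leaf 11162525)) (.leaf 7934453)))) (.node (.node (.node (.node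 (.leaf 6263962) (.leaf 11854069)) (.leaf 7320975)) (.node (.node (.leaf 2335413) (.leaf 4579854)) (.leaf 5775936))) (.node (.node (.node (.leaf 9941479) (.leaf 7447308)) (.leaf 1557605)) (.node (.leaf 1610515) (.leaf 9774349)))))) (.node (.node (.node (.node (.node (.node (.leaf 234709) (.leaf 11134022)) (.leaf 9794786)) (.node (.node (.leaf 4658270) (.leaf 6604079)) (.leaf 5866254))) (.node (.node (.node (.leaf 1254348) (.leaf 10834726)) (.leaf 11227836)) (.node (.node (.leaf 3761350) (.leaf 7377767)) (.leaf 9221232)))) (.node (.node (.node (.node (.leaf 1324043) (.leaf 8724660)) (.leaf 2056487)) (.node (.node (.leaf 10462001) (.leaf 11592110)) (.leaf 11604062))) (.node (.node (.node (.leaf 1634628) (.leaf 7524964)) (.leaf 9203723)) (.node (.leaf 10219831) (.leaf 9392216))))) (.node (.node (.node (.node (.node (.leaf 3039439) (.leaf 9200377)) (.leaf 5313192)) (.node (.node (.leaf 2508146) (.leaf 7967679)) (.leaf 10769089))) (.node (.node (.node (.leaf 3105126) (.leaf 11613126)) (.leaf 4129572)) (.node (.leaf 10043823) (.leaf 10138396))))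 (.node (.node (.node (.node (.leaf 1499989) (.leaf 9319237)) (.leaf 4841585)) (.node (.node (.leaf 3089663) (.leaf 3674190)) (.leaf 3706880))) (.node (.node (.node (.leaf 2486616) (.leaf 3904681)) (.leaf 10011752)) (.node (.leaf 9458866) (.leaf 11793132)))))))

def bigMvp1 : Janko.Tree (ℕ) :=
  (.node (.node (.node (.node (.node (.node (.node (.leaf 33343) (.leaf 11920634)) (.leaf 10932815)) (.node (.node (.leaf 9085199) (.leaf 10675583)) (.leaf 3690664))) (.node (.node (.node (.leaf 9798907) (.leaf 9139380)) (.leaf 2032488)) (.node (.node (.leaf 6276294) (.leaf 8766283)) (.leaf 5046527)))) (.node (.node (.node (.node (.leaf 237683) (.leaf 9249621)) (.leaf 2818552)) (.node (.node (.leaf 8028183) (.leaf 5440245)) (.leaf 4513808))) (.node (.node (.node (.leaf 3195947) (.leaf 6472366)) (.leaf 7353683)) (.node (.leaf 10404685) (.leaf 10289771))))) (.node (.node (.node (.node (.node (.leaf 975100) (.leaf 8635234)) (.leaf 1290646)) (.node (.node (.leaf 4547198) (.leaf 7169152)) (.leaf 3268732))) (.node (.node (.node (.leaf 2151210) (.leaf 10749172))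 (.leaf 2740224)) (.node (.node (.leaf 3019156) (.leaf 9388328)) (.leaf 2629728)))) (.node (.node (.node (.node (.leaf 1594472) (.leaf 6856762)) (.leaf 7738034)) (.node (.node (.leaf 8066208) (.leaf 2921847)) (.leaf 3273963))) (.node (.node (.node (.leaf 1868537) (.leaf 8176893)) (.leaf 9695649)) (.node (.leaf 5997175) (.leaf 4985336)))))) (.node (.node (.node (.node (.node (.node (.leaf 2250006) (.leaf 5117205)) (.leaf 9282540)) (.node (.node (.leaf 4170971) (.leaf 7369130)) (.leaf 8303603))) (.node (.node (.node (.leaf 2688070) (.leaf 3215921)) (.leaf 2416802)) (.node (.node (.leaf 3952891) (.leaf 6832264)) (.leaf 10274006)))) (.node (.node (.node (.node (.leaf 8528339) (.leaf 8459017)) (.leaf 2478920)) (.node (.node (.leaf 7734588) (.leaf 8852465)) (.leaf 10503493))) (.node (.node (.node (.leaf 1443123) (.leaf 3551682)) (.leaf 2565334)) (.node (.leaf 1826816) (.leaf 9667084))))) (.node (.node (.node (.node (.node (.leaf 811987) (.leaf 10663119)) (.leaf 8442235)) (.node (.node (.leaf 4333890) (.leaf 8081859)) (.leaf 4108310))) (.node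 (.node (.node (.leaf 3036394) (.leaf 11462016)) (.leaf 11662237)) (.node (.leaf 9155835) (.leaf 8131792)))) (.node (.node (.node (.node (.leaf 1511567) (.leaf 5018215)) (.leaf 4194386)) (.node (.node (.leaf 1946535) (.leaf 11874633)) (.leaf 8385413))) (.node (.node (.node (.leaf 9761776) (.leaf 10387860)) (.leaf 5743274)) (.node (.leaf 10007177) (.leaf 3399825)))))))

def bigMvp2 : Janko.Tree (ℕ) :=
  (.node (.node (.node (.node (.node (.node (.node (.leaf 8698) (.leaf 4199772)) (.leaf 4981166)) (.node (.node (.leaf 1270795) (.leaf 3506496)) (.leaf 7451385))) (.node (.node (.node (.leaf 6386621) (.leaf 7550066)) (.leaf 4994450)) (.node (.node (.leaf 889359) (.leaf 8094746)) (.leaf 11658222)))) (.node (.node (.node (.node (.leaf 553116) (.leaf 1049043)) (.leaf 4642005)) (.node (.node (.leaf 9241482) (.leaf 8823519)) (.leaf 3108894))) (.node (.node (.node (.leaf 1598517) (.leaf 9040357)) (.leaf 6779973)) (.node (.leaf 8372480) (.leaf 5026296))))) (.node (.node (.node (.node (.node (.leaf 537421) (.leaf 9504093)) (.leaf 2466909)) (.node (.node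 (.leaf 4973048) (.leaf 9163881)) (.leaf 422889))) (.node (.node (.node (.leaf 5120646) (.leaf 9232546)) (.leaf 10228008)) (.node (.node (.leaf 6726854) (.leaf 3850308)) (.leaf 7827662)))) (.node (.node (.node (.node (.leaf 3859212) (.leaf 5989605)) (.leaf 3834119)) (.node (.node (.leaf 5141452) (.leaf 3792924)) (.leaf 3662228))) (.node (.node (.node (.leaf 6799443) (.leaf 4256794)) (.leaf 6886707)) (.node (.leaf 2974989) (.leaf 4431872)))))) (.node (.node (.node (.node (.node (.node (.leaf 164830) (.leaf 2515100)) (.leaf 4923665)) (.node (.node (.leaf 6304701) (.leaf 5993387)) (.leaf 11763825))) (.node (.node (.node (.leaf 2556135) (.leaf 6734323)) (.leaf 9121966)) (.node (.node (.leaf 8254658) (.leaf 9278572)) (.leaf 11723277)))) (.node (.node (.node (.node (.leaf 2252946) (.leaf 8667382)) (.leaf 10134846)) (.node (.node (.leaf 3380471) (.leaf 4605252)) (.leaf 1482821))) (.node (.node (.node (.leaf 439312) (.leaf 11531293)) (.leaf 5419513)) (.node (.leaf 7340100) (.leaf 10232826))))) (.node (.node (.node (.node (.node (.leaf 766214) (.leaf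 6964536)) (.leaf 664522)) (.node (.node (.leaf 8409170) (.leaf 11822263)) (.leaf 10547432))) (.node (.node (.node (.leaf 6009424) (.leaf 6394533)) (.leaf 5682374)) (.node (.leaf 6681109) (.leaf 5981135)))) (.node (.node (.node (.node (.leaf 3080545) (.leaf 6295994)) (.leaf 4674483)) (.node (.node (.leaf 877582) (.leaf 10916160)) (.leaf 4542511))) (.node (.node (.node (.leaf 2048139) (.leaf 7753943)) (.leaf 1795334)) (.node (.leaf 3747932) (.leaf 6606961)))))))

def bigMvp3 : Janko.Tree (ℕ) :=
  (.node (.node (.node (.node (.node (.node (.node (.leaf 4302) (.leaf 5321382)) (.leaf 5411722)) (.node (.node (.leaf 1356098) (.leaf 1361160)) (.leaf 8937980))) (.node (.node (.node (.leaf 2162961) (.leaf 5058808)) (.leaf 11568084)) (.node (.node (.leaf 8110743) (.leaf 6439573)) (.leaf 3219956)))) (.node (.node (.node (.node (.leaf 357458) (.leaf 6046303)) (.leaf 8012367)) (.node (.node (.leaf 4326186) (.leaf 2090192)) (.leaf 3056107))) (.node (.node (.node (.leaf 1696393) (.leaf 11179286)) (.leaf 10782027)) (.node (.leaf 10060796) (.leaf 5674261)))))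 (.node (.node (.node (.node (.node (.leaf 525525) (.leaf 7062358)) (.leaf 7746182)) (.node (.node (.leaf 2114100) (.leaf 3731524)) (.leaf 1581942))) (.node (.node (.node (.leaf 2502672) (.leaf 4678136)) (.leaf 6415339)) (.node (.node (.leaf 1549076) (.leaf 5096228)) (.leaf 4046848)))) (.node (.node (.node (.node (.leaf 807796) (.leaf 5600337)) (.leaf 10711977)) (.node (.node (.leaf 3702954) (.leaf 10617152)) (.leaf 11010470))) (.node (.node (.node (.leaf 892935) (.leaf 9577060)) (.leaf 10314934)) (.node (.leaf 7504412) (.leaf 9126514)))))) (.node (.node (.node (.node (.node (.node (.leaf 140585) (.leaf 8855957)) (.leaf 8455050)) (.node (.node (.leaf 2925612) (.leaf 11153910)) (.leaf 6185780))) (.node (.node (.node (.leaf 2289768) (.leaf 8709065)) (.leaf 6861416)) (.node (.node (.leaf 1908860) (.leaf 3789205)) (.leaf 6316894)))) (.node (.node (.node (.node (.leaf 1258297) (.leaf 9364304)) (.leaf 2859467)) (.node (.node (.leaf 8999673) (.leaf 8749163)) (.leaf 10609862))) (.node (.node (.node (.leaf 3499112) (.leaf 3532025)) (.leaf 11423755))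 (.node (.leaf 7655951) (.leaf 4751840))))) (.node (.node (.node (.node (.node (.leaf 844140) (.leaf 4497912)) (.leaf 7947612)) (.node (.node (.leaf 656612) (.leaf 3846401)) (.leaf 11351344))) (.node (.node (.node (.leaf 3134218) (.leaf 10264661)) (.leaf 9704400)) (.node (.leaf 6250796) (.leaf 1352981)))) (.node (.node (.node (.node (.leaf 836519) (.leaf 10470096)) (.leaf 2008118)) (.node (.node (.leaf 857319) (.leaf 2129983)) (.leaf 4628854))) (.node (.node (.node (.leaf 5346041) (.leaf 8577808)) (.leaf 3016085)) (.node (.leaf 2400651) (.leaf 9523890)))))))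

def bigMvp4 : Janko.Tree (ℕ) :=
  (.node (.node (.node (.node (.node (.node (.node (.leaf 38014) (.leaf 2510987)) (.leaf 8323555)) (.node (.node (.leaf 5891367) (.leaf 7987480)) (.leaf 1614475))) (.node (.node (.node (.leaf 4952531) (.leaf 7488497)) (.leaf 10420849)) (.node (.node (.leaf 6829326) (.leaf 11477943)) (.leaf 6787836)))) (.node (.node (.node (.node (.leaf 577829) (.leaf 4306197)) (.leaf 2134311)) (.node (.node (.leaf 8508749) (.leaf 11862104)) (.leaf 7333006))) (.node (.node (.node (.leaf 2986378) (.leaf 8675827)) (.leaf 11256176)) (.node (.leaf 7266624) (.leaf 8426923))))) (.node (.node (.node (.node (.node (.leaf 206085) (.leaf 11055356)) (.leaf 4120794)) (.node (.node (.leaf 2396559) (.leaf 9838999)) (.leaf 10371140))) (.node (.node (.node (.leaf 4424271) (.leaf 10428780)) (.leaf 11206972)) (.node (.node (.leaf 5288878) (.leaf 4830038)) (.leaf 1312134)))) (.node (.node (.node (.node (.leaf 882050) (.leaf 11825237)) (.leaf 11903139)) (.node (.node (.leaf 5223361) (.leaf 8061487)) (.leaf 9072901))) (.node (.node (.node (.leaf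 11203556) (.leaf 4632874)) (.leaf 2728242)) (.node (.leaf 11576564) (.leaf 4891572)))))) (.node (.node (.node (.node (.node (.node (.leaf 82208) (.leaf 9745050)) (.leaf 1233218)) (.node (.node (.leaf 11453665) (.leaf 6660096)) (.leaf 9609378))) (.node (.node (.node (.leaf 4473729) (.leaf 3539703)) (.leaf 7484739)) (.node (.node (.leaf 869552) (.leaf 7172781)) (.leaf 11117642)))) (.node (.node (.node (.node (.leaf 8052762) (.leaf 9478375)) (.leaf 7127551)) (.node (.node (.leaf 2917399) (.leaf 2577657)) (.leaf 10637772))) (.node (.node (.node (.leaf 3625351) (.leaf 9340148)) (.leaf 9901360)) (.node (.leaf 1520164) (.leaf 9237106))))) (.node (.node (.node (.node (.node (.leaf 7042343) (.leaf 4915200)) (.leaf 1045648)) (.node (.node (.leaf 9036537) (.leaf 11448869)) (.leaf 8217729))) (.node (.node (.node (.leaf 750114) (.leaf 9270044)) (.leaf 3814065)) (.node (.leaf 6497038) (.leaf 2208776)))) (.node (.node (.node (.node (.leaf 10065299) (.leaf 3687750)) (.leaf 6640871)) (.node (.node (.leaf 348624) (.leaf 7279316)) (.leaf 6041672))) (.node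 (.node (.node (.leaf 5129139) (.leaf 6226417)) (.leaf 3183992)) (.node (.leaf 4669779) (.leaf 4481024)))))))

def bigMvp5 : Janko.Tree (ℕ) :=
  (.node (.node (.node (.node (.node (.node (.node (.leaf 21928) (.leaf 8602005)) (.leaf 10736014)) (.node (.node (.leaf 2036655) (.leaf 4846941)) (.leaf 10347815))) (.node (.node (.node (.leaf 1127734) (.leaf 3986598)) (.leaf 6361796)) (.node (.node (.leaf 905725) (.leaf 9012466)) (.leaf 9008476)))) (.node (.node (.node (.node (.leaf 1958348) (.leaf 647566)) (.leaf 4252742)) (.node (.node (.leaf 7787733) (.leaf 5853358)) (.leaf 3974160))) (.node (.node (.node (.leaf 426829) (.leaf 7058199)) (.leaf 10597286)) (.node (.leaf 9314983) (.leaf 11788759))))) (.node (.node (.node (.node (.node (.leaf 587076) (.leaf 5145050)) (.leaf 10208408)) (.node (.node (.leaf 8364043) (.leaf 7140557)) (.leaf 11019100))) (.node (.node (.node (.leaf 4318304) (.leaf 5758976)) (.leaf 5232026)) (.node (.node (.leaf 9953280) (.leaf 2385245)) (.leaf 5554986)))) (.node (.node (.node (.node (.leaf 1683608) (.leaf 2691576)) (.leaf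 3826179)) (.node (.node (.leaf 2889107) (.leaf 5030429)) (.leaf 9830944))) (.node (.node (.node (.leaf 1638919) (.leaf 10277150)) (.leaf 10084744)) (.node (.leaf 6509470) (.leaf 9470382)))))) (.node (.node (.node (.node (.node (.node (.leaf 332636) (.leaf 10564340)) (.leaf 7585954)) (.node (.node (.leaf 472208) (.leaf 8790060)) (.leaf 414532))) (.node (.node (.node (.leaf 561907) (.leaf 8654973)) (.leaf 9430186)) (.node (.node (.leaf 1782366) (.leaf 11801976)) (.leaf 1671431)))) (.node (.node (.node (.node (.leaf 1025243) (.leaf 8278829)) (.leaf 6731121)) (.node (.node (.leaf 2786532) (.leaf 10646165)) (.leaf 5607893))) (.node (.node (.node (.leaf 3519324) (.leaf 9422142)) (.leaf 6644224)) (.node (.leaf 8422585) (.leaf 7660778))))) (.node (.node (.node (.node (.node (.leaf 729225) (.leaf 1409546)) (.leaf 7798911)) (.node (.node (.leaf 2941820) (.leaf 9732517)) (.leaf 6349271))) (.node (.node (.node (.leaf 3450280) (.leaf 11399253)) (.leaf 5124239)) (.node (.leaf 11564138) (.leaf 4141152)))) (.node (.node (.node (.node (.leaf 95387) (.leaf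 11215581)) (.leaf 5502073)) (.node (.node (.leaf 6094916) (.leaf 8180806)) (.leaf 9863780))) (.node (.node (.node (.leaf 2004278) (.leaf 7192845)) (.leaf 11616477)) (.node (.leaf 4858671) (.leaf 8905326)))))))

def bigMvp6 : Janko.Tree (ℕ) :=
  (.node (.node (.node (.node (.node (.node (.node (.leaf 328703) (.leaf 9659321)) (.leaf 7847999)) (.node (.node (.leaf 2626720) (.leaf 2851111)) (.leaf 5391491))) (.node (.node (.node (.leaf 8868855) (.leaf 9437945)) (.leaf 2258189)) (.node (.node (.leaf 3301861) (.leaf 2855060)) (.leaf 10760512)))) (.node (.node (.node (.node (.leaf 278528) (.leaf 2237291)) (.leaf 5632136)) (.node (.node (.leaf 1065873) (.leaf 8729412)) (.leaf 10904571))) (.node (.node (.node (.leaf 6566649) (.leaf 9720716)) (.leaf 5436339)) (.node (.leaf 3011899) (.leaf 10327219))))) (.node (.node (.node (.node (.node (.leaf 1082412) (.leaf 10854782)) (.leaf 9806627)) (.node (.node (.leaf 2913335) (.leaf 9748698)) (.leaf 3555992))) (.node (.node (.node (.leaf 3609864) (.leaf 7119504)) (.leaf 7012818)) (.node (.node (.leaf 3932926)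 (.leaf 11784520)) (.leaf 5112886)))) (.node (.node (.node (.node (.leaf 717808) (.leaf 10543153)) (.leaf 3589202)) (.node (.node (.leaf 2282569) (.leaf 7180295)) (.leaf 9352618))) (.node (.node (.node (.leaf 8897493) (.leaf 1336009)) (.leaf 9917337)) (.node (.leaf 3122250) (.leaf 4932734)))))) (.node (.node (.node (.node (.node (.node (.leaf 250013) (.leaf 9491855)) (.leaf 4608893)) (.node (.node (.leaf 4596964) (.leaf 10805380)) (.leaf 10268740))) (.node (.node (.node (.leaf 229806) (.leaf 9826683)) (.leaf 7685287)) (.node (.node (.leaf 1537170) (.leaf 10813985)) (.leaf 11683032)))) (.node (.node (.node (.node (.leaf 147837) (.leaf 8848014)) (.leaf 9273922)) (.node (.node (.leaf 4780678) (.leaf 8393108)) (.leaf 3061059))) (.node (.node (.node (.leaf 6817063) (.leaf 4453265)) (.leaf 7566633)) (.node (.leaf 9769645) (.leaf 9716400))))) (.node (.node (.node (.node (.node (.leaf 3465865) (.leaf 8831084)) (.leaf 8439018)) (.node (.node (.leaf 660428) (.leaf 6988435)) (.leaf 9191787))) (.node (.node (.node (.leaf 2897109) (.leaf 7156991)) (.leaf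 8122450)) (.node (.leaf 9933637) (.leaf 8467591)))) (.node (.node (.node (.node (.leaf 1205572) (.leaf 9159322)) (.leaf 10850773)) (.node (.node (.leaf 3405115) (.leaf 5956110)) (.leaf 9330923))) (.node (.node (.node (.leaf 5370826) (.leaf 5795971)) (.leaf 7528533)) (.node (.leaf 11739874) (.leaf 4478326)))))))

def bigMvp7 : Janko.Tree (ℕ) :=
  (.node (.node (.node (.node (.node (.node (.node (.leaf 30071) (.leaf 8737674)) (.leaf 2871755)) (.node (.node (.leaf 11137949) (.leaf 10585466)) (.leaf 3248177))) (.node (.node (.node (.leaf 1396941) (.leaf 3638688)) (.leaf 1028968)) (.node (.node (.leaf 1606492) (.leaf 5816359)) (.leaf 8639612)))) (.node (.node (.node (.node (.leaf 1140036) (.leaf 6751143)) (.leaf 8966291)) (.node (.node (.leaf 4276287) (.leaf 3223573)) (.leaf 5620428))) (.node (.node (.node (.leaf 1930177) (.leaf 7475200)) (.leaf 11776861)) (.node (.leaf 1589575) (.leaf 4505858))))) (.node (.node (.node (.node (.node (.leaf 615652) (.leaf 4612909)) (.leaf 8696497)) (.node (.node (.leaf 4395796) (.leaf 6124804)) (.leaf 3068284)))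 (.node (.node (.node (.leaf 4399914) (.leaf 5644455)) (.leaf 10367100)) (.node (.node (.leaf 2994243) (.leaf 6709328)) (.leaf 8188530)))) (.node (.node (.node (.node (.leaf 1687916) (.leaf 4403321)) (.leaf 6529753)) (.node (.node (.leaf 11817172) (.leaf 7471940)) (.leaf 2220346))) (.node (.node (.node (.leaf 11703593) (.leaf 10216316)) (.leaf 7537969)) (.node (.leaf 3351217) (.leaf 7348849)))))) (.node (.node (.node (.node (.node (.node (.leaf 160404) (.leaf 4764338)) (.leaf 671770)) (.node (.node (.leaf 5034255) (.leaf 11797389)) (.leaf 864942))) (.node (.node (.node (.leaf 2736420) (.leaf 8909590)) (.leaf 1331304)) (.node (.node (.leaf 1516648) (.leaf 8048864)) (.leaf 8147345)))) (.node (.node (.node (.node (.leaf 1430349) (.leaf 11768811)) (.leaf 2654622)) (.node (.node (.leaf 2355418) (.leaf 7541628)) (.leaf 9434387))) (.node (.node (.node (.leaf 11339056) (.leaf 8983677)) (.leaf 8585847)) (.node (.leaf 7357638) (.leaf 5485254))))) (.node (.node (.node (.node (.node (.leaf 3314654) (.leaf 1832315)) (.leaf 5547441)) (.node (.node (.leaf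 5304664) (.leaf 5972654)) (.leaf 1757411))) (.node (.node (.node (.leaf 2990245) (.leaf 7410727)) (.leaf 5570560)) (.node (.leaf 2970264) (.leaf 2167929)))) (.node (.node (.node (.node (.leaf 606607) (.leaf 6399295)) (.leaf 5678314)) (.node (.node (.leaf 6112454) (.leaf 8561517)) (.leaf 3678864))) (.node (.node (.node (.leaf 619221) (.leaf 9183820)) (.leaf 11551325)) (.node (.leaf 1987873) (.leaf 4178193)))))))

def bigMvp8 : Janko.Tree (ℕ) :=
  (.node (.node (.node (.node (.node (.node (.node (.leaf 12427) (.leaf 6935903)) (.leaf 2126892)) (.node (.node (.leaf 1426627) (.leaf 5013903)) (.leaf 6266880))) (.node (.node (.node (.leaf 1118410) (.leaf 7500104)) (.leaf 9766122)) (.node (.node (.leaf 6320196) (.leaf 7435311)) (.leaf 5903289)))) (.node (.node (.node (.node (.leaf 312181) (.leaf 11346816)) (.leaf 8872345)) (.node (.node (.leaf 4104487) (.leaf 8659288)) (.leaf 9847309))) (.node (.node (.node (.leaf 430868) (.leaf 7274510)) (.leaf 7328452)) (.node (.leaf 1467063) (.leaf 3949167))))) (.node (.node (.node (.node (.node (.leaf 1016705)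 (.leaf 8040511)) (.leaf 11846431)) (.node (.node (.leaf 4445296) (.leaf 8553359)) (.leaf 6092013))) (.node (.node (.node (.leaf 1208766) (.leaf 5693440)) (.leaf 1131080)) (.node (.node (.leaf 1835735) (.leaf 11031154)) (.leaf 4756693)))) (.node (.node (.node (.node (.leaf 6955329) (.leaf 11572010)) (.leaf 5943579)) (.node (.node (.leaf 4887253) (.leaf 10642589)) (.leaf 7204932))) (.node (.node (.node (.leaf 913939) (.leaf 6164629)) (.leaf 8581378)) (.node (.leaf 9757242) (.leaf 8991982)))))) (.node (.node (.node (.node (.node (.node (.leaf 144034) (.leaf 5779938)) (.leaf 5399154)) (.node (.node (.leaf 475892) (.leaf 11755569)) (.leaf 3101349))) (.node (.node (.node (.leaf 2040474) (.leaf 10870960)) (.leaf 8101959)) (.node (.node (.leaf 689455) (.leaf 5010324)) (.leaf 3989681)))) (.node (.node (.node (.node (.leaf 3252733) (.leaf 10199042)) (.leaf 9020693)) (.node (.node (.leaf 4530520) (.leaf 7443804)) (.leaf 6595732))) (.node (.node (.node (.leaf 3563933) (.leaf 6807639)) (.leaf 4727423)) (.node (.leaf 7259334) (.leaf 2122980))))) (.node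 (.node (.node (.node (.node (.leaf 791437) (.leaf 2712810)) (.leaf 2069268)) (.node (.node (.leaf 8168661) (.leaf 5365830)) (.leaf 10450118))) (.node (.node (.node (.leaf 1495641) (.leaf 8204659)) (.leaf 2810762)) (.node (.leaf 6103053) (.leaf 6688790)))) (.node (.node (.node (.node (.leaf 5170354) (.leaf 9474763)) (.leaf 4293089)) (.node (.node (.leaf 3658334) (.leaf 9056401)) (.leaf 3285489))) (.node (.node (.node (.leaf 263294) (.leaf 8450389)) (.leaf 5969261)) (.node (.leaf 5133424) (.leaf 6051117)))))))

def bigMvp9 : Janko.Tree (ℕ) :=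
  (.node (.node (.node (.node (.node (.node (.node (.leaf 86694) (.leaf 10957610)) (.leaf 5906614)) (.node (.node (.leaf 8491611) (.leaf 11694230)) (.leaf 8774597))) (.node (.node (.node (.leaf 1007834) (.leaf 10109284)) (.leaf 5935929)) (.node (.node (.leaf 6148245) (.leaf 6533956)) (.leaf 3751936)))) (.node (.node (.node (.node (.leaf 1152228) (.leaf 9225346)) (.leaf 6128277)) (.node (.node (.leaf 1991626) (.leaf 9508010)) (.leaf 6284693))) (.node (.node (.node (.leaf 3433621) (.leaf 6845076)) (.leaf 2298909)) (.node (.leaf 9957847) (.leaf 4719711))))) (.node (.node (.node (.node (.node (.leaf 2876317) (.leaf 9905124)) (.leaf 9262064)) (.node (.node (.leaf 2597641) (.leaf 9118008)) (.leaf 10425711))) (.node (.node (.node (.leaf 2622337) (.leaf 7976352)) (.leaf 9519240)) (.node (.node (.leaf 11108966) (.leaf 4527336)) (.leaf 7980261)))) (.node (.node (.node (.node (.leaf 934758) (.leaf 8401356)) (.leaf 8975391)) (.node (.node (.leaf 4927883) (.leaf 10526902)) (.leaf 8835584))) (.node (.node (.node (.leaf 10376346) (.leaf 7868421)) (.leaf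 7028893)) (.node (.leaf 3777004) (.leaf 2020560)))))) (.node (.node (.node (.node (.node (.node (.leaf 24970) (.leaf 8127102)) (.leaf 5829199)) (.node (.node (.leaf 4362843) (.leaf 8201106)) (.leaf 6137118))) (.node (.node (.node (.leaf 967220) (.leaf 8631214)) (.leaf 7037774)) (.node (.node (.leaf 6561860) (.leaf 7439733)) (.leaf 10785532)))) (.node (.node (.node (.node (.leaf 193186) (.leaf 3888387)) (.leaf 2770041)) (.node (.node (.leaf 1422137) (.leaf 10413294)) (.leaf 7459814))) (.node (.node (.node (.leaf 3072059) (.leaf 5350072)) (.leaf 2962206)) (.node (.leaf 7082368) (.leaf 11088078))))) (.node (.node (.node (.node (.node (.leaf 3174784) (.leaf 7065661)) (.leaf 5660811)) (.node (.node (.leaf 5804182) (.leaf 3354892)) (.leaf 9335441))) (.node (.node (.node (.leaf 3940911) (.leaf 6022540)) (.leaf 4698298)) (.node (.leaf 6881518) (.leaf 5362384)))) (.node (.node (.node (.node (.leaf 1097817) (.leaf 10399932)) (.leaf 2834836)) (.node (.node (.leaf 10724102) (.leaf 5730381)) (.leaf 5977006))) (.node (.node (.node (.leaf 4093156) (.leaf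 9700731)) (.leaf 10478364)) (.node (.leaf 640126) (.leaf 10224013)))))))

def bigMvp10 : Janko.Tree (ℕ) :=
  (.node (.node (.node (.node (.node (.node (.node (.leaf 42054) (.leaf 2187407)) (.leaf 5357974)) (.node (.node (.leaf 8512460) (.leaf 11781222)) (.leaf 10212647))) (.node (.node (.node (.leaf 939078) (.leaf 8646788)) (.leaf 9545083)) (.node (.node (.leaf 7246949) (.leaf 7898521)) (.leaf 11141847)))) (.node (.node (.node (.node (.leaf 295873) (.leaf 6525029)) (.leaf 9409538)) (.node (.node (.leaf 5857710) (.leaf 10753369)) (.leaf 10867887))) (.node (.node (.node (.leaf 3629448) (.leaf 11596053)) (.leaf 8348134)) (.node (.leaf 8250493) (.leaf 8533000))))) (.node (.node (.node (.node (.node (.leaf 1114298) (.leaf 2966608)) (.leaf 1368605)) (.node (.node (.leaf 9167028) (.leaf 3371642)) (.leaf 7005294))) (.node (.node (.node (.leaf 4468759) (.leaf 5148913)) (.leaf 4690047)) (.node (.node (.leaf 3581333) (.leaf 11519131)) (.leaf 4223126)))) (.node (.node (.node (.node (.leaf 3113456) (.leaf 7250698)) (.leaf 2086157)) (.node (.node (.leaf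 2614233) (.leaf 8618414)) (.leaf 7991661))) (.node (.node (.node (.leaf 10003194) (.leaf 8310956)) (.leaf 11248458)) (.node (.leaf 6656139) (.leaf 11079823)))))) (.node (.node (.node (.node (.node (.node (.leaf 365222) (.leaf 8368164)) (.leaf 9633982)) (.node (.node (.leaf 2319446) (.leaf 6197999)) (.leaf 6038901))) (.node (.node (.node (.leaf 8115244) (.leaf 11547704)) (.leaf 5022849)) (.node (.node (.leaf 1765770) (.leaf 9580677)) (.leaf 10691775)))) (.node (.node (.node (.node (.leaf 151916) (.leaf 2053342)) (.leaf 1303596)) (.node (.node (.leaf 8241175) (.leaf 11169857)) (.leaf 6840438))) (.node (.node (.node (.leaf 6078918) (.leaf 4084060)) (.leaf 9446368)) (.node (.leaf 9663115) (.leaf 8934180))))) (.node (.node (.node (.node (.node (.leaf 684089) (.leaf 6574176)) (.leaf 5084289)) (.node (.node (.leaf 8597735) (.leaf 2437830)) (.leaf 2978216))) (.node (.node (.node (.leaf 820378) (.leaf 9670788)) (.leaf 2892701)) (.node (.leaf 1463604) (.leaf 8692142)))) (.node (.node (.node (.node (.leaf 290940) (.leaf 9642033)) (.leaf 11047789))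 (.node (.node (.leaf 3162476) (.leaf 8732799)) (.leaf 9134116))) (.node (.node (.node (.leaf 5657035) (.leaf 10077255)) (.leaf 7103361)) (.node (.leaf 4878782) (.leaf 9646510)))))))

def bigMvp11 : Janko.Tree (ℕ) :=
  (.node (.node (.node (.node (.node (.node (.node (.leaf 971998) (.leaf 4031268)) (.leaf 4744362)) (.node (.node (.leaf 2789399) (.leaf 3994509)) (.leaf 7188803))) (.node (.node (.node (.leaf 2262340) (.leaf 8478861)) (.leaf 2450380)) (.node (.node (.leaf 6459736) (.leaf 9294217)) (.leaf 5227468)))) (.node (.node (.node (.node (.leaf 8327834) (.leaf 6648292)) (.leaf 5498064)) (.node (.node (.leaf 8164493) (.leaf 9053213)) (.leaf 3916733))) (.node (.node (.node (.leaf 921814) (.leaf 2831431)) (.leaf 4034855)) (.node (.leaf 6926743) (.leaf 5538463))))) (.node (.node (.node (.node (.node (.leaf 557561) (.leaf 6255261)) (.leaf 10678397)) (.node (.node (.leaf 2310570) (.leaf 6706073)) (.leaf 3810281))) (.node (.node (.node (.leaf 7693494) (.leaf 8745551)) (.leaf 7816246)) (.node (.node (.leaf 1545649) (.leaf 5918853)) (.leaf 8430747))))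 (.node (.node (.node (.node (.leaf 3150473) (.leaf 11301199)) (.leaf 3231856)) (.node (.node (.leaf 1242032) (.leaf 6591354)) (.leaf 4961515))) (.node (.node (.node (.leaf 377438) (.leaf 1770158)) (.leaf 6587391)) (.node (.leaf 11895415) (.leaf 4584802)))))) (.node (.node (.node (.node (.node (.node (.leaf 319625) (.leaf 10253598)) (.leaf 11129738)) (.node (.node (.leaf 676033) (.leaf 2609849)) (.leaf 7111342))) (.node (.node (.node (.leaf 988382) (.leaf 8946609)) (.leaf 4231311)) (.node (.node (.leaf 6583494) (.leaf 10301578)) (.leaf 7812495)))) (.node (.node (.node (.node (.leaf 1720972) (.leaf 3912036)) (.leaf 2946289)) (.node (.node (.leaf 8069908) (.leaf 3208276)) (.leaf 9860179))) (.node (.node (.node (.leaf 1528503) (.leaf 2757541)) (.leaf 10518558)) (.node (.leaf 3536208) (.leaf 2409805))))) (.node (.node (.node (.node (.node (.leaf 3478588) (.leaf 1295378)) (.leaf 5710960)) (.node (.node (.leaf 635679) (.leaf 10572035)) (.leaf 8474731))) (.node (.node (.node (.leaf 1749318) (.leaf 10911928)) (.leaf 9728906)) (.node (.leaf 6972614)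 (.leaf 4940960)))) (.node (.node (.node (.node (.leaf 754775) (.leaf 6201920)) (.leaf 602696)) (.node (.node (.leaf 3584897) (.leaf 10191244)) (.leaf 9801955))) (.node (.node (.node (.leaf 267424) (.leaf 5234692)) (.leaf 6718787)) (.node (.leaf 7767274) (.leaf 9548243)))))))

def bigMvp12 : Janko.Tree (ℕ) :=
  (.node (.node (.node (.node (.node (.node (.node (.leaf 50336) (.leaf 8679829)) (.leaf 1062116)) (.node (.node (.leaf 9450886) (.leaf 6301068)) (.leaf 7344914))) (.node (.node (.node (.leaf 225572) (.leaf 2175757)) (.leaf 9081097)) (.node (.node (.leaf 3076600) (.leaf 6181225)) (.leaf 7958769)))) (.node (.node (.node (.node (.leaf 2015736) (.leaf 6140857)) (.leaf 2532762)) (.node (.node (.leaf 8077564) (.leaf 4592720)) (.leaf 6411070))) (.node (.node (.node (.leaf 188880) (.leaf 6758790)) (.leaf 3560067)) (.node (.leaf 3875220) (.leaf 9486580))))) (.node (.node (.node (.node (.node (.leaf 307343) (.leaf 9347585)) (.leaf 9891956)) (.node (.node (.leaf 8684426) (.leaf 9737511)) (.leaf 11285110))) (.node (.node (.node (.leaf 7668896)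 (.leaf 9912732)) (.leaf 7938515)) (.node (.node (.leaf 815949) (.leaf 5325092)) (.leaf 4621589)))) (.node (.node (.node (.node (.leaf 1676173) (.leaf 11269146)) (.leaf 7856241)) (.node (.node (.leaf 2593633) (.leaf 11674829)) (.leaf 4771883))) (.node (.node (.node (.leaf 6013371) (.leaf 9991369)) (.leaf 6358214)) (.node (.leaf 8541613) (.leaf 5513825)))))) (.node (.node (.node (.node (.node (.node (.leaf 385869) (.leaf 4956273)) (.leaf 11690201)) (.node (.node (.leaf 2560788) (.leaf 9814105)) (.leaf 9499433))) (.node (.node (.node (.leaf 1249973) (.leaf 5887260)) (.leaf 11239823)) (.node (.node (.leaf 3728618) (.leaf 11629188)) (.leaf 7610585)))) (.node (.node (.node (.node (.leaf 758839) (.leaf 1643329)) (.leaf 569928)) (.node (.node (.leaf 7165074) (.leaf 11760613)) (.leaf 6804769))) (.node (.node (.node (.leaf 3294160) (.leaf 10719766)) (.leaf 7185526)) (.node (.leaf 9687110) (.leaf 7927154))))) (.node (.node (.node (.node (.node (.leaf 389554) (.leaf 8098235)) (.leaf 4653746)) (.node (.node (.leaf 4219306) (.leaf 11428823)) (.leaf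 10237074))) (.node (.node (.node (.leaf 1791262) (.leaf 11543784)) (.leaf 7557741)) (.node (.leaf 6083714) (.leaf 6976459)))) (.node (.node (.node (.node (.leaf 594741) (.leaf 2543790)) (.leaf 11026559)) (.node (.node (.leaf 1786175) (.leaf 1385397)) (.leaf 4989877))) (.node (.node (.node (.leaf 508126) (.leaf 11403776)) (.leaf 1937540)) (.node (.leaf 7823652) (.leaf 7394724)))))))

def bigMvp13 : Janko.Tree (ℕ) :=
  (.node (.node (.node (.node (.node (.node (.node (.leaf 53606) (.leaf 11060458)) (.leaf 9196473)) (.node (.node (.leaf 2212872) (.leaf 8389612)) (.leaf 11653163))) (.node (.node (.node (.leaf 2270436) (.leaf 8704571)) (.leaf 7390213)) (.node (.node (.leaf 3454295) (.leaf 10789340)) (.leaf 2695828)))) (.node (.node (.node (.node (.leaf 492272) (.leaf 4132990)) (.leaf 4867327)) (.node (.node (.leaf 9290634) (.leaf 4702630)) (.leaf 10494586))) (.node (.node (.node (.leaf 3338308) (.leaf 3785029)) (.leaf 4284887)) (.node (.leaf 3633152) (.leaf 1184088))))) (.node (.node (.node (.node (.node (.leaf 496544) (.leaf 8545217)) (.leaf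 4072394)) (.node (.node (.leaf 7573660) (.leaf 643781)) (.leaf 10581345))) (.node (.node (.node (.leaf 5526410) (.leaf 10453036)) (.leaf 1381387)) (.node (.node (.leaf 6156815) (.leaf 5407592)) (.leaf 5653290)))) (.node (.node (.node (.node (.leaf 3597425) (.leaf 11444324)) (.leaf 5268003)) (.node (.node (.leaf 9396790) (.leaf 2868230)) (.leaf 10695434))) (.node (.node (.node (.leaf 1811163) (.leaf 5301185)) (.leaf 5006241)) (.node (.leaf 4064449) (.leaf 5911738)))))) (.node (.node (.node (.node (.node (.node (.leaf 382234) (.leaf 4817171)) (.leaf 5464757)) (.node (.node (.leaf 1404954) (.leaf 3408216)) (.leaf 6878483))) (.node (.node (.node (.leaf 7852836) (.leaf 5640192)) (.leaf 10666924)) (.node (.node (.leaf 2588918) (.leaf 6635758)) (.leaf 10592341)))) (.node (.node (.node (.node (.leaf 442988) (.leaf 4681914)) (.leaf 2277574)) (.node (.node (.leaf 6116736) (.leaf 10142685)) (.leaf 11288631))) (.node (.node (.node (.leaf 1692266) (.leaf 6943136)) (.leaf 8496523)) (.node (.leaf 9708738) (.leaf 10522868))))) (.node (.node (.node (.node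 (.node (.leaf 246220) (.leaf 9921520)) (.leaf 5931034)) (.node (.node (.leaf 8118354) (.leaf 8396913)) (.leaf 10777988))) (.node (.node (.node (.leaf 1664006) (.leaf 1884850)) (.leaf 7151901)) (.node (.leaf 3203758) (.leaf 2749824)))) (.node (.node (.node (.node (.leaf 483328) (.leaf 6070515)) (.leaf 4465517)) (.node (.node (.leaf 3321923) (.leaf 5431682)) (.leaf 5879156))) (.node (.node (.node (.leaf 2666667) (.leaf 6059094)) (.leaf 11272726)) (.node (.leaf 11232490) (.leaf 9843993)))))))

def bigMvp14 : Janko.Tree (ℕ) :=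
  (.node (.node (.node (.node (.node (.node (.node (.leaf 369862) (.leaf 5604621)) (.leaf 4572342)) (.node (.node (.leaf 5510124) (.leaf 8782925)) (.leaf 10794070))) (.node (.node (.node (.leaf 946740) (.leaf 4386955)) (.leaf 10245407)) (.node (.node (.leaf 3006964) (.leaf 7382135)) (.leaf 9024284)))) (.node (.node (.node (.node (.leaf 467403) (.leaf 9822618)) (.leaf 4588711)) (.node (.node (.leaf 11715364) (.leaf 2228399)) (.leaf 11510099))) (.node (.node (.node (.leaf 3126454) (.leaf 11281634)) (.leaf 9298678)) (.node (.leaf 1901952) (.leaf 8446740))))) (.node (.node (.node (.node (.node (.leaf 360741) (.leaf 11707668)) (.leaf 11485759)) (.node (.node (.leaf 2159932) (.leaf 11305165)) (.leaf 11440170))) (.node (.node (.node (.leaf 8794330) (.leaf 11649617)) (.leaf 1148112)) (.node (.node (.leaf 3645509) (.leaf 10281161)) (.leaf 11359216)))) (.node (.node (.node (.node (.leaf 901546) (.leaf 3855681)) (.leaf 2302296)) (.node (.node (.leaf 8405112) (.leaf 3228276)) (.leaf 4998379))) (.node (.node (.node (.leaf 1622550) (.leaf 9175304))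 (.leaf 11534648)) (.node (.leaf 3945813) (.leaf 1978391)))))) (.node (.node (.node (.node (.node (.node (.leaf 1893760) (.leaf 5534163)) (.leaf 4850735)) (.node (.node (.leaf 1036934) (.leaf 5964326)) (.leaf 7124122))) (.node (.node (.node (.leaf 2344284) (.leaf 5959918)) (.leaf 6939891)) (.node (.node (.leaf 3428756) (.leaf 3768865)) (.leaf 6435073)))) (.node (.node (.node (.node (.leaf 1630902) (.leaf 6328450)) (.leaf 9089255)) (.node (.node (.leaf 11383583) (.leaf 8257536)) (.leaf 6980364))) (.node (.node (.node (.leaf 3142810) (.leaf 11355517)) (.leaf 10929576)) (.node (.leaf 733840) (.leaf 4354048))))) (.node (.node (.node (.node (.node (.leaf 282647) (.leaf 6755200)) (.leaf 2699486)) (.node (.node (.leaf 2233387) (.leaf 9778059)) (.leaf 8901882))) (.node (.node (.node (.leaf 6246989) (.leaf 3962100)) (.leaf 10900545)) (.node (.leaf 3118074) (.leaf 5136864)))) (.node (.node (.node (.node (.leaf 2012484) (.leaf 11436722)) (.leaf 2551808)) (.node (.node (.leaf 738611) (.leaf 8238200)) (.leaf 9323428))) (.node (.node (.node (.leaf 1573034)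 (.leaf 9975035)) (.leaf 3883520)) (.node (.leaf 1196307) (.leaf 1180701)))))))

def bigMvp15 : Janko.Tree (ℕ) :=
  (.node (.node (.node (.node (.node (.node (.node (.leaf 62048) (.leaf 10358806)) (.leaf 8004477)) (.node (.node (.leaf 5378454) (.leaf 9368287)) (.leaf 11075921))) (.node (.node (.node (.leaf 5837466) (.leaf 9965747)) (.leaf 8360761)) (.node (.node (.leaf 10994687) (.leaf 1876584)) (.leaf 8085757)))) (.node (.node (.node (.node (.leaf 451186) (.leaf 9310441)) (.leaf 4051765)) (.node (.node (.leaf 6697301) (.leaf 4408554)) (.leaf 8758277))) (.node (.node (.node (.leaf 3364038) (.leaf 3773553)) (.leaf 2266381)) (.node (.leaf 7365927) (.leaf 5722542))))) (.node (.node (.node (.node (.node (.leaf 373384) (.leaf 5923139)) (.leaf 11391024)) (.node (.node (.leaf 4838006) (.leaf 3781830)) (.leaf 2060680))) (.node (.node (.node (.leaf 5627920) (.leaf 2331997)) (.leaf 8843407)) (.node (.node (.leaf 3277991) (.leaf 11244704)) (.leaf 7676017)))) (.node (.node (.node (.node (.leaf 3343655) (.leaf 4731023)) (.leaf 8721261)) (.node (.node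 (.leaf 8376895) (.leaf 5050981)) (.leaf 6685646))) (.node (.node (.node (.leaf 3878980) (.leaf 7074478)) (.leaf 6075154)) (.node (.leaf 11608230) (.leaf 4150283)))))) (.node (.node (.node (.node (.node (.node (.leaf 352727) (.leaf 10998770)) (.leaf 5079706)) (.node (.node (.leaf 4162292) (.leaf 8339954)) (.leaf 6701853))) (.node (.node (.node (.leaf 11112770) (.leaf 10188133)) (.leaf 11388176)) (.node (.node (.leaf 741847) (.leaf 3474045)) (.leaf 9188304)))) (.node (.node (.node (.node (.leaf 398633) (.leaf 11313279)) (.leaf 2433024)) (.node (.node (.leaf 5517896) (.leaf 9679356)) (.leaf 4875025))) (.node (.node (.node (.leaf 1434702) (.leaf 3237062)) (.leaf 10171603)) (.node (.leaf 7413828) (.leaf 6001833))))) (.node (.node (.node (.node (.node (.leaf 131917) (.leaf 7570412)) (.leaf 2752841)) (.node (.node (.leaf 951225) (.leaf 9425706)) (.leaf 7467664))) (.node (.node (.node (.leaf 746208) (.leaf 7893489)) (.leaf 5263947)) (.node (.leaf 6997190) (.leaf 4522932)))) (.node (.node (.node (.node (.leaf 123339) (.leaf 6693053)) (.leaf 5845885))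 (.node (.node (.leaf 1577994) (.leaf 8212797)) (.leaf 4707743))) (.node (.node (.node (.leaf 1996027) (.leaf 11878436)) (.leaf 1471128)) (.node (.leaf 8025132) (.leaf 5870174)))))))

def bigMvp16 : Janko.Tree (ℕ) :=
  (.node (.node (.node (.node (.node (.node (.node (.leaf 58550) (.leaf 4441223)) (.leaf 10966332)) (.node (.node (.leaf 4244907) (.leaf 3547996)) (.leaf 1746133))) (.node (.node (.node (.leaf 1143288) (.leaf 11043661)) (.leaf 8413247)) (.node (.node (.leaf 10024243) (.leaf 6054302)) (.leaf 10507575)))) (.node (.node (.node (.node (.leaf 221370) (.leaf 7255461)) (.leaf 1372256)) (.node (.node (.leaf 7918733) (.leaf 5456492)) (.leaf 910093))) (.node (.node (.node (.leaf 3866793) (.leaf 7262553)) (.leaf 2793718)) (.node (.leaf 11810176) (.leaf 4550951))))) (.node (.node (.node (.node (.node (.leaf 167936) (.leaf 7729152)) (.leaf 1962956)) (.node (.node (.leaf 5173479) (.leaf 4375819)) (.leaf 10105518))) (.node (.node (.node (.leaf 1041501) (.leaf 10744448)) (.leaf 2954594)) (.node (.node (.leaf 10068586) (.leaf 5161964)) (.leaf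 10499069)))) (.node (.node (.node (.node (.leaf 3306793) (.leaf 7606875)) (.leaf 6341261)) (.node (.node (.leaf 8687627) (.leaf 11645734)) (.leaf 10654457))) (.node (.node (.node (.leaf 3326740) (.leaf 10261266)) (.leaf 1447066)) (.node (.leaf 3522607) (.leaf 9850967)))))) (.node (.node (.node (.node (.node (.node (.leaf 336918) (.leaf 4567559)) (.leaf 5788953)) (.node (.node (.leaf 10801333) (.leaf 10417341)) (.leaf 6902136))) (.node (.node (.node (.leaf 11121428) (.leaf 2474017)) (.leaf 6505413)) (.node (.node (.leaf 1778028) (.leaf 3384182)) (.leaf 10409358)))) (.node (.node (.node (.node (.leaf 401802) (.leaf 7672761)) (.leaf 4166342)) (.node (.node (.leaf 5469328) (.leaf 10310959)) (.leaf 4038728))) (.node (.node (.node (.leaf 6447696) (.leaf 10986308)) (.leaf 10490868)) (.node (.leaf 1855779) (.leaf 7000160))))) (.node (.node (.node (.node (.node (.leaf 2000275) (.leaf 11481994)) (.leaf 4833978)) (.node (.node (.leaf 7962647) (.leaf 2360374)) (.leaf 10601815))) (.node (.node (.node (.leaf 6100263) (.leaf 7512402)) (.leaf 5039025))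 (.node (.leaf 3154301) (.leaf 4350493)))) (.node (.node (.node (.node (.leaf 2024676) (.leaf 4214784)) (.leaf 10925182)) (.node (.node (.leaf 6153320) (.leaf 9785866)) (.leaf 6893686))) (.node (.node (.node (.leaf 7581971) (.leaf 10588952)) (.leaf 6570764)) (.node (.leaf 1905440) (.leaf 6238429)))))))

def bigMvp17 : Janko.Tree (ℕ) :=
  (.node (.node (.node (.node (.node (.node (.node (.leaf 196893) (.leaf 7951739)) (.leaf 4080218)) (.node (.node (.leaf 2581332) (.leaf 9819175)) (.leaf 5698693))) (.node (.node (.node (.leaf 287067) (.leaf 5153674)) (.leaf 4776098)) (.node (.node (.leaf 11751909) (.leaf 7312597)) (.leaf 6992969)))) (.node (.node (.node (.node (.leaf 1217860) (.leaf 5181463)) (.leaf 2381120)) (.node (.node (.leaf 4248960) (.leaf 2524256)) (.leaf 6463661))) (.node (.node (.node (.leaf 2569134) (.leaf 10687141)) (.leaf 4800608)) (.node (.leaf 5423600) (.leaf 2179135))))) (.node (.node (.node (.node (.node (.leaf 696998) (.leaf 1417301)) (.leaf 8609905)) (.node (.node (.leaf 4145447) (.leaf 8626819)) (.leaf 6537560))) (.node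 (.node (.node (.leaf 4711468) (.leaf 5001811)) (.leaf 8139471)) (.node (.node (.leaf 1712128) (.leaf 6336749)) (.leaf 6403178)))) (.node (.node (.node (.node (.leaf 1651664) (.leaf 11538862)) (.leaf 10739726)) (.node (.node (.leaf 5666146) (.leaf 10457175)) (.leaf 3158020))) (.node (.node (.node (.leaf 5636378) (.leaf 3716508)) (.leaf 3137900)) (.node (.leaf 545572) (.leaf 8573374)))))) (.node (.node (.node (.node (.node (.node (.leaf 181553) (.leaf 4883264)) (.leaf 4686785)) (.node (.node (.leaf 2527691) (.leaf 5751547)) (.leaf 9462270))) (.node (.node (.node (.leaf 5075374) (.leaf 6854015)) (.leaf 4006598)) (.node (.node (.leaf 6623300) (.leaf 10511355)) (.leaf 11182951)))) (.node (.node (.node (.node (.leaf 1503596) (.leaf 9597374)) (.leaf 11071511)) (.node (.node (.leaf 2847481) (.leaf 9683612)) (.leaf 10921367))) (.node (.node (.node (.leaf 872448) (.leaf 7885978)) (.leaf 5624096)) (.node (.leaf 11064099) (.leaf 2904188))))) (.node (.node (.node (.node (.node (.leaf 582732) (.leaf 3490478)) (.leaf 11068070)) (.node (.node (.leaf 4903055)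 (.leaf 10633922)) (.leaf 11396317))) (.node (.node (.node (.leaf 1618189) (.leaf 10732543)) (.leaf 3843316)) (.node (.leaf 10249331) (.leaf 5374987)))) (.node (.node (.node (.node (.leaf 500673) (.leaf 11342250)) (.leaf 10121956)) (.node (.node (.leaf 1880070) (.leaf 7779247)) (.leaf 6930526))) (.node (.node (.node (.leaf 1032838) (.leaf 11317399)) (.leaf 7491617)) (.node (.leaf 4747486) (.leaf 4899283)))))))

def bigMvp18 : Janko.Tree (ℕ) :=
  (.node (.node (.node (.node (.node (.node (.node (.leaf 172892) (.leaf 5157186)) (.leaf 6615764)) (.node (.node (.leaf 2797846) (.leaf 6418835)) (.leaf 8299239))) (.node (.node (.node (.leaf 528511) (.leaf 4260644)) (.leaf 1402083)) (.node (.node (.leaf 5771907) (.leaf 10531333)) (.leaf 3130105)))) (.node (.node (.node (.node (.leaf 996621) (.leaf 4042914)) (.leaf 3670403)) (.node (.node (.leaf 8307396) (.leaf 8570088)) (.leaf 5395763))) (.node (.node (.node (.leaf 1802604) (.leaf 8221986)) (.leaf 5563313)) (.node (.leaf 10203260) (.leaf 7623628))))) (.node (.node (.node (.node (.node (.leaf 70292)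 (.leaf 2605634)) (.leaf 2773889)) (.node (.node (.leaf 2347454) (.leaf 6033935)) (.leaf 11093235))) (.node (.node (.node (.leaf 2245620) (.leaf 8557104)) (.leaf 4371889)) (.node (.node (.leaf 6825064) (.leaf 10015727)) (.leaf 1392666)))) (.node (.node (.node (.node (.leaf 1680450) (.leaf 10466426)) (.leaf 7025818)) (.node (.node (.leaf 1299511) (.leaf 9614069)) (.leaf 7864409))) (.node (.node (.node (.leaf 3368155) (.leaf 10474917)) (.leaf 8516939)) (.node (.leaf 5477446) (.leaf 7143600)))))) (.node (.node (.node (.node (.node (.node (.leaf 549494) (.leaf 6271112)) (.leaf 5104468)) (.node (.node (.leaf 5701771) (.leaf 9896542)) (.leaf 6579257))) (.node (.node (.node (.leaf 8315590) (.leaf 8699933)) (.leaf 9855933)) (.node (.node (.leaf 9888374) (.leaf 1286438)) (.leaf 11837922)))) (.node (.node (.node (.node (.leaf 6443352) (.leaf 7508859)) (.leaf 2495609)) (.node (.node (.leaf 11493464) (.leaf 9150941)) (.leaf 8860352))) (.node (.node (.node (.leaf 848652) (.leaf 3899776)) (.leaf 11915895)) (.node (.leaf 1823981) (.leaf 2171573))))) (.node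 (.node (.node (.node (.node (.leaf 463494) (.leaf 7905821)) (.leaf 2064713)) (.node (.node (.leaf 7374154) (.leaf 8663844)) (.leaf 6161422))) (.node (.node (.node (.leaf 852259) (.leaf 2950183)) (.leaf 10240570)) (.node (.leaf 6558356) (.leaf 4461689)))) (.node (.node (.node (.node (.leaf 5550778) (.leaf 7296034)) (.leaf 4174628)) (.node (.node (.leaf 6173532) (.leaf 6189959)) (.leaf 11105295))) (.node (.node (.node (.leaf 631978) (.leaf 8020483)) (.leaf 6550138)) (.node (.leaf 4154241) (.leaf 4182338)))))))

def bigMvp19 : Janko.Tree (ℕ) :=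
  (.node (.node (.node (.node (.node (.node (.node (.leaf 78216) (.leaf 8741020)) (.leaf 7819407)) (.node (.node (.leaf 7914637) (.leaf 3982710)) (.leaf 10698949))) (.node (.node (.node (.leaf 2323684) (.leaf 4101190)) (.leaf 9212334)) (.node (.node (.leaf 5494022) (.leaf 7098788)) (.leaf 9569314)))) (.node (.node (.node (.node (.leaf 8462558) (.leaf 2744554)) (.leaf 1328249)) (.node (.node (.leaf 4186916) (.leaf 2585036)) (.leaf 9995072))) (.node (.node (.node (.leaf 3027101) (.leaf 9650461)) (.leaf 2425593)) (.node (.leaf 4509740) (.leaf 4694662))))) (.node (.node (.node (.node (.node (.leaf 705357) (.leaf 7197273)) (.leaf 4411791)) (.node (.node (.leaf 7017326) (.leaf 5543269)) (.leaf 6234493))) (.node (.node (.node (.leaf 10941316) (.leaf 7840081)) (.leaf 7742317)) (.node (.node (.leaf 3093481) (.leaf 7300146)) (.leaf 11580826)))) (.node (.node (.node (.node (.leaf 3256912) (.leaf 3928563)) (.leaf 2146966)) (.node (.node (.leaf 5281058) (.leaf 2683723)) (.leaf 5447978))) (.node (.node (.node (.leaf 1717422) (.leaf 6914455)) (.leaf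 6210846)) (.node (.leaf 4116619) (.leaf 7230479)))))) (.node (.node (.node (.node (.node (.node (.leaf 209522) (.leaf 4768669)) (.leaf 5898302)) (.node (.node (.leaf 7578678) (.leaf 9528130)) (.leaf 1647513))) (.node (.node (.node (.leaf 517221) (.leaf 6366358)) (.leaf 9753043)) (.node (.node (.leaf 11411478) (.leaf 11559498)) (.leaf 5939527)))) (.node (.node (.node (.node (.leaf 795412) (.leaf 651710)) (.leaf 11277165)) (.node (.node (.leaf 4067742) (.leaf 10445866)) (.leaf 9028705))) (.node (.node (.node (.leaf 3620932) (.leaf 9626127)) (.leaf 3186740)) (.node (.leaf 1524473) (.leaf 5460324))))) (.node (.node (.node (.node (.node (.leaf 136596) (.leaf 4969354)) (.leaf 10129721)) (.node (.node (.leaf 9094026) (.leaf 7882076)) (.leaf 5800679))) (.node (.node (.node (.leaf 1667724) (.leaf 6898956)) (.leaf 7901305)) (.node (.leaf 3031714) (.leaf 4576021)))) (.node (.node (.node (.node (.leaf 1135167) (.leaf 1974399)) (.leaf 2306234)) (.node (.node (.leaf 5874983) (.leaf 9069067)) (.leaf 5616564))) (.node (.node (.node (.leaf 2405536) (.leaf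 8958358)) (.leaf 4211078)) (.node (.leaf 10364083) (.leaf 11858892)))))))

def bigMvp20 : Janko.Tree (ℕ) :=
  (.node (.node (.node (.node (.node (.node (.node (.leaf 681134) (.leaf 8996156)) (.leaf 5218734)) (.node (.node (.leaf 7602199) (.leaf 11298075)) (.leaf 2760835))) (.node (.node (.node (.leaf 7909647) (.leaf 10826950)) (.leaf 4490474)) (.node (.node (.leaf 2843410) (.leaf 11584917)) (.leaf 6312592)))) (.node (.node (.node (.node (.leaf 1106973) (.leaf 3097146)) (.leaf 1110580)) (.node (.node (.leaf 8986846) (.leaf 9130389)) (.leaf 6120476))) (.node (.node (.node (.leaf 3461938) (.leaf 9585320)) (.leaf 8593744)) (.node (.leaf 11665878) (.leaf 2725034))))) (.node (.node (.node (.node (.node (.leaf 185563) (.leaf 9229351)) (.leaf 9098465)) (.node (.node (.leaf 8106170) (.leaf 9937725)) (.leaf 6390938))) (.node (.node (.node (.leaf 7664355) (.leaf 10195086)) (.leaf 1053482)) (.node (.node (.leaf 11146621) (.leaf 10683541)) (.leaf 4359571)))) (.node (.node (.node (.node (.leaf 1753997) (.leaf 7688820)) (.leaf 5784323)) (.node (.node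 (.leaf 7775093) (.leaf 3797749)) (.leaf 786896))) (.node (.node (.node (.leaf 782475) (.leaf 11911218)) (.leaf 1949969)) (.node (.leaf 9257721) (.leaf 8889105)))))) (.node (.node (.node (.node (.node (.node (.leaf 106942) (.leaf 2498703)) (.leaf 4919871)) (.node (.node (.leaf 2044177) (.leaf 7553881)) (.leaf 11014327))) (.node (.node (.node (.leaf 1348833) (.leaf 3921188)) (.leaf 6353063)) (.node (.node (.leaf 3527305) (.leaf 10158988)) (.leaf 6369776)))) (.node (.node (.node (.node (.leaf 1742248) (.leaf 5574685)) (.leaf 2200646)) (.node (.node (.leaf 9740865) (.leaf 2937640)) (.leaf 1659049))) (.node (.node (.node (.leaf 1701102) (.leaf 6746763)) (.leaf 5583906)) (.node (.leaf 6005971) (.leaf 4714956))))) (.node (.node (.node (.node (.node (.leaf 1094864) (.leaf 6279390)) (.leaf 4264024)) (.node (.node (.leaf 7589958) (.leaf 5107910)) (.leaf 10146664))) (.node (.node (.node (.leaf 1896832) (.leaf 10772617)) (.leaf 5333005)) (.node (.leaf 3298116) (.leaf 991816)))) (.node (.node (.node (.node (.leaf 128160) (.leaf 11687084)) (.leaf 7619186))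 (.node (.node (.leaf 8471062) (.leaf 6820135)) (.leaf 3764224))) (.node (.node (.node (.leaf 9384842) (.leaf 3683729)) (.leaf 1847830)) (.node (.leaf 7598260) (.leaf 4501702)))))))

def bigMvp21 : Janko.Tree (ℕ) :=
  (.node (.node (.node (.node (.node (.node (.node (.leaf 17841) (.leaf 4871299)) (.leaf 5821709)) (.node (.node (.leaf 2073022) (.leaf 5178506)) (.leaf 10981757))) (.node (.node (.node (.leaf 598777) (.leaf 5746724)) (.leaf 10945926)) (.node (.node (.leaf 7872898) (.leaf 10879030)) (.leaf 8343856)))) (.node (.node (.node (.node (.leaf 962699) (.leaf 4288686)) (.leaf 7336261)) (.node (.node (.leaf 4330504) (.leaf 9929806)) (.leaf 11641417))) (.node (.node (.node (.leaf 6067434) (.leaf 3757004)) (.leaf 11829570)) (.node (.leaf 8754553) (.leaf 9048494))))) (.node (.node (.node (.node (.node (.leaf 3617950) (.leaf 4448548)) (.leaf 7954666)) (.node (.node (.leaf 5718772) (.leaf 7417991)) (.leaf 1983140))) (.node (.node (.node (.leaf 1156307) (.leaf 11882601)) (.leaf 2393313)) (.node (.node (.leaf 3805957) (.leaf 11468816)) (.leaf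 4014771)))) (.node (.node (.node (.node (.leaf 762897) (.leaf 4060570)) (.leaf 2638585)) (.node (.node (.leaf 1541462) (.leaf 8016094)) (.leaf 5755531))) (.node (.node (.node (.leaf 803807) (.leaf 5522762)) (.leaf 7034087)) (.node (.leaf 9266586) (.leaf 9401662)))))) (.node (.node (.node (.node (.node (.node (.leaf 590254) (.leaf 1238224)) (.leaf 504392)) (.node (.node (.leaf 2782081) (.leaf 5862466)) (.leaf 3281415))) (.node (.node (.node (.leaf 4055801) (.leaf 10035322)) (.leaf 11891016)) (.node (.node (.leaf 1705186) (.leaf 9573011)) (.leaf 3667301)))) (.node (.node (.node (.node (.leaf 1627246) (.leaf 6627392)) (.leaf 5472342)) (.node (.node (.leaf 10702855) (.leaf 7804332)) (.leaf 2806953))) (.node (.node (.node (.leaf 3650758) (.leaf 6087153)) (.leaf 11006704)) (.node (.leaf 5293126) (.leaf 8615339))))) (.node (.node (.node (.node (.node (.leaf 259201) (.leaf 2864076)) (.leaf 1319860)) (.node (.node (.leaf 6775554) (.leaf 9511722)) (.leaf 10810254))) (.node (.node (.node (.leaf 1488179) (.leaf 11600067)) (.leaf 8045332)) (.node (.leaf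 701701) (.leaf 1160424)))) (.node (.node (.node (.node (.leaf 447055) (.leaf 10052775)) (.leaf 9467204)) (.node (.node (.leaf 6812923) (.leaf 4560247)) (.leaf 11498140))) (.node (.node (.node (.leaf 2101482) (.leaf 6672983)) (.leaf 918828)) (.node (.leaf 7631274) (.leaf 10335475)))))))

def bigMvp22 : Janko.Tree (ℕ) :=
  (.node (.node (.node (.node (.node (.node (.node (.leaf 91180) (.leaf 9962431)) (.leaf 4280788)) (.node (.node (.leaf 7647484) (.leaf 10285229)) (.leaf 6676872))) (.node (.node (.node (.leaf 533580) (.leaf 7132345)) (.leaf 2446769)) (.node (.node (.leaf 6652296) (.leaf 9535488)) (.leaf 7889087)))) (.node (.node (.node (.node (.leaf 959466) (.leaf 6967789)) (.leaf 5317274)) (.node (.node (.leaf 8504109) (.leaf 10559567)) (.leaf 7385628))) (.node (.node (.node (.leaf 1475815) (.leaf 7996583)) (.leaf 4555680)) (.node (.leaf 3469638) (.leaf 7218070))))) (.node (.node (.node (.node (.node (.leaf 693402) (.leaf 7758832)) (.leaf 3908797)) (.node (.node (.leaf 3425649) (.leaf 2138917)) (.leaf 11842599))) (.node (.node (.node (.leaf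 4809043) (.leaf 7291937)) (.leaf 7844683)) (.node (.node (.leaf 1913393) (.leaf 11174186)) (.leaf 2110305)))) (.node (.node (.node (.node (.leaf 1814596) (.leaf 9532485)) (.leaf 7726235)) (.node (.node (.leaf 1479330) (.leaf 7401979)) (.leaf 11051648))) (.node (.node (.node (.leaf 3936796) (.leaf 7226253)) (.leaf 9909402)) (.node (.leaf 2536661) (.leaf 6484112)))))) (.node (.node (.node (.node (.node (.node (.leaf 217231) (.leaf 11833367)) (.leaf 2327784)) (.node (.node (.leaf 1102145) (.leaf 8643616)) (.leaf 7086519))) (.node (.node (.node (.leaf 4322351) (.leaf 5309106)) (.leaf 11375096)) (.node (.node (.leaf 3289514) (.leaf 11513968)) (.leaf 7697176)))) (.node (.node (.node (.node (.leaf 725750) (.leaf 9217048)) (.leaf 11473397)) (.node (.node (.leaf 11329794) (.leaf 4010794)) (.leaf 4207579))) (.node (.node (.node (.leaf 2998563) (.leaf 8810500)) (.leaf 10384553)) (.node (.leaf 9867913) (.leaf 11363450))))) (.node (.node (.node (.node (.node (.leaf 46250) (.leaf 8009131)) (.leaf 4301403)) (.node (.node (.leaf 7762962) (.leaf 6377763))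 (.leaf 11158657))) (.node (.node (.node (.leaf 1455121) (.leaf 7116021)) (.leaf 11211061)) (.node (.leaf 6309046) (.leaf 4190208)))) (.node (.node (.node (.node (.leaf 2082116) (.leaf 11223911)) (.leaf 10715384)) (.node (.node (.leaf 1708465) (.leaf 2196269)) (.leaf 11408718))) (.node (.node (.node (.leaf 4383788) (.leaf 3654420)) (.leaf 10097862)) (.node (.leaf 4297040) (.leaf 6292419)))))))

def bigMvp23 : Janko.Tree (ℕ) :=
  (.node (.node (.node (.node (.node (.node (.node (.leaf 1089767) (.leaf 2884840)) (.leaf 2765984)) (.node (.node (.leaf 2933528) (.leaf 8266565)) (.leaf 9032007))) (.node (.node (.node (.leaf 303605) (.leaf 4019537)) (.leaf 1279204)) (.node (.node (.leaf 9970935) (.leaf 2679622)) (.leaf 5255438)))) (.node (.node (.node (.node (.leaf 2028111) (.leaf 3391532)) (.leaf 9147124)) (.node (.node (.leaf 5185536) (.leaf 8357231)) (.leaf 11191109))) (.node (.node (.node (.leaf 3818199) (.leaf 6984669)) (.leaf 2839790)) (.node (.leaf 9790262) (.leaf 5296290))))) (.node (.node (.node (.node (.node (.leaf 271457) (.leaf 8536463))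 (.leaf 7971777)) (.node (.node (.leaf 6324499) (.leaf 6792400)) (.leaf 10432766))) (.node (.node (.node (.leaf 2909368) (.leaf 2634233)) (.leaf 7533892)) (.node (.node (.leaf 861085) (.leaf 8074667)) (.leaf 7721685)))) (.node (.node (.node (.node (.leaf 1921863) (.leaf 6849800)) (.leaf 1229129)) (.node (.node (.leaf 3416653) (.leaf 10339592)) (.leaf 7495851))) (.node (.node (.node (.leaf 2981958) (.leaf 11637260)) (.leaf 6739259)) (.node (.leaf 8135776) (.leaf 9655144)))))) (.node (.node (.node (.node (.node (.node (.leaf 954887) (.leaf 10883733)) (.leaf 9405723)) (.node (.node (.leaf 1070369) (.leaf 5251971)) (.leaf 9982647))) (.node (.node (.node (.leaf 1164272) (.leaf 5706020)) (.leaf 4722801)) (.node (.node (.leaf 11587794) (.leaf 6910877)) (.leaf 8713345)))) (.node (.node (.node (.node (.leaf 1819930) (.leaf 10088589)) (.leaf 2216207)) (.node (.node (.leaf 2224274) (.leaf 11325845)) (.leaf 1438223))) (.node (.node (.node (.leaf 5239034) (.leaf 10351935)) (.leaf 9810881)) (.node (.leaf 1860064) (.leaf 1220690))))) (.node (.node (.node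 (.node (.node (.leaf 1000772) (.leaf 8261994)) (.leaf 4538782)) (.node (.node (.leaf 8033209) (.leaf 6553672)) (.leaf 7078477))) (.node (.node (.node (.leaf 3170372) (.leaf 4419678)) (.leaf 6611149)) (.node (.leaf 1942005) (.leaf 7521499)))) (.node (.node (.node (.node (.leaf 4862740) (.leaf 11465442)) (.leaf 10101021)) (.node (.node (.leaf 3482484) (.leaf 9380349)) (.leaf 10298033))) (.node (.node (.node (.leaf 4268263) (.leaf 6206702)) (.leaf 4485656)) (.node (.leaf 8802431) (.leaf 3544332)))))))

def bigMvp24 : Janko.Tree (ℕ) :=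
  (.node (.node (.node (.node (.node (.node (.node (.leaf 98734) (.leaf 8058081)) (.leaf 8672129)) (.node (.node (.leaf 2826670) (.leaf 7324533)) (.leaf 11718723))) (.node (.node (.node (.leaf 5842268) (.leaf 11772138)) (.leaf 8929855)) (.node (.node (.leaf 774750) (.leaf 11731194)) (.leaf 1863808)))) (.node (.node (.node (.node (.leaf 7770441) (.leaf 9286307)) (.leaf 8197389)) (.node (.node (.leaf 299592) (.leaf 9539711)) (.leaf 11711598))) (.node (.node (.node (.leaf 6230341) (.leaf 10437910)) (.leaf 6541709)) (.node (.leaf 7480359) (.leaf 1189297))))) (.node (.node (.node (.node (.node (.leaf 177047) (.leaf 10629351)) (.leaf 2663827)) (.node (.node (.leaf 10818692) (.leaf 5768090)) (.leaf 10155305))) (.node (.node (.node (.leaf 4158392) (.leaf 5587223)) (.leaf 7922255)) (.node (.node (.leaf 6870120) (.leaf 9564477)) (.leaf 5951627)))) (.node (.node (.node (.node (.leaf 1844422) (.leaf 7009474)) (.leaf 9495305)) (.node (.node (.leaf 1602063) (.leaf 8963103)) (.leaf 10166285))) (.node (.node (.node (.leaf 3957559) (.leaf 4760820)) (.leaf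 7634993)) (.node (.leaf 2732218) (.leaf 7750278)))))) (.node (.node (.node (.node (.node (.node (.leaf 942890) (.leaf 9105626)) (.leaf 4797610)) (.node (.node (.leaf 9142547) (.leaf 8380811)) (.leaf 3801849))) (.node (.node (.node (.leaf 5894994) (.leaf 9551872)) (.leaf 7463462)) (.node (.node (.leaf 6866326) (.leaf 7316109)) (.leaf 5567309)))) (.node (.node (.node (.node (.leaf 610631) (.leaf 4416690)) (.leaf 7943423)) (.node (.node (.leaf 11735700) (.leaf 3740217)) (.leaf 10670148))) (.node (.node (.node (.leaf 6501113) (.leaf 10895826)) (.leaf 1925405)) (.node (.leaf 7176320) (.leaf 9879949))))) (.node (.node (.node (.node (.node (.leaf 540878) (.leaf 3396519)) (.leaf 2388241)) (.node (.node (.leaf 8652010) (.leaf 10756477)) (.leaf 4346288))) (.node (.node (.node (.leaf 3567977) (.leaf 11252708)) (.leaf 11678244)) (.node (.leaf 5197894) (.leaf 4236409)))) (.node (.node (.node (.node (.leaf 566301) (.leaf 9925517)) (.leaf 6668610)) (.node (.node (.leaf 1807591) (.leaf 10440945)) (.leaf 9605927))) (.node (.node (.node (.leaf 1171560)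 (.leaf 5452885)) (.leaf 1762538)) (.node (.leaf 1192362) (.leaf 7283929)))))))

def bigMvp25 : Janko.Tree (ℕ) :=
  (.node (.node (.node (.node (.node (.node (.node (.leaf 103213) (.leaf 4735406)) (.leaf 4138105)) (.node (.node (.leaf 8151946) (.leaf 5260660)) (.leaf 10764360))) (.node (.node (.node (.leaf 1200453) (.leaf 3445323)) (.leaf 8184222)) (.node (.node (.leaf 3179403) (.leaf 4821236)) (.leaf 11886649)))) (.node (.node (.node (.node (.leaf 1275213) (.leaf 7271519)) (.leaf 10319137)) (.node (.node (.leaf 4600006) (.leaf 2929662)) (.leaf 8880925))) (.node (.node (.node (.leaf 930558) (.leaf 823620)) (.leaf 8499334)) (.node (.leaf 3211921) (.leaf 11620919))))) (.node (.node (.node (.node (.node (.leaf 74092) (.leaf 10047509)) (.leaf 2094471)) (.node (.node (.leaf 4943881) (.leaf 7790880)) (.leaf 6836550))) (.node (.node (.node (.leaf 2413269) (.leaf 8978457)) (.leaf 9003454)) (.node (.node (.leaf 3420656) (.leaf 9593735)) (.leaf 9560899)))) (.node (.node (.node (.node (.leaf 3605799) (.leaf 11322612)) (.leaf 7222104)) (.node (.node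 (.leaf 3699926) (.leaf 4379250)) (.leaf 10568176))) (.node (.node (.node (.leaf 6107387) (.leaf 7431513)) (.leaf 9782615)) (.node (.leaf 2618348) (.leaf 5071558)))))) (.node (.node (.node (.node (.node (.node (.leaf 455996) (.leaf 8716311)) (.leaf 2183168)) (.node (.node (.leaf 1971633) (.leaf 11194815)) (.leaf 7860758))) (.node (.node (.node (.leaf 9417746) (.leaf 11527342)) (.leaf 5444830)) (.node (.node (.leaf 6373847) (.leaf 7094928)) (.leaf 1414474)))) (.node (.node (.node (.node (.leaf 341072) (.leaf 7709754)) (.leaf 2646959)) (.node (.node (.leaf 11743728) (.leaf 8336373)) (.leaf 2573350))) (.node (.node (.node (.leaf 827530) (.leaf 6132736)) (.leaf 8487133)) (.node (.leaf 11125643) (.leaf 8806964))))) (.node (.node (.node (.node (.node (.leaf 1021156) (.leaf 7640125)) (.leaf 4616638)) (.node (.node (.leaf 2191473) (.leaf 10969088)) (.leaf 3830995))) (.node (.node (.node (.leaf 3200198) (.leaf 1737966)) (.leaf 9253405)) (.node (.leaf 1729697) (.leaf 8827310)))) (.node (.node (.node (.node (.leaf 316642) (.leaf 10322216)) (.leaf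 5272946)) (.node (.node (.leaf 840011) (.leaf 3052127)) (.leaf 6947129))) (.node (.node (.node (.leaf 7652399) (.leaf 9376899)) (.leaf 7159907)) (.node (.leaf 8799212) (.leaf 2520026)))))))

def bigMvp26 : Janko.Tree (ℕ) :=
  (.node (.node (.node (.node (.node (.node (.node (.leaf 243121) (.leaf 7701006)) (.leaf 9712710)) (.node (.node (.leaf 10843014) (.leaf 10093836)) (.leaf 6722929))) (.node (.node (.node (.leaf 1078037) (.leaf 7717270)) (.leaf 4665639)) (.node (.node (.leaf 3310102) (.leaf 6488308)) (.leaf 8295550)))) (.node (.node (.node (.node (.leaf 1213309) (.leaf 8589770)) (.leaf 8520780)) (.node (.node (.leaf 8926129) (.leaf 9454288)) (.leaf 9077528))) (.node (.node (.node (.leaf 3502833) (.leaf 11728070)) (.leaf 3486167)) (.node (.leaf 7054336) (.leaf 7930888))))) (.node (.node (.node (.node (.node (.leaf 65897) (.leaf 6475928)) (.leaf 1266529)) (.node (.node (.leaf 5166028) (.leaf 9978692)) (.leaf 10948766))) (.node (.node (.node (.leaf 5042695) (.leaf 8274250)) (.leaf 6382981)) (.node (.node (.leaf 3244205) (.leaf 7135759))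 (.leaf 4813062)))) (.node (.node (.node (.node (.leaf 6243516) (.leaf 2708705)) (.leaf 10990752)) (.node (.node (.leaf 6222216) (.leaf 7983638)) (.leaf 5092700))) (.node (.node (.node (.leaf 3723765) (.leaf 1245723)) (.leaf 3191346)) (.node (.leaf 5530081) (.leaf 11367857)))))) (.node (.node (.node (.node (.node (.node (.leaf 1123731) (.leaf 2457616)) (.leaf 4026450)) (.node (.node (.leaf 8484273) (.leaf 11506870)) (.leaf 11698982))) (.node (.node (.node (.leaf 4089020) (.leaf 10396610)) (.leaf 7107295)) (.node (.node (.leaf 11632975) (.leaf 11624682)) (.leaf 5190442)))) (.node (.node (.node (.node (.leaf 1774346) (.leaf 9326726)) (.leaf 11083799)) (.node (.node (.leaf 1013005) (.leaf 9359633)) (.leaf 3970320))) (.node (.node (.node (.leaf 1564863) (.leaf 6922677)) (.leaf 6218235)) (.node (.leaf 2364691) (.leaf 11850631))))) (.node (.node (.node (.node (.node (.leaf 1225134) (.leaf 10875819)) (.leaf 4948373)) (.node (.node (.leaf 2376825) (.leaf 11747935)) (.leaf 2204660))) (.node (.node (.node (.leaf 3510332) (.leaf 5244208)) (.leaf 10257124))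 (.node (.leaf 418701) (.leaf 10936879)))) (.node (.node (.node (.node (.leaf 2273726) (.leaf 8863865)) (.leaf 2651165)) (.node (.node (.leaf 1934577) (.leaf 10728012)) (.leaf 6431268))) (.node (.node (.node (.leaf 4428068) (.leaf 4649506)) (.leaf 2453779)) (.node (.leaf 2548117) (.leaf 4789126)))))))

def bigMvp27 : Janko.Tree (ℕ) :=
  (.node (.node (.node (.node (.node (.node (.node (.leaf 1954976) (.leaf 8319390)) (.leaf 5342056)) (.node (.node (.leaf 8226219) (.leaf 4391550)) (.leaf 9110847))) (.node (.node (.node (.leaf 4272848) (.leaf 6427185)) (.leaf 5087898)) (.node (.node (.leaf 6451268) (.leaf 1733491)) (.leaf 10535233)))) (.node (.node (.node (.node (.leaf 4022898) (.leaf 7201074)) (.leaf 5489537)) (.node (.node (.leaf 8433746) (.leaf 10331145)) (.leaf 10294629))) (.node (.node (.node (.leaf 798720) (.leaf 6344786)) (.leaf 10028319)) (.node (.leaf 6770702) (.leaf 10798441))))) (.node (.node (.node (.node (.node (.leaf 770726) (.leaf 6742768)) (.leaf 5927725)) (.node (.node (.leaf 1283142) (.leaf 5984944)) (.leaf 9949548))) (.node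 (.node (.node (.leaf 2143399) (.leaf 10625392)) (.leaf 10080605)) (.node (.node (.leaf 1570073) (.leaf 10113959)) (.leaf 2442352)))) (.node (.node (.node (.node (.leaf 3695717) (.leaf 11556164)) (.leaf 5947403)) (.node (.node (.leaf 6026438) (.leaf 5669891)) (.leaf 11866307))) (.node (.node (.node (.leaf 3412621) (.leaf 7426412)) (.leaf 11371210)) (.node (.leaf 2703612) (.leaf 9835508)))))) (.node (.node (.node (.node (.node (.node (.leaf 213119) (.leaf 7308491)) (.leaf 10961148)) (.node (.node (.leaf 4805866) (.leaf 6873461)) (.leaf 9209252))) (.node (.node (.node (.leaf 7807147) (.leaf 1851641)) (.leaf 4125302)) (.node (.node (.leaf 6288566) (.leaf 10380353)) (.leaf 5247876)))) (.node (.node (.node (.node (.leaf 722235) (.leaf 8352151)) (.leaf 6480656)) (.node (.node (.leaf 1073298) (.leaf 11096305)) (.leaf 6517063))) (.node (.node (.node (.leaf 3024169) (.leaf 4964575)) (.leaf 779525)) (.node (.leaf 4907878) (.leaf 7713529))))) (.node (.node (.node (.node (.node (.leaf 4535172) (.leaf 7213072)) (.leaf 7877866)) (.node (.node (.leaf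 8287466) (.leaf 5354906)) (.leaf 1917657))) (.node (.node (.node (.leaf 5825618) (.leaf 3441047)) (.leaf 8270564)) (.node (.leaf 1492193) (.leaf 9302016)))) (.node (.node (.node (.node (.leaf 5214379) (.leaf 2470918)) (.leaf 5099616)) (.node (.node (.leaf 713806) (.leaf 10650515)) (.leaf 4202982))) (.node (.node (.node (.leaf 2286576) (.leaf 8917145)) (.leaf 5849592)) (.node (.leaf 2716949) (.leaf 11431979)))))))

def bigMvp28 : Janko.Tree (ℕ) :=
  (.node (.node (.node (.node (.node (.node (.node (.leaf 155936) (.leaf 8814997)) (.leaf 8970427)) (.node (.node (.leaf 1315283) (.leaf 8942063)) (.leaf 3711048))) (.node (.node (.node (.leaf 627334) (.leaf 8000779)) (.leaf 7831723)) (.node (.node (.leaf 3047906) (.leaf 3965323)) (.leaf 9618401)))) (.node (.node (.node (.node (.leaf 9515914) (.leaf 5055157)) (.leaf 4638044)) (.node (.node (.leaf 1343488) (.leaf 10355078)) (.leaf 11420396))) (.node (.node (.node (.leaf 3457092) (.leaf 9675583)) (.leaf 5210123)) (.node (.leaf 11870987) (.leaf 8885681))))) (.node (.node (.node (.node (.node (.leaf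 3085182) (.leaf 9245071)) (.leaf 4739192)) (.node (.node (.leaf 4367621) (.leaf 6333609)) (.leaf 5883075))) (.node (.node (.node (.leaf 11416979) (.leaf 5427849)) (.leaf 9999349)) (.node (.node (.leaf 6018424) (.leaf 9692380)) (.leaf 5283967)))) (.node (.node (.node (.node (.leaf 406111) (.leaf 10482291)) (.leaf 3736924)) (.node (.node (.leaf 6168729) (.leaf 5792560)) (.leaf 1873094))) (.node (.node (.node (.leaf 3043845) (.leaf 8233809)) (.leaf 6959311)) (.node (.leaf 2482622) (.leaf 5832866)))))) (.node (.node (.node (.node (.node (.node (.leaf 1004778) (.leaf 9589980)) (.leaf 4337680)) (.node (.node (.leaf 8606641) (.leaf 5915252)) (.leaf 3346828))) (.node (.node (.node (.leaf 7835970) (.leaf 5726208)) (.leaf 11813794)) (.node (.node (.leaf 7360916) (.leaf 11310189)) (.leaf 6783826)))) (.node (.node (.node (.node (.leaf 324738) (.leaf 7234010)) (.leaf 3743760)) (.node (.node (.leaf 11235441) (.leaf 5063877)) (.leaf 10953452))) (.node (.node (.node (.leaf 1459388) (.leaf 8282896)) (.leaf 9883716)) (.node (.leaf 5386406) (.leaf 7147592)))))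 (.node (.node (.node (.node (.node (.leaf 574897) (.leaf 3896235)) (.leaf 3871380)) (.node (.node (.leaf 9044509) (.leaf 11186802)) (.leaf 885630))) (.node (.node (.node (.leaf 6545895) (.leaf 10117794)) (.leaf 10032322)) (.node (.leaf 11219710) (.leaf 2540699)))) (.node (.node (.node (.node (.leaf 2117976) (.leaf 11908256)) (.leaf 6907073)) (.node (.node (.leaf 3862912) (.leaf 7546022)) (.leaf 10515461))) (.node (.node (.node (.leaf 1085849) (.leaf 9306205)) (.leaf 831809)) (.node (.leaf 2601131) (.leaf 7237699)))))))

def bigMvp29 : Janko.Tree (ℕ) :=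
  (.node (.node (.node (.node (.node (.node (.node (.leaf 110735) (.leaf 5067556)) (.leaf 2958437)) (.node (.node (.leaf 2461902) (.leaf 1799432)) (.leaf 3375295))) (.node (.node (.node (.leaf 1967365) (.leaf 10973247)) (.leaf 623176)) (.node (.node (.leaf 9601518) (.leaf 10073509)) (.leaf 10055798)))) (.node (.node (.node (.node (.leaf 2294828) (.leaf 1057581)) (.leaf 5763252)) (.node (.node (.leaf 2155206) (.leaf 5579565)) (.leaf 3822108))) (.node (.node (.node (.leaf 6713782) (.leaf 7287056)) (.leaf 7455267)) (.node (.leaf 5735275) (.leaf 10343193))))) (.node (.node (.node (.node (.node (.leaf 344720) (.leaf 7705841)) (.leaf 7516600)) (.node (.node (.leaf 4977106) (.leaf 9179477)) (.leaf 11501922))) (.node (.node (.node (.leaf 434210) (.leaf 9171492)) (.leaf 6193657)) (.node (.node (.leaf 3924838) (.leaf 10908363)) (.leaf 7562284)))) (.node (.node (.node (.node (.leaf 1560713) (.leaf 7680909)) (.leaf 2900661)) (.node (.node (.leaf 10846850) (.leaf 10613827)) (.leaf 11035000))) (.node (.node (.node (.leaf 118911) (.leaf 11379902)) (.leaf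 6177714)) (.node (.leaf 2777898) (.leaf 8171520)))))) (.node (.node (.node (.node (.node (.node (.leaf 115635) (.leaf 10620997)) (.leaf 5591470)) (.node (.node (.leaf 4911396) (.leaf 9371657)) (.leaf 6423470))) (.node (.node (.node (.leaf 4313898) (.leaf 11805744)) (.leaf 11039284)) (.node (.node (.leaf 6918262) (.leaf 10887373)) (.leaf 7049574)))) (.node (.node (.node (.node (.leaf 3514533) (.leaf 10978243)) (.leaf 7021131)) (.node (.node (.leaf 7643535) (.leaf 4793493)) (.leaf 2097445))) (.node (.node (.node (.leaf 3719236) (.leaf 10863353)) (.leaf 3998804)) (.node (.leaf 10040542) (.leaf 8090678))))) (.node (.node (.node (.node (.node (.leaf 979929) (.leaf 8762407)) (.leaf 9016239)) (.node (.node (.leaf 8786387) (.leaf 6062484)) (.leaf 3601148))) (.node (.node (.node (.leaf 3167408) (.leaf 11002788)) (.leaf 2801664)) (.node (.leaf 3261542) (.leaf 4342158)))) (.node (.node (.node (.node (.leaf 2078029) (.leaf 1389542)) (.leaf 1365340)) (.node (.node (.leaf 1531904) (.leaf 3387826)) (.leaf 6763809))) (.node (.node (.node (.leaf 5415134)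 (.leaf 7304578)) (.leaf 9413286)) (.node (.leaf 2879955) (.leaf 4896139)))))))

def bigMvp30 : Janko.Tree (ℕ) :=
  (.node (.node (.node (.node (.node (.node (.node (.leaf 512519) (.leaf 10839002)) (.leaf 5404058)) (.node (.node (.leaf 5481490) (.leaf 6145173)) (.leaf 2814298))) (.node (.node (.node (.leaf 4662348) (.leaf 8770604)) (.leaf 9876042)) (.node (.node (.leaf 3613508) (.leaf 8155640)) (.leaf 4935902)))) (.node (.node (.node (.node (.leaf 8036674) (.leaf 2490777)) (.leaf 7628146)) (.node (.node (.leaf 8159255) (.leaf 4825340)) (.leaf 11456746))) (.node (.node (.node (.leaf 3146403) (.leaf 8291475)) (.leaf 2372599)) (.node (.leaf 10020127) (.leaf 6951325))))) (.node (.node (.node (.node (.node (.leaf 202073) (.leaf 9101816)) (.leaf 6213763)) (.node (.node (.leaf 7614756) (.leaf 3264893)) (.leaf 5612483))) (.node (.node (.node (.leaf 3319126) (.leaf 4309564)) (.leaf 4784774)) (.node (.node (.leaf 6619911) (.leaf 11167061)) (.leaf 8229000)))) (.node (.node (.node (.node (.leaf 3576080) (.leaf 1552972)) (.leaf 1339401)) (.node (.node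 (.leaf 3593477) (.leaf 8840005)) (.leaf 7398084))) (.node (.node (.node (.leaf 4003140) (.leaf 7422109)) (.leaf 925781)) (.node (.leaf 4563836) (.leaf 6407101)))))) (.node (.node (.node (.node (.node (.node (.leaf 480109) (.leaf 5505882)) (.leaf 8418193)) (.node (.node (.leaf 11023213) (.leaf 11334743)) (.leaf 6029783))) (.node (.node (.node (.leaf 8143432) (.leaf 10306804)) (.leaf 8548856)) (.node (.node (.leaf 8877250) (.leaf 10162850)) (.leaf 4456878)))) (.node (.node (.node (.node (.leaf 1450503) (.leaf 4076405)) (.leaf 8778896)) (.node (.node (.leaf 2720815) (.leaf 10126398)) (.leaf 7594096))) (.node (.node (.node (.leaf 3494261) (.leaf 8565612)) (.leaf 3891596)) (.node (.leaf 3358971) (.leaf 9356437))))) (.node (.node (.node (.node (.node (.leaf 668742) (.leaf 9065813)) (.leaf 5559169)) (.node (.node (.leaf 2241337) (.leaf 6665634)) (.leaf 11264196))) (.node (.node (.node (.leaf 1888916) (.leaf 3334631)) (.leaf 9987220)) (.node (.leaf 6513681) (.leaf 11292760)))) (.node (.node (.node (.node (.leaf 1307808) (.leaf 6889663)) (.leaf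 9343853)) (.node (.node (.leaf 1508108) (.leaf 9872744)) (.leaf 11669699))) (.node (.node (.node (.leaf 2351310) (.leaf 10658759)) (.leaf 9638462)) (.node (.leaf 4645757) (.leaf 5202143)))))))

def bigMvp31 : Janko.Tree (ℕ) :=
  (.node (.node (.node (.node (.node (.node (.node (.leaf 487676) (.leaf 3572869)) (.leaf 2105344)) (.node (.node (.leaf 2822376) (.leaf 4518330)) (.leaf 11100644))) (.node (.node (.node (.leaf 8921238) (.leaf 3978107)) (.leaf 2658304)) (.node (.node (.leaf 3838830) (.leaf 9622766)) (.leaf 10175195)))) (.node (.node (.node (.node (.leaf 5383197) (.leaf 3240049)) (.leaf 7406785)) (.node (.node (.leaf 2642763) (.leaf 4228328)) (.leaf 6767162))) (.node (.node (.node (.leaf 3064200) (.leaf 9442436)) (.leaf 5338167)) (.node (.leaf 10149999) (.leaf 9724066))))) (.node (.node (.node (.node (.node (.leaf 709734) (.leaf 2367601)) (.leaf 8246626)) (.node (.node (.leaf 1168768) (.leaf 8208590)) (.leaf 10552301))) (.node (.node (.node (.leaf 409981) (.leaf 11899919)) (.leaf 4240774)) (.node (.node (.leaf 10891825) (.leaf 7091470))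 (.leaf 8622510)))) (.node (.node (.node (.node (.leaf 1839648) (.leaf 5595240)) (.leaf 4437261)) (.node (.node (.leaf 897405) (.leaf 8192291)) (.leaf 6468176))) (.node (.node (.node (.leaf 7794868) (.leaf 9629725)) (.leaf 1655132)) (.node (.leaf 4493938) (.leaf 7242594)))))) (.node (.node (.node (.node (.node (.node (.leaf 254598) (.leaf 9060599)) (.leaf 9945755)) (.node (.node (.leaf 2314515) (.leaf 5276877)) (.leaf 6631693))) (.node (.node (.node (.leaf 1376352) (.leaf 10822794)) (.leaf 4097013)) (.node (.node (.leaf 393399) (.leaf 11198915)) (.leaf 2429911)))) (.node (.node (.node (.node (.leaf 6795913) (.leaf 10556050)) (.leaf 4854264)) (.node (.node (.leaf 8331287) (.leaf 8950679)) (.leaf 10576702))) (.node (.node (.node (.leaf 10183156) (.leaf 6521313)) (.leaf 3436924)) (.node (.leaf 5738688) (.leaf 4624931))))) (.node (.node (.node (.node (.node (.leaf 274862) (.leaf 9114176)) (.leaf 2671238)) (.node (.node (.leaf 5812404) (.leaf 10859688)) (.leaf 6455800))) (.node (.node (.node (.leaf 1725408) (.leaf 7209352)) (.leaf 2421771))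 (.node (.leaf 5686587) (.leaf 8954690)))) (.node (.node (.node (.node (.leaf 11150218) (.leaf 7782799)) (.leaf 10605054)) (.node (.node (.leaf 6258756) (.leaf 5206684)) (.leaf 2339141))) (.node (.node (.node (.leaf 11489958) (.leaf 2674987)) (.leaf 11522572)) (.node (.leaf 4112830) (.leaf 8892945)))))))

def bigMvp : Janko.Tree (ℕ) := (.node (.node (.node (.node (.node bigMvp0 bigMvp16) (.node bigMvp8 bigMvp24)) (.node (.node bigMvp4 bigMvp20) (.node bigMvp12 bigMvp28))) (.node (.node (.node bigMvp2 bigMvp18) (.node bigMvp10 bigMvp26)) (.node (.node bigMvp6 bigMvp22) (.node bigMvp14 bigMvp30)))) (.node (.node (.node (.node bigMvp1 bigMvp17) (.node bigMvp9 bigMvp25)) (.node (.node bigMvp5 bigMvp21) (.node bigMvp13 bigMvp29))) (.node (.node (.node bigMvp3 bigMvp19) (.node bigMvp11 bigMvp27)) (.node (.node bigMvp7 bigMvp23) (.node bigMvp15 bigMvp31)))))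

theorem big_mvp0 : ((List.range 256).all fun i => movesOK baseB bigCert bigGens bigT 2912 bigVp bigMvp (Nat.add 0 i)) = true := by decide +kernel

theorem big_mvp1 : ((List.range 256).all fun i => movesOK baseB bigCert bigGens bigT 2912 bigVp bigMvp (Nat.add 256 i)) = true := by decide +kernel

theorem big_mvp2 : ((List.range 256).all fun i => movesOK baseB bigCert bigGens bigT 2912 bigVp bigMvp (Nat.add 512 i)) = true := by decide +kernel

theorem big_mvp3 : ((List.range 256).all fun i => movesOK baseB bigCert bigGens bigT 2912 bigVp bigMvp (Nat.add 768 i)) = true := by decide +kernel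

theorem big_mvp4 : ((List.range 256).all fun i => movesOK baseB bigCert bigGens bigT 2912 bigVp bigMvp (Nat.add 1024 i)) = true := by decide +kernel

theorem big_mvp5 : ((List.range 256).all fun i => movesOK baseB bigCert bigGens bigT 2912 bigVp bigMvp (Nat.add 1280 i)) = true := by decide +kernel

theorem big_mvp6 : ((List.range 256).all fun i => movesOK baseB bigCert bigGens bigT 2912 bigVp bigMvp (Nat.add 1536 i)) = true := by decide +kernel

theorem big_mvp7 : ((List.range 256).all fun i => movesOK baseB bigCert bigGens bigT 2912 bigVp bigMvp (Nat.add 1792 i)) = true := by decide +kernel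

theorem big_mvp8 : ((List.range 256).all fun i => movesOK baseB bigCert bigGens bigT 2912 bigVp bigMvp (Nat.add 2048 i)) = true := by decide +kernel

theorem big_mvp9 : ((List.range 256).all fun i => movesOK baseB bigCert bigGens bigT 2912 bigVp bigMvp (Nat.add 2304 i)) = true := by decide +kernel

theorem big_mvp10 : ((List.range 256).all fun i => movesOK baseB bigCert bigGens bigT 2912 bigVp bigMvp (Nat.add 2560 i)) = true := by decide +kernel

theorem big_mvp11 : ((List.range 96).all fun i => movesOK baseB bigCert bigGens bigT 2912 bigVp bigMvp (Nat.add 2816 i)) = true := by decide +kernel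

theorem big_mvp : ∀ i < 2912, movesOK baseB bigCert bigGens bigT 2912 bigVp bigMvp i = true := by
  intro i hi
  by_cases h0 : i < 256
  · have := List.all_eq_true.1 big_mvp0 (i - 0) (List.mem_range.2 (by omega)); rwa [show Nat.add 0 (i - 0) = i from Nat.add_sub_cancel' (by omega)] at this
  by_cases h1 : i < 512
  · have := List.all_eq_true.1 big_mvp1 (i - 256) (List.mem_range.2 (by omega)); rwa [show Nat.add 256 (i - 256) = i from Nat.add_sub_cancel' (by omega)] at this
  by_cases h2 : i < 768
  · have := List.all_eq_true.1 big_mvp2 (i - 512) (List.mem_range.2 (by omega)); rwa [show Nat.add 512 (i - 512) = i from Nat.add_sub_cancel' (by omega)] at this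
  by_cases h3 : i < 1024
  · have := List.all_eq_true.1 big_mvp3 (i - 768) (List.mem_range.2 (by omega)); rwa [show Nat.add 768 (i - 768) = i from Nat.add_sub_cancel' (by omega)] at this
  by_cases h4 : i < 1280
  · have := List.all_eq_true.1 big_mvp4 (i - 1024) (List.mem_range.2 (by omega)); rwa [show Nat.add 1024 (i - 1024) = i from Nat.add_sub_cancel' (by omega)] at this
  by_cases h5 : i < 1536
  · have := List.all_eq_true.1 big_mvp5 (i - 1280) (List.mem_range.2 (by omega)); rwa [show Nat.add 1280 (i - 1280) = i from Nat.add_sub_cancel' (by omega)] at this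
  by_cases h6 : i < 1792
  · have := List.all_eq_true.1 big_mvp6 (i - 1536) (List.mem_range.2 (by omega)); rwa [show Nat.add 1536 (i - 1536) = i from Nat.add_sub_cancel' (by omega)] at this
  by_cases h7 : i < 2048
  · have := List.all_eq_true.1 big_mvp7 (i - 1792) (List.mem_range.2 (by omega)); rwa [show Nat.add 1792 (i - 1792) = i from Nat.add_sub_cancel' (by omega)] at this
  by_cases h8 : i < 2304
  · have := List.all_eq_true.1 big_mvp8 (i - 2048) (List.mem_range.2 (by omega)); rwa [show Nat.add 2048 (i - 2048) = i from Nat.add_sub_cancel' (by omega)] at this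
  by_cases h9 : i < 2560
  · have := List.all_eq_true.1 big_mvp9 (i - 2304) (List.mem_range.2 (by omega)); rwa [show Nat.add 2304 (i - 2304) = i from Nat.add_sub_cancel' (by omega)] at this
  by_cases h10 : i < 2816
  · have := List.all_eq_true.1 big_mvp10 (i - 2560) (List.mem_range.2 (by omega)); rwa [show Nat.add 2560 (i - 2560) = i from Nat.add_sub_cancel' (by omega)] at this
  have := List.all_eq_true.1 big_mvp11 (i - 2816) (List.mem_range.2 (by omega)); rwa [show Nat.add 2816 (i - 2816) = i from Nat.add_sub_cancel' (by omega)] at this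


def bigVq : ℕ := 0x6d24e4222281962b5f59874906d86d518ce2404b2c8b88120a5ccc2b1c41a700715e116a5f22268d25844ab8d748478a26411b7cfb29231bc3cc385546aec988370f526370708e8598b3c1e55392ee0b67330909f625b461a88d8d8b0542e4e259333b9c4f958a654d0e81461a0c872ec74b980e0b013a1d6e5a6d429548a752c1403042b554a7148c056fe7c3ec62381b3d9e0f34d25d28f97fbf06e3519cf66f3a0082418a152279449f52d167f42773d1e22f168a24ae43e3061d583406096b18b580c02629c75b28f2c9d4228a9832ed0bf8040ed6b939840b08499b382e4a34ca1bc7fa9312232069a4ab4b48c894a45e2a17c4f236b232275d5ba1e5ad15e41aca122d1d2175563924ce1695b84f28399340ba7809d9975072718c3f6159451231c6c316135992381026b0d10c364435559850f95374fd04b1b01132f669dc285b47489aa6210132355e57ad62f5b45c7db621269864ee33d914d8198654d90152e1d97b01b4a1a6aca7ba628f447ea5537417d00082401f014743f1e01278ef55aa272f5792ba6c9da63b5d4a3a4d3dcea01d8187a42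

theorem big_vq : ((List.range 364).all fun k => Nat.beq (PermNine.pg bigVq k) (imgW bigGens (bigCert.wd 644) k)) = true := by decide +kernel

def bigMvq0 : Janko.Tree (ℕ) :=
  (.node (.node (.node (.node (.node (.node (.node (.leaf 644) (.leaf 2810029)) (.leaf 8835915)) (.node (.node (.leaf 6423816) (.leaf 11383033)) (.leaf 9986205))) (.node (.node (.node (.leaf 4301871) (.leaf 7026040)) (.leaf 4682827)) (.node (.node (.leaf 1881088) (.leaf 10629568)) (.leaf 3170804)))) (.node (.node (.node (.node (.leaf 754338) (.leaf 2651233)) (.leaf 4735988)) (.node (.node (.leaf 1225821) (.leaf 8581291)) (.leaf 7274722))) (.node (.node (.node (.leaf 1192886) (.leaf 4584453)) (.leaf 2098095)) (.node (.leaf 11297546) (.leaf 6472084))))) (.node (.node (.node (.node (.node (.leaf 110798) (.leaf 8295814)) (.leaf 4707755)) (.node (.node (.leaf 1110963) (.leaf 8619203)) (.leaf 10137808))) (.node (.node (.node (.leaf 9204405) (.leaf 5219065)) (.leaf 1798912)) (.node (.node (.leaf 6898299) (.leaf 5722283)) (.leaf 1392801)))) (.node (.node (.node (.node (.leaf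 10167349) (.leaf 2220261)) (.leaf 6365784)) (.node (.node (.leaf 7722013) (.leaf 9704142)) (.leaf 9736512))) (.node (.node (.node (.leaf 6362260) (.leaf 7148398)) (.leaf 1802328)) (.node (.leaf 3310236) (.leaf 8901761)))))) (.node (.node (.node (.node (.node (.node (.leaf 86535) (.leaf 4068273)) (.leaf 127298)) (.node (.node (.leaf 2154739) (.leaf 8151109)) (.leaf 5145342))) (.node (.node (.node (.leaf 5341850) (.leaf 7914285)) (.leaf 11485874)) (.node (.node (.leaf 6651988) (.leaf 6250873)) (.leaf 7217632)))) (.node (.node (.node (.node (.leaf 4093054) (.leaf 9515417)) (.leaf 4689983)) (.node (.node (.leaf 9707613) (.leaf 11392240)) (.leaf 1704596))) (.node (.node (.node (.leaf 7378262) (.leaf 6824101)) (.leaf 10130063)) (.node (.leaf 2745367) (.leaf 11694729))))) (.node (.node (.node (.node (.node (.leaf 3694661) (.leaf 11583501)) (.leaf 5841016)) (.node (.node (.leaf 4657430) (.leaf 8823238)) (.leaf 2544473))) (.node (.node (.node (.leaf 1601635) (.leaf 4846950)) (.leaf 11347372)) (.node (.leaf 7196837) (.leaf 11248629)))) (.node (.node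 (.node (.node (.leaf 847999) (.leaf 7393737)) (.leaf 1221860)) (.node (.node (.leaf 3731953) (.leaf 5566774)) (.leaf 3421398))) (.node (.node (.node (.leaf 2036121) (.leaf 5665299)) (.leaf 7533689)) (.node (.leaf 6951408) (.leaf 9413671)))))))

def bigMvq1 : Janko.Tree (ℕ) :=
  (.node (.node (.node (.node (.node (.node (.node (.leaf 33434) (.leaf 6427431)) (.leaf 4673754)) (.node (.node (.leaf 11088008) (.leaf 11899355)) (.leaf 4490616))) (.node (.node (.node (.leaf 2482199) (.leaf 7811969)) (.leaf 2462452)) (.node (.node (.leaf 7074265) (.leaf 11386885)) (.leaf 9556451)))) (.node (.node (.node (.node (.leaf 246335) (.leaf 2949403)) (.leaf 5379075)) (.node (.node (.leaf 451321) (.leaf 7316691)) (.leaf 8074448))) (.node (.node (.node (.leaf 1806745) (.leaf 10694755)) (.leaf 5472352)) (.node (.leaf 8843639) (.leaf 10396723))))) (.node (.node (.node (.node (.node (.leaf 4137973) (.leaf 5091950)) (.leaf 2658599)) (.node (.node (.leaf 10773532) (.leaf 8373277)) (.leaf 3613797))) (.node (.node (.node (.leaf 1201080) (.leaf 11313880)) (.leaf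 7607225)) (.node (.node (.leaf 3625550) (.leaf 8065829)) (.leaf 2409078)))) (.node (.node (.node (.node (.leaf 434342) (.leaf 2499520)) (.leaf 1851589)) (.node (.node (.leaf 9999793) (.leaf 10646375)) (.leaf 10535006))) (.node (.node (.node (.leaf 1486919) (.leaf 10875319)) (.leaf 9192801)) (.node (.leaf 11604527) (.leaf 9679720)))))) (.node (.node (.node (.node (.node (.node (.leaf 590689) (.leaf 9921142)) (.leaf 8799216)) (.node (.node (.leaf 2592892) (.leaf 8438659)) (.leaf 11281005))) (.node (.node (.node (.leaf 4113194) (.leaf 6561811)) (.leaf 10240021)) (.node (.node (.leaf 6115828) (.leaf 3842113)) (.leaf 4818263)))) (.node (.node (.node (.node (.leaf 11453535) (.leaf 10813749)) (.leaf 4886954)) (.node (.node (.leaf 6070551) (.leaf 8545206)) (.leaf 7062005))) (.node (.node (.node (.leaf 2981955) (.leaf 11498830)) (.leaf 11198940)) (.node (.leaf 6148403) (.leaf 10675083))))) (.node (.node (.node (.node (.node (.leaf 722313) (.leaf 7508419)) (.leaf 10531380)) (.node (.node (.leaf 603364) (.leaf 10625063)) (.leaf 3801607))) (.node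 (.node (.node (.leaf 9724041) (.leaf 11830399)) (.leaf 2450101)) (.node (.leaf 10109253) (.leaf 11203551)))) (.node (.node (.node (.node (.leaf 803751) (.leaf 5623811)) (.leaf 7115932)) (.node (.node (.leaf 701261) (.leaf 8975101)) (.leaf 1885178))) (.node (.node (.node (.leaf 8069224) (.leaf 4420181)) (.leaf 4698791)) (.node (.leaf 11474142) (.leaf 5735273)))))))

def bigMvq2 : Janko.Tree (ℕ) :=
  (.node (.node (.node (.node (.node (.node (.node (.leaf 78396) (.leaf 5120063)) (.leaf 9646778)) (.node (.node (.leaf 1106523) (.leaf 3780834)) (.leaf 1844443))) (.node (.node (.node (.leaf 8217230) (.leaf 11919403)) (.leaf 11039910)) (.node (.node (.leaf 3773659) (.leaf 4956305)) (.leaf 6722153)))) (.node (.node (.node (.node (.leaf 2376580) (.leaf 4678749)) (.leaf 2069064)) (.node (.node (.leaf 8683856) (.leaf 8381055)) (.leaf 7193749))) (.node (.node (.node (.leaf 1499761) (.leaf 6295729)) (.leaf 7976251)) (.node (.leaf 10273302) (.leaf 1290569))))) (.node (.node (.node (.node (.node (.leaf 107950) (.leaf 7930666)) (.leaf 5247873)) (.node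 (.node (.leaf 2548383) (.leaf 2523810)) (.leaf 7288039))) (.node (.node (.node (.leaf 4748522) (.leaf 8488328)) (.leaf 8889479)) (.node (.node (.leaf 6840955) (.leaf 5440019)) (.leaf 8094362)))) (.node (.node (.node (.node (.leaf 6156709) (.leaf 11571536)) (.leaf 6959193)) (.node (.node (.leaf 8848273) (.leaf 7668276)) (.leaf 1795089))) (.node (.node (.node (.leaf 10195942) (.leaf 5267530)) (.leaf 3953823)) (.node (.leaf 1459350) (.leaf 2707495)))))) (.node (.node (.node (.node (.node (.node (.leaf 177576) (.leaf 1385565)) (.leaf 8462782)) (.node (.node (.leaf 3785251) (.leaf 5424408)) (.leaf 5903221))) (.node (.node (.node (.leaf 10101011) (.leaf 6881480)) (.leaf 8958655)) (.node (.node (.leaf 2475308) (.leaf 11686988)) (.leaf 5984381)))) (.node (.node (.node (.node (.leaf 2535530) (.leaf 2900469)) (.leaf 10256830)) (.node (.node (.leaf 1815217) (.leaf 1332153)) (.leaf 1605898))) (.node (.node (.node (.leaf 3293912) (.leaf 8376699)) (.leaf 6337742)) (.node (.leaf 1536500) (.leaf 5034967))))) (.node (.node (.node (.node (.node (.leaf 717397)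 (.leaf 11252529)) (.leaf 4022385)) (.node (.node (.leaf 11809708) (.leaf 2856322)) (.leaf 4239959))) (.node (.node (.node (.leaf 3940465) (.leaf 11235343)) (.leaf 8319379)) (.node (.leaf 6321363) (.leaf 2020580)))) (.node (.node (.node (.node (.leaf 6750382) (.leaf 5325129)) (.leaf 8967556)) (.node (.node (.leaf 9576481) (.leaf 5951685)) (.leaf 11515258))) (.node (.node (.node (.leaf 4837836) (.leaf 4121144)) (.leaf 6886366)) (.node (.leaf 4687210) (.leaf 5386383)))))))

def bigMvq3 : Janko.Tree (ℕ) :=
  (.node (.node (.node (.node (.node (.node (.node (.leaf 5490) (.leaf 9306284)) (.leaf 2838872)) (.node (.node (.leaf 7763323) (.leaf 6922299)) (.leaf 11870645))) (.node (.node (.node (.leaf 4595898) (.leaf 2491274)) (.leaf 7622964)) (.node (.node (.leaf 4760801) (.leaf 8770394)) (.leaf 7464320)))) (.node (.node (.node (.node (.leaf 242458) (.leaf 7979991)) (.leaf 11477291)) (.node (.node (.leaf 999838) (.leaf 4788922)) (.leaf 6242711))) (.node (.node (.node (.leaf 377677) (.leaf 7775399)) (.leaf 11785299)) (.node (.leaf 7520756) (.leaf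 3208594))))) (.node (.node (.node (.node (.node (.leaf 963258) (.leaf 5234704)) (.leaf 11854306)) (.node (.node (.leaf 566533) (.leaf 3863546)) (.leaf 918206))) (.node (.node (.node (.leaf 1986735) (.leaf 1181042)) (.leaf 2691085)) (.node (.node (.leaf 3895952) (.leaf 5419480)) (.leaf 1184621)))) (.node (.node (.node (.node (.leaf 344560) (.leaf 3416269)) (.leaf 3223857)) (.node (.node (.leaf 6468369) (.leaf 2199847)) (.leaf 6062710))) (.node (.node (.node (.leaf 3163318) (.leaf 3576169)) (.leaf 1445895)) (.node (.leaf 3978503) (.leaf 10403978)))))) (.node (.node (.node (.node (.node (.node (.leaf 361131) (.leaf 7885199)) (.leaf 4006163)) (.node (.node (.leaf 1139938) (.leaf 1905476)) (.leaf 7491670))) (.node (.node (.node (.leaf 615494) (.leaf 9147716)) (.leaf 8917132)) (.node (.node (.leaf 6587695) (.leaf 9691470)) (.leaf 3190809)))) (.node (.node (.node (.node (.leaf 1323695) (.leaf 9155712)) (.leaf 4777280)) (.node (.node (.leaf 4215474) (.leaf 5636767)) (.leaf 10297895))) (.node (.node (.node (.leaf 7266941) (.leaf 1729927)) (.leaf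 9872117)) (.node (.leaf 9630924) (.leaf 7995790))))) (.node (.node (.node (.node (.node (.leaf 757824) (.leaf 5595545)) (.leaf 4465585)) (.node (.node (.leaf 2004094) (.leaf 3584609)) (.leaf 4702693))) (.node (.node (.node (.leaf 1709286) (.leaf 4883447)) (.leaf 9105654)) (.node (.leaf 9380028) (.leaf 10281190)))) (.node (.node (.node (.node (.leaf 697689) (.leaf 2696129)) (.leaf 11490532)) (.node (.node (.leaf 3568654) (.leaf 1238019)) (.leaf 9569635))) (.node (.node (.node (.leaf 1208572) (.leaf 9461874)) (.leaf 10760304)) (.node (.leaf 4026778) (.leaf 11874851)))))))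

def bigMvq4 : Janko.Tree (ℕ) :=
  (.node (.node (.node (.node (.node (.node (.node (.leaf 131644) (.leaf 8036368)) (.leaf 11350817)) (.node (.node (.leaf 294994) (.leaf 10953764)) (.leaf 10149895))) (.node (.node (.node (.leaf 11740129) (.leaf 9327360)) (.leaf 10912677)) (.node (.node (.leaf 894053) (.leaf 5788201)) (.leaf 6906908)))) (.node (.node (.node (.node (.leaf 463140) (.leaf 4604594)) (.leaf 4355456)) (.node (.node (.leaf 7795279) (.leaf 6530275)) (.leaf 9663718))) (.node (.node (.node (.leaf 7558575) (.leaf 10122442)) (.leaf 5751371)) (.node (.leaf 6026474) (.leaf 2834563))))) (.node (.node (.node (.node (.node (.leaf 512211) (.leaf 5222809)) (.leaf 2469992)) (.node (.node (.leaf 1216625) (.leaf 2867587)) (.leaf 6516927))) (.node (.node (.node (.leaf 8397965) (.leaf 11588274)) (.leaf 11264678)) (.node (.node (.leaf 6403218) (.leaf 11370738)) (.leaf 5899559)))) (.node (.node (.node (.node (.leaf 3028179) (.leaf 9212597)) (.leaf 651280)) (.node (.node (.leaf 11043626) (.leaf 10289239)) (.leaf 3097942))) (.node (.node (.node (.leaf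 8426850) (.leaf 2412907)) (.leaf 8884534)) (.node (.leaf 10428485) (.leaf 4388095)))))) (.node (.node (.node (.node (.node (.node (.leaf 58698) (.leaf 8274215)) (.leaf 1426614)) (.node (.node (.leaf 11023248) (.leaf 9975092)) (.leaf 7705935))) (.node (.node (.node (.leaf 9417629) (.leaf 8729208)) (.leaf 6136067)) (.node (.node (.leaf 1839638) (.leaf 6579523)) (.leaf 11215482)))) (.node (.node (.node (.node (.leaf 4044200) (.leaf 7050607)) (.leaf 6406700)) (.node (.node (.leaf 2863797) (.leaf 10818874)) (.leaf 11097342))) (.node (.node (.node (.leaf 1700618) (.leaf 7021083)) (.leaf 6996283)) (.node (.leaf 734323) (.leaf 6190480))))) (.node (.node (.node (.node (.node (.leaf 3503132) (.leaf 6415720)) (.leaf 4317436)) (.node (.node (.leaf 11067663) (.leaf 8979885)) (.leaf 4919326))) (.node (.node (.node (.leaf 819365) (.leaf 8970569)) (.leaf 10351076)) (.node (.leaf 6837430) (.leaf 4600309)))) (.node (.node (.node (.node (.leaf 6010260) (.leaf 2994772)) (.leaf 10059854)) (.node (.node (.leaf 3433333) (.leaf 2675848)) (.leaf 6095913))) (.node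 (.node (.node (.leaf 3682759) (.leaf 9983349)) (.leaf 3494548)) (.node (.leaf 1266592) (.leaf 8955191)))))))

def bigMvq5 : Janko.Tree (ℕ) :=
  (.node (.node (.node (.node (.node (.node (.node (.leaf 28719) (.leaf 5095466)) (.leaf 7070412)) (.node (.node (.leaf 631816) (.leaf 11628557)) (.leaf 889618))) (.node (.node (.node (.leaf 1376402) (.leaf 10502914)) (.leaf 7053476)) (.node (.node (.leaf 3404160) (.leaf 11362961)) (.leaf 10961024)))) (.node (.node (.node (.node (.leaf 2122741) (.leaf 2183839)) (.leaf 9797840)) (.node (.node (.leaf 2085584) (.leaf 5726886)) (.leaf 3441411))) (.node (.node (.node (.leaf 684538) (.leaf 2897171)) (.leaf 10044245)) (.node (.leaf 11846150) (.leaf 1058219))))) (.node (.node (.node (.node (.node (.leaf 2143328) (.leaf 10326978)) (.leaf 10141926)) (.node (.node (.leaf 2781855) (.leaf 8119353)) (.leaf 10715589))) (.node (.node (.node (.leaf 1175695) (.leaf 5117063)) (.leaf 10711350)) (.node (.node (.leaf 3006730) (.leaf 2515508)) (.leaf 8950948)))) (.node (.node (.node (.node (.leaf 184880) (.leaf 4076602))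 (.leaf 8515964)) (.node (.node (.leaf 5620051) (.leaf 11904187)) (.leaf 10507144))) (.node (.node (.node (.leaf 3708085) (.leaf 9830500)) (.leaf 9266178)) (.node (.leaf 7034120) (.leaf 6848927)))))) (.node (.node (.node (.node (.node (.node (.leaf 1475439) (.leaf 6226057)) (.leaf 9733232)) (.node (.node (.leaf 222304) (.leaf 9928908)) (.leaf 1519807))) (.node (.node (.node (.leaf 2310374) (.leaf 7185240)) (.leaf 8537472)) (.node (.node (.leaf 6202355) (.leaf 2888974)) (.leaf 9650597)))) (.node (.node (.node (.node (.leaf 598296) (.leaf 7943087)) (.leaf 9609887)) (.node (.node (.leaf 7820141) (.leaf 8045615)) (.leaf 4448769))) (.node (.node (.node (.leaf 7512137) (.leaf 1877223)) (.leaf 9298209)) (.node (.leaf 786919) (.leaf 8753845))))) (.node (.node (.node (.node (.node (.leaf 1667969) (.leaf 7618965)) (.leaf 4252226)) (.node (.node (.leaf 8934374) (.leaf 8806767)) (.leaf 10449872))) (.node (.node (.node (.leaf 349288) (.leaf 4731571)) (.leaf 2094470)) (.node (.leaf 8356567) (.leaf 1196536)))) (.node (.node (.node (.node (.leaf 308351)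 (.leaf 5301483)) (.leaf 2786036)) (.node (.node (.leaf 7119330) (.leaf 9671449)) (.leaf 2670745))) (.node (.node (.node (.leaf 2212810) (.leaf 10494846)) (.leaf 4628848)) (.node (.leaf 5743833) (.leaf 4695467)))))))

def bigMvq6 : Janko.Tree (ℕ) :=
  (.node (.node (.node (.node (.node (.node (.node (.leaf 336230) (.leaf 10420777)) (.leaf 5214329)) (.node (.node (.leaf 586050) (.leaf 5407295)) (.leaf 6460564))) (.node (.node (.node (.leaf 1339615) (.leaf 5055220)) (.leaf 9257770)) (.node (.node (.leaf 9639113) (.leaf 5042297)) (.leaf 3129787)))) (.node (.node (.node (.node (.leaf 124294) (.leaf 10015356)) (.leaf 8204624)) (.node (.node (.leaf 4088700) (.leaf 8192195)) (.leaf 1746139))) (.node (.node (.node (.leaf 6246909) (.leaf 8524382)) (.leaf 11812995)) (.node (.leaf 1765740) (.leaf 7839958))))) (.node (.node (.node (.node (.node (.leaf 259001) (.leaf 8983885)) (.leaf 6525610)) (.node (.node (.leaf 660609) (.leaf 7013083)) (.leaf 6656648))) (.node (.node (.node (.leaf 10203393) (.leaf 3622034)) (.leaf 7864687)) (.node (.node (.leaf 3252786)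 (.leaf 11743650)) (.leaf 8090246)))) (.node (.node (.node (.node (.leaf 402572) (.leaf 6181351)) (.leaf 6865422)) (.node (.node (.leaf 1036402) (.leaf 6292634)) (.leaf 3875008))) (.node (.node (.node (.leaf 6631828) (.leaf 3744530)) (.leaf 4281504)) (.node (.leaf 8384900) (.leaf 11522589)))))) (.node (.node (.node (.node (.node (.node (.leaf 250411) (.leaf 6938952)) (.leaf 4739552)) (.node (.node (.leaf 635780) (.leaf 7586780)) (.leaf 3379466))) (.node (.node (.node (.leaf 4313380) (.leaf 8565931)) (.leaf 6197876)) (.node (.node (.leaf 6853518) (.leaf 7499958)) (.leaf 6496752)))) (.node (.node (.node (.node (.leaf 65589) (.leaf 3986814)) (.leaf 10969238)) (.node (.node (.leaf 11653783) (.leaf 9548356)) (.leaf 11642271))) (.node (.node (.node (.leaf 9994347) (.leaf 2187825)) (.leaf 5539178)) (.node (.leaf 3572138) (.leaf 3371076))))) (.node (.node (.node (.node (.node (.leaf 762765) (.leaf 11776835)) (.leaf 7361894)) (.node (.node (.leaf 2245483) (.leaf 6078638)) (.leaf 5320894))) (.node (.node (.node (.leaf 7205638) (.leaf 6033741)) (.leaf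 5550080)) (.node (.leaf 2453609) (.leaf 5681423)))) (.node (.node (.node (.node (.leaf 1299436) (.leaf 7128016)) (.leaf 11338306)) (.node (.node (.leaf 3011467) (.leaf 6329423)) (.leaf 4866529))) (.node (.node (.node (.leaf 2180458) (.leaf 4567707)) (.leaf 1671736)) (.node (.leaf 11232160) (.leaf 11194383)))))))

def bigMvq7 : Janko.Tree (ℕ) :=
  (.node (.node (.node (.node (.node (.node (.node (.leaf 20719) (.leaf 8634542)) (.leaf 2278189)) (.node (.node (.leaf 7853435) (.leaf 11244963)) (.leaf 11752821))) (.node (.node (.node (.leaf 303285) (.leaf 9162848)) (.leaf 2531344)) (.node (.node (.leaf 823603) (.leaf 7283719)) (.leaf 8680318)))) (.node (.node (.node (.node (.leaf 2396790) (.leaf 1544317)) (.leaf 4079892)) (.node (.node (.leaf 10158929) (.leaf 7472520)) (.leaf 7730183))) (.node (.node (.node (.leaf 3645512) (.leaf 8573389)) (.leaf 5927296)) (.node (.leaf 5685899) (.leaf 5190841))))) (.node (.node (.node (.node (.node (.leaf 2163701) (.leaf 3392006)) (.leaf 6341565)) (.node (.node (.leaf 2478681) (.leaf 8139610)) (.leaf 10731995)))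 (.node (.node (.node (.leaf 4510945) (.leaf 8499313)) (.leaf 6492432)) (.node (.node (.leaf 3396838) (.leaf 8401587)) (.leaf 7328266)))) (.node (.node (.node (.node (.leaf 365954) (.leaf 5350790)) (.leaf 7963409)) (.node (.node (.leaf 8528774) (.leaf 7954841)) (.leaf 11637673))) (.node (.node (.node (.leaf 741876) (.leaf 8389815)) (.leaf 10012031)) (.node (.leaf 6217934) (.leaf 6398912)))))) (.node (.node (.node (.node (.node (.node (.leaf 54702) (.leaf 5296794)) (.leaf 8987972)) (.node (.node (.leaf 7688854) (.leaf 7926273)) (.leaf 10564715))) (.node (.node (.node (.leaf 4849838) (.leaf 8651920)) (.leaf 1049353)) (.node (.node (.leaf 6222994) (.leaf 11879189)) (.leaf 9270301)))) (.node (.node (.node (.node (.leaf 406383) (.leaf 8471132)) (.leaf 2941125)) (.node (.node (.leaf 2383976) (.leaf 8740971)) (.leaf 8709094))) (.node (.node (.node (.leaf 11207769) (.leaf 11055800)) (.leaf 10642761)) (.node (.leaf 5227944) (.leaf 8327669))))) (.node (.node (.node (.node (.node (.leaf 5616547) (.leaf 7922695)) (.leaf 2884527)) (.node (.node (.leaf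 2008023) (.leaf 11255877)) (.leaf 3138457))) (.node (.node (.node (.leaf 1618597) (.leaf 7090715)) (.leaf 4875357)) (.node (.leaf 852877) (.leaf 5469461)))) (.node (.node (.node (.node (.leaf 2622201) (.leaf 7725752)) (.leaf 11481334)) (.node (.node (.leaf 6349580) (.leaf 3445248)) (.leaf 7476485))) (.node (.node (.node (.leaf 509159) (.leaf 9208351)) (.leaf 4391847)) (.node (.leaf 2151161) (.leaf 2298633)))))))

def bigMvq8 : Janko.Tree (ℕ) :=
  (.node (.node (.node (.node (.node (.node (.node (.leaf 13696) (.leaf 6263716)) (.leaf 1234189)) (.node (.node (.leaf 2343039) (.leaf 5775612)) (.leaf 1737589))) (.node (.node (.node (.leaf 255189) (.leaf 9847746)) (.leaf 10866894)) (.node (.node (.leaf 3216357) (.leaf 5555425)) (.leaf 11793730)))) (.node (.node (.node (.node (.leaf 938861) (.leaf 1335384)) (.leaf 9393196)) (.node (.node (.leaf 8405055) (.leaf 7971225)) (.leaf 4310183))) (.node (.node (.node (.leaf 935084) (.leaf 3359955)) (.leaf 11228542)) (.node (.leaf 7110848) (.leaf 9716056))))) (.node (.node (.node (.node (.node (.leaf 4321602)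 (.leaf 5059283)) (.leaf 8876171)) (.node (.node (.leaf 8312194) (.leaf 10887720)) (.leaf 1909929))) (.node (.node (.node (.leaf 4383150) (.leaf 8832259)) (.leaf 11113805)) (.node (.node (.leaf 5264410) (.leaf 9683748)) (.leaf 11051662)))) (.node (.node (.node (.node (.leaf 3175635) (.leaf 6664875)) (.leaf 6779392)) (.node (.node (.leaf 1073358) (.leaf 4345973)) (.leaf 3257321))) (.node (.node (.node (.leaf 1749418) (.leaf 5673857)) (.leaf 11395898)) (.node (.leaf 8610022) (.leaf 6878187)))))) (.node (.node (.node (.node (.node (.node (.leaf 320499) (.leaf 11822329)) (.leaf 10658695)) (.node (.node (.leaf 4833572) (.leaf 1365320)) (.leaf 3724442))) (.node (.node (.node (.leaf 1406302) (.leaf 7348413)) (.leaf 9617582)) (.node (.node (.leaf 6796158) (.leaf 2556297)) (.leaf 11895680)))) (.node (.node (.node (.node (.leaf 1917738) (.leaf 7550344)) (.leaf 2851022)) (.node (.node (.leaf 1160285) (.leaf 6639967)) (.leaf 1638909))) (.node (.node (.node (.leaf 6267118) (.leaf 8786759)) (.leaf 4621371)) (.node (.leaf 10608967) (.leaf 282946)))))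 (.node (.node (.node (.node (.node (.leaf 1430010) (.leaf 10555991)) (.leaf 2127258)) (.node (.node (.leaf 11379868) (.leaf 11883710)) (.leaf 3535483))) (.node (.node (.node (.leaf 770712) (.leaf 8078555)) (.leaf 7999728)) (.node (.leaf 6934847) (.leaf 6522042)))) (.node (.node (.node (.node (.leaf 8122798) (.leaf 8859984)) (.leaf 7430834)) (.node (.node (.leaf 6513949) (.leaf 3544080)) (.leaf 9635014))) (.node (.node (.node (.leaf 119862) (.leaf 9404760)) (.leaf 8016310)) (.node (.leaf 2774443) (.leaf 4018574)))))))

def bigMvq9 : Janko.Tree (ℕ) :=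
  (.node (.node (.node (.node (.node (.node (.node (.leaf 233545) (.leaf 9740653)) (.leaf 11866330)) (.node (.node (.leaf 672746) (.leaf 10417496)) (.leaf 10879360))) (.node (.node (.node (.leaf 1278852) (.leaf 4969814)) (.leaf 5829155)) (.node (.node (.leaf 3805970) (.leaf 9949841)) (.leaf 10097030)))) (.node (.node (.node (.node (.leaf 2044917) (.leaf 8283358)) (.leaf 10752147)) (.node (.node (.leaf 7935300) (.leaf 5772381)) (.leaf 6173798))) (.node (.node (.node (.leaf 688394) (.leaf 8717318)) (.leaf 2605069)) (.node (.leaf 1548412) (.leaf 8491337))))) (.node (.node (.node (.node (.node (.leaf 10945138) (.leaf 10584220)) (.leaf 11724087)) (.node (.node (.leaf 966948) (.leaf 5137800)) (.leaf 5428196))) (.node (.node (.node (.leaf 501126) (.leaf 8828112)) (.leaf 9368620)) (.node (.node (.leaf 10457294) (.leaf 9892884)) (.leaf 4469346)))) (.node (.node (.node (.node (.leaf 1450573) (.leaf 10470655)) (.leaf 6194506)) (.node (.node (.leaf 11796553) (.leaf 4579364)) (.leaf 11260239))) (.node (.node (.node (.leaf 6870044) (.leaf 9675465))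 (.leaf 3825991)) (.node (.leaf 7496763) (.leaf 7786646)))))) (.node (.node (.node (.node (.node (.node (.leaf 196774) (.leaf 6742562)) (.leaf 4337956)) (.node (.node (.leaf 4440863) (.leaf 7635702)) (.leaf 10105312))) (.node (.node (.node (.leaf 9794428) (.leaf 10445476)) (.leaf 10704290)) (.node (.node (.leaf 10081253) (.leaf 1627421)) (.leaf 7791721)))) (.node (.node (.node (.node (.leaf 443329) (.leaf 8340702)) (.leaf 8868753)) (.node (.node (.leaf 1094700) (.leaf 8692287)) (.leaf 3122458))) (.node (.node (.node (.leaf 3134745) (.leaf 4891583)) (.leaf 2265320)) (.node (.leaf 7451778) (.leaf 9760954))))) (.node (.node (.node (.node (.node (.leaf 10064381) (.leaf 5865764)) (.leaf 992259)) (.node (.node (.leaf 8724654) (.leaf 8495387)) (.leaf 5070871))) (.node (.node (.node (.leaf 1819301) (.leaf 7291425)) (.leaf 10994536)) (.node (.leaf 10211874) (.leaf 7750545)))) (.node (.node (.node (.node (.leaf 971877) (.leaf 2892054)) (.leaf 8549452)) (.node (.node (.leaf 8642951) (.leaf 7410046)) (.leaf 9200214))) (.node (.node (.node (.leaf 1316072)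 (.leaf 4277564)) (.leaf 4752099)) (.node (.leaf 2617432) (.leaf 8111112)))))))

def bigMvq10 : Janko.Tree (ℕ) :=
  (.node (.node (.node (.node (.node (.node (.node (.leaf 209415) (.leaf 7140720)) (.leaf 1012964)) (.node (.node (.leaf 11625584) (.leaf 6213784)) (.leaf 10269062))) (.node (.node (.node (.leaf 312321) (.leaf 2572770)) (.leaf 7332904)) (.node (.node (.leaf 8782204) (.leaf 8020910)) (.leaf 4518211)))) (.node (.node (.node (.node (.leaf 1270854) (.leaf 2801683)) (.leaf 11122025)) (.node (.node (.leaf 9654446) (.leaf 3678579)) (.leaf 8409167))) (.node (.node (.node (.leaf 11355515) (.leaf 2237294)) (.leaf 9720953)) (.node (.leaf 9090426) (.leaf 10162891))))) (.node (.node (.node (.node (.node (.leaf 1397990) (.leaf 10383434)) (.leaf 7843983)) (.node (.node (.leaf 8134792) (.leaf 10838016)) (.leaf 3867121))) (.node (.node (.node (.leaf 9175945) (.leaf 5497364)) (.leaf 2335978)) (.node (.node (.leaf 3617605) (.leaf 5292148)) (.leaf 4903859)))) (.node (.node (.node (.node (.leaf 439589) (.leaf 8176448)) (.leaf 2638669)) (.node (.node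 (.leaf 532613) (.leaf 11767972)) (.leaf 3298601))) (.node (.node (.node (.leaf 8937840) (.leaf 9019896)) (.leaf 8212597)) (.node (.leaf 1835142) (.leaf 7984278)))))) (.node (.node (.node (.node (.node (.node (.leaf 836674) (.leaf 11108542)) (.leaf 3265417)) (.node (.node (.leaf 4662220) (.leaf 8007939)) (.leaf 3281286))) (.node (.node (.node (.leaf 7831804) (.leaf 9560356)) (.leaf 5068124)) (.node (.node (.leaf 1565115) (.leaf 4813879)) (.leaf 3408129)))) (.node (.node (.node (.node (.leaf 1663901) (.leaf 2585735)) (.leaf 5079520)) (.node (.node (.leaf 8639510) (.leaf 8466985)) (.leaf 6357666))) (.node (.node (.node (.leaf 6058769) (.leaf 6165593)) (.leaf 8393738)) (.node (.leaf 11510879) (.leaf 4428811))))) (.node (.node (.node (.node (.node (.leaf 901604) (.leaf 5202155)) (.leaf 10834866)) (.node (.node (.leaf 9143440) (.leaf 9331718)) (.leaf 10904254))) (.node (.node (.node (.leaf 430253) (.leaf 5210481)) (.leaf 9069722)) (.node (.leaf 3031735) (.leaf 5988678)))) (.node (.node (.node (.node (.leaf 1061834) (.leaf 3637964)) (.leaf 3219784))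 (.node (.node (.leaf 1848182) (.leaf 5333461)) (.leaf 5513271))) (.node (.node (.node (.leaf 4560202) (.leaf 5579239)) (.leaf 3719845)) (.node (.leaf 2511308) (.leaf 11907782)))))))

def bigMvq11 : Janko.Tree (ℕ) :=
  (.node (.node (.node (.node (.node (.node (.node (.leaf 1099185) (.leaf 8106127)) (.leaf 9864419)) (.node (.node (.leaf 475275) (.leaf 11538771)) (.leaf 5276737))) (.node (.node (.node (.leaf 4654134) (.leaf 8245358)) (.leaf 9110465)) (.node (.node (.leaf 6619363) (.leaf 11564356)) (.leaf 6276357)))) (.node (.node (.node (.node (.leaf 10232706) (.leaf 2711555)) (.leaf 7389549)) (.node (.node (.leaf 2642212) (.leaf 5099864)) (.leaf 9248869))) (.node (.node (.node (.leaf 1921870) (.leaf 7779325)) (.leaf 644475)) (.node (.leaf 3891590) (.leaf 1241363))))) (.node (.node (.node (.node (.node (.leaf 1089669) (.leaf 7345180)) (.leaf 9130146)) (.node (.node (.leaf 668540) (.leaf 6718135)) (.leaf 3301863))) (.node (.node (.node (.leaf 2167986) (.leaf 4481151)) (.leaf 7565518)) (.node (.node (.leaf 3834883) (.leaf 5824959)) (.leaf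 10768495)))) (.node (.node (.node (.node (.leaf 10286473) (.leaf 4543214)) (.leaf 7807402)) (.node (.node (.leaf 2553046) (.leaf 9814515)) (.leaf 5395365))) (.node (.node (.node (.leaf 1945763) (.leaf 6373475)) (.leaf 3289997)) (.node (.leaf 3273475) (.leaf 11125807)))))) (.node (.node (.node (.node (.node (.node (.leaf 144387) (.leaf 10539529)) (.leaf 11318085)) (.node (.node (.leaf 1135829) (.leaf 10785535)) (.leaf 864344))) (.node (.node (.node (.leaf 2372175) (.leaf 10248769)) (.leaf 7189398)) (.node (.node (.leaf 9901307) (.leaf 1717020)) (.leaf 9839174)))) (.node (.node (.node (.node (.leaf 1785928) (.leaf 11100701)) (.leaf 10170925)) (.node (.node (.leaf 9385014) (.leaf 7382195)) (.leaf 11923947))) (.node (.node (.node (.leaf 3195554) (.leaf 9360187)) (.leaf 7078765)) (.node (.leaf 6971756) (.leaf 2146994))))) (.node (.node (.node (.node (.node (.leaf 869041) (.leaf 10896334)) (.leaf 7574175)) (.node (.node (.leaf 2024456) (.leaf 10617142)) (.leaf 11546686))) (.node (.node (.node (.leaf 1577065) (.leaf 9786089)) (.leaf 5870040))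 (.node (.leaf 6902079) (.leaf 4497817)))) (.node (.node (.node (.node (.leaf 521140) (.leaf 1823034)) (.leaf 2962233)) (.node (.node (.leaf 6489266) (.leaf 7254764)) (.leaf 10519846))) (.node (.node (.node (.leaf 4297397) (.leaf 5141216)) (.leaf 3847498)) (.node (.leaf 10220480) (.leaf 3793041)))))))

def bigMvq12 : Janko.Tree (ℕ) :=
  (.node (.node (.node (.node (.node (.node (.node (.leaf 91134) (.leaf 9007561)) (.leaf 2252986)) (.node (.node (.leaf 9037022) (.leaf 885902)) (.leaf 6554251))) (.node (.node (.node (.leaf 483758) (.leaf 7246408)) (.leaf 10679369)) (.node (.node (.leaf 828027) (.leaf 7221837)) (.leaf 8131824)))) (.node (.node (.node (.node (.leaf 2028977) (.leaf 11059704)) (.leaf 2327868)) (.node (.node (.leaf 5051071) (.leaf 11609286)) (.leaf 1901521))) (.node (.node (.node (.leaf 3449955) (.leaf 9188273)) (.leaf 11105421)) (.node (.leaf 10313920) (.leaf 3186955))))) (.node (.node (.node (.node (.node (.leaf 95614) (.leaf 9465857)) (.leaf 2307499)) (.node (.node (.leaf 9450433) (.leaf 7836440)) (.leaf 4931680))) (.node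 (.node (.node (.leaf 9077223) (.leaf 4038996)) (.leaf 9225527)) (.node (.node (.leaf 173442) (.leaf 8261698)) (.leaf 4227765)))) (.node (.node (.node (.node (.leaf 152906) (.leaf 4477226)) (.leaf 7135703)) (.node (.node (.leaf 2733418) (.leaf 9388774)) (.leaf 3711632))) (.node (.node (.node (.leaf 7439360) (.leaf 8196627)) (.leaf 7538095)) (.node (.leaf 10371740) (.leaf 8209507)))))) (.node (.node (.node (.node (.node (.node (.leaf 791309) (.leaf 11175015)) (.leaf 9471098)) (.node (.node (.leaf 7848881) (.leaf 7001192)) (.leaf 9528618))) (.node (.node (.node (.leaf 2323776) (.leaf 2393181)) (.leaf 10884124)) (.node (.node (.leaf 10347757) (.leaf 11116947)) (.leaf 11543470)))) (.node (.node (.node (.node (.leaf 1503896) (.leaf 9621600)) (.leaf 8003647)) (.node (.node (.leaf 7123600) (.leaf 11224242)) (.leaf 7528561))) (.node (.node (.node (.leaf 914110) (.leaf 2339123)) (.leaf 8811571)) (.node (.leaf 6504516) (.leaf 8561401))))) (.node (.node (.node (.node (.node (.leaf 192773) (.leaf 10379680)) (.leaf 4001905)) (.node (.node (.leaf 1028425)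 (.leaf 9102325)) (.leaf 910505))) (.node (.node (.node (.leaf 10092924) (.leaf 8569118)) (.leaf 1724912)) (.node (.leaf 6410914) (.leaf 9581552)))) (.node (.node (.node (.node (.leaf 2634984) (.leaf 10388576)) (.leaf 5009889)) (.node (.node (.leaf 3514758) (.leaf 2090027)) (.leaf 6144894))) (.node (.node (.node (.leaf 1994876) (.leaf 7570040)) (.leaf 6926980)) (.node (.leaf 4350350) (.leaf 9855956)))))))

def bigMvq13 : Janko.Tree (ℕ) :=
  (.node (.node (.node (.node (.node (.node (.node (.leaf 160799) (.leaf 3994068)) (.leaf 9168027)) (.node (.node (.leaf 561940) (.leaf 5668970)) (.leaf 1389996))) (.node (.node (.node (.leaf 1172356) (.leaf 11456637)) (.leaf 7738327)) (.node (.node (.leaf 4990089) (.leaf 8512795)) (.leaf 7156096)))) (.node (.node (.node (.node (.leaf 581758) (.leaf 4670669)) (.leaf 8250546)) (.node (.node (.leaf 11436368) (.leaf 6644667)) (.leaf 10810510))) (.node (.node (.node (.leaf 6985077) (.leaf 4202642)) (.leaf 10339480)) (.node (.leaf 3100979) (.leaf 4190271))))) (.node (.node (.node (.node (.node (.leaf 1228906)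 (.leaf 5431569)) (.leaf 4396040)) (.node (.node (.leaf 1356737) (.leaf 4178153)) (.leaf 6860920))) (.node (.node (.node (.leaf 4993717) (.leaf 7906123)) (.leaf 5317661)) (.node (.node (.leaf 7042371) (.leaf 7455889)) (.leaf 10186996)))) (.node (.node (.node (.node (.leaf 6566977) (.leaf 5719062)) (.leaf 4014800)) (.node (.node (.leaf 8913416) (.leaf 11330403)) (.leaf 2363750))) (.node (.node (.node (.leaf 1630969) (.leaf 11612296)) (.leaf 3376229)) (.node (.leaf 7988325) (.leaf 11526503)))))) (.node (.node (.node (.node (.node (.node (.leaf 1684105) (.leaf 8200192)) (.leaf 6238778)) (.node (.node (.leaf 2077644) (.leaf 9908704)) (.leaf 3814399))) (.node (.node (.node (.leaf 11415770) (.leaf 5288072)) (.leaf 8062185)) (.node (.node (.leaf 10224640) (.leaf 3346546)) (.leaf 3109070)))) (.node (.node (.node (.node (.leaf 693510) (.leaf 7250971)) (.leaf 4219723)) (.node (.node (.leaf 3048226) (.leaf 7336554)) (.leaf 7868495))) (.node (.node (.node (.leaf 1508351) (.leaf 6210840)) (.leaf 3966322)) (.node (.leaf 6001129) (.leaf 10683416)))))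 (.node (.node (.node (.node (.node (.leaf 238073) (.leaf 4792821)) (.leaf 7651999)) (.node (.node (.leaf 8450155) (.leaf 1319164)) (.leaf 5575921))) (.node (.node (.node (.leaf 324870) (.leaf 11702283)) (.leaf 9498852)) (.node (.leaf 3334644) (.leaf 5415590)))) (.node (.node (.node (.node (.leaf 225990) (.leaf 11466076)) (.leaf 7582374)) (.node (.node (.leaf 5915889) (.leaf 5911438)) (.leaf 7951269))) (.node (.node (.node (.leaf 2749701) (.leaf 6161663)) (.leaf 5648669)) (.node (.leaf 10363011) (.leaf 8590120)))))))

def bigMvq14 : Janko.Tree (ℕ) :=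
  (.node (.node (.node (.node (.node (.node (.node (.leaf 680442) (.leaf 9003434)) (.leaf 5588229)) (.node (.node (.leaf 9240871) (.leaf 11617535)) (.leaf 6206800))) (.node (.node (.node (.leaf 1347723) (.leaf 1409173)) (.leaf 7098942)) (.node (.node (.leaf 3429691) (.leaf 10613907)) (.leaf 6054854)))) (.node (.node (.node (.node (.leaf 541077) (.leaf 10028341)) (.leaf 1148132)) (.node (.node (.leaf 7488622) (.leaf 2740922)) (.leaf 9605740))) (.node (.node (.node (.leaf 905659) (.leaf 1360464)) (.leaf 4378756)) (.node (.leaf 7423279) (.leaf 5607999))))) (.node (.node (.node (.node (.node (.leaf 140550) (.leaf 7709955)) (.leaf 5461031)) (.node (.node (.leaf 4633741) (.leaf 6783063)) (.leaf 9859946))) (.node (.node (.node (.leaf 9302706) (.leaf 11834676)) (.leaf 4842589)) (.node (.node (.leaf 1774817) (.leaf 5480753)) (.leaf 10047559)))) (.node (.node (.node (.node (.leaf 340862) (.leaf 8056881)) (.leaf 2433033)) (.node (.node (.leaf 648310) (.leaf 4268091)) (.leaf 9123182))) (.node (.node (.node (.leaf 1462791) (.leaf 7107220)) (.leaf 8750352))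 (.node (.leaf 9564610) (.leaf 1344608)))))) (.node (.node (.node (.node (.node (.node (.leaf 3580268) (.leaf 9437855)) (.leaf 5546066)) (.node (.node (.leaf 1275307) (.leaf 9593361)) (.leaf 6889848))) (.node (.node (.node (.leaf 4641800) (.leaf 5161056)) (.leaf 11424587)) (.node (.node (.leaf 3203436) (.leaf 11007275)) (.leaf 6230625)))) (.node (.node (.node (.node (.leaf 3167608) (.leaf 11620929)) (.leaf 6418496)) (.node (.node (.leaf 9667812) (.leaf 6280488)) (.leaf 1856317))) (.node (.node (.node (.leaf 3547455) (.leaf 1897762)) (.leaf 8774647)) (.node (.leaf 1655322) (.leaf 2704080))))) (.node (.node (.node (.node (.node (.leaf 1421940) (.leaf 2827201)) (.leaf 4718917)) (.node (.node (.leaf 2933961) (.leaf 10846897)) (.leaf 5178092))) (.node (.node (.node (.leaf 3342881) (.leaf 6005661)) (.leaf 8098222)) (.node (.leaf 1581594) (.leaf 1733320)))) (.node (.node (.node (.node (.leaf 4154590) (.leaf 8352024)) (.leaf 4625478)) (.node (.node (.leaf 1531971) (.leaf 11031306)) (.leaf 3437441))) (.node (.node (.node (.leaf 4162297) (.leaf 2966710))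 (.leaf 3351011)) (.node (.leaf 1282270) (.leaf 4306175)))))))

def bigMvq15 : Janko.Tree (ℕ) :=
  (.node (.node (.node (.node (.node (.node (.node (.leaf 61679) (.leaf 9926011)) (.leaf 2258041)) (.node (.node (.leaf 5710777) (.leaf 4744146)) (.leaf 11190464))) (.node (.node (.node (.leaf 8359994) (.leaf 7131394)) (.leaf 5657825)) (.node (.node (.leaf 11142208) (.leaf 6304777)) (.leaf 9434419)))) (.node (.node (.node (.node (.leaf 2789668) (.leaf 5968201)) (.leaf 10073245)) (.node (.node (.leaf 11063460) (.leaf 10453846)) (.leaf 7655840))) (.node (.node (.node (.leaf 3752716) (.leaf 3588266)) (.leaf 8454283)) (.node (.leaf 7414778) (.leaf 8369318))))) (.node (.node (.node (.node (.node (.leaf 815983) (.leaf 7910512)) (.leaf 10134456)) (.node (.node (.leaf 2101914) (.leaf 1790559)) (.leaf 9138360))) (.node (.node (.node (.leaf 5132789) (.leaf 2171151)) (.leaf 3384700)) (.node (.node (.leaf 3236458) (.leaf 10581057)) (.leaf 4145427)))) (.node (.node (.node (.node (.leaf 6713468) (.leaf 11551243)) (.leaf 11444535)) (.node (.node (.leaf 9626854)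 (.leaf 10826363)) (.leaf 9356269))) (.node (.node (.node (.leaf 6390087) (.leaf 3760606)) (.leaf 3367798)) (.node (.leaf 8765700) (.leaf 6763509)))))) (.node (.node (.node (.node (.node (.node (.leaf 389652) (.leaf 8839389)) (.leaf 4157671)) (.node (.node (.leaf 958481) (.leaf 6627754)) (.leaf 4407395))) (.node (.node (.node (.leaf 950702) (.leaf 6690092)) (.leaf 4829583)) (.node (.node (.leaf 7460148) (.leaf 11710885)) (.leaf 2978934)))) (.node (.node (.node (.node (.leaf 767362) (.leaf 9073611)) (.leaf 4105270)) (.node (.node (.leaf 9196555) (.leaf 10958057)) (.leaf 10982134))) (.node (.node (.node (.leaf 1888448) (.leaf 3830546)) (.leaf 11026657)) (.node (.leaf 6598740) (.leaf 11580512))))) (.node (.node (.node (.node (.node (.leaf 37383) (.leaf 11634013)) (.leaf 3854499)) (.node (.node (.leaf 5661924) (.leaf 10724279)) (.leaf 2794131))) (.node (.node (.node (.leaf 180876) (.leaf 7577659)) (.leaf 3777188)) (.node (.leaf 6185492) (.leaf 7741536)))) (.node (.node (.node (.node (.leaf 279628) (.leaf 5633301)) (.leaf 6738371)) (.node (.node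 (.leaf 3113680) (.leaf 4485539)) (.leaf 6774902))) (.node (.node (.node (.leaf 2015328) (.leaf 7685458)) (.leaf 1512333)) (.node (.leaf 569970) (.leaf 9065401)))))))

def bigMvq16 : Janko.Tree (ℕ) :=
  (.node (.node (.node (.node (.node (.node (.node (.leaf 82074) (.leaf 5477384)) (.leaf 9937647)) (.node (.node (.leaf 663967) (.leaf 3179731)) (.leaf 10408208))) (.node (.node (.node (.leaf 1156240) (.leaf 4551893)) (.leaf 5260207)) (.node (.node (.leaf 5006266) (.leaf 4285503)) (.leaf 11715197)))) (.node (.node (.node (.node (.leaf 471500) (.leaf 5944459)) (.leaf 4096720)) (.node (.node (.leaf 7823503) (.leaf 11759892)) (.leaf 10863269))) (.node (.node (.node (.leaf 9958112) (.leaf 8459367)) (.leaf 7369696)) (.node (.leaf 5907482) (.leaf 10855846))))) (.node (.node (.node (.node (.node (.leaf 69754) (.leaf 10699895)) (.leaf 5980560)) (.node (.node (.leaf 6123742) (.leaf 8147437)) (.leaf 3641831))) (.node (.node (.node (.leaf 2270641) (.leaf 9179214)) (.leaf 9274241)) (.node (.node (.leaf 10301450) (.leaf 11699613)) (.leaf 10199611)))) (.node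 (.node (.node (.node (.leaf 2991338) (.leaf 8041158)) (.leaf 10973323)) (.node (.node (.leaf 10515042) (.leaf 10309779)) (.leaf 6128885))) (.node (.node (.node (.leaf 6313141) (.leaf 10077551)) (.leaf 7992524)) (.node (.leaf 6018157) (.leaf 9236611)))))) (.node (.node (.node (.node (.node (.node (.leaf 329049) (.leaf 10806151)) (.leaf 3540153)) (.node (.node (.leaf 8286503) (.leaf 5399742)) (.leaf 6111766))) (.node (.node (.node (.leaf 8909281) (.leaf 9601144)) (.leaf 6431031)) (.node (.node (.leaf 1757964) (.leaf 5845617)) (.leaf 6759204)))) (.node (.node (.node (.node (.leaf 811399) (.leaf 6964124)) (.leaf 2814913)) (.node (.node (.leaf 2416783) (.leaf 10126029)) (.leaf 5690696))) (.node (.node (.node (.leaf 2761635) (.leaf 11076941)) (.leaf 9827103)) (.node (.leaf 7209751) (.leaf 10261283))))) (.node (.node (.node (.node (.node (.leaf 1954657) (.leaf 4064589)) (.leaf 546005)) (.node (.node (.leaf 11531408) (.leaf 4801495)) (.leaf 3199632))) (.node (.node (.node (.leaf 3596360) (.leaf 10670737)) (.leaf 4911247)) (.node (.leaf 10023095)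 (.leaf 4572556)))) (.node (.node (.node (.node (.leaf 2290662) (.leaf 4457899)) (.leaf 11284755)) (.node (.node (.leaf 10601489) (.leaf 5857858)) (.leaf 3527152))) (.node (.node (.node (.leaf 4945323) (.leaf 5367013)) (.leaf 7058182)) (.node (.leaf 9613583) (.leaf 2683735)))))))

def bigMvq17 : Janko.Tree (ℕ) :=
  (.node (.node (.node (.node (.node (.node (.node (.leaf 25361) (.leaf 4375324)) (.leaf 4564060)) (.node (.node (.leaf 4723087) (.leaf 7856918)) (.leaf 3969611))) (.node (.node (.node (.leaf 479909) (.leaf 7352347)) (.leaf 5563034)) (.node (.node (.leaf 423013) (.leaf 1635490)) (.leaf 11010506)))) (.node (.node (.node (.node (.leaf 4326827) (.leaf 9053406)) (.leaf 2314744)) (.node (.node (.leaf 2400487) (.leaf 10343327)) (.leaf 6509196))) (.node (.node (.node (.leaf 5640596) (.leaf 4060071)) (.leaf 2519541)) (.node (.leaf 8614095) (.leaf 7664988))))) (.node (.node (.node (.node (.node (.leaf 1495993) (.leaf 8732677)) (.leaf 7893812)) (.node (.node (.leaf 5026190) (.leaf 4289207)) (.leaf 6676672))) (.node (.node (.node (.leaf 1401657)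 (.leaf 6103374)) (.leaf 3675321)) (.node (.node (.leaf 1753159) (.leaf 10744147)) (.leaf 10637755)))) (.node (.node (.node (.node (.leaf 2970892) (.leaf 5435721)) (.leaf 5543020)) (.node (.node (.leaf 7009537) (.leaf 11276392)) (.leaf 10322558))) (.node (.node (.node (.leaf 8946302) (.leaf 6022206)) (.leaf 3117836)) (.node (.leaf 8028664) (.leaf 10655085)))))) (.node (.node (.node (.node (.node (.node (.leaf 426468) (.leaf 10510778)) (.leaf 4977793)) (.node (.node (.leaf 9044373) (.leaf 4493578)) (.leaf 9028295))) (.node (.node (.node (.leaf 1069267) (.leaf 3088455)) (.leaf 4334727)) (.node (.node (.leaf 6382114) (.leaf 11850422)) (.leaf 7758526)))) (.node (.node (.node (.node (.leaf 201665) (.leaf 2588815)) (.leaf 9752868)) (.node (.node (.leaf 4645652) (.leaf 4870630)) (.leaf 7234799))) (.node (.node (.node (.leaf 738082) (.leaf 9031687)) (.leaf 7660304)) (.node (.leaf 5920130) (.leaf 6845260))))) (.node (.node (.node (.node (.node (.leaf 492588) (.leaf 9491196)) (.leaf 5509202)) (.node (.node (.leaf 2540433) (.leaf 10412698)) (.leaf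 11493527))) (.node (.node (.node (.leaf 881883) (.leaf 6804748)) (.leaf 6873549)) (.node (.leaf 4965230) (.leaf 4513931)))) (.node (.node (.node (.node (.leaf 2114604) (.leaf 4928114)) (.leaf 8667829)) (.node (.node (.leaf 3019026) (.leaf 8794112)) (.leaf 9290838))) (.node (.node (.node (.leaf 1212738) (.leaf 10666176)) (.leaf 10040530)) (.node (.leaf 4264966) (.leaf 4255966)))))))

def bigMvq18 : Janko.Tree (ℕ) :=
  (.node (.node (.node (.node (.node (.node (.node (.leaf 930031) (.leaf 5936074)) (.leaf 9441616)) (.node (.node (.leaf 2048143) (.leaf 2437135)) (.leaf 9422162))) (.node (.node (.node (.leaf 447710) (.leaf 10830290)) (.leaf 1373344)) (.node (.node (.leaf 4935799) (.leaf 9245179)) (.leaf 3809755)))) (.node (.node (.node (.node (.leaf 1024322) (.leaf 2822315)) (.leaf 10568440)) (.node (.node (.leaf 5448318) (.leaf 11886928)) (.leaf 8745012))) (.node (.node (.node (.leaf 6029351) (.leaf 8414498)) (.leaf 5113180)) (.node (.leaf 6087351) (.leaf 11268119))))) (.node (.node (.node (.node (.node (.leaf 168333) (.leaf 4101547)) (.leaf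 4272450)) (.node (.node (.leaf 4879283) (.leaf 6710470)) (.leaf 8646982))) (.node (.node (.node (.leaf 2351605) (.leaf 8761873)) (.leaf 10425268)) (.node (.node (.leaf 10375945) (.leaf 7319890)) (.leaf 7599424)))) (.node (.node (.node (.node (.leaf 730294) (.leaf 8688459)) (.leaf 10368101)) (.node (.node (.leaf 2012111) (.leaf 3608584)) (.leaf 9966610))) (.node (.node (.node (.leaf 6091661) (.leaf 926348)) (.leaf 3822050)) (.node (.leaf 4923415) (.leaf 4755727)))))) (.node (.node (.node (.node (.node (.node (.leaf 979390) (.leaf 5956462)) (.leaf 4072536)) (.node (.node (.leaf 2347706) (.leaf 7045980)) (.leaf 3973891))) (.node (.node (.node (.leaf 8929416) (.leaf 5198706)) (.leaf 10822300)) (.node (.node (.leaf 3884283) (.leaf 4010625)) (.leaf 3888420)))) (.node (.node (.node (.node (.leaf 3818258) (.leaf 10850927)) (.leaf 5157620)) (.node (.node (.leaf 11441126) (.leaf 10244903)) (.leaf 11420879))) (.node (.node (.node (.leaf 1692545) (.leaf 7029270)) (.leaf 5062985)) (.node (.leaf 7225841) (.leaf 1974608))))) (.node (.node (.node (.node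 (.node (.leaf 578334) (.leaf 11788572)) (.leaf 496219)) (.node (.node (.leaf 8258246) (.leaf 10400298)) (.leaf 5599689))) (.node (.node (.node (.leaf 1471756) (.leaf 7324787)) (.leaf 1414540)) (.node (.leaf 3269609) (.leaf 5370078)))) (.node (.node (.node (.node (.leaf 5923033) (.leaf 3936879)) (.leaf 8777946)) (.node (.node (.leaf 7365499) (.leaf 10597358)) (.leaf 10461344))) (.node (.node (.node (.leaf 2909343) (.leaf 10788905)) (.leaf 6980975)) (.node (.leaf 2081529) (.leaf 9642220)))))))

def bigMvq19 : Janko.Tree (ℕ) :=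
  (.node (.node (.node (.node (.node (.node (.node (.leaf 8239) (.leaf 9728845)) (.leaf 1380465)) (.node (.node (.leaf 5976479) (.leaf 6570098)) (.leaf 11321914))) (.node (.node (.node (.leaf 1041397) (.leaf 4035432)) (.leaf 9318729)) (.node (.node (.leaf 9220100) (.leaf 7406506)) (.leaf 2176143)))) (.node (.node (.node (.node (.leaf 5280437) (.leaf 8757653)) (.leaf 10933045)) (.node (.node (.leaf 5714833) (.leaf 2331314)) (.leaf 3924458))) (.node (.node (.node (.leaf 1540752) (.leaf 3068285)) (.leaf 10777905)) (.node (.leaf 2388449) (.leaf 11169845))))) (.node (.node (.node (.node (.node (.leaf 725871) (.leaf 9851892)) (.leaf 4124843)) (.node (.node (.leaf 9159683) (.leaf 10548252)) (.leaf 7004586))) (.node (.node (.node (.leaf 3052977) (.leaf 5767571)) (.leaf 8163580)) (.node (.node (.leaf 6943846) (.leaf 9310755)) (.leaf 3559920)))) (.node (.node (.node (.node (.leaf 3982243) (.leaf 4149851)) (.leaf 2506813)) (.node (.node (.leaf 4363483) (.leaf 3870935)) (.leaf 9695995))) (.node (.node (.node (.leaf 3686556) (.leaf 3498078)) (.leaf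 3715830)) (.node (.leaf 4141169) (.leaf 4714496)))))) (.node (.node (.node (.node (.node (.node (.leaf 41588) (.leaf 4416292)) (.leaf 4665575)) (.node (.node (.leaf 11412624) (.leaf 4547725)) (.leaf 6546094))) (.node (.node (.node (.leaf 2503569) (.leaf 10113373)) (.leaf 8855888)) (.node (.node (.leaf 7700947) (.leaf 1418382)) (.leaf 11166413)))) (.node (.node (.node (.node (.leaf 3462311) (.leaf 6647903)) (.leaf 11162445)) (.node (.node (.leaf 4939919) (.leaf 7717808)) (.leaf 8577781))) (.node (.node (.node (.leaf 7103242) (.leaf 11862269)) (.leaf 10543229)) (.node (.leaf 11719787) (.leaf 9253809))))) (.node (.node (.node (.node (.node (.leaf 217227) (.leaf 7278653)) (.leaf 8143647)) (.node (.node (.leaf 11661890) (.leaf 5149837)) (.leaf 5374244))) (.node (.node (.node (.leaf 795963) (.leaf 2985991)) (.leaf 2134187)) (.node (.leaf 1610900) (.leaf 6395016)))) (.node (.node (.node (.node (.leaf 2273871) (.leaf 2421689)) (.leaf 3354719)) (.node (.node (.leaf 6767388) (.leaf 9458926)) (.leaf 3142838))) (.node (.node (.node (.leaf 517302)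 (.leaf 8814622)) (.leaf 6697232)) (.node (.leaf 4473862) (.leaf 6607126)))))))

def bigMvq20 : Janko.Tree (ℕ) :=
  (.node (.node (.node (.node (.node (.node (.node (.leaf 369038) (.leaf 10527254)) (.leaf 10985554)) (.node (.node (.leaf 7676939) (.leaf 8347819)) (.leaf 877669))) (.node (.node (.node (.leaf 2929242) (.leaf 6694268)) (.leaf 3400519)) (.node (.node (.leaf 6615432) (.leaf 5084396)) (.leaf 3154961)))) (.node (.node (.node (.node (.leaf 1262278) (.leaf 11780849)) (.leaf 5304591)) (.node (.node (.leaf 2224349) (.leaf 9060514)) (.leaf 3699463))) (.node (.node (.node (.leaf 410991) (.leaf 11035938)) (.leaf 11428753)) (.node (.leaf 3552182) (.leaf 2465905))))) (.node (.node (.node (.node (.node (.leaf 808360) (.leaf 2446674)) (.leaf 9217437)) (.node (.node (.leaf 4175026) (.leaf 4539519)) (.leaf 6623424))) (.node (.node (.node (.leaf 2429754) (.leaf 3990873)) (.leaf 4047852)) (.node (.node (.leaf 8704438) (.leaf 4359438)) (.leaf 10478910)))) (.node (.node (.node (.node (.leaf 1868215) (.leaf 4534272)) (.leaf 10687401)) (.node (.node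 (.leaf 9184097) (.leaf 3879866)) (.leaf 7176384))) (.node (.node (.node (.leaf 1622692) (.leaf 9970706)) (.leaf 10793232)) (.node (.leaf 504992) (.leaf 9511229)))))) (.node (.node (.node (.node (.node (.node (.leaf 536763) (.leaf 3736187)) (.leaf 5453184)) (.node (.node (.leaf 1257611) (.leaf 11673765)) (.leaf 11764087))) (.node (.node (.node (.leaf 987307) (.leaf 3322868)) (.leaf 6910640)) (.node (.node (.leaf 6316580) (.leaf 6353586)) (.leaf 9277889)))) (.node (.node (.node (.node (.leaf 1454989) (.leaf 11403604)) (.leaf 3388609)) (.node (.node (.leaf 4764978) (.leaf 9699341)) (.leaf 9770344))) (.node (.node (.node (.leaf 3245142) (.leaf 5833485)) (.leaf 2666906)) (.node (.leaf 9888215) (.leaf 10740834))))) (.node (.node (.node (.node (.node (.leaf 4637670) (.leaf 9687964)) (.leaf 4055604)) (.node (.node (.leaf 7545342) (.leaf 6747312)) (.leaf 6108398))) (.node (.node (.node (.leaf 6636002) (.leaf 5530762)) (.leaf 8553244)) (.node (.leaf 9351844) (.leaf 8713424)))) (.node (.node (.node (.node (.leaf 2613540) (.leaf 2904285)) (.leaf 4403910))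 (.node (.node (.leaf 11309986) (.leaf 11891940)) (.leaf 5874186))) (.node (.node (.node (.leaf 5763416) (.leaf 7827893)) (.leaf 3056020)) (.node (.leaf 3232087) (.leaf 11092414)))))))

def bigMvq21 : Janko.Tree (ℕ) :=
  (.node (.node (.node (.node (.node (.node (.node (.leaf 456084) (.leaf 6439268)) (.leaf 11366826)) (.node (.node (.leaf 5702258) (.leaf 6603889)) (.leaf 9482919))) (.node (.node (.node (.leaf 676732) (.leaf 7300372)) (.leaf 5837652)) (.node (.node (.leaf 4461094) (.leaf 11018623)) (.leaf 9507498)))) (.node (.node (.node (.node (.leaf 525271) (.leaf 10735787)) (.leaf 7435697)) (.node (.node (.leaf 4166878) (.leaf 9093294)) (.leaf 1950638))) (.node (.node (.node (.leaf 5002073) (.leaf 5747785)) (.leaf 11211921)) (.node (.leaf 8270963) (.leaf 11690516))))) (.node (.node (.node (.node (.node (.leaf 3932246) (.leaf 9589989)) (.leaf 10650751)) (.node (.node (.leaf 10781621) (.leaf 9487787)) (.leaf 10437923))) (.node (.node (.node (.leaf 1114245) (.leaf 4555574)) (.leaf 10265693)) (.node (.node (.leaf 3182830) (.leaf 2662671))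 (.leaf 4412061)))) (.node (.node (.node (.node (.leaf 1741750) (.leaf 3769351)) (.leaf 1963236)) (.node (.node (.leaf 3305749) (.leaf 3756091)) (.leaf 4961132))) (.node (.node (.node (.leaf 1650945) (.leaf 6808802)) (.leaf 3658829)) (.node (.leaf 7427053) (.leaf 8695972)))))) (.node (.node (.node (.node (.node (.node (.leaf 2248890) (.leaf 4727055)) (.leaf 8024874)) (.node (.node (.leaf 11817110) (.leaf 7397516)) (.leaf 2805917))) (.node (.node (.node (.leaf 4796752) (.leaf 5309313)) (.leaf 3928402)) (.node (.node (.leaf 11666444) (.leaf 3314925)) (.leaf 3518898)))) (.node (.node (.node (.node (.leaf 10056865) (.leaf 9478240)) (.leaf 6050800)) (.node (.node (.leaf 7201424) (.leaf 6820835)) (.leaf 3261674))) (.node (.node (.node (.leaf 7525283) (.leaf 11154685)) (.leaf 10908359)) (.node (.leaf 4502731) (.leaf 5993654))))) (.node (.node (.node (.node (.node (.leaf 1081367) (.leaf 4399290)) (.leaf 4132880)) (.node (.node (.leaf 8626932) (.leaf 5244284)) (.leaf 1491051))) (.node (.node (.node (.leaf 3076886) (.leaf 5820951)) (.leaf 11432514))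 (.node (.leaf 3064115) (.leaf 4710799)))) (.node (.node (.node (.node (.leaf 529663) (.leaf 8049799)) (.leaf 10757364)) (.node (.node (.leaf 3634559) (.leaf 2875893)) (.leaf 5996877))) (.node (.node (.node (.leaf 8033650) (.leaf 11556227)) (.leaf 1778846)) (.node (.leaf 5800648) (.leaf 5153962)))))))

def bigMvq22 : Janko.Tree (ℕ) :=
  (.node (.node (.node (.node (.node (.node (.node (.leaf 49671) (.leaf 8172518)) (.leaf 8233777)) (.node (.node (.leaf 6684775) (.leaf 3277452)) (.leaf 1615124))) (.node (.node (.node (.leaf 2596968) (.leaf 3908344)) (.leaf 5780409)) (.node (.node (.leaf 7357202) (.leaf 10990572)) (.leaf 9778518)))) (.node (.node (.node (.node (.leaf 4244369) (.leaf 8737711)) (.leaf 4785041)) (.node (.node (.leaf 9819532) (.leaf 10920334)) (.leaf 3150169))) (.node (.node (.node (.leaf 373513) (.leaf 10523841)) (.leaf 10035315)) (.node (.leaf 10155259) (.leaf 11755623))))) (.node (.node (.node (.node (.node (.leaf 709793) (.leaf 5644513)) (.leaf 9748766)) (.node (.node (.leaf 7673165) (.leaf 11773105)) (.leaf 1553705))) (.node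 (.node (.node (.leaf 5628183) (.leaf 3093322)) (.leaf 6791315)) (.node (.node (.leaf 9322651) (.leaf 5128438)) (.leaf 2580985)))) (.node (.node (.node (.node (.leaf 6734090) (.leaf 8344584)) (.leaf 7242954)) (.node (.node (.leaf 750705) (.leaf 6976674)) (.leaf 7238947))) (.node (.node (.node (.leaf 6947750) (.leaf 3035872)) (.leaf 1590034)) (.node (.leaf 983220) (.leaf 11071533)))))) (.node (.node (.node (.node (.node (.node (.leaf 136247) (.leaf 4505936)) (.leaf 2871967)) (.node (.node (.leaf 2065503) (.leaf 5239913)) (.leaf 6169830))) (.node (.node (.node (.leaf 946886) (.leaf 10589247)) (.leaf 4211202)) (.node (.node (.leaf 6075129) (.leaf 5526718)) (.leaf 8185002)))) (.node (.node (.node (.node (.leaf 386472) (.leaf 10228863)) (.leaf 1368080)) (.node (.node (.leaf 2060978) (.leaf 7755035)) (.leaf 5861498))) (.node (.node (.node (.leaf 6464746) (.leaf 5604330)) (.leaf 6534245)) (.node (.leaf 9790239) (.leaf 7783297))))) (.node (.node (.node (.node (.node (.leaf 955781) (.leaf 10051914)) (.leaf 1254042)) (.node (.node (.leaf 2819094)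 (.leaf 9962246)) (.leaf 2458629))) (.node (.node (.node (.leaf 3106128) (.leaf 3670397)) (.leaf 8475498)) (.node (.leaf 3797770) (.leaf 4608793)))) (.node (.node (.node (.node (.leaf 5895211) (.leaf 10391949)) (.leaf 5849666)) (.node (.node (.leaf 1930310) (.leaf 5731349)) (.leaf 5018631))) (.node (.node (.node (.leaf 4617499) (.leaf 5284126)) (.leaf 7295566)) (.node (.leaf 1086388) (.leaf 5759930)))))))

def bigMvq23 : Janko.Tree (ℕ) :=
  (.node (.node (.node (.node (.node (.node (.node (.leaf 557502) (.leaf 7696581)) (.leaf 9371921)) (.node (.node (.leaf 4030477) (.leaf 3915985)) (.leaf 6484346))) (.node (.node (.node (.leaf 1078439) (.leaf 10334873)) (.leaf 942841)) (.node (.node (.leaf 9314447) (.leaf 9453568)) (.leaf 7938973)))) (.node (.node (.node (.node (.leaf 573646) (.leaf 5107755)) (.leaf 6673485)) (.node (.node (.leaf 4972680) (.leaf 4649081)) (.leaf 9396311))) (.node (.node (.node (.leaf 3859831) (.leaf 3957830)) (.leaf 9023934)) (.node (.leaf 3486120) (.leaf 4986016))))) (.node (.node (.node (.node (.node (.leaf 213707) (.leaf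 9806709)) (.leaf 9978199)) (.node (.node (.leaf 9933594) (.leaf 4826037)) (.leaf 8504497))) (.node (.node (.node (.leaf 2286418) (.leaf 488310)) (.leaf 6726891)) (.node (.node (.leaf 414460) (.leaf 5739758)) (.leaf 1979787)))) (.node (.node (.node (.node (.leaf 856561) (.leaf 9822455)) (.leaf 1127857)) (.node (.node (.leaf 6988156) (.leaf 5411160)) (.leaf 3556169))) (.node (.node (.node (.leaf 418718) (.leaf 2729329)) (.leaf 9126302)) (.node (.leaf 9282139) (.leaf 9659321)))))) (.node (.node (.node (.node (.node (.node (.leaf 46396) (.leaf 9810200)) (.leaf 4453006)) (.node (.node (.leaf 1306737) (.leaf 5493048)) (.leaf 1467104))) (.node (.node (.node (.leaf 1966176) (.leaf 10727539)) (.leaf 2159402)) (.node (.node (.leaf 2138967) (.leaf 2938135)) (.leaf 1131060)))) (.node (.node (.node (.node (.leaf 6956416) (.leaf 4575606)) (.leaf 5361838)) (.node (.node (.leaf 2699360) (.leaf 2842960)) (.leaf 860244))) (.node (.node (.node (.leaf 2778427) (.leaf 4109010)) (.leaf 11240409)) (.node (.leaf 6550545) (.leaf 5357577))))) (.node (.node (.node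 (.node (.node (.leaf 2925459) (.leaf 3788997)) (.leaf 9134355)) (.node (.node (.leaf 1970449) (.leaf 7734407)) (.leaf 10797783))) (.node (.node (.node (.leaf 6284261) (.leaf 10118493)) (.leaf 6992597)) (.node (.leaf 6812545) (.leaf 9880233)))) (.node (.node (.node (.node (.leaf 5312807) (.leaf 6255137)) (.leaf 2946447)) (.node (.node (.leaf 1873226) (.leaf 1926150)) (.leaf 6153282))) (.node (.node (.node (.leaf 10088921) (.leaf 10891682)) (.leaf 5046868)) (.node (.leaf 5194532) (.leaf 9475416)))))))

def bigMvq24 : Janko.Tree (ℕ) :=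
  (.node (.node (.node (.node (.node (.node (.node (.leaf 102515) (.leaf 7681348)) (.leaf 7889063)) (.node (.node (.leaf 6611431) (.leaf 8336121)) (.leaf 6537894))) (.node (.node (.node (.leaf 7627931) (.leaf 5354369)) (.leaf 11149711)) (.node (.node (.leaf 1696894) (.leaf 5173494)) (.leaf 3339126)))) (.node (.node (.node (.node (.leaf 8225182) (.leaf 7402585)) (.leaf 7144710)) (.node (.node (.leaf 5329148) (.leaf 9375830)) (.leaf 1913121))) (.node (.node (.node (.leaf 3920432) (.leaf 7611444)) (.leaf 4293274)) (.node (.leaf 10859908) (.leaf 5206835))))) (.node (.node (.node (.node (.node (.leaf 164081) (.leaf 4130103)) (.leaf 8222083)) (.node (.node (.leaf 8999321) (.leaf 7066663)) (.leaf 6788195))) (.node (.node (.node (.leaf 1310810) (.leaf 7615816)) (.leaf 6967746)) (.node (.node (.leaf 6771108) (.leaf 3838924)) (.leaf 11650259)))) (.node (.node (.node (.node (.leaf 9781780) (.leaf 6377725)) (.leaf 8803477)) (.node (.node (.leaf 3466508) (.leaf 8442936)) (.leaf 6067490))) (.node (.node (.node (.leaf 7213715) (.leaf 1246615)) (.leaf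 7169038)) (.node (.leaf 7713665) (.leaf 2725024)))))) (.node (.node (.node (.node (.node (.node (.leaf 2957427) (.leaf 7095004)) (.leaf 4198631)) (.node (.node (.leaf 7643152) (.leaf 8594248)) (.leaf 8990932))) (.node (.node (.node (.leaf 1204985) (.leaf 5965196)) (.leaf 10085186)) (.node (.node (.leaf 3728621) (.leaf 2564889)) (.leaf 11732201)))) (.node (.node (.node (.node (.leaf 275775) (.leaf 4223097)) (.leaf 11182256)) (.node (.node (.leaf 8102264) (.leaf 8082654)) (.leaf 6119535))) (.node (.node (.node (.leaf 1556980) (.leaf 9802667)) (.leaf 7311745)) (.node (.leaf 1660219) (.leaf 11085179))))) (.node (.node (.node (.node (.node (.leaf 466983) (.leaf 10068426)) (.leaf 4854768)) (.node (.node (.leaf 7446734) (.leaf 11081003)) (.leaf 10900085))) (.node (.node (.node (.leaf 1516017) (.leaf 1643433)) (.leaf 11912172)) (.node (.leaf 10977571) (.leaf 2859698)))) (.node (.node (.node (.node (.leaf 2105426) (.leaf 9945634)) (.leaf 8852491)) (.node (.node (.leaf 3477669) (.leaf 9286873)) (.leaf 11219743))) (.node (.node (.node (.leaf 1020972)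 (.leaf 8533304)) (.leaf 10552060)) (.node (.leaf 290987) (.leaf 2752940)))))))

def bigMvq25 : Janko.Tree (ℕ) :=
  (.node (.node (.node (.node (.node (.node (.node (.leaf 99112) (.leaf 8054170)) (.leaf 1008561)) (.node (.node (.leaf 6288073) (.leaf 9876026)) (.leaf 11325563))) (.node (.node (.node (.leaf 2404465) (.leaf 11342697)) (.leaf 2737377)) (.node (.node (.leaf 9572518) (.leaf 8925282)) (.leaf 1983849)))) (.node (.node (.node (.node (.leaf 1167499) (.leaf 2577529)) (.leaf 6046285)) (.node (.node (.leaf 5165603) (.leaf 5169323)) (.leaf 3473915))) (.node (.node (.node (.leaf 333130) (.leaf 778870)) (.leaf 8278697)) (.node (.leaf 6083732) (.leaf 6575413))))) (.node (.node (.node (.node (.node (.leaf 1675340) (.leaf 9523536)) (.leaf 2720033)) (.node (.node (.leaf 7770616) (.leaf 11645121)) (.leaf 9941753))) (.node (.node (.node (.leaf 2110631) (.leaf 5014236)) (.leaf 8417551)) (.node (.node (.leaf 8897439) (.leaf 10216270)) (.leaf 11461980)))) (.node (.node (.node (.node (.leaf 3211388) (.leaf 11800897)) (.leaf 7418382)) (.node (.node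 (.leaf 3667189) (.leaf 8323844)) (.leaf 5808515))) (.node (.node (.node (.leaf 10293744) (.leaf 10937471)) (.leaf 7504170)) (.node (.leaf 2294220) (.leaf 8253922)))))) (.node (.node (.node (.node (.node (.node (.leaf 16903) (.leaf 6369352)) (.leaf 2302708)) (.node (.node (.leaf 2797656) (.leaf 4804966)) (.leaf 7164733))) (.node (.node (.node (.leaf 4952400) (.leaf 6668459)) (.leaf 2494910)) (.node (.node (.leaf 3022972) (.leaf 8996216)) (.leaf 7692941)))) (.node (.node (.node (.node (.leaf 746557) (.leaf 11502053)) (.leaf 1287261)) (.node (.node (.leaf 8720752) (.leaf 8266174)) (.leaf 11518137))) (.node (.node (.node (.leaf 1713180) (.leaf 3944749)) (.leaf 9294315)) (.node (.leaf 5570795) (.leaf 5797049))))) (.node (.node (.node (.node (.node (.leaf 1250559) (.leaf 1351696)) (.leaf 8483916)) (.node (.node (.leaf 8434000) (.leaf 8479837)) (.leaf 7386115))) (.node (.node (.node (.leaf 7259294) (.leaf 6324898)) (.leaf 8189021)) (.node (.leaf 6893721) (.leaf 10191442)))) (.node (.node (.node (.node (.leaf 5075857) (.leaf 10331474)) (.leaf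 4768505)) (.node (.node (.leaf 1598096) (.leaf 10707338)) (.leaf 3363577))) (.node (.node (.node (.leaf 11137924) (.leaf 2921160)) (.leaf 3900170)) (.node (.leaf 5518597) (.leaf 5124998)))))))

def bigMvq26 : Janko.Tree (ℕ) :=
  (.node (.node (.node (.node (.node (.node (.node (.leaf 357134) (.leaf 9756867)) (.leaf 8315310)) (.node (.node (.leaf 11133873) (.leaf 3482260)) (.leaf 8229414))) (.node (.node (.node (.leaf 1144128) (.leaf 11670466)) (.leaf 1303693)) (.node (.node (.leaf 782882) (.leaf 3043471)) (.leaf 3158173)))) (.node (.node (.node (.node (.leaf 2282344) (.leaf 11735073)) (.leaf 2830745)) (.node (.node (.leaf 7639904) (.leaf 9151701)) (.leaf 9446717))) (.node (.node (.node (.leaf 6444172) (.leaf 6915227)) (.leaf 10147192)) (.node (.leaf 11682612) (.leaf 8676481))))) (.node (.node (.node (.node (.node (.leaf 147985) (.leaf 5653151)) (.leaf 4425128)) (.node (.node (.leaf 2031822) (.leaf 5181656)) (.leaf 11178456))) (.node (.node (.node (.leaf 9228568) (.leaf 7860513)) (.leaf 6309100)) (.node (.node (.leaf 1585804) (.leaf 5382261))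 (.leaf 10441687)))) (.node (.node (.node (.node (.leaf 6828809) (.leaf 4915871)) (.leaf 3949367)) (.node (.node (.leaf 922823) (.leaf 8331363)) (.leaf 1832134))) (.node (.node (.node (.leaf 6455305) (.leaf 9597966)) (.leaf 3531507)) (.node (.leaf 7152071) (.leaf 4206887)))))) (.node (.node (.node (.node (.node (.node (.leaf 1004385) (.leaf 2764888)) (.leaf 4330543)) (.node (.node (.leaf 7562517) (.leaf 5506394)) (.leaf 1188894))) (.node (.node (.node (.leaf 4116702) (.leaf 11129623)) (.leaf 10318391)) (.node (.node (.leaf 2424862) (.leaf 5087403)) (.leaf 10916297)))) (.node (.node (.node (.node (.leaf 3072637) (.leaf 10277891)) (.leaf 7442961)) (.node (.node (.leaf 4587724) (.leaf 9401096)) (.leaf 7172288))) (.node (.node (.node (.leaf 3126238) (.leaf 5939426)) (.leaf 3961161)) (.node (.leaf 9913310) (.leaf 5886208))))) (.node (.node (.node (.node (.node (.leaf 5891323) (.leaf 4260184)) (.leaf 7541879)) (.node (.node (.leaf 594610) (.leaf 5457056)) (.leaf 8519824))) (.node (.node (.node (.leaf 1860370) (.leaf 9097771)) (.leaf 7876865))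 (.node (.leaf 873099) (.leaf 3003106)))) (.node (.node (.node (.node (.leaf 995467) (.leaf 3851126)) (.leaf 11747824)) (.node (.node (.leaf 8893103) (.leaf 8630918)) (.leaf 7373478))) (.node (.node (.node (.leaf 5038254) (.leaf 9232881)) (.leaf 3563896)) (.node (.leaf 2192321) (.leaf 2356283)))))))

def bigMvq27 : Janko.Tree (ℕ) :=
  (.node (.node (.node (.node (.node (.node (.node (.leaf 1999998) (.leaf 8905140)) (.leaf 1045515)) (.node (.node (.leaf 7946462) (.leaf 9585896)) (.leaf 8791191))) (.node (.node (.node (.leaf 5558943) (.leaf 10019701)) (.leaf 7898120)) (.node (.node (.leaf 8541368) (.leaf 5522297)) (.leaf 6800654)))) (.node (.node (.node (.node (.leaf 1573758) (.leaf 9916966)) (.leaf 8963333)) (.node (.node (.leaf 2441447) (.leaf 9114837)) (.leaf 9867654))) (.node (.node (.node (.leaf 382015) (.leaf 9425665)) (.leaf 9048565)) (.node (.leaf 3650143) (.leaf 1295550))))) (.node (.node (.node (.node (.node (.leaf 1688024) (.leaf 10572942)) (.leaf 11305124)) (.node (.node (.leaf 1066197) (.leaf 11916610)) (.leaf 6660522))) (.node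 (.node (.node (.leaf 2261125) (.leaf 3740418)) (.leaf 6260069)) (.node (.node (.leaf 10691032) (.leaf 11596947)) (.leaf 5185734)))) (.node (.node (.node (.node (.leaf 3318953) (.leaf 8086197)) (.leaf 10183448)) (.node (.node (.leaf 6918475) (.leaf 9552665)) (.leaf 9765746))) (.node (.node (.node (.leaf 1720754) (.leaf 11048125)) (.leaf 4591633)) (.node (.leaf 2846993) (.leaf 5853862)))))) (.node (.node (.node (.node (.node (.node (.leaf 271107) (.leaf 3654348)) (.leaf 10175386)) (.node (.node (.leaf 11567379) (.leaf 7308109)) (.leaf 11001954))) (.node (.node (.node (.leaf 1991781) (.leaf 7881171)) (.leaf 4899615)) (.node (.node (.leaf 9773588) (.leaf 8585741)) (.leaf 2216697)))) (.node (.node (.node (.node (.leaf 397379) (.leaf 9339718)) (.leaf 9430063)) (.node (.node (.leaf 5104964) (.leaf 2568408)) (.leaf 3702976))) (.node (.node (.node (.leaf 10237236) (.leaf 11535425)) (.leaf 2974581)) (.node (.leaf 10559671) (.leaf 2716832))))) (.node (.node (.node (.node (.node (.leaf 5485728) (.leaf 9884622)) (.leaf 11187483)) (.node (.node (.leaf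 5805216) (.leaf 11575915)) (.leaf 1893189))) (.node (.node (.node (.leaf 11374877) (.leaf 5698005)) (.leaf 11408060)) (.node (.leaf 10592563) (.leaf 2205099)))) (.node (.node (.node (.node (.leaf 8598955) (.leaf 2646687)) (.leaf 8659705)) (.node (.node (.leaf 1560962) (.leaf 5230884)) (.leaf 8299492))) (.node (.node (.node (.leaf 627168) (.leaf 9904544)) (.leaf 10928278)) (.node (.leaf 2367887) (.leaf 9540337)))))))

def bigMvq28 : Janko.Tree (ℕ) :=
  (.node (.node (.node (.node (.node (.node (.node (.leaf 156219) (.leaf 9172288)) (.leaf 5877842)) (.node (.node (.leaf 1151422) (.leaf 3452987)) (.leaf 4907371))) (.node (.node (.node (.leaf 2487033) (.leaf 10490003)) (.leaf 4863097)) (.node (.node (.leaf 3663002) (.leaf 4527180)) (.leaf 5591170)))) (.node (.node (.node (.node (.leaf 5812917) (.leaf 5533712)) (.leaf 1958074)) (.node (.node (.leaf 2057292) (.leaf 2953965)) (.leaf 10482705))) (.node (.node (.node (.leaf 75138) (.leaf 4371154)) (.leaf 11146197)) (.node (.leaf 4981751) (.leaf 7745831))))) (.node (.node (.node (.node (.node (.leaf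 3412092) (.leaf 5791950)) (.leaf 1053919)) (.node (.node (.leaf 10871095) (.leaf 6447490)) (.leaf 3489875))) (.node (.node (.node (.leaf 8606608) (.leaf 11288812)) (.leaf 8623338)) (.node (.node (.leaf 3998638) (.leaf 9041037)) (.leaf 6833347)))) (.node (.node (.node (.node (.leaf 704870) (.leaf 9057425)) (.leaf 4231699)) (.node (.node (.leaf 6038425) (.leaf 5488904)) (.leaf 3507228))) (.node (.node (.node (.leaf 6705550) (.leaf 7037200)) (.leaf 7304059)) (.node (.leaf 2688160) (.leaf 10621595)))))) (.node (.node (.node (.node (.node (.node (.leaf 1122750) (.leaf 5948637)) (.leaf 5444230)) (.node (.node (.leaf 5931970) (.leaf 3600748)) (.leaf 5612604))) (.node (.node (.node (.leaf 11448459) (.leaf 6731165)) (.leaf 6140912)) (.node (.node (.leaf 4436244) (.leaf 11273282)) (.leaf 5694854)))) (.node (.node (.node (.node (.leaf 3457676) (.leaf 4772601)) (.leaf 10178809)) (.node (.node (.leaf 3228392) (.leaf 10031646)) (.leaf 9344190))) (.node (.node (.node (.leaf 1483677) (.leaf 10720457)) (.leaf 1864949)) (.node (.leaf 10466388) (.leaf 9409920)))))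 (.node (.node (.node (.node (.node (.leaf 619664) (.leaf 6234636)) (.leaf 11842728)) (.node (.node (.leaf 640225) (.leaf 11591762)) (.leaf 6131726))) (.node (.node (.node (.leaf 6501238) (.leaf 8430623)) (.leaf 9261905)) (.node (.leaf 9544768) (.leaf 5272019)))) (.node (.node (.node (.node (.leaf 2040383) (.leaf 10003440)) (.leaf 832374)) (.node (.node (.leaf 7341142) (.leaf 9081593)) (.leaf 11858250))) (.node (.node (.node (.leaf 5337259) (.leaf 8307587)) (.leaf 10576757)) (.node (.leaf 2528426) (.leaf 9990215)))))))

def bigMvq29 : Janko.Tree (ℕ) :=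
  (.node (.node (.node (.node (.node (.node (.node (.leaf 459737) (.leaf 4523435)) (.leaf 974987)) (.node (.node (.leaf 623940) (.leaf 4051596)) (.leaf 3326416))) (.node (.node (.node (.leaf 2118797) (.leaf 2757054)) (.leaf 2208996)) (.node (.node (.leaf 8155144) (.leaf 10941234)) (.leaf 1933899)))) (.node (.node (.node (.node (.leaf 2601857) (.leaf 6701989)) (.leaf 9086078)) (.node (.node (.leaf 2630529) (.leaf 6590796)) (.leaf 7159877))) (.node (.node (.node (.leaf 6100179) (.leaf 1761872)) (.leaf 4444361)) (.node (.leaf 10305543) (.leaf 4182450))))) (.node (.node (.node (.node (.node (.leaf 799242) (.leaf 9834693)) (.leaf 10764654)) (.node (.node (.leaf 2769685) (.leaf 8602613)) (.leaf 9011379))) (.node (.node (.node (.leaf 844440) (.leaf 11293574)) (.leaf 11359112)) (.node (.node (.leaf 5391016) (.leaf 5783673)) (.leaf 5345679)))) (.node (.node (.node (.node (.leaf 394363) (.leaf 5816783)) (.leaf 9503750)) (.node (.node (.leaf 8818958) (.leaf 4084079)) (.leaf 11399365))) (.node (.node (.node (.leaf 263445) (.leaf 2879787)) (.leaf 1828223))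 (.node (.leaf 6344948) (.leaf 3903981)))))) (.node (.node (.node (.node (.node (.node (.leaf 115018) (.leaf 4612637)) (.leaf 9843103)) (.node (.node (.leaf 2655151) (.leaf 7595129)) (.leaf 8672408))) (.node (.node (.node (.leaf 266446) (.leaf 11015445)) (.leaf 11302101)) (.node (.node (.leaf 11728060) (.leaf 11560288)) (.leaf 11837649)))) (.node (.node (.node (.node (.leaf 3146588) (.leaf 8167598)) (.leaf 6930995)) (.node (.node (.leaf 2560761) (.leaf 7181410)) (.leaf 6541481))) (.node (.node (.node (.leaf 6042897) (.leaf 1770379)) (.leaf 3523380)) (.node (.leaf 6583465) (.leaf 4235710))))) (.node (.node (.node (.node (.node (.leaf 550114) (.leaf 10924985)) (.leaf 11158591)) (.node (.node (.leaf 9118639) (.leaf 6754576)) (.leaf 6435434))) (.node (.node (.node (.leaf 3039766) (.leaf 10949143)) (.leaf 6481072)) (.node (.leaf 7086687) (.leaf 2130070)))) (.node (.node (.node (.node (.leaf 1163673) (.leaf 11505740)) (.leaf 5251197)) (.node (.node (.leaf 1443119) (.leaf 8126735)) (.leaf 7803312))) (.node (.node (.node (.leaf 8508624) (.leaf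 3080299)) (.leaf 11805147)) (.node (.leaf 8700498) (.leaf 5959984)))))))

def bigMvq30 : Janko.Tree (ℕ) :=
  (.node (.node (.node (.node (.node (.node (.node (.leaf 206037) (.leaf 9535947)) (.leaf 8922120)) (.node (.node (.leaf 4821303) (.leaf 10473566)) (.leaf 4247819))) (.node (.node (.node (.leaf 316284) (.leaf 8237308)) (.leaf 11469621)) (.node (.node (.leaf 6557795) (.leaf 9335157)) (.leaf 8291531)))) (.node (.node (.node (.node (.leaf 2073386) (.leaf 2228445)) (.leaf 8114498)) (.node (.node (.leaf 6476630) (.leaf 10007896)) (.leaf 8180615))) (.node (.node (.node (.leaf 3085414) (.leaf 9532450)) (.leaf 1016833)) (.node (.leaf 10498374) (.leaf 8664203))))) (.node (.node (.node (.node (.node (.leaf 1594235) (.leaf 7967519)) (.leaf 10748371)) (.node (.node (.leaf 7918566) (.leaf 11657651)) (.leaf 3629977))) (.node (.node (.node (.leaf 1811832) (.leaf 7263079)) (.leaf 5500928)) (.node (.node (.leaf 6815825) (.leaf 8303458)) (.leaf 3286243)))) (.node (.node (.node (.node (.leaf 6332913) (.leaf 5465025)) (.leaf 3748689)) (.node (.node (.leaf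 9954505) (.leaf 2195485)) (.leaf 11601262))) (.node (.node (.node (.leaf 2625552) (.leaf 3604876)) (.leaf 8942218)) (.node (.leaf 1328383) (.leaf 3912301)))))) (.node (.node (.node (.node (.node (.node (.leaf 287814) (.leaf 10605175)) (.leaf 8656232)) (.node (.node (.leaf 8364685) (.leaf 9519841)) (.leaf 1647847))) (.node (.node (.node (.leaf 9495226) (.leaf 3240066)) (.leaf 7959218)) (.node (.node (.leaf 11678729) (.leaf 6387072)) (.leaf 7270422)))) (.node (.node (.node (.node (.leaf 1480066) (.leaf 4432216)) (.leaf 2232517)) (.node (.node (.leaf 2360668) (.leaf 2610097)) (.leaf 9015970))) (.node (.node (.node (.leaf 6177718) (.leaf 10487038)) (.leaf 3764614)) (.node (.leaf 7483532) (.leaf 10359527))))) (.node (.node (.node (.node (.node (.leaf 655506) (.leaf 4949115)) (.leaf 4809208)) (.node (.node (.leaf 553166) (.leaf 10634172)) (.leaf 10662687))) (.node (.node (.node (.leaf 712782) (.leaf 3592553)) (.leaf 4194994)) (.node (.leaf 2999046) (.leaf 4997963)))) (.node (.node (.node (.node (.leaf 2319068) (.leaf 9744962)) (.leaf 5677302))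 (.node (.node (.leaf 840056) (.leaf 5882795)) (.leaf 5706411))) (.node (.node (.node (.leaf 2380098) (.leaf 8873218)) (.leaf 3015017)) (.node (.leaf 7902192) (.leaf 6271355)))))))

def bigMvq31 : Janko.Tree (ℕ) :=
  (.node (.node (.node (.node (.node (.node (.node (.leaf 2241534) (.leaf 8422469)) (.leaf 607410)) (.node (.node (.leaf 4187464) (.leaf 4859189)) (.leaf 7017022))) (.node (.node (.node (.leaf 9712687) (.leaf 7083235)) (.leaf 7602422)) (.node (.node (.leaf 6300350) (.leaf 3425245)) (.leaf 8242475)))) (.node (.node (.node (.node (.leaf 10432999) (.leaf 3691132)) (.leaf 2678828)) (.node (.node (.leaf 5023099) (.leaf 4342790)) (.leaf 1938632))) (.node (.node (.node (.leaf 774838) (.leaf 7516772)) (.leaf 230262)) (.node (.leaf 1524918) (.leaf 1783214))))) (.node (.node (.node (.node (.node (.leaf 353610) (.leaf 4170538)) (.leaf 10354696)) (.node (.node (.leaf 1033245) (.leaf 10965959)) (.leaf 3248167))) (.node (.node (.node (.leaf 1679478) (.leaf 10252712)) (.leaf 7229478)) (.node (.node (.leaf 3060313) (.leaf 10997881)) (.leaf 7553492))))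 (.node (.node (.node (.node (.leaf 1528039) (.leaf 10842637)) (.leaf 7467378)) (.node (.node (.leaf 1434948) (.leaf 8011792)) (.leaf 6452201))) (.node (.node (.node (.leaf 5582861) (.leaf 7766273)) (.leaf 1438168)) (.node (.leaf 7480065) (.leaf 4366712)))))) (.node (.node (.node (.node (.node (.node (.leaf 1119208) (.leaf 7590045)) (.leaf 7647363)) (.node (.node (.leaf 2913468) (.leaf 6857499)) (.leaf 6594964))) (.node (.node (.node (.leaf 1102046) (.leaf 11826321)) (.leaf 4531218)) (.node (.node (.leaf 897388) (.leaf 8864321)) (.leaf 7872971)))) (.node (.node (.node (.node (.leaf 189544) (.leaf 5030644)) (.leaf 2916369)) (.node (.node (.leaf 9348486) (.leaf 10207564)) (.leaf 3470209))) (.node (.node (.node (.leaf 8446341) (.leaf 8159648)) (.leaf 8880180)) (.node (.leaf 7631076) (.leaf 7815967))))) (.node (.node (.node (.node (.node (.leaf 610443) (.leaf 3330752)) (.leaf 11334453)) (.node (.node (.leaf 10802167) (.leaf 5972996)) (.leaf 1942424))) (.node (.node (.node (.leaf 9896433) (.leaf 3511445)) (.leaf 2052258)) (.node (.leaf 1569769)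 (.leaf 5755224)))) (.node (.node (.node (.node (.leaf 5402919) (.leaf 11707253)) (.leaf 4780725)) (.node (.node (.leaf 6680704) (.leaf 4894808)) (.leaf 5256110))) (.node (.node (.node (.leaf 299634) (.leaf 9363641)) (.leaf 8557545)) (.node (.leaf 7799661) (.leaf 6014239)))))))

def bigMvq : Janko.Tree (ℕ) := (.node (.node (.node (.node (.node bigMvq0 bigMvq16) (.node bigMvq8 bigMvq24)) (.node (.node bigMvq4 bigMvq20) (.node bigMvq12 bigMvq28))) (.node (.node (.node bigMvq2 bigMvq18) (.node bigMvq10 bigMvq26)) (.node (.node bigMvq6 bigMvq22) (.node bigMvq14 bigMvq30)))) (.node (.node (.node (.node bigMvq1 bigMvq17) (.node bigMvq9 bigMvq25)) (.node (.node bigMvq5 bigMvq21) (.node bigMvq13 bigMvq29))) (.node (.node (.node bigMvq3 bigMvq19) (.node bigMvq11 bigMvq27)) (.node (.node bigMvq7 bigMvq23) (.node bigMvq15 bigMvq31)))))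

theorem big_mvq0 : ((List.range 256).all fun i => movesOK baseB bigCert bigGens bigT 2912 bigVq bigMvq (Nat.add 0 i)) = true := by decide +kernel

theorem big_mvq1 : ((List.range 256).all fun i => movesOK baseB bigCert bigGens bigT 2912 bigVq bigMvq (Nat.add 256 i)) = true := by decide +kernel

theorem big_mvq2 : ((List.range 256).all fun i => movesOK baseB bigCert bigGens bigT 2912 bigVq bigMvq (Nat.add 512 i)) = true := by decide +kernel

theorem big_mvq3 : ((List.range 256).all fun i => movesOK baseB bigCert bigGens bigT 2912 bigVq bigMvq (Nat.add 768 i)) = true := by decide +kernel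

theorem big_mvq4 : ((List.range 256).all fun i => movesOK baseB bigCert bigGens bigT 2912 bigVq bigMvq (Nat.add 1024 i)) = true := by decide +kernel

theorem big_mvq5 : ((List.range 256).all fun i => movesOK baseB bigCert bigGens bigT 2912 bigVq bigMvq (Nat.add 1280 i)) = true := by decide +kernel

theorem big_mvq6 : ((List.range 256).all fun i => movesOK baseB bigCert bigGens bigT 2912 bigVq bigMvq (Nat.add 1536 i)) = true := by decide +kernel

theorem big_mvq7 : ((List.range 256).all fun i => movesOK baseB bigCert bigGens bigT 2912 bigVq bigMvq (Nat.add 1792 i)) = true := by decide +kernel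

theorem big_mvq8 : ((List.range 256).all fun i => movesOK baseB bigCert bigGens bigT 2912 bigVq bigMvq (Nat.add 2048 i)) = true := by decide +kernel

theorem big_mvq9 : ((List.range 256).all fun i => movesOK baseB bigCert bigGens bigT 2912 bigVq bigMvq (Nat.add 2304 i)) = true := by decide +kernel

theorem big_mvq10 : ((List.range 256).all fun i => movesOK baseB bigCert bigGens bigT 2912 bigVq bigMvq (Nat.add 2560 i)) = true := by decide +kernel

theorem big_mvq11 : ((List.range 96).all fun i => movesOK baseB bigCert bigGens bigT 2912 bigVq bigMvq (Nat.add 2816 i)) = true := by decide +kernel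

theorem big_mvq : ∀ i < 2912, movesOK baseB bigCert bigGens bigT 2912 bigVq bigMvq i = true := by
  intro i hi
  by_cases h0 : i < 256
  · have := List.all_eq_true.1 big_mvq0 (i - 0) (List.mem_range.2 (by omega)); rwa [show Nat.add 0 (i - 0) = i from Nat.add_sub_cancel' (by omega)] at this
  by_cases h1 : i < 512
  · have := List.all_eq_true.1 big_mvq1 (i - 256) (List.mem_range.2 (by omega)); rwa [show Nat.add 256 (i - 256) = i from Nat.add_sub_cancel' (by omega)] at this
  by_cases h2 : i < 768
  · have := List.all_eq_true.1 big_mvq2 (i - 512) (List.mem_range.2 (by omega)); rwa [show Nat.add 512 (i - 512) = i from Nat.add_sub_cancel' (by omega)] at this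
  by_cases h3 : i < 1024
  · have := List.all_eq_true.1 big_mvq3 (i - 768) (List.mem_range.2 (by omega)); rwa [show Nat.add 768 (i - 768) = i from Nat.add_sub_cancel' (by omega)] at this
  by_cases h4 : i < 1280
  · have := List.all_eq_true.1 big_mvq4 (i - 1024) (List.mem_range.2 (by omega)); rwa [show Nat.add 1024 (i - 1024) = i from Nat.add_sub_cancel' (by omega)] at this
  by_cases h5 : i < 1536
  · have := List.all_eq_true.1 big_mvq5 (i - 1280) (List.mem_range.2 (by omega)); rwa [show Nat.add 1280 (i - 1280) = i from Nat.add_sub_cancel' (by omega)] at this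
  by_cases h6 : i < 1792
  · have := List.all_eq_true.1 big_mvq6 (i - 1536) (List.mem_range.2 (by omega)); rwa [show Nat.add 1536 (i - 1536) = i from Nat.add_sub_cancel' (by omega)] at this
  by_cases h7 : i < 2048
  · have := List.all_eq_true.1 big_mvq7 (i - 1792) (List.mem_range.2 (by omega)); rwa [show Nat.add 1792 (i - 1792) = i from Nat.add_sub_cancel' (by omega)] at this
  by_cases h8 : i < 2304
  · have := List.all_eq_true.1 big_mvq8 (i - 2048) (List.mem_range.2 (by omega)); rwa [show Nat.add 2048 (i - 2048) = i from Nat.add_sub_cancel' (by omega)] at this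
  by_cases h9 : i < 2560
  · have := List.all_eq_true.1 big_mvq9 (i - 2304) (List.mem_range.2 (by omega)); rwa [show Nat.add 2304 (i - 2304) = i from Nat.add_sub_cancel' (by omega)] at this
  by_cases h10 : i < 2816
  · have := List.all_eq_true.1 big_mvq10 (i - 2560) (List.mem_range.2 (by omega)); rwa [show Nat.add 2560 (i - 2560) = i from Nat.add_sub_cancel' (by omega)] at this
  have := List.all_eq_true.1 big_mvq11 (i - 2816) (List.mem_range.2 (by omega)); rwa [show Nat.add 2816 (i - 2816) = i from Nat.add_sub_cancel' (by omega)] at this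



end Cfsg.Agent.Lie.GTwoThreeMult
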