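import Cfsg.Agent.Lib.Lie.GTwoThreeMult.Big

/-!
Cocycles and cosets for the part at 3 of the covering of the group of type G2 over three elements (generated).
-/

set_option autoImplicit false
set_option maxRecDepth 100000
set_option maxHeartbeats 0
set_option Elab.async false

namespace Cfsg.Agent.Lie.GTwoThreeMult

open Cfsg.Agent.Lie PermCover

def bigVala0 : Janko.Tree (ℕ) :=
  (.node (.node (.node (.node (.node (.node (.node (.leaf 0) (.leaf 2)) (.leaf 0)) (.node (.leaf 0) (.leaf 1))) (.node (.node (.leaf 0) (.leaf 2)) (.node (.leaf 0) (.leaf 0)))) (.node (.node (.node (.node (.leaf 1) (.leaf 2)) (.leaf 2)) (.node (.leaf 0) (.leaf 0))) (.node (.node (.leaf 0) (.leaf 2)) (.node (.leaf 0) (.leaf 1))))) (.node (.node (.node (.node (.node (.leaf 0) (.leaf 2)) (.leaf 0)) (.node (.leaf 0) (.leaf 0))) (.node (.node (.leaf 2) (.leaf 2)) (.node (.leaf 0) (.leaf 2)))) (.node (.node (.node (.leaf 0) (.leaf 0)) (.node (.leaf 0) (.leaf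 2))) (.node (.node (.leaf 0) (.leaf 0)) (.node (.leaf 0) (.leaf 2)))))) (.node (.node (.node (.node (.node (.node (.leaf 0) (.leaf 1)) (.leaf 1)) (.node (.leaf 0) (.leaf 2))) (.node (.node (.leaf 0) (.leaf 2)) (.node (.leaf 2) (.leaf 0)))) (.node (.node (.node (.leaf 0) (.leaf 0)) (.node (.leaf 0) (.leaf 1))) (.node (.node (.leaf 1) (.leaf 0)) (.node (.leaf 2) (.leaf 2))))) (.node (.node (.node (.node (.node (.leaf 0) (.leaf 0)) (.leaf 0)) (.node (.leaf 1) (.leaf 1))) (.node (.node (.leaf 0) (.leaf 0)) (.node (.leaf 2) (.leaf 1)))) (.node (.node (.node (.leaf 0) (.leaf 0)) (.node (.leaf 1) (.leaf 2))) (.node (.node (.leaf 0) (.leaf 0)) (.node (.leaf 2) (.leaf 2)))))))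

def bigVala1 : Janko.Tree (ℕ) :=
  (.node (.node (.node (.node (.node (.node (.node (.leaf 0) (.leaf 2)) (.leaf 0)) (.node (.leaf 2) (.leaf 2))) (.node (.node (.leaf 2) (.leaf 2)) (.node (.leaf 0) (.leaf 1)))) (.node (.node (.node (.node (.leaf 2) (.leaf 0)) (.leaf 0)) (.node (.leaf 0) (.leaf 0))) (.node (.node (.leaf 1) (.leaf 1)) (.node (.leaf 0) (.leaf 2))))) (.node (.node (.node (.node (.node (.leaf 0) (.leaf 1)) (.leaf 2)) (.node (.leaf 0) (.leaf 2))) (.node (.node (.leaf 0) (.leaf 0)) (.node (.leaf 0) (.leaf 2)))) (.node (.node (.node (.leaf 2) (.leaf 0)) (.node (.leaf 0) (.leaf 0))) (.node (.node (.leaf 0) (.leaf 1)) (.node (.leaf 0) (.leaf 0)))))) (.node (.node (.node (.node (.node (.node (.leaf 0) (.leaf 0)) (.leaf 2)) (.node (.leaf 0) (.leaf 0))) (.node (.node (.leaf 0) (.leaf 0)) (.node (.leaf 0) (.leaf 0)))) (.node (.node (.node (.leaf 0) (.leaf 2)) (.node (.leaf 0) (.leaf 2))) (.node (.node (.leaf 0) (.leaf 1)) (.node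 (.leaf 1) (.leaf 2))))) (.node (.node (.node (.node (.node (.leaf 0) (.leaf 1)) (.leaf 0)) (.node (.leaf 0) (.leaf 1))) (.node (.node (.leaf 0) (.leaf 2)) (.node (.leaf 0) (.leaf 2)))) (.node (.node (.node (.leaf 1) (.leaf 0)) (.node (.leaf 2) (.leaf 1))) (.node (.node (.leaf 0) (.leaf 0)) (.node (.leaf 0) (.leaf 1)))))))

def bigVala2 : Janko.Tree (ℕ) :=
  (.node (.node (.node (.node (.node (.node (.node (.leaf 0) (.leaf 1)) (.leaf 0)) (.node (.leaf 0) (.leaf 1))) (.node (.node (.leaf 1) (.leaf 0)) (.node (.leaf 0) (.leaf 2)))) (.node (.node (.node (.node (.leaf 0) (.leaf 1)) (.leaf 1)) (.node (.leaf 0) (.leaf 0))) (.node (.node (.leaf 2) (.leaf 2)) (.node (.leaf 1) (.leaf 2))))) (.node (.node (.node (.node (.node (.leaf 0) (.leaf 1)) (.leaf 1)) (.node (.leaf 2) (.leaf 2))) (.node (.node (.leaf 0) (.leaf 0)) (.node (.leaf 0) (.leaf 2)))) (.node (.node (.node (.leaf 0) (.leaf 1)) (.node (.leaf 2) (.leaf 0))) (.node (.node (.leaf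 0) (.leaf 0)) (.node (.leaf 0) (.leaf 1)))))) (.node (.node (.node (.node (.node (.node (.leaf 0) (.leaf 0)) (.leaf 1)) (.node (.leaf 0) (.leaf 1))) (.node (.node (.leaf 0) (.leaf 1)) (.node (.leaf 0) (.leaf 0)))) (.node (.node (.node (.leaf 1) (.leaf 1)) (.node (.leaf 0) (.leaf 1))) (.node (.node (.leaf 0) (.leaf 0)) (.node (.leaf 0) (.leaf 2))))) (.node (.node (.node (.node (.node (.leaf 1) (.leaf 0)) (.leaf 2)) (.node (.leaf 1) (.leaf 1))) (.node (.node (.leaf 1) (.leaf 1)) (.node (.leaf 1) (.leaf 0)))) (.node (.node (.node (.leaf 2) (.leaf 2)) (.node (.leaf 0) (.leaf 0))) (.node (.node (.leaf 0) (.leaf 0)) (.node (.leaf 1) (.leaf 2)))))))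

def bigVala3 : Janko.Tree (ℕ) :=
  (.node (.node (.node (.node (.node (.node (.node (.leaf 0) (.leaf 2)) (.leaf 0)) (.node (.leaf 0) (.leaf 0))) (.node (.node (.leaf 0) (.leaf 0)) (.node (.leaf 0) (.leaf 2)))) (.node (.node (.node (.node (.leaf 0) (.leaf 2)) (.leaf 2)) (.node (.leaf 0) (.leaf 0))) (.node (.node (.leaf 0) (.leaf 2)) (.node (.leaf 2) (.leaf 2))))) (.node (.node (.node (.node (.node (.leaf 0) (.leaf 1)) (.leaf 0)) (.node (.leaf 1) (.leaf 0))) (.node (.node (.leaf 2) (.leaf 0)) (.node (.leaf 0) (.leaf 1)))) (.node (.node (.node (.leaf 0) (.leaf 1)) (.node (.leaf 0) (.leaf 0))) (.node (.node (.leaf 0) (.leaf 0)) (.node (.leaf 0) (.leaf 1)))))) (.node (.node (.node (.node (.node (.node (.leaf 0) (.leaf 1)) (.leaf 2)) (.node (.leaf 0) (.leaf 1))) (.node (.node (.leaf 0) (.leaf 2)) (.node (.leaf 2) (.leaf 0)))) (.node (.node (.node (.leaf 0) (.leaf 2)) (.node (.leaf 1) (.leaf 2))) (.node (.node (.leaf 0) (.leaf 0)) (.node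 (.leaf 0) (.leaf 2))))) (.node (.node (.node (.node (.node (.leaf 0) (.leaf 2)) (.leaf 0)) (.node (.leaf 1) (.leaf 1))) (.node (.node (.leaf 2) (.leaf 2)) (.node (.leaf 0) (.leaf 2)))) (.node (.node (.node (.leaf 0) (.leaf 2)) (.node (.leaf 0) (.leaf 0))) (.node (.node (.leaf 0) (.leaf 1)) (.node (.leaf 1) (.leaf 1)))))))

def bigVala4 : Janko.Tree (ℕ) :=
  (.node (.node (.node (.node (.node (.node (.node (.leaf 0) (.leaf 0)) (.leaf 1)) (.node (.leaf 2) (.leaf 0))) (.node (.node (.leaf 0) (.leaf 0)) (.node (.leaf 2) (.leaf 0)))) (.node (.node (.node (.node (.leaf 1) (.leaf 1)) (.leaf 1)) (.node (.leaf 0) (.leaf 2))) (.node (.node (.leaf 0) (.leaf 0)) (.node (.leaf 0) (.leaf 2))))) (.node (.node (.node (.node (.node (.leaf 0) (.leaf 2)) (.leaf 1)) (.node (.leaf 1) (.leaf 1))) (.node (.node (.leaf 0) (.leaf 1)) (.node (.leaf 0) (.leaf 0)))) (.node (.node (.node (.leaf 0) (.leaf 2)) (.node (.leaf 0) (.leaf 1))) (.node (.node (.leaf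 0) (.leaf 2)) (.node (.leaf 0) (.leaf 0)))))) (.node (.node (.node (.node (.node (.node (.leaf 0) (.leaf 0)) (.leaf 0)) (.node (.leaf 1) (.leaf 0))) (.node (.node (.leaf 0) (.leaf 0)) (.node (.leaf 0) (.leaf 0)))) (.node (.node (.node (.leaf 0) (.leaf 2)) (.node (.leaf 0) (.leaf 0))) (.node (.node (.leaf 0) (.leaf 1)) (.node (.leaf 1) (.leaf 1))))) (.node (.node (.node (.node (.node (.leaf 0) (.leaf 2)) (.leaf 0)) (.node (.leaf 1) (.leaf 1))) (.node (.node (.leaf 0) (.leaf 2)) (.node (.leaf 0) (.leaf 0)))) (.node (.node (.node (.leaf 2) (.leaf 2)) (.node (.leaf 0) (.leaf 1))) (.node (.node (.leaf 2) (.leaf 1)) (.node (.leaf 2) (.leaf 1)))))))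

def bigVala5 : Janko.Tree (ℕ) :=
  (.node (.node (.node (.node (.node (.node (.node (.leaf 0) (.leaf 2)) (.leaf 1)) (.node (.leaf 0) (.leaf 1))) (.node (.node (.leaf 0) (.leaf 0)) (.node (.leaf 0) (.leaf 0)))) (.node (.node (.node (.node (.leaf 2) (.leaf 2)) (.leaf 0)) (.node (.leaf 0) (.leaf 0))) (.node (.node (.leaf 1) (.leaf 1)) (.node (.leaf 0) (.leaf 2))))) (.node (.node (.node (.node (.node (.leaf 0) (.leaf 1)) (.leaf 0)) (.node (.leaf 0) (.leaf 2))) (.node (.node (.leaf 0) (.leaf 2)) (.node (.leaf 0) (.leaf 2)))) (.node (.node (.node (.leaf 1) (.leaf 2)) (.node (.leaf 2) (.leaf 2))) (.node (.node (.leaf 0) (.leaf 1)) (.node (.leaf 1) (.leaf 2)))))) (.node (.node (.node (.node (.node (.node (.leaf 0) (.leaf 1)) (.leaf 2)) (.node (.leaf 1) (.leaf 2))) (.node (.node (.leaf 0) (.leaf 0)) (.node (.leaf 2) (.leaf 2)))) (.node (.node (.node (.leaf 2) (.leaf 0)) (.node (.leaf 0) (.leaf 0))) (.node (.node (.leaf 0) (.leaf 2)) (.node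 (.leaf 2) (.leaf 1))))) (.node (.node (.node (.node (.node (.leaf 0) (.leaf 0)) (.leaf 1)) (.node (.leaf 0) (.leaf 0))) (.node (.node (.leaf 0) (.leaf 1)) (.node (.leaf 1) (.leaf 2)))) (.node (.node (.node (.leaf 2) (.leaf 0)) (.node (.leaf 2) (.leaf 1))) (.node (.node (.leaf 2) (.leaf 2)) (.node (.leaf 0) (.leaf 0)))))))

def bigVala6 : Janko.Tree (ℕ) :=
  (.node (.node (.node (.node (.node (.node (.node (.leaf 0) (.leaf 1)) (.leaf 0)) (.node (.leaf 1) (.leaf 0))) (.node (.node (.leaf 0) (.leaf 1)) (.node (.leaf 0) (.leaf 0)))) (.node (.node (.node (.node (.leaf 0) (.leaf 2)) (.leaf 0)) (.node (.leaf 0) (.leaf 0))) (.node (.node (.leaf 0) (.leaf 0)) (.node (.leaf 0) (.leaf 1))))) (.node (.node (.node (.node (.node (.leaf 0) (.leaf 2)) (.leaf 0)) (.node (.leaf 0) (.leaf 0))) (.node (.node (.leaf 0) (.leaf 0)) (.node (.leaf 0) (.leaf 2)))) (.node (.node (.node (.leaf 0) (.leaf 2)) (.node (.leaf 0) (.leaf 0))) (.node (.node (.leaf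 0) (.leaf 0)) (.node (.leaf 0) (.leaf 0)))))) (.node (.node (.node (.node (.node (.node (.leaf 0) (.leaf 1)) (.leaf 0)) (.node (.leaf 2) (.leaf 2))) (.node (.node (.leaf 1) (.leaf 1)) (.node (.leaf 0) (.leaf 1)))) (.node (.node (.node (.leaf 0) (.leaf 1)) (.node (.leaf 0) (.leaf 0))) (.node (.node (.leaf 0) (.leaf 0)) (.node (.leaf 2) (.leaf 1))))) (.node (.node (.node (.node (.node (.leaf 2) (.leaf 2)) (.leaf 2)) (.node (.leaf 0) (.leaf 2))) (.node (.node (.leaf 0) (.leaf 0)) (.node (.leaf 0) (.leaf 0)))) (.node (.node (.node (.leaf 2) (.leaf 1)) (.node (.leaf 0) (.leaf 2))) (.node (.node (.leaf 2) (.leaf 1)) (.node (.leaf 0) (.leaf 2)))))))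

def bigVala7 : Janko.Tree (ℕ) :=
  (.node (.node (.node (.node (.node (.node (.node (.leaf 0) (.leaf 0)) (.leaf 0)) (.node (.leaf 0) (.leaf 2))) (.node (.node (.leaf 0) (.leaf 1)) (.node (.leaf 0) (.leaf 0)))) (.node (.node (.node (.node (.leaf 2) (.leaf 1)) (.leaf 0)) (.node (.leaf 2) (.leaf 0))) (.node (.node (.leaf 0) (.leaf 1)) (.node (.leaf 0) (.leaf 0))))) (.node (.node (.node (.node (.node (.leaf 0) (.leaf 1)) (.leaf 2)) (.node (.leaf 0) (.leaf 2))) (.node (.node (.leaf 0) (.leaf 1)) (.node (.leaf 0) (.leaf 2)))) (.node (.node (.node (.leaf 0) (.leaf 1)) (.node (.leaf 2) (.leaf 1))) (.node (.node (.leaf 0) (.leaf 1)) (.node (.leaf 0) (.leaf 0)))))) (.node (.node (.node (.node (.node (.node (.leaf 0) (.leaf 2)) (.leaf 0)) (.node (.leaf 1) (.leaf 0))) (.node (.node (.leaf 0) (.leaf 0)) (.node (.leaf 0) (.leaf 2)))) (.node (.node (.node (.leaf 0) (.leaf 0)) (.node (.leaf 0) (.leaf 0))) (.node (.node (.leaf 2) (.leaf 0)) (.node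 (.leaf 0) (.leaf 0))))) (.node (.node (.node (.node (.node (.leaf 0) (.leaf 2)) (.leaf 0)) (.node (.leaf 1) (.leaf 0))) (.node (.node (.leaf 2) (.leaf 1)) (.node (.leaf 0) (.leaf 0)))) (.node (.node (.node (.leaf 0) (.leaf 2)) (.node (.leaf 0) (.leaf 2))) (.node (.node (.leaf 0) (.leaf 1)) (.node (.leaf 2) (.leaf 1)))))))

def bigVala8 : Janko.Tree (ℕ) :=
  (.node (.node (.node (.node (.node (.node (.node (.leaf 0) (.leaf 2)) (.leaf 1)) (.node (.leaf 2) (.leaf 0))) (.node (.node (.leaf 0) (.leaf 1)) (.node (.leaf 0) (.leaf 0)))) (.node (.node (.node (.node (.leaf 2) (.leaf 0)) (.leaf 0)) (.node (.leaf 0) (.leaf 2))) (.node (.node (.leaf 0) (.leaf 2)) (.node (.leaf 0) (.leaf 0))))) (.node (.node (.node (.node (.node (.leaf 0) (.leaf 2)) (.leaf 0)) (.node (.leaf 0) (.leaf 2))) (.node (.node (.leaf 0) (.leaf 2)) (.node (.leaf 1) (.leaf 0)))) (.node (.node (.node (.leaf 2) (.leaf 0)) (.node (.leaf 0) (.leaf 2))) (.node (.node (.leaf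 0) (.leaf 1)) (.node (.leaf 0) (.leaf 0)))))) (.node (.node (.node (.node (.node (.node (.leaf 0) (.leaf 2)) (.leaf 2)) (.node (.leaf 0) (.leaf 0))) (.node (.node (.leaf 0) (.leaf 0)) (.node (.leaf 2) (.leaf 1)))) (.node (.node (.node (.leaf 0) (.leaf 1)) (.node (.leaf 2) (.leaf 1))) (.node (.node (.leaf 0) (.leaf 0)) (.node (.leaf 2) (.leaf 2))))) (.node (.node (.node (.node (.node (.leaf 0) (.leaf 2)) (.leaf 0)) (.node (.leaf 0) (.leaf 2))) (.node (.node (.leaf 2) (.leaf 1)) (.node (.leaf 0) (.leaf 1)))) (.node (.node (.node (.leaf 1) (.leaf 0)) (.node (.leaf 1) (.leaf 1))) (.node (.node (.leaf 1) (.leaf 1)) (.node (.leaf 1) (.leaf 2)))))))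

def bigVala9 : Janko.Tree (ℕ) :=
  (.node (.node (.node (.node (.node (.node (.node (.leaf 0) (.leaf 1)) (.leaf 2)) (.node (.leaf 0) (.leaf 1))) (.node (.node (.leaf 0) (.leaf 2)) (.node (.leaf 2) (.leaf 0)))) (.node (.node (.node (.node (.leaf 2) (.leaf 1)) (.leaf 0)) (.node (.leaf 0) (.leaf 0))) (.node (.node (.leaf 2) (.leaf 2)) (.node (.leaf 2) (.leaf 0))))) (.node (.node (.node (.node (.node (.leaf 0) (.leaf 2)) (.leaf 0)) (.node (.leaf 1) (.leaf 0))) (.node (.node (.leaf 0) (.leaf 1)) (.node (.leaf 2) (.leaf 1)))) (.node (.node (.node (.leaf 0) (.leaf 2)) (.node (.leaf 0) (.leaf 0))) (.node (.node (.leaf 1) (.leaf 1)) (.node (.leaf 0) (.leaf 2)))))) (.node (.node (.node (.node (.node (.node (.leaf 0) (.leaf 2)) (.leaf 0)) (.node (.leaf 2) (.leaf 1))) (.node (.node (.leaf 0) (.leaf 0)) (.node (.leaf 1) (.leaf 1)))) (.node (.node (.node (.leaf 1) (.leaf 0)) (.node (.leaf 2) (.leaf 2))) (.node (.node (.leaf 0) (.leaf 2)) (.node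 (.leaf 0) (.leaf 1))))) (.node (.node (.node (.node (.node (.leaf 0) (.leaf 1)) (.leaf 2)) (.node (.leaf 1) (.leaf 0))) (.node (.node (.leaf 0) (.leaf 1)) (.node (.leaf 2) (.leaf 2)))) (.node (.node (.node (.leaf 0) (.leaf 0)) (.node (.leaf 0) (.leaf 2))) (.node (.node (.leaf 0) (.leaf 1)) (.node (.leaf 0) (.leaf 1)))))))

def bigVala10 : Janko.Tree (ℕ) :=
  (.node (.node (.node (.node (.node (.node (.node (.leaf 0) (.leaf 0)) (.leaf 1)) (.node (.leaf 0) (.leaf 2))) (.node (.node (.leaf 1) (.leaf 2)) (.node (.leaf 0) (.leaf 1)))) (.node (.node (.node (.node (.leaf 0) (.leaf 1)) (.leaf 1)) (.node (.leaf 2) (.leaf 0))) (.node (.node (.leaf 1) (.leaf 0)) (.node (.leaf 1) (.leaf 0))))) (.node (.node (.node (.node (.node (.leaf 1) (.leaf 2)) (.leaf 0)) (.node (.leaf 1) (.leaf 0))) (.node (.node (.leaf 1) (.leaf 1)) (.node (.leaf 2) (.leaf 2)))) (.node (.node (.node (.leaf 0) (.leaf 0)) (.node (.leaf 0) (.leaf 2))) (.node (.node (.leaf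 0) (.leaf 1)) (.node (.leaf 0) (.leaf 0)))))) (.node (.node (.node (.node (.node (.node (.leaf 0) (.leaf 0)) (.leaf 2)) (.node (.leaf 2) (.leaf 2))) (.node (.node (.leaf 0) (.leaf 2)) (.node (.leaf 1) (.leaf 2)))) (.node (.node (.node (.leaf 0) (.leaf 0)) (.node (.leaf 0) (.leaf 2))) (.node (.node (.leaf 0) (.leaf 1)) (.node (.leaf 1) (.leaf 1))))) (.node (.node (.node (.node (.node (.leaf 0) (.leaf 0)) (.leaf 2)) (.node (.leaf 1) (.leaf 2))) (.node (.node (.leaf 2) (.leaf 0)) (.node (.leaf 0) (.leaf 2)))) (.node (.node (.node (.leaf 1) (.leaf 0)) (.node (.leaf 0) (.leaf 0))) (.node (.node (.leaf 0) (.leaf 0)) (.node (.leaf 1) (.leaf 2)))))))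

def bigVala11 : Janko.Tree (ℕ) :=
  (.node (.node (.node (.node (.node (.node (.node (.leaf 0) (.leaf 1)) (.leaf 1)) (.node (.leaf 0) (.leaf 0))) (.node (.node (.leaf 0) (.leaf 0)) (.node (.leaf 1) (.leaf 1)))) (.node (.node (.node (.node (.leaf 0) (.leaf 0)) (.leaf 2)) (.node (.leaf 0) (.leaf 2))) (.node (.node (.leaf 2) (.leaf 1)) (.node (.leaf 2) (.leaf 0))))) (.node (.node (.node (.node (.node (.leaf 0) (.leaf 0)) (.leaf 0)) (.node (.leaf 0) (.leaf 1))) (.node (.node (.leaf 0) (.leaf 0)) (.node (.leaf 0) (.leaf 0)))) (.node (.node (.node (.leaf 0) (.leaf 0)) (.node (.leaf 0) (.leaf 2))) (.node (.node (.leaf 1) (.leaf 2)) (.node (.leaf 0) (.leaf 1)))))) (.node (.node (.node (.node (.node (.node (.leaf 0) (.leaf 1)) (.leaf 0)) (.node (.leaf 1) (.leaf 2))) (.node (.node (.leaf 0) (.leaf 2)) (.node (.leaf 0) (.leaf 1)))) (.node (.node (.node (.leaf 0) (.leaf 0)) (.node (.leaf 0) (.leaf 2))) (.node (.node (.leaf 0) (.leaf 1))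 (.node (.leaf 0) (.leaf 1))))) (.node (.node (.node (.node (.node (.leaf 0) (.leaf 2)) (.leaf 0)) (.node (.leaf 0) (.leaf 1))) (.node (.node (.leaf 0) (.leaf 2)) (.node (.leaf 2) (.leaf 0)))) (.node (.node (.node (.leaf 0) (.leaf 1)) (.node (.leaf 0) (.leaf 1))) (.node (.node (.leaf 0) (.leaf 2)) (.node (.leaf 2) (.leaf 1)))))))

def bigVala12 : Janko.Tree (ℕ) :=
  (.node (.node (.node (.node (.node (.node (.node (.leaf 0) (.leaf 0)) (.leaf 0)) (.node (.leaf 0) (.leaf 0))) (.node (.node (.leaf 0) (.leaf 0)) (.node (.leaf 2) (.leaf 2)))) (.node (.node (.node (.node (.leaf 0) (.leaf 0)) (.leaf 0)) (.node (.leaf 1) (.leaf 1))) (.node (.node (.leaf 1) (.leaf 0)) (.node (.leaf 2) (.leaf 0))))) (.node (.node (.node (.node (.node (.leaf 0) (.leaf 2)) (.leaf 2)) (.node (.leaf 0) (.leaf 2))) (.node (.node (.leaf 0) (.leaf 0)) (.node (.leaf 0) (.leaf 1)))) (.node (.node (.node (.leaf 1) (.leaf 0)) (.node (.leaf 0) (.leaf 0))) (.node (.node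 (.leaf 2) (.leaf 0)) (.node (.leaf 2) (.leaf 1)))))) (.node (.node (.node (.node (.node (.node (.leaf 0) (.leaf 0)) (.leaf 0)) (.node (.leaf 2) (.leaf 1))) (.node (.node (.leaf 0) (.leaf 0)) (.node (.leaf 1) (.leaf 1)))) (.node (.node (.node (.leaf 0) (.leaf 2)) (.node (.leaf 1) (.leaf 1))) (.node (.node (.leaf 2) (.leaf 2)) (.node (.leaf 1) (.leaf 2))))) (.node (.node (.node (.node (.node (.leaf 1) (.leaf 0)) (.leaf 0)) (.node (.leaf 0) (.leaf 1))) (.node (.node (.leaf 1) (.leaf 0)) (.node (.leaf 0) (.leaf 2)))) (.node (.node (.node (.leaf 0) (.leaf 0)) (.node (.leaf 1) (.leaf 0))) (.node (.node (.leaf 2) (.leaf 0)) (.node (.leaf 0) (.leaf 0)))))))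

def bigVala13 : Janko.Tree (ℕ) :=
  (.node (.node (.node (.node (.node (.node (.node (.leaf 0) (.leaf 1)) (.leaf 0)) (.node (.leaf 0) (.leaf 0))) (.node (.node (.leaf 0) (.leaf 2)) (.node (.leaf 0) (.leaf 0)))) (.node (.node (.node (.node (.leaf 1) (.leaf 2)) (.leaf 2)) (.node (.leaf 0) (.leaf 0))) (.node (.node (.leaf 0) (.leaf 2)) (.node (.leaf 0) (.leaf 2))))) (.node (.node (.node (.node (.node (.leaf 0) (.leaf 2)) (.leaf 0)) (.node (.leaf 1) (.leaf 2))) (.node (.node (.leaf 2) (.leaf 0)) (.node (.leaf 0) (.leaf 1)))) (.node (.node (.node (.leaf 0) (.leaf 2)) (.node (.leaf 0) (.leaf 2))) (.node (.node (.leaf 2) (.leaf 0)) (.node (.leaf 0) (.leaf 1)))))) (.node (.node (.node (.node (.node (.node (.leaf 0) (.leaf 0)) (.leaf 0)) (.node (.leaf 0) (.leaf 1))) (.node (.node (.leaf 0) (.leaf 0)) (.node (.leaf 0) (.leaf 1)))) (.node (.node (.node (.leaf 0) (.leaf 1)) (.node (.leaf 0) (.leaf 2))) (.node (.node (.leaf 0) (.leaf 0))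 (.node (.leaf 0) (.leaf 2))))) (.node (.node (.node (.node (.node (.leaf 0) (.leaf 0)) (.leaf 2)) (.node (.leaf 1) (.leaf 0))) (.node (.node (.leaf 0) (.leaf 0)) (.node (.leaf 0) (.leaf 2)))) (.node (.node (.node (.leaf 0) (.leaf 2)) (.node (.leaf 0) (.leaf 1))) (.node (.node (.leaf 1) (.leaf 0)) (.node (.leaf 0) (.leaf 2)))))))

def bigVala14 : Janko.Tree (ℕ) :=
  (.node (.node (.node (.node (.node (.node (.node (.leaf 0) (.leaf 0)) (.leaf 0)) (.node (.leaf 0) (.leaf 0))) (.node (.node (.leaf 0) (.leaf 0)) (.node (.leaf 1) (.leaf 2)))) (.node (.node (.node (.node (.leaf 0) (.leaf 0)) (.leaf 0)) (.node (.leaf 0) (.leaf 2))) (.node (.node (.leaf 1) (.leaf 2)) (.node (.leaf 0) (.leaf 1))))) (.node (.node (.node (.node (.node (.leaf 0) (.leaf 0)) (.leaf 1)) (.node (.leaf 2) (.leaf 1))) (.node (.node (.leaf 1) (.leaf 1)) (.node (.leaf 2) (.leaf 1)))) (.node (.node (.node (.leaf 1) (.leaf 1)) (.node (.leaf 1) (.leaf 0))) (.node (.node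 (.leaf 0) (.leaf 1)) (.node (.leaf 0) (.leaf 2)))))) (.node (.node (.node (.node (.node (.node (.leaf 0) (.leaf 2)) (.leaf 2)) (.node (.leaf 0) (.leaf 0))) (.node (.node (.leaf 2) (.leaf 0)) (.node (.leaf 0) (.leaf 2)))) (.node (.node (.node (.leaf 0) (.leaf 0)) (.node (.leaf 0) (.leaf 2))) (.node (.node (.leaf 0) (.leaf 0)) (.node (.leaf 0) (.leaf 2))))) (.node (.node (.node (.node (.node (.leaf 0) (.leaf 0)) (.leaf 2)) (.node (.leaf 0) (.leaf 1))) (.node (.node (.leaf 0) (.leaf 2)) (.node (.leaf 0) (.leaf 0)))) (.node (.node (.node (.leaf 0) (.leaf 2)) (.node (.leaf 0) (.leaf 1))) (.node (.node (.leaf 1) (.leaf 0)) (.node (.leaf 2) (.leaf 0)))))))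

def bigVala15 : Janko.Tree (ℕ) :=
  (.node (.node (.node (.node (.node (.node (.node (.leaf 0) (.leaf 0)) (.leaf 0)) (.node (.leaf 2) (.leaf 2))) (.node (.node (.leaf 0) (.leaf 1)) (.node (.leaf 0) (.leaf 0)))) (.node (.node (.node (.node (.leaf 0) (.leaf 2)) (.leaf 2)) (.node (.leaf 0) (.leaf 1))) (.node (.node (.leaf 0) (.leaf 2)) (.node (.leaf 0) (.leaf 0))))) (.node (.node (.node (.node (.node (.leaf 0) (.leaf 2)) (.leaf 2)) (.node (.leaf 1) (.leaf 2))) (.node (.node (.leaf 0) (.leaf 1)) (.node (.leaf 1) (.leaf 1)))) (.node (.node (.node (.leaf 0) (.leaf 0)) (.node (.leaf 2) (.leaf 1))) (.node (.node (.leaf 2) (.leaf 0)) (.node (.leaf 1) (.leaf 2)))))) (.node (.node (.node (.node (.node (.node (.leaf 0) (.leaf 0)) (.leaf 0)) (.node (.leaf 0) (.leaf 1))) (.node (.node (.leaf 1) (.leaf 0)) (.node (.leaf 0) (.leaf 1)))) (.node (.node (.node (.leaf 0) (.leaf 0)) (.node (.leaf 0) (.leaf 2))) (.node (.node (.leaf 0) (.leaf 0))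 (.node (.leaf 0) (.leaf 1))))) (.node (.node (.node (.node (.node (.leaf 0) (.leaf 1)) (.leaf 1)) (.node (.leaf 0) (.leaf 2))) (.node (.node (.leaf 1) (.leaf 2)) (.node (.leaf 2) (.leaf 1)))) (.node (.node (.node (.leaf 0) (.leaf 0)) (.node (.leaf 2) (.leaf 1))) (.node (.node (.leaf 1) (.leaf 1)) (.node (.leaf 1) (.leaf 2)))))))

def bigVala16 : Janko.Tree (ℕ) :=
  (.node (.node (.node (.node (.node (.node (.node (.leaf 0) (.leaf 2)) (.leaf 1)) (.node (.leaf 0) (.leaf 1))) (.node (.node (.leaf 1) (.leaf 1)) (.node (.leaf 2) (.leaf 2)))) (.node (.node (.node (.node (.leaf 0) (.leaf 2)) (.leaf 0)) (.node (.leaf 0) (.leaf 2))) (.node (.node (.leaf 0) (.leaf 1)) (.node (.leaf 0) (.leaf 0))))) (.node (.node (.node (.node (.node (.leaf 1) (.leaf 0)) (.leaf 0)) (.node (.leaf 1) (.leaf 0))) (.node (.node (.leaf 0) (.leaf 2)) (.node (.leaf 1) (.leaf 0)))) (.node (.node (.node (.leaf 0) (.leaf 0)) (.node (.leaf 0) (.leaf 1))) (.node (.node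 (.leaf 2) (.leaf 2)) (.node (.leaf 0) (.leaf 0)))))) (.node (.node (.node (.node (.node (.node (.leaf 0) (.leaf 2)) (.leaf 0)) (.node (.leaf 0) (.leaf 0))) (.node (.node (.leaf 0) (.leaf 0)) (.node (.leaf 0) (.leaf 2)))) (.node (.node (.node (.leaf 0) (.leaf 0)) (.node (.leaf 0) (.leaf 2))) (.node (.node (.leaf 0) (.leaf 0)) (.node (.leaf 1) (.leaf 0))))) (.node (.node (.node (.node (.node (.leaf 0) (.leaf 0)) (.leaf 0)) (.node (.leaf 0) (.leaf 0))) (.node (.node (.leaf 0) (.leaf 0)) (.node (.leaf 1) (.leaf 1)))) (.node (.node (.node (.leaf 1) (.leaf 2)) (.node (.leaf 1) (.leaf 0))) (.node (.node (.leaf 0) (.leaf 0)) (.node (.leaf 2) (.leaf 1)))))))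

def bigVala17 : Janko.Tree (ℕ) :=
  (.node (.node (.node (.node (.node (.node (.node (.leaf 0) (.leaf 1)) (.leaf 0)) (.node (.leaf 0) (.leaf 2))) (.node (.node (.leaf 0) (.leaf 2)) (.node (.leaf 0) (.leaf 1)))) (.node (.node (.node (.node (.leaf 0) (.leaf 1)) (.leaf 1)) (.node (.leaf 0) (.leaf 1))) (.node (.node (.leaf 0) (.leaf 1)) (.node (.leaf 2) (.leaf 2))))) (.node (.node (.node (.node (.node (.leaf 0) (.leaf 1)) (.leaf 0)) (.node (.leaf 0) (.leaf 1))) (.node (.node (.leaf 0) (.leaf 2)) (.node (.leaf 0) (.leaf 2)))) (.node (.node (.node (.leaf 0) (.leaf 2)) (.node (.leaf 0) (.leaf 0))) (.node (.node (.leaf 2) (.leaf 0)) (.node (.leaf 0) (.leaf 2)))))) (.node (.node (.node (.node (.node (.node (.leaf 0) (.leaf 2)) (.leaf 0)) (.node (.leaf 1) (.leaf 0))) (.node (.node (.leaf 0) (.leaf 2)) (.node (.leaf 0) (.leaf 1)))) (.node (.node (.node (.leaf 0) (.leaf 1)) (.node (.leaf 0) (.leaf 1))) (.node (.node (.leaf 0) (.leaf 0))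 (.node (.leaf 0) (.leaf 1))))) (.node (.node (.node (.node (.node (.leaf 0) (.leaf 1)) (.leaf 1)) (.node (.leaf 0) (.leaf 2))) (.node (.node (.leaf 0) (.leaf 2)) (.node (.leaf 0) (.leaf 2)))) (.node (.node (.node (.leaf 1) (.leaf 0)) (.node (.leaf 0) (.leaf 0))) (.node (.node (.leaf 0) (.leaf 2)) (.node (.leaf 0) (.leaf 2)))))))

def bigVala18 : Janko.Tree (ℕ) :=
  (.node (.node (.node (.node (.node (.node (.node (.leaf 0) (.leaf 1)) (.leaf 0)) (.node (.leaf 0) (.leaf 1))) (.node (.node (.leaf 0) (.leaf 1)) (.node (.leaf 1) (.leaf 0)))) (.node (.node (.node (.node (.leaf 0) (.leaf 1)) (.leaf 0)) (.node (.leaf 0) (.leaf 2))) (.node (.node (.leaf 1) (.leaf 0)) (.node (.leaf 0) (.leaf 2))))) (.node (.node (.node (.node (.node (.leaf 0) (.leaf 1)) (.leaf 0)) (.node (.leaf 0) (.leaf 1))) (.node (.node (.leaf 0) (.leaf 0)) (.node (.leaf 0) (.leaf 0)))) (.node (.node (.node (.leaf 1) (.leaf 0)) (.node (.leaf 1) (.leaf 1))) (.node (.node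 (.leaf 0) (.leaf 0)) (.node (.leaf 0) (.leaf 0)))))) (.node (.node (.node (.node (.node (.node (.leaf 0) (.leaf 0)) (.leaf 0)) (.node (.leaf 0) (.leaf 1))) (.node (.node (.leaf 0) (.leaf 2)) (.node (.leaf 2) (.leaf 0)))) (.node (.node (.node (.leaf 0) (.leaf 2)) (.node (.leaf 0) (.leaf 2))) (.node (.node (.leaf 0) (.leaf 2)) (.node (.leaf 0) (.leaf 2))))) (.node (.node (.node (.node (.node (.leaf 0) (.leaf 0)) (.leaf 2)) (.node (.leaf 0) (.leaf 0))) (.node (.node (.leaf 0) (.leaf 0)) (.node (.leaf 0) (.leaf 1)))) (.node (.node (.node (.leaf 0) (.leaf 0)) (.node (.leaf 0) (.leaf 2))) (.node (.node (.leaf 1) (.leaf 0)) (.node (.leaf 0) (.leaf 2)))))))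

def bigVala19 : Janko.Tree (ℕ) :=
  (.node (.node (.node (.node (.node (.node (.node (.leaf 0) (.leaf 0)) (.leaf 1)) (.node (.leaf 1) (.leaf 0))) (.node (.node (.leaf 0) (.leaf 0)) (.node (.leaf 0) (.leaf 1)))) (.node (.node (.node (.node (.leaf 1) (.leaf 0)) (.leaf 2)) (.node (.leaf 0) (.leaf 2))) (.node (.node (.leaf 0) (.leaf 0)) (.node (.leaf 2) (.leaf 2))))) (.node (.node (.node (.node (.node (.leaf 0) (.leaf 2)) (.leaf 0)) (.node (.leaf 0) (.leaf 0))) (.node (.node (.leaf 0) (.leaf 2)) (.node (.leaf 0) (.leaf 2)))) (.node (.node (.node (.leaf 0) (.leaf 2)) (.node (.leaf 0) (.leaf 0))) (.node (.node (.leaf 2) (.leaf 0)) (.node (.leaf 0) (.leaf 2)))))) (.node (.node (.node (.node (.node (.node (.leaf 0) (.leaf 1)) (.leaf 0)) (.node (.leaf 1) (.leaf 0))) (.node (.node (.leaf 0) (.leaf 0)) (.node (.leaf 2) (.leaf 0)))) (.node (.node (.node (.leaf 0) (.leaf 0)) (.node (.leaf 0) (.leaf 1))) (.node (.node (.leaf 0) (.leaf 0))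 (.node (.leaf 2) (.leaf 1))))) (.node (.node (.node (.node (.node (.leaf 0) (.leaf 2)) (.leaf 1)) (.node (.leaf 0) (.leaf 0))) (.node (.node (.leaf 0) (.leaf 1)) (.node (.leaf 2) (.leaf 0)))) (.node (.node (.node (.leaf 0) (.leaf 1)) (.node (.leaf 0) (.leaf 0))) (.node (.node (.leaf 0) (.leaf 2)) (.node (.leaf 1) (.leaf 0)))))))

def bigVala20 : Janko.Tree (ℕ) :=
  (.node (.node (.node (.node (.node (.node (.node (.leaf 0) (.leaf 2)) (.leaf 0)) (.node (.leaf 0) (.leaf 2))) (.node (.node (.leaf 0) (.leaf 1)) (.node (.leaf 1) (.leaf 0)))) (.node (.node (.node (.node (.leaf 0) (.leaf 0)) (.leaf 0)) (.node (.leaf 2) (.leaf 1))) (.node (.node (.leaf 1) (.leaf 1)) (.node (.leaf 0) (.leaf 2))))) (.node (.node (.node (.node (.node (.leaf 0) (.leaf 2)) (.leaf 1)) (.node (.leaf 0) (.leaf 1))) (.node (.node (.leaf 0) (.leaf 0)) (.node (.leaf 2) (.leaf 1)))) (.node (.node (.node (.leaf 0) (.leaf 2)) (.node (.leaf 0) (.leaf 2))) (.node (.node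 (.leaf 0) (.leaf 2)) (.node (.leaf 0) (.leaf 1)))))) (.node (.node (.node (.node (.node (.node (.leaf 0) (.leaf 1)) (.leaf 1)) (.node (.leaf 1) (.leaf 2))) (.node (.node (.leaf 0) (.leaf 2)) (.node (.leaf 2) (.leaf 2)))) (.node (.node (.node (.leaf 0) (.leaf 0)) (.node (.leaf 0) (.leaf 1))) (.node (.node (.leaf 0) (.leaf 0)) (.node (.leaf 1) (.leaf 0))))) (.node (.node (.node (.node (.node (.leaf 0) (.leaf 2)) (.leaf 1)) (.node (.leaf 1) (.leaf 1))) (.node (.node (.leaf 2) (.leaf 1)) (.node (.leaf 2) (.leaf 2)))) (.node (.node (.node (.leaf 0) (.leaf 0)) (.node (.leaf 0) (.leaf 1))) (.node (.node (.leaf 0) (.leaf 0)) (.node (.leaf 0) (.leaf 2)))))))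

def bigVala21 : Janko.Tree (ℕ) :=
  (.node (.node (.node (.node (.node (.node (.node (.leaf 0) (.leaf 1)) (.leaf 1)) (.node (.leaf 1) (.leaf 2))) (.node (.node (.leaf 0) (.leaf 2)) (.node (.leaf 1) (.leaf 2)))) (.node (.node (.node (.node (.leaf 0) (.leaf 0)) (.leaf 0)) (.node (.leaf 0) (.leaf 0))) (.node (.node (.leaf 1) (.leaf 0)) (.node (.leaf 1) (.leaf 1))))) (.node (.node (.node (.node (.node (.leaf 0) (.leaf 0)) (.leaf 0)) (.node (.leaf 1) (.leaf 2))) (.node (.node (.leaf 1) (.leaf 2)) (.node (.leaf 2) (.leaf 2)))) (.node (.node (.node (.leaf 0) (.leaf 0)) (.node (.leaf 0) (.leaf 0))) (.node (.node (.leaf 1) (.leaf 2)) (.node (.leaf 0) (.leaf 1)))))) (.node (.node (.node (.node (.node (.node (.leaf 0) (.leaf 2)) (.leaf 1)) (.node (.leaf 1) (.leaf 1))) (.node (.node (.leaf 0) (.leaf 0)) (.node (.leaf 0) (.leaf 1)))) (.node (.node (.node (.leaf 0) (.leaf 2)) (.node (.leaf 2) (.leaf 2))) (.node (.node (.leaf 0) (.leaf 1))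 (.node (.leaf 2) (.leaf 1))))) (.node (.node (.node (.node (.node (.leaf 1) (.leaf 2)) (.leaf 1)) (.node (.leaf 2) (.leaf 0))) (.node (.node (.leaf 0) (.leaf 0)) (.node (.leaf 2) (.leaf 1)))) (.node (.node (.node (.leaf 0) (.leaf 0)) (.node (.leaf 0) (.leaf 2))) (.node (.node (.leaf 2) (.leaf 0)) (.node (.leaf 0) (.leaf 1)))))))

def bigVala22 : Janko.Tree (ℕ) :=
  (.node (.node (.node (.node (.node (.node (.node (.leaf 0) (.leaf 0)) (.leaf 0)) (.node (.leaf 0) (.leaf 0))) (.node (.node (.leaf 0) (.leaf 1)) (.node (.leaf 0) (.leaf 0)))) (.node (.node (.node (.leaf 1) (.leaf 0)) (.node (.leaf 0) (.leaf 0))) (.node (.node (.leaf 0) (.leaf 0)) (.node (.leaf 2) (.leaf 2))))) (.node (.node (.node (.node (.node (.leaf 0) (.leaf 0)) (.leaf 0)) (.node (.leaf 0) (.leaf 0))) (.node (.node (.leaf 2) (.leaf 2)) (.node (.leaf 1) (.leaf 1)))) (.node (.node (.node (.leaf 0) (.leaf 1)) (.node (.leaf 0) (.leaf 0))) (.node (.node (.leaf 0) (.leaf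 1)) (.node (.leaf 0) (.leaf 1)))))) (.node (.node (.node (.node (.node (.node (.leaf 0) (.leaf 1)) (.leaf 2)) (.node (.leaf 0) (.leaf 1))) (.node (.node (.leaf 1) (.leaf 0)) (.node (.leaf 2) (.leaf 2)))) (.node (.node (.node (.leaf 1) (.leaf 1)) (.node (.leaf 2) (.leaf 1))) (.node (.node (.leaf 0) (.leaf 1)) (.node (.leaf 2) (.leaf 0))))) (.node (.node (.node (.node (.node (.leaf 0) (.leaf 1)) (.leaf 2)) (.node (.leaf 1) (.leaf 0))) (.node (.node (.leaf 0) (.leaf 0)) (.node (.leaf 2) (.leaf 0)))) (.node (.node (.node (.leaf 0) (.leaf 0)) (.node (.leaf 0) (.leaf 2))) (.node (.node (.leaf 0) (.leaf 0)) (.node (.leaf 2) (.leaf 0)))))))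

def bigVala23 : Janko.Tree (ℕ) :=
  (.node (.node (.node (.node (.node (.node (.node (.leaf 0) (.leaf 2)) (.leaf 0)) (.node (.leaf 0) (.leaf 2))) (.node (.node (.leaf 0) (.leaf 2)) (.node (.leaf 0) (.leaf 2)))) (.node (.node (.node (.leaf 1) (.leaf 1)) (.node (.leaf 0) (.leaf 1))) (.node (.node (.leaf 1) (.leaf 0)) (.node (.leaf 1) (.leaf 1))))) (.node (.node (.node (.node (.node (.leaf 0) (.leaf 2)) (.leaf 0)) (.node (.leaf 0) (.leaf 0))) (.node (.node (.leaf 0) (.leaf 2)) (.node (.leaf 0) (.leaf 1)))) (.node (.node (.node (.leaf 0) (.leaf 0)) (.node (.leaf 2) (.leaf 0))) (.node (.node (.leaf 0) (.leaf 0)) (.node (.leaf 2) (.leaf 0)))))) (.node (.node (.node (.node (.node (.node (.leaf 0) (.leaf 1)) (.leaf 0)) (.node (.leaf 0) (.leaf 1))) (.node (.node (.leaf 0) (.leaf 0)) (.node (.leaf 1) (.leaf 2)))) (.node (.node (.node (.leaf 0) (.leaf 0)) (.node (.leaf 0) (.leaf 0))) (.node (.node (.leaf 0) (.leaf 2)) (.node (.leaf 0) (.leaf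 1))))) (.node (.node (.node (.node (.node (.leaf 0) (.leaf 1)) (.leaf 0)) (.node (.leaf 1) (.leaf 0))) (.node (.node (.leaf 0) (.leaf 2)) (.node (.leaf 0) (.leaf 0)))) (.node (.node (.node (.leaf 0) (.leaf 0)) (.node (.leaf 0) (.leaf 2))) (.node (.node (.leaf 0) (.leaf 0)) (.node (.leaf 1) (.leaf 2)))))))

def bigVala24 : Janko.Tree (ℕ) :=
  (.node (.node (.node (.node (.node (.node (.node (.leaf 0) (.leaf 2)) (.leaf 0)) (.node (.leaf 0) (.leaf 1))) (.node (.node (.leaf 0) (.leaf 1)) (.node (.leaf 1) (.leaf 2)))) (.node (.node (.node (.leaf 0) (.leaf 2)) (.node (.leaf 0) (.leaf 0))) (.node (.node (.leaf 0) (.leaf 1)) (.node (.leaf 0) (.leaf 2))))) (.node (.node (.node (.node (.node (.leaf 0) (.leaf 0)) (.leaf 0)) (.node (.leaf 1) (.leaf 0))) (.node (.node (.leaf 0) (.leaf 1)) (.node (.leaf 0) (.leaf 1)))) (.node (.node (.node (.leaf 0) (.leaf 1)) (.node (.leaf 0) (.leaf 2))) (.node (.node (.leaf 0) (.leaf 0)) (.node (.leaf 0)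 (.leaf 0)))))) (.node (.node (.node (.node (.node (.node (.leaf 0) (.leaf 0)) (.leaf 0)) (.node (.leaf 0) (.leaf 2))) (.node (.node (.leaf 2) (.leaf 0)) (.node (.leaf 1) (.leaf 2)))) (.node (.node (.node (.leaf 1) (.leaf 1)) (.node (.leaf 0) (.leaf 2))) (.node (.node (.leaf 0) (.leaf 1)) (.node (.leaf 1) (.leaf 0))))) (.node (.node (.node (.node (.node (.leaf 0) (.leaf 0)) (.leaf 0)) (.node (.leaf 0) (.leaf 0))) (.node (.node (.leaf 0) (.leaf 1)) (.node (.leaf 1) (.leaf 1)))) (.node (.node (.node (.leaf 0) (.leaf 2)) (.node (.leaf 2) (.leaf 1))) (.node (.node (.leaf 1) (.leaf 0)) (.node (.leaf 2) (.leaf 0)))))))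

def bigVala25 : Janko.Tree (ℕ) :=
  (.node (.node (.node (.node (.node (.node (.node (.leaf 0) (.leaf 0)) (.leaf 1)) (.node (.leaf 0) (.leaf 2))) (.node (.node (.leaf 0) (.leaf 0)) (.node (.leaf 0) (.leaf 0)))) (.node (.node (.node (.leaf 0) (.leaf 0)) (.node (.leaf 0) (.leaf 0))) (.node (.node (.leaf 0) (.leaf 0)) (.node (.leaf 2) (.leaf 1))))) (.node (.node (.node (.node (.node (.leaf 0) (.leaf 0)) (.leaf 0)) (.node (.leaf 0) (.leaf 0))) (.node (.node (.leaf 2) (.leaf 1)) (.node (.leaf 0) (.leaf 2)))) (.node (.node (.node (.leaf 0) (.leaf 2)) (.node (.leaf 1) (.leaf 1))) (.node (.node (.leaf 1) (.leaf 0)) (.node (.leaf 2) (.leaf 1)))))) (.node (.node (.node (.node (.node (.node (.leaf 0) (.leaf 2)) (.leaf 0)) (.node (.leaf 0) (.leaf 2))) (.node (.node (.leaf 0) (.leaf 1)) (.node (.leaf 2) (.leaf 1)))) (.node (.node (.node (.leaf 0) (.leaf 1)) (.node (.leaf 0) (.leaf 1))) (.node (.node (.leaf 1) (.leaf 2)) (.node (.leaf 0) (.leaf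 2))))) (.node (.node (.node (.node (.node (.leaf 0) (.leaf 2)) (.leaf 0)) (.node (.leaf 0) (.leaf 1))) (.node (.node (.leaf 0) (.leaf 2)) (.node (.leaf 0) (.leaf 2)))) (.node (.node (.node (.leaf 0) (.leaf 0)) (.node (.leaf 2) (.leaf 1))) (.node (.node (.leaf 0) (.leaf 1)) (.node (.leaf 2) (.leaf 2)))))))

def bigVala26 : Janko.Tree (ℕ) :=
  (.node (.node (.node (.node (.node (.node (.node (.leaf 0) (.leaf 2)) (.leaf 0)) (.node (.leaf 2) (.leaf 0))) (.node (.node (.leaf 0) (.leaf 0)) (.node (.leaf 1) (.leaf 1)))) (.node (.node (.node (.leaf 0) (.leaf 0)) (.node (.leaf 0) (.leaf 0))) (.node (.node (.leaf 0) (.leaf 1)) (.node (.leaf 1) (.leaf 1))))) (.node (.node (.node (.node (.node (.leaf 0) (.leaf 2)) (.leaf 0)) (.node (.leaf 0) (.leaf 0))) (.node (.node (.leaf 0) (.leaf 0)) (.node (.leaf 0) (.leaf 0)))) (.node (.node (.node (.leaf 0) (.leaf 0)) (.node (.leaf 0) (.leaf 0))) (.node (.node (.leaf 0) (.leaf 0)) (.node (.leaf 1)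 (.leaf 1)))))) (.node (.node (.node (.node (.node (.node (.leaf 0) (.leaf 2)) (.leaf 1)) (.node (.leaf 1) (.leaf 1))) (.node (.node (.leaf 0) (.leaf 1)) (.node (.leaf 0) (.leaf 2)))) (.node (.node (.node (.leaf 0) (.leaf 2)) (.node (.leaf 2) (.leaf 0))) (.node (.node (.leaf 0) (.leaf 0)) (.node (.leaf 2) (.leaf 1))))) (.node (.node (.node (.node (.node (.leaf 0) (.leaf 1)) (.leaf 2)) (.node (.leaf 0) (.leaf 2))) (.node (.node (.leaf 2) (.leaf 1)) (.node (.leaf 1) (.leaf 1)))) (.node (.node (.node (.leaf 0) (.leaf 0)) (.node (.leaf 2) (.leaf 2))) (.node (.node (.leaf 0) (.leaf 1)) (.node (.leaf 1) (.leaf 2)))))))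

def bigVala27 : Janko.Tree (ℕ) :=
  (.node (.node (.node (.node (.node (.node (.node (.leaf 0) (.leaf 0)) (.leaf 0)) (.node (.leaf 0) (.leaf 1))) (.node (.node (.leaf 0) (.leaf 1)) (.node (.leaf 0) (.leaf 1)))) (.node (.node (.node (.leaf 0) (.leaf 2)) (.node (.leaf 0) (.leaf 2))) (.node (.node (.leaf 0) (.leaf 2)) (.node (.leaf 2) (.leaf 1))))) (.node (.node (.node (.node (.node (.leaf 0) (.leaf 0)) (.leaf 0)) (.node (.leaf 0) (.leaf 2))) (.node (.node (.leaf 0) (.leaf 0)) (.node (.leaf 0) (.leaf 1)))) (.node (.node (.node (.leaf 2) (.leaf 0)) (.node (.leaf 0) (.leaf 2))) (.node (.node (.leaf 1) (.leaf 2)) (.node (.leaf 1) (.leaf 2)))))) (.node (.node (.node (.node (.node (.node (.leaf 0) (.leaf 1)) (.leaf 2)) (.node (.leaf 0) (.leaf 0))) (.node (.node (.leaf 0) (.leaf 2)) (.node (.leaf 0) (.leaf 2)))) (.node (.node (.node (.leaf 0) (.leaf 1)) (.node (.leaf 1) (.leaf 0))) (.node (.node (.leaf 0) (.leaf 2)) (.node (.leaf 1) (.leaf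 2))))) (.node (.node (.node (.node (.node (.leaf 0) (.leaf 0)) (.leaf 2)) (.node (.leaf 0) (.leaf 2))) (.node (.node (.leaf 0) (.leaf 2)) (.node (.leaf 0) (.leaf 1)))) (.node (.node (.node (.leaf 0) (.leaf 2)) (.node (.leaf 0) (.leaf 2))) (.node (.node (.leaf 0) (.leaf 1)) (.node (.leaf 1) (.leaf 2)))))))

def bigVala28 : Janko.Tree (ℕ) :=
  (.node (.node (.node (.node (.node (.node (.node (.leaf 0) (.leaf 1)) (.leaf 2)) (.node (.leaf 0) (.leaf 0))) (.node (.node (.leaf 0) (.leaf 0)) (.node (.leaf 0) (.leaf 0)))) (.node (.node (.node (.leaf 0) (.leaf 2)) (.node (.leaf 0) (.leaf 2))) (.node (.node (.leaf 0) (.leaf 0)) (.node (.leaf 2) (.leaf 0))))) (.node (.node (.node (.node (.node (.leaf 0) (.leaf 0)) (.leaf 1)) (.node (.leaf 0) (.leaf 0))) (.node (.node (.leaf 0) (.leaf 1)) (.node (.leaf 1) (.leaf 2)))) (.node (.node (.node (.leaf 0) (.leaf 2)) (.node (.leaf 0) (.leaf 1))) (.node (.node (.leaf 0) (.leaf 2)) (.node (.leaf 0)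 (.leaf 1)))))) (.node (.node (.node (.node (.node (.node (.leaf 0) (.leaf 0)) (.leaf 0)) (.node (.leaf 2) (.leaf 2))) (.node (.node (.leaf 0) (.leaf 1)) (.node (.leaf 0) (.leaf 1)))) (.node (.node (.node (.leaf 1) (.leaf 1)) (.node (.leaf 1) (.leaf 0))) (.node (.node (.leaf 0) (.leaf 1)) (.node (.leaf 0) (.leaf 0))))) (.node (.node (.node (.node (.node (.leaf 0) (.leaf 2)) (.leaf 0)) (.node (.leaf 0) (.leaf 2))) (.node (.node (.leaf 0) (.leaf 2)) (.node (.leaf 0) (.leaf 1)))) (.node (.node (.node (.leaf 2) (.leaf 0)) (.node (.leaf 0) (.leaf 2))) (.node (.node (.leaf 0) (.leaf 0)) (.node (.leaf 1) (.leaf 0)))))))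

def bigVala29 : Janko.Tree (ℕ) :=
  (.node (.node (.node (.node (.node (.node (.node (.leaf 0) (.leaf 0)) (.leaf 1)) (.node (.leaf 0) (.leaf 2))) (.node (.node (.leaf 0) (.leaf 1)) (.node (.leaf 1) (.leaf 1)))) (.node (.node (.node (.leaf 0) (.leaf 2)) (.node (.leaf 0) (.leaf 1))) (.node (.node (.leaf 0) (.leaf 2)) (.node (.leaf 0) (.leaf 2))))) (.node (.node (.node (.node (.node (.leaf 0) (.leaf 0)) (.leaf 2)) (.node (.leaf 0) (.leaf 0))) (.node (.node (.leaf 0) (.leaf 0)) (.node (.leaf 1) (.leaf 2)))) (.node (.node (.node (.leaf 0) (.leaf 2)) (.node (.leaf 1) (.leaf 1))) (.node (.node (.leaf 0) (.leaf 0)) (.node (.leaf 0) (.leaf 2)))))) (.node (.node (.node (.node (.node (.node (.leaf 0) (.leaf 1)) (.leaf 0)) (.node (.leaf 2) (.leaf 0))) (.node (.node (.leaf 0) (.leaf 0)) (.node (.leaf 0) (.leaf 0)))) (.node (.node (.node (.leaf 0) (.leaf 2)) (.node (.leaf 2) (.leaf 0))) (.node (.node (.leaf 0) (.leaf 0)) (.node (.leaf 2) (.leaf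 2))))) (.node (.node (.node (.node (.node (.leaf 0) (.leaf 2)) (.leaf 1)) (.node (.leaf 2) (.leaf 0))) (.node (.node (.leaf 0) (.leaf 1)) (.node (.leaf 0) (.leaf 2)))) (.node (.node (.node (.leaf 0) (.leaf 0)) (.node (.leaf 0) (.leaf 2))) (.node (.node (.leaf 0) (.leaf 2)) (.node (.leaf 0) (.leaf 1)))))))

def bigVala30 : Janko.Tree (ℕ) :=
  (.node (.node (.node (.node (.node (.node (.node (.leaf 0) (.leaf 2)) (.leaf 0)) (.node (.leaf 0) (.leaf 0))) (.node (.node (.leaf 0) (.leaf 2)) (.node (.leaf 0) (.leaf 1)))) (.node (.node (.node (.leaf 0) (.leaf 0)) (.node (.leaf 0) (.leaf 0))) (.node (.node (.leaf 0) (.leaf 2)) (.node (.leaf 0) (.leaf 0))))) (.node (.node (.node (.node (.node (.leaf 0) (.leaf 2)) (.leaf 0)) (.node (.leaf 1) (.leaf 2))) (.node (.node (.leaf 0) (.leaf 1)) (.node (.leaf 2) (.leaf 1)))) (.node (.node (.node (.leaf 0) (.leaf 1)) (.node (.leaf 0) (.leaf 2))) (.node (.node (.leaf 0) (.leaf 0)) (.node (.leaf 2)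 (.leaf 1)))))) (.node (.node (.node (.node (.node (.node (.leaf 0) (.leaf 1)) (.leaf 0)) (.node (.leaf 0) (.leaf 0))) (.node (.node (.leaf 0) (.leaf 0)) (.node (.leaf 0) (.leaf 2)))) (.node (.node (.node (.leaf 0) (.leaf 0)) (.node (.leaf 2) (.leaf 1))) (.node (.node (.leaf 2) (.leaf 1)) (.node (.leaf 2) (.leaf 1))))) (.node (.node (.node (.node (.node (.leaf 2) (.leaf 1)) (.leaf 2)) (.node (.leaf 0) (.leaf 0))) (.node (.node (.leaf 2) (.leaf 0)) (.node (.leaf 0) (.leaf 2)))) (.node (.node (.node (.leaf 0) (.leaf 1)) (.node (.leaf 0) (.leaf 0))) (.node (.node (.leaf 0) (.leaf 2)) (.node (.leaf 0) (.leaf 2)))))))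

def bigVala31 : Janko.Tree (ℕ) :=
  (.node (.node (.node (.node (.node (.node (.node (.leaf 0) (.leaf 2)) (.leaf 1)) (.node (.leaf 0) (.leaf 1))) (.node (.node (.leaf 0) (.leaf 2)) (.node (.leaf 0) (.leaf 2)))) (.node (.node (.node (.leaf 0) (.leaf 2)) (.node (.leaf 0) (.leaf 1))) (.node (.node (.leaf 0) (.leaf 0)) (.node (.leaf 2) (.leaf 1))))) (.node (.node (.node (.node (.node (.leaf 0) (.leaf 1)) (.leaf 0)) (.node (.leaf 0) (.leaf 1))) (.node (.node (.leaf 0) (.leaf 2)) (.node (.leaf 2) (.leaf 0)))) (.node (.node (.node (.leaf 0) (.leaf 2)) (.node (.leaf 0) (.leaf 2))) (.node (.node (.leaf 0) (.leaf 2)) (.node (.leaf 0) (.leaf 1)))))) (.node (.node (.node (.node (.node (.node (.leaf 0) (.leaf 1)) (.leaf 0)) (.node (.leaf 0) (.leaf 1))) (.node (.node (.leaf 0) (.leaf 1)) (.node (.leaf 0) (.leaf 1)))) (.node (.node (.node (.leaf 0) (.leaf 0)) (.node (.leaf 0) (.leaf 2))) (.node (.node (.leaf 0) (.leaf 1)) (.node (.leaf 2) (.leaf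 1))))) (.node (.node (.node (.node (.node (.leaf 0) (.leaf 0)) (.leaf 0)) (.node (.leaf 2) (.leaf 1))) (.node (.node (.leaf 1) (.leaf 0)) (.node (.leaf 1) (.leaf 1)))) (.node (.node (.node (.leaf 0) (.leaf 2)) (.node (.leaf 2) (.leaf 1))) (.node (.node (.leaf 0) (.leaf 1)) (.node (.leaf 0) (.leaf 1)))))))

def bigVala32 : Janko.Tree (ℕ) :=
  (.node (.node (.node (.node (.node (.node (.node (.leaf 0) (.leaf 1)) (.leaf 2)) (.node (.leaf 2) (.leaf 0))) (.node (.node (.leaf 0) (.leaf 0)) (.node (.leaf 0) (.leaf 2)))) (.node (.node (.node (.leaf 0) (.leaf 2)) (.node (.leaf 2) (.leaf 1))) (.node (.node (.leaf 0) (.leaf 1)) (.node (.leaf 0) (.leaf 2))))) (.node (.node (.node (.node (.node (.leaf 0) (.leaf 1)) (.leaf 2)) (.node (.leaf 0) (.leaf 2))) (.node (.node (.leaf 0) (.leaf 0)) (.node (.leaf 0) (.leaf 0)))) (.node (.node (.node (.leaf 0) (.leaf 2)) (.node (.leaf 0) (.leaf 2))) (.node (.node (.leaf 0) (.leaf 1)) (.node (.leaf 2)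 (.leaf 0)))))) (.node (.node (.node (.node (.node (.node (.leaf 0) (.leaf 0)) (.leaf 0)) (.node (.leaf 0) (.leaf 0))) (.node (.node (.leaf 0) (.leaf 2)) (.node (.leaf 1) (.leaf 1)))) (.node (.node (.node (.leaf 0) (.leaf 2)) (.node (.leaf 0) (.leaf 0))) (.node (.node (.leaf 0) (.leaf 1)) (.node (.leaf 0) (.leaf 0))))) (.node (.node (.node (.node (.node (.leaf 0) (.leaf 0)) (.leaf 2)) (.node (.leaf 2) (.leaf 0))) (.node (.node (.leaf 1) (.leaf 1)) (.node (.leaf 0) (.leaf 2)))) (.node (.node (.node (.leaf 0) (.leaf 0)) (.node (.leaf 2) (.leaf 2))) (.node (.node (.leaf 0) (.leaf 2)) (.node (.leaf 2) (.leaf 1)))))))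

def bigVala33 : Janko.Tree (ℕ) :=
  (.node (.node (.node (.node (.node (.node (.node (.leaf 0) (.leaf 0)) (.leaf 1)) (.node (.leaf 0) (.leaf 2))) (.node (.node (.leaf 0) (.leaf 0)) (.node (.leaf 0) (.leaf 0)))) (.node (.node (.node (.leaf 0) (.leaf 1)) (.node (.leaf 0) (.leaf 0))) (.node (.node (.leaf 0) (.leaf 0)) (.node (.leaf 0) (.leaf 1))))) (.node (.node (.node (.node (.node (.leaf 0) (.leaf 1)) (.leaf 0)) (.node (.leaf 2) (.leaf 0))) (.node (.node (.leaf 0) (.leaf 0)) (.node (.leaf 0) (.leaf 1)))) (.node (.node (.node (.leaf 0) (.leaf 1)) (.node (.leaf 0) (.leaf 0))) (.node (.node (.leaf 0) (.leaf 2)) (.node (.leaf 1) (.leaf 0)))))) (.node (.node (.node (.node (.node (.node (.leaf 0) (.leaf 2)) (.leaf 0)) (.node (.leaf 0) (.leaf 1))) (.node (.node (.leaf 2) (.leaf 1)) (.node (.leaf 0) (.leaf 2)))) (.node (.node (.node (.leaf 0) (.leaf 2)) (.node (.leaf 0) (.leaf 0))) (.node (.node (.leaf 0) (.leaf 1)) (.node (.leaf 2) (.leaf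 1))))) (.node (.node (.node (.node (.node (.leaf 0) (.leaf 1)) (.leaf 1)) (.node (.leaf 0) (.leaf 2))) (.node (.node (.leaf 0) (.leaf 0)) (.node (.leaf 2) (.leaf 0)))) (.node (.node (.node (.leaf 0) (.leaf 1)) (.node (.leaf 0) (.leaf 2))) (.node (.node (.leaf 0) (.leaf 0)) (.node (.leaf 2) (.leaf 1)))))))

def bigVala34 : Janko.Tree (ℕ) :=
  (.node (.node (.node (.node (.node (.node (.node (.leaf 0) (.leaf 2)) (.leaf 2)) (.node (.leaf 0) (.leaf 1))) (.node (.node (.leaf 0) (.leaf 2)) (.node (.leaf 0) (.leaf 0)))) (.node (.node (.node (.leaf 0) (.leaf 0)) (.node (.leaf 1) (.leaf 1))) (.node (.node (.leaf 0) (.leaf 0)) (.node (.leaf 0) (.leaf 0))))) (.node (.node (.node (.node (.node (.leaf 0) (.leaf 2)) (.leaf 0)) (.node (.leaf 1) (.leaf 1))) (.node (.node (.leaf 0) (.leaf 1)) (.node (.leaf 0) (.leaf 0)))) (.node (.node (.node (.leaf 0) (.leaf 0)) (.node (.leaf 0) (.leaf 1))) (.node (.node (.leaf 0) (.leaf 0)) (.node (.leaf 0)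 (.leaf 2)))))) (.node (.node (.node (.node (.node (.node (.leaf 0) (.leaf 1)) (.leaf 0)) (.node (.leaf 0) (.leaf 0))) (.node (.node (.leaf 0) (.leaf 0)) (.node (.leaf 0) (.leaf 2)))) (.node (.node (.node (.leaf 0) (.leaf 1)) (.node (.leaf 2) (.leaf 1))) (.node (.node (.leaf 1) (.leaf 2)) (.node (.leaf 1) (.leaf 1))))) (.node (.node (.node (.node (.node (.leaf 0) (.leaf 0)) (.leaf 2)) (.node (.leaf 0) (.leaf 0))) (.node (.node (.leaf 0) (.leaf 0)) (.node (.leaf 2) (.leaf 1)))) (.node (.node (.node (.leaf 0) (.leaf 2)) (.node (.leaf 1) (.leaf 1))) (.node (.node (.leaf 0) (.leaf 1)) (.node (.leaf 2) (.leaf 2)))))))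

def bigVala35 : Janko.Tree (ℕ) :=
  (.node (.node (.node (.node (.node (.node (.node (.leaf 0) (.leaf 2)) (.leaf 2)) (.node (.leaf 0) (.leaf 2))) (.node (.node (.leaf 0) (.leaf 2)) (.node (.leaf 2) (.leaf 0)))) (.node (.node (.node (.leaf 0) (.leaf 0)) (.node (.leaf 0) (.leaf 0))) (.node (.node (.leaf 1) (.leaf 1)) (.node (.leaf 0) (.leaf 2))))) (.node (.node (.node (.node (.node (.leaf 0) (.leaf 0)) (.leaf 0)) (.node (.leaf 2) (.leaf 0))) (.node (.node (.leaf 0) (.leaf 2)) (.node (.leaf 0) (.leaf 2)))) (.node (.node (.node (.leaf 0) (.leaf 0)) (.node (.leaf 0) (.leaf 2))) (.node (.node (.leaf 0) (.leaf 1)) (.node (.leaf 2) (.leaf 0)))))) (.node (.node (.node (.node (.node (.node (.leaf 0) (.leaf 1)) (.leaf 0)) (.node (.leaf 0) (.leaf 0))) (.node (.node (.leaf 1) (.leaf 1)) (.node (.leaf 0) (.leaf 1)))) (.node (.node (.node (.leaf 0) (.leaf 0)) (.node (.leaf 1) (.leaf 2))) (.node (.node (.leaf 1) (.leaf 0)) (.node (.leaf 1) (.leaf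 0))))) (.node (.node (.node (.node (.node (.leaf 0) (.leaf 2)) (.leaf 0)) (.node (.leaf 0) (.leaf 1))) (.node (.node (.leaf 0) (.leaf 2)) (.node (.leaf 1) (.leaf 1)))) (.node (.node (.node (.leaf 0) (.leaf 0)) (.node (.leaf 1) (.leaf 2))) (.node (.node (.leaf 0) (.leaf 0)) (.node (.leaf 0) (.leaf 0)))))))

def bigVala36 : Janko.Tree (ℕ) :=
  (.node (.node (.node (.node (.node (.node (.node (.leaf 0) (.leaf 0)) (.leaf 2)) (.node (.leaf 0) (.leaf 0))) (.node (.node (.leaf 0) (.leaf 1)) (.node (.leaf 0) (.leaf 0)))) (.node (.node (.node (.leaf 0) (.leaf 0)) (.node (.leaf 0) (.leaf 0))) (.node (.node (.leaf 0) (.leaf 1)) (.node (.leaf 0) (.leaf 1))))) (.node (.node (.node (.node (.node (.leaf 0) (.leaf 0)) (.leaf 0)) (.node (.leaf 0) (.leaf 0))) (.node (.node (.leaf 0) (.leaf 1)) (.node (.leaf 0) (.leaf 1)))) (.node (.node (.node (.leaf 0) (.leaf 0)) (.node (.leaf 0) (.leaf 0))) (.node (.node (.leaf 0) (.leaf 2)) (.node (.leaf 0)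 (.leaf 1)))))) (.node (.node (.node (.node (.node (.node (.leaf 0) (.leaf 2)) (.leaf 0)) (.node (.leaf 1) (.leaf 2))) (.node (.node (.leaf 0) (.leaf 1)) (.node (.leaf 0) (.leaf 2)))) (.node (.node (.node (.leaf 0) (.leaf 0)) (.node (.leaf 0) (.leaf 0))) (.node (.node (.leaf 0) (.leaf 2)) (.node (.leaf 1) (.leaf 2))))) (.node (.node (.node (.node (.node (.leaf 0) (.leaf 0)) (.leaf 2)) (.node (.leaf 0) (.leaf 1))) (.node (.node (.leaf 0) (.leaf 1)) (.node (.leaf 0) (.leaf 1)))) (.node (.node (.node (.leaf 0) (.leaf 0)) (.node (.leaf 1) (.leaf 2))) (.node (.node (.leaf 0) (.leaf 1)) (.node (.leaf 0) (.leaf 2)))))))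

def bigVala37 : Janko.Tree (ℕ) :=
  (.node (.node (.node (.node (.node (.node (.node (.leaf 0) (.leaf 2)) (.leaf 0)) (.node (.leaf 0) (.leaf 2))) (.node (.node (.leaf 0) (.leaf 0)) (.node (.leaf 2) (.leaf 1)))) (.node (.node (.node (.leaf 0) (.leaf 1)) (.node (.leaf 0) (.leaf 0))) (.node (.node (.leaf 0) (.leaf 0)) (.node (.leaf 1) (.leaf 1))))) (.node (.node (.node (.node (.node (.leaf 0) (.leaf 0)) (.leaf 0)) (.node (.leaf 0) (.leaf 1))) (.node (.node (.leaf 0) (.leaf 1)) (.node (.leaf 0) (.leaf 1)))) (.node (.node (.node (.leaf 0) (.leaf 1)) (.node (.leaf 2) (.leaf 0))) (.node (.node (.leaf 0) (.leaf 2)) (.node (.leaf 0) (.leaf 0)))))) (.node (.node (.node (.node (.node (.node (.leaf 2) (.leaf 2)) (.leaf 2)) (.node (.leaf 1) (.leaf 0))) (.node (.node (.leaf 1) (.leaf 1)) (.node (.leaf 1) (.leaf 1)))) (.node (.node (.node (.leaf 0) (.leaf 0)) (.node (.leaf 0) (.leaf 0))) (.node (.node (.leaf 0) (.leaf 0)) (.node (.leaf 2) (.leaf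 1))))) (.node (.node (.node (.node (.node (.leaf 0) (.leaf 0)) (.leaf 1)) (.node (.leaf 0) (.leaf 0))) (.node (.node (.leaf 0) (.leaf 2)) (.node (.leaf 0) (.leaf 2)))) (.node (.node (.node (.leaf 0) (.leaf 0)) (.node (.leaf 0) (.leaf 1))) (.node (.node (.leaf 0) (.leaf 1)) (.node (.leaf 0) (.leaf 2)))))))

def bigVala38 : Janko.Tree (ℕ) :=
  (.node (.node (.node (.node (.node (.node (.node (.leaf 0) (.leaf 1)) (.leaf 1)) (.node (.leaf 0) (.leaf 0))) (.node (.node (.leaf 0) (.leaf 0)) (.node (.leaf 0) (.leaf 2)))) (.node (.node (.node (.leaf 0) (.leaf 2)) (.node (.leaf 0) (.leaf 2))) (.node (.node (.leaf 0) (.leaf 0)) (.node (.leaf 0) (.leaf 0))))) (.node (.node (.node (.node (.node (.leaf 0) (.leaf 1)) (.leaf 2)) (.node (.leaf 1) (.leaf 0))) (.node (.node (.leaf 1) (.leaf 1)) (.node (.leaf 0) (.leaf 1)))) (.node (.node (.node (.leaf 0) (.leaf 0)) (.node (.leaf 1) (.leaf 0))) (.node (.node (.leaf 0) (.leaf 0)) (.node (.leaf 2)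 (.leaf 1)))))) (.node (.node (.node (.node (.node (.node (.leaf 0) (.leaf 0)) (.leaf 1)) (.node (.leaf 0) (.leaf 2))) (.node (.node (.leaf 0) (.leaf 2)) (.node (.leaf 0) (.leaf 2)))) (.node (.node (.node (.leaf 0) (.leaf 0)) (.node (.leaf 0) (.leaf 0))) (.node (.node (.leaf 0) (.leaf 1)) (.node (.leaf 0) (.leaf 2))))) (.node (.node (.node (.node (.node (.leaf 0) (.leaf 2)) (.leaf 0)) (.node (.leaf 2) (.leaf 0))) (.node (.node (.leaf 0) (.leaf 2)) (.node (.leaf 2) (.leaf 2)))) (.node (.node (.node (.leaf 0) (.leaf 0)) (.node (.leaf 1) (.leaf 2))) (.node (.node (.leaf 0) (.leaf 1)) (.node (.leaf 0) (.leaf 1)))))))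

def bigVala39 : Janko.Tree (ℕ) :=
  (.node (.node (.node (.node (.node (.node (.node (.leaf 0) (.leaf 1)) (.leaf 0)) (.node (.leaf 1) (.leaf 0))) (.node (.node (.leaf 0) (.leaf 0)) (.node (.leaf 0) (.leaf 0)))) (.node (.node (.node (.leaf 0) (.leaf 1)) (.node (.leaf 0) (.leaf 1))) (.node (.node (.leaf 0) (.leaf 2)) (.node (.leaf 2) (.leaf 2))))) (.node (.node (.node (.node (.node (.leaf 0) (.leaf 0)) (.leaf 0)) (.node (.leaf 0) (.leaf 1))) (.node (.node (.leaf 1) (.leaf 0)) (.node (.leaf 0) (.leaf 1)))) (.node (.node (.node (.leaf 0) (.leaf 0)) (.node (.leaf 0) (.leaf 0))) (.node (.node (.leaf 2) (.leaf 2)) (.node (.leaf 0) (.leaf 2)))))) (.node (.node (.node (.node (.node (.node (.leaf 0) (.leaf 2)) (.leaf 0)) (.node (.leaf 0) (.leaf 0))) (.node (.node (.leaf 0) (.leaf 2)) (.node (.leaf 0) (.leaf 2)))) (.node (.node (.node (.leaf 0) (.leaf 0)) (.node (.leaf 0) (.leaf 0))) (.node (.node (.leaf 0) (.leaf 2)) (.node (.leaf 1) (.leaf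 2))))) (.node (.node (.node (.node (.node (.leaf 0) (.leaf 1)) (.leaf 0)) (.node (.leaf 0) (.leaf 1))) (.node (.node (.leaf 0) (.leaf 1)) (.node (.leaf 0) (.leaf 1)))) (.node (.node (.node (.leaf 0) (.leaf 1)) (.node (.leaf 2) (.leaf 0))) (.node (.node (.leaf 0) (.leaf 0)) (.node (.leaf 2) (.leaf 1)))))))

def bigVala40 : Janko.Tree (ℕ) :=
  (.node (.node (.node (.node (.node (.node (.node (.leaf 0) (.leaf 2)) (.leaf 1)) (.node (.leaf 2) (.leaf 1))) (.node (.node (.leaf 0) (.leaf 1)) (.node (.leaf 0) (.leaf 0)))) (.node (.node (.node (.leaf 0) (.leaf 1)) (.node (.leaf 1) (.leaf 2))) (.node (.node (.leaf 0) (.leaf 2)) (.node (.leaf 0) (.leaf 0))))) (.node (.node (.node (.node (.node (.leaf 0) (.leaf 1)) (.leaf 0)) (.node (.leaf 0) (.leaf 1))) (.node (.node (.leaf 1) (.leaf 1)) (.node (.leaf 0) (.leaf 2)))) (.node (.node (.node (.leaf 0) (.leaf 0)) (.node (.leaf 0) (.leaf 2))) (.node (.node (.leaf 0) (.leaf 2)) (.node (.leaf 2)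 (.leaf 2)))))) (.node (.node (.node (.node (.node (.node (.leaf 1) (.leaf 0)) (.leaf 2)) (.node (.leaf 0) (.leaf 0))) (.node (.node (.leaf 0) (.leaf 1)) (.node (.leaf 0) (.leaf 1)))) (.node (.node (.node (.leaf 0) (.leaf 0)) (.node (.leaf 2) (.leaf 0))) (.node (.node (.leaf 0) (.leaf 0)) (.node (.leaf 1) (.leaf 2))))) (.node (.node (.node (.node (.node (.leaf 0) (.leaf 0)) (.leaf 0)) (.node (.leaf 1) (.leaf 2))) (.node (.node (.leaf 2) (.leaf 2)) (.node (.leaf 0) (.leaf 2)))) (.node (.node (.node (.leaf 0) (.leaf 1)) (.node (.leaf 0) (.leaf 2))) (.node (.node (.leaf 0) (.leaf 2)) (.node (.leaf 1) (.leaf 1)))))))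

def bigVala41 : Janko.Tree (ℕ) :=
  (.node (.node (.node (.node (.node (.node (.node (.leaf 0) (.leaf 0)) (.leaf 0)) (.node (.leaf 2) (.leaf 0))) (.node (.node (.leaf 0) (.leaf 0)) (.node (.leaf 0) (.leaf 0)))) (.node (.node (.node (.leaf 0) (.leaf 1)) (.node (.leaf 1) (.leaf 2))) (.node (.node (.leaf 0) (.leaf 0)) (.node (.leaf 0) (.leaf 1))))) (.node (.node (.node (.node (.node (.leaf 0) (.leaf 1)) (.leaf 0)) (.node (.leaf 0) (.leaf 0))) (.node (.node (.leaf 0) (.leaf 2)) (.node (.leaf 0) (.leaf 1)))) (.node (.node (.node (.leaf 0) (.leaf 0)) (.node (.leaf 2) (.leaf 1))) (.node (.node (.leaf 1) (.leaf 0)) (.node (.leaf 0) (.leaf 0)))))) (.node (.node (.node (.node (.node (.node (.leaf 0) (.leaf 0)) (.leaf 0)) (.node (.leaf 1) (.leaf 0))) (.node (.node (.leaf 0) (.leaf 2)) (.node (.leaf 0) (.leaf 0)))) (.node (.node (.node (.leaf 0) (.leaf 1)) (.node (.leaf 0) (.leaf 0))) (.node (.node (.leaf 0) (.leaf 1)) (.node (.leaf 2) (.leaf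 1))))) (.node (.node (.node (.node (.node (.leaf 0) (.leaf 2)) (.leaf 2)) (.node (.leaf 0) (.leaf 2))) (.node (.node (.leaf 0) (.leaf 0)) (.node (.leaf 1) (.leaf 2)))) (.node (.node (.node (.leaf 0) (.leaf 2)) (.node (.leaf 1) (.leaf 2))) (.node (.node (.leaf 0) (.leaf 0)) (.node (.leaf 1) (.leaf 0)))))))

def bigVala42 : Janko.Tree (ℕ) :=
  (.node (.node (.node (.node (.node (.node (.node (.leaf 0) (.leaf 0)) (.leaf 0)) (.node (.leaf 0) (.leaf 0))) (.node (.node (.leaf 0) (.leaf 1)) (.node (.leaf 0) (.leaf 2)))) (.node (.node (.node (.leaf 0) (.leaf 2)) (.node (.leaf 2) (.leaf 1))) (.node (.node (.leaf 0) (.leaf 2)) (.node (.leaf 0) (.leaf 0))))) (.node (.node (.node (.node (.node (.leaf 0) (.leaf 0)) (.leaf 1)) (.node (.leaf 2) (.leaf 0))) (.node (.node (.leaf 0) (.leaf 2)) (.node (.leaf 2) (.leaf 1)))) (.node (.node (.node (.leaf 0) (.leaf 0)) (.node (.leaf 2) (.leaf 2))) (.node (.node (.leaf 2) (.leaf 0)) (.node (.leaf 2)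 (.leaf 2)))))) (.node (.node (.node (.node (.node (.node (.leaf 0) (.leaf 1)) (.leaf 0)) (.node (.leaf 2) (.leaf 0))) (.node (.node (.leaf 2) (.leaf 1)) (.node (.leaf 2) (.leaf 1)))) (.node (.node (.node (.leaf 0) (.leaf 2)) (.node (.leaf 1) (.leaf 2))) (.node (.node (.leaf 2) (.leaf 0)) (.node (.leaf 1) (.leaf 0))))) (.node (.node (.node (.node (.node (.leaf 0) (.leaf 1)) (.leaf 0)) (.node (.leaf 2) (.leaf 0))) (.node (.node (.leaf 0) (.leaf 1)) (.node (.leaf 1) (.leaf 0)))) (.node (.node (.node (.leaf 2) (.leaf 0)) (.node (.leaf 0) (.leaf 2))) (.node (.node (.leaf 1) (.leaf 1)) (.node (.leaf 0) (.leaf 1)))))))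

def bigVala43 : Janko.Tree (ℕ) :=
  (.node (.node (.node (.node (.node (.node (.node (.leaf 0) (.leaf 1)) (.leaf 0)) (.node (.leaf 1) (.leaf 0))) (.node (.node (.leaf 0) (.leaf 2)) (.node (.leaf 1) (.leaf 0)))) (.node (.node (.node (.leaf 0) (.leaf 2)) (.node (.leaf 0) (.leaf 1))) (.node (.node (.leaf 1) (.leaf 1)) (.node (.leaf 0) (.leaf 0))))) (.node (.node (.node (.node (.node (.leaf 0) (.leaf 1)) (.leaf 0)) (.node (.leaf 1) (.leaf 0))) (.node (.node (.leaf 0) (.leaf 0)) (.node (.leaf 1) (.leaf 0)))) (.node (.node (.node (.leaf 0) (.leaf 0)) (.node (.leaf 0) (.leaf 0))) (.node (.node (.leaf 0) (.leaf 0)) (.node (.leaf 0) (.leaf 2)))))) (.node (.node (.node (.node (.node (.node (.leaf 0) (.leaf 0)) (.leaf 2)) (.node (.leaf 0) (.leaf 0))) (.node (.node (.leaf 0) (.leaf 1)) (.node (.leaf 0) (.leaf 0)))) (.node (.node (.node (.leaf 0) (.leaf 0)) (.node (.leaf 2) (.leaf 2))) (.node (.node (.leaf 0) (.leaf 2)) (.node (.leaf 0) (.leaf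 2))))) (.node (.node (.node (.node (.node (.leaf 0) (.leaf 1)) (.leaf 0)) (.node (.leaf 0) (.leaf 2))) (.node (.node (.leaf 1) (.leaf 0)) (.node (.leaf 0) (.leaf 1)))) (.node (.node (.node (.leaf 0) (.leaf 0)) (.node (.leaf 2) (.leaf 0))) (.node (.node (.leaf 0) (.leaf 1)) (.node (.leaf 0) (.leaf 1)))))))

def bigVala44 : Janko.Tree (ℕ) :=
  (.node (.node (.node (.node (.node (.node (.node (.leaf 0) (.leaf 2)) (.leaf 0)) (.node (.leaf 0) (.leaf 1))) (.node (.node (.leaf 0) (.leaf 2)) (.node (.leaf 0) (.leaf 1)))) (.node (.node (.node (.leaf 0) (.leaf 0)) (.node (.leaf 0) (.leaf 0))) (.node (.node (.leaf 0) (.leaf 2)) (.node (.leaf 0) (.leaf 1))))) (.node (.node (.node (.node (.node (.leaf 0) (.leaf 2)) (.leaf 0)) (.node (.leaf 2) (.leaf 1))) (.node (.node (.leaf 0) (.leaf 1)) (.node (.leaf 1) (.leaf 0)))) (.node (.node (.node (.leaf 0) (.leaf 0)) (.node (.leaf 0) (.leaf 1))) (.node (.node (.leaf 0) (.leaf 1)) (.node (.leaf 1)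 (.leaf 2)))))) (.node (.node (.node (.node (.node (.node (.leaf 0) (.leaf 2)) (.leaf 0)) (.node (.leaf 0) (.leaf 0))) (.node (.node (.leaf 0) (.leaf 0)) (.node (.leaf 0) (.leaf 1)))) (.node (.node (.node (.leaf 0) (.leaf 1)) (.node (.leaf 0) (.leaf 0))) (.node (.node (.leaf 2) (.leaf 0)) (.node (.leaf 0) (.leaf 2))))) (.node (.node (.node (.node (.node (.leaf 0) (.leaf 2)) (.leaf 0)) (.node (.leaf 1) (.leaf 0))) (.node (.node (.leaf 1) (.leaf 2)) (.node (.leaf 0) (.leaf 1)))) (.node (.node (.node (.leaf 0) (.leaf 2)) (.node (.leaf 2) (.leaf 0))) (.node (.node (.leaf 1) (.leaf 0)) (.node (.leaf 0) (.leaf 0)))))))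

def bigVala45 : Janko.Tree (ℕ) :=
  (.node (.node (.node (.node (.node (.node (.node (.leaf 0) (.leaf 0)) (.leaf 0)) (.node (.leaf 0) (.leaf 0))) (.node (.node (.leaf 2) (.leaf 2)) (.node (.leaf 0) (.leaf 2)))) (.node (.node (.node (.leaf 0) (.leaf 0)) (.node (.leaf 2) (.leaf 2))) (.node (.node (.leaf 0) (.leaf 1)) (.node (.leaf 0) (.leaf 1))))) (.node (.node (.node (.node (.node (.leaf 0) (.leaf 1)) (.leaf 0)) (.node (.leaf 1) (.leaf 2))) (.node (.node (.leaf 1) (.leaf 2)) (.node (.leaf 0) (.leaf 1)))) (.node (.node (.node (.leaf 0) (.leaf 0)) (.node (.leaf 1) (.leaf 1))) (.node (.node (.leaf 0) (.leaf 0)) (.node (.leaf 0) (.leaf 0)))))) (.node (.node (.node (.node (.node (.node (.leaf 2) (.leaf 1)) (.leaf 1)) (.node (.leaf 0) (.leaf 2))) (.node (.node (.leaf 0) (.leaf 0)) (.node (.leaf 2) (.leaf 2)))) (.node (.node (.node (.leaf 0) (.leaf 0)) (.node (.leaf 0) (.leaf 0))) (.node (.node (.leaf 0) (.leaf 1)) (.node (.leaf 2) (.leaf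 1))))) (.node (.node (.node (.node (.node (.leaf 0) (.leaf 0)) (.leaf 2)) (.node (.leaf 0) (.leaf 0))) (.node (.node (.leaf 0) (.leaf 0)) (.node (.leaf 0) (.leaf 1)))) (.node (.node (.node (.leaf 0) (.leaf 1)) (.node (.leaf 0) (.leaf 0))) (.node (.node (.leaf 0) (.leaf 1)) (.node (.leaf 1) (.leaf 0)))))))

def bigVala46 : Janko.Tree (ℕ) :=
  (.node (.node (.node (.node (.node (.node (.node (.leaf 0) (.leaf 0)) (.leaf 0)) (.node (.leaf 2) (.leaf 0))) (.node (.node (.leaf 0) (.leaf 0)) (.node (.leaf 0) (.leaf 0)))) (.node (.node (.node (.leaf 0) (.leaf 2)) (.node (.leaf 2) (.leaf 2))) (.node (.node (.leaf 0) (.leaf 0)) (.node (.leaf 2) (.leaf 1))))) (.node (.node (.node (.node (.node (.leaf 0) (.leaf 0)) (.leaf 1)) (.node (.leaf 0) (.leaf 0))) (.node (.node (.leaf 0) (.leaf 0)) (.node (.leaf 0) (.leaf 2)))) (.node (.node (.node (.leaf 0) (.leaf 0)) (.node (.leaf 0) (.leaf 1))) (.node (.node (.leaf 0) (.leaf 1)) (.node (.leaf 0)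 (.leaf 0)))))) (.node (.node (.node (.node (.node (.node (.leaf 0) (.leaf 1)) (.leaf 0)) (.node (.leaf 2) (.leaf 2))) (.node (.node (.leaf 0) (.leaf 0)) (.node (.leaf 1) (.leaf 1)))) (.node (.node (.node (.leaf 0) (.leaf 2)) (.node (.leaf 0) (.leaf 0))) (.node (.node (.leaf 0) (.leaf 2)) (.node (.leaf 0) (.leaf 0))))) (.node (.node (.node (.node (.node (.leaf 0) (.leaf 1)) (.leaf 2)) (.node (.leaf 2) (.leaf 0))) (.node (.node (.leaf 0) (.leaf 0)) (.node (.leaf 1) (.leaf 0)))) (.node (.node (.node (.leaf 0) (.leaf 2)) (.node (.leaf 0) (.leaf 0))) (.node (.node (.leaf 0) (.leaf 2)) (.node (.leaf 2) (.leaf 1)))))))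

def bigVala47 : Janko.Tree (ℕ) :=
  (.node (.node (.node (.node (.node (.node (.node (.leaf 0) (.leaf 1)) (.leaf 2)) (.node (.leaf 0) (.leaf 0))) (.node (.node (.leaf 0) (.leaf 0)) (.node (.leaf 0) (.leaf 0)))) (.node (.node (.node (.leaf 0) (.leaf 1)) (.node (.leaf 0) (.leaf 1))) (.node (.node (.leaf 0) (.leaf 1)) (.node (.leaf 0) (.leaf 1))))) (.node (.node (.node (.node (.node (.leaf 0) (.leaf 2)) (.leaf 2)) (.node (.leaf 1) (.leaf 1))) (.node (.node (.leaf 2) (.leaf 0)) (.node (.leaf 0) (.leaf 2)))) (.node (.node (.node (.leaf 0) (.leaf 2)) (.node (.leaf 1) (.leaf 0))) (.node (.node (.leaf 0) (.leaf 0)) (.node (.leaf 0) (.leaf 1)))))) (.node (.node (.node (.node (.node (.node (.leaf 0) (.leaf 2)) (.leaf 2)) (.node (.leaf 2) (.leaf 0))) (.node (.node (.leaf 0) (.leaf 1)) (.node (.leaf 0) (.leaf 2)))) (.node (.node (.node (.leaf 0) (.leaf 1)) (.node (.leaf 0) (.leaf 1))) (.node (.node (.leaf 0) (.leaf 2)) (.node (.leaf 1) (.leaf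 1))))) (.node (.node (.node (.node (.node (.leaf 0) (.leaf 1)) (.leaf 2)) (.node (.leaf 0) (.leaf 1))) (.node (.node (.leaf 0) (.leaf 0)) (.node (.leaf 2) (.leaf 1)))) (.node (.node (.node (.leaf 0) (.leaf 2)) (.node (.leaf 0) (.leaf 0))) (.node (.node (.leaf 0) (.leaf 1)) (.node (.leaf 0) (.leaf 2)))))))

def bigVala48 : Janko.Tree (ℕ) :=
  (.node (.node (.node (.node (.node (.node (.node (.leaf 0) (.leaf 0)) (.leaf 1)) (.node (.leaf 2) (.leaf 1))) (.node (.node (.leaf 1) (.leaf 1)) (.node (.leaf 1) (.leaf 2)))) (.node (.node (.node (.leaf 0) (.leaf 2)) (.node (.leaf 1) (.leaf 2))) (.node (.node (.leaf 1) (.leaf 0)) (.node (.leaf 0) (.leaf 1))))) (.node (.node (.node (.node (.node (.leaf 2) (.leaf 0)) (.leaf 0)) (.node (.leaf 0) (.leaf 2))) (.node (.node (.leaf 2) (.leaf 2)) (.node (.leaf 0) (.leaf 0)))) (.node (.node (.node (.leaf 0) (.leaf 1)) (.node (.leaf 1) (.leaf 1))) (.node (.node (.leaf 0) (.leaf 2)) (.node (.leaf 0)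 (.leaf 2)))))) (.node (.node (.node (.node (.node (.node (.leaf 0) (.leaf 0)) (.leaf 0)) (.node (.leaf 0) (.leaf 0))) (.node (.node (.leaf 2) (.leaf 2)) (.node (.leaf 0) (.leaf 0)))) (.node (.node (.node (.leaf 0) (.leaf 0)) (.node (.leaf 1) (.leaf 0))) (.node (.node (.leaf 2) (.leaf 0)) (.node (.leaf 2) (.leaf 0))))) (.node (.node (.node (.node (.node (.leaf 0) (.leaf 0)) (.leaf 0)) (.node (.leaf 0) (.leaf 0))) (.node (.node (.leaf 0) (.leaf 0)) (.node (.leaf 0) (.leaf 1)))) (.node (.node (.node (.leaf 0) (.leaf 2)) (.node (.leaf 2) (.leaf 0))) (.node (.node (.leaf 0) (.leaf 0)) (.node (.leaf 1) (.leaf 2)))))))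

def bigVala49 : Janko.Tree (ℕ) :=
  (.node (.node (.node (.node (.node (.node (.node (.leaf 0) (.leaf 2)) (.leaf 0)) (.node (.leaf 0) (.leaf 2))) (.node (.node (.leaf 0) (.leaf 1)) (.node (.leaf 0) (.leaf 2)))) (.node (.node (.node (.leaf 0) (.leaf 0)) (.node (.leaf 2) (.leaf 1))) (.node (.node (.leaf 1) (.leaf 0)) (.node (.leaf 1) (.leaf 0))))) (.node (.node (.node (.node (.node (.leaf 0) (.leaf 0)) (.leaf 1)) (.node (.leaf 1) (.leaf 1))) (.node (.node (.leaf 0) (.leaf 0)) (.node (.leaf 2) (.leaf 1)))) (.node (.node (.node (.leaf 0) (.leaf 2)) (.node (.leaf 0) (.leaf 2))) (.node (.node (.leaf 0) (.leaf 0)) (.node (.leaf 2) (.leaf 0)))))) (.node (.node (.node (.node (.node (.node (.leaf 1) (.leaf 0)) (.leaf 2)) (.node (.leaf 2) (.leaf 0))) (.node (.node (.leaf 0) (.leaf 2)) (.node (.leaf 0) (.leaf 1)))) (.node (.node (.node (.leaf 0) (.leaf 1)) (.node (.leaf 0) (.leaf 1))) (.node (.node (.leaf 0) (.leaf 0)) (.node (.leaf 0) (.leaf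 1))))) (.node (.node (.node (.node (.node (.leaf 0) (.leaf 1)) (.leaf 0)) (.node (.leaf 1) (.leaf 2))) (.node (.node (.leaf 0) (.leaf 2)) (.node (.leaf 0) (.leaf 0)))) (.node (.node (.node (.leaf 0) (.leaf 0)) (.node (.leaf 2) (.leaf 1))) (.node (.node (.leaf 0) (.leaf 0)) (.node (.leaf 0) (.leaf 0)))))))

def bigVala50 : Janko.Tree (ℕ) :=
  (.node (.node (.node (.node (.node (.node (.node (.leaf 0) (.leaf 1)) (.leaf 2)) (.node (.leaf 2) (.leaf 0))) (.node (.node (.leaf 0) (.leaf 0)) (.node (.leaf 1) (.leaf 0)))) (.node (.node (.node (.leaf 0) (.leaf 0)) (.node (.leaf 2) (.leaf 0))) (.node (.node (.leaf 1) (.leaf 1)) (.node (.leaf 1) (.leaf 0))))) (.node (.node (.node (.node (.node (.leaf 0) (.leaf 0)) (.leaf 0)) (.node (.leaf 0) (.leaf 1))) (.node (.node (.leaf 0) (.leaf 2)) (.node (.leaf 0) (.leaf 1)))) (.node (.node (.node (.leaf 0) (.leaf 2)) (.node (.leaf 0) (.leaf 1))) (.node (.node (.leaf 0) (.leaf 2)) (.node (.leaf 0)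 (.leaf 0)))))) (.node (.node (.node (.node (.node (.node (.leaf 0) (.leaf 2)) (.leaf 1)) (.node (.leaf 0) (.leaf 1))) (.node (.node (.leaf 0) (.leaf 0)) (.node (.leaf 0) (.leaf 0)))) (.node (.node (.node (.leaf 0) (.leaf 1)) (.node (.leaf 0) (.leaf 0))) (.node (.node (.leaf 0) (.leaf 0)) (.node (.leaf 0) (.leaf 2))))) (.node (.node (.node (.node (.node (.leaf 0) (.leaf 2)) (.leaf 0)) (.node (.leaf 0) (.leaf 1))) (.node (.node (.leaf 0) (.leaf 2)) (.node (.leaf 0) (.leaf 0)))) (.node (.node (.node (.leaf 1) (.leaf 2)) (.node (.leaf 0) (.leaf 2))) (.node (.node (.leaf 0) (.leaf 0)) (.node (.leaf 1) (.leaf 0)))))))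

def bigVala51 : Janko.Tree (ℕ) :=
  (.node (.node (.node (.node (.node (.node (.node (.leaf 0) (.leaf 0)) (.leaf 2)) (.node (.leaf 2) (.leaf 2))) (.node (.node (.leaf 0) (.leaf 0)) (.node (.leaf 0) (.leaf 0)))) (.node (.node (.node (.leaf 0) (.leaf 0)) (.node (.leaf 0) (.leaf 0))) (.node (.node (.leaf 0) (.leaf 0)) (.node (.leaf 2) (.leaf 1))))) (.node (.node (.node (.node (.node (.leaf 1) (.leaf 2)) (.leaf 1)) (.node (.leaf 1) (.leaf 0))) (.node (.node (.leaf 0) (.leaf 1)) (.node (.leaf 1) (.leaf 0)))) (.node (.node (.node (.leaf 0) (.leaf 0)) (.node (.leaf 0) (.leaf 0))) (.node (.node (.leaf 0) (.leaf 1)) (.node (.leaf 0) (.leaf 2)))))) (.node (.node (.node (.node (.node (.node (.leaf 0) (.leaf 0)) (.leaf 1)) (.node (.leaf 2) (.leaf 1))) (.node (.node (.leaf 0) (.leaf 0)) (.node (.leaf 2) (.leaf 0)))) (.node (.node (.node (.leaf 0) (.leaf 1)) (.node (.leaf 0) (.leaf 2))) (.node (.node (.leaf 0) (.leaf 2)) (.node (.leaf 0) (.leaf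 1))))) (.node (.node (.node (.node (.node (.leaf 0) (.leaf 1)) (.leaf 0)) (.node (.leaf 0) (.leaf 2))) (.node (.node (.leaf 0) (.leaf 0)) (.node (.leaf 2) (.leaf 2)))) (.node (.node (.node (.leaf 0) (.leaf 0)) (.node (.leaf 0) (.leaf 0))) (.node (.node (.leaf 0) (.leaf 1)) (.node (.leaf 2) (.leaf 2)))))))

def bigVala52 : Janko.Tree (ℕ) :=
  (.node (.node (.node (.node (.node (.node (.node (.leaf 0) (.leaf 0)) (.leaf 1)) (.node (.leaf 0) (.leaf 0))) (.node (.node (.leaf 2) (.leaf 2)) (.node (.leaf 2) (.leaf 0)))) (.node (.node (.node (.leaf 0) (.leaf 2)) (.node (.leaf 1) (.leaf 2))) (.node (.node (.leaf 0) (.leaf 0)) (.node (.leaf 0) (.leaf 0))))) (.node (.node (.node (.node (.node (.leaf 0) (.leaf 1)) (.leaf 0)) (.node (.leaf 0) (.leaf 1))) (.node (.node (.leaf 2) (.leaf 0)) (.node (.leaf 0) (.leaf 2)))) (.node (.node (.node (.leaf 0) (.leaf 0)) (.node (.leaf 0) (.leaf 0))) (.node (.node (.leaf 0) (.leaf 0)) (.node (.leaf 0)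 (.leaf 0)))))) (.node (.node (.node (.node (.node (.node (.leaf 0) (.leaf 1)) (.leaf 2)) (.node (.leaf 0) (.leaf 2))) (.node (.node (.leaf 0) (.leaf 0)) (.node (.leaf 1) (.leaf 0)))) (.node (.node (.node (.leaf 0) (.leaf 2)) (.node (.leaf 0) (.leaf 1))) (.node (.node (.leaf 0) (.leaf 1)) (.node (.leaf 0) (.leaf 1))))) (.node (.node (.node (.node (.node (.leaf 0) (.leaf 0)) (.leaf 2)) (.node (.leaf 0) (.leaf 0))) (.node (.node (.leaf 0) (.leaf 2)) (.node (.leaf 0) (.leaf 1)))) (.node (.node (.node (.leaf 2) (.leaf 1)) (.node (.leaf 2) (.leaf 1))) (.node (.node (.leaf 0) (.leaf 2)) (.node (.leaf 0) (.leaf 1)))))))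

def bigVala53 : Janko.Tree (ℕ) :=
  (.node (.node (.node (.node (.node (.node (.node (.leaf 0) (.leaf 1)) (.leaf 1)) (.node (.leaf 0) (.leaf 2))) (.node (.node (.leaf 2) (.leaf 2)) (.node (.leaf 2) (.leaf 0)))) (.node (.node (.node (.leaf 0) (.leaf 1)) (.node (.leaf 1) (.leaf 0))) (.node (.node (.leaf 1) (.leaf 0)) (.node (.leaf 0) (.leaf 0))))) (.node (.node (.node (.node (.node (.leaf 0) (.leaf 0)) (.leaf 1)) (.node (.leaf 1) (.leaf 1))) (.node (.node (.leaf 0) (.leaf 1)) (.node (.leaf 0) (.leaf 1)))) (.node (.node (.node (.leaf 0) (.leaf 0)) (.node (.leaf 2) (.leaf 0))) (.node (.node (.leaf 2) (.leaf 2)) (.node (.leaf 1) (.leaf 2)))))) (.node (.node (.node (.node (.node (.node (.leaf 0) (.leaf 2)) (.leaf 0)) (.node (.leaf 0) (.leaf 1))) (.node (.node (.leaf 0) (.leaf 2)) (.node (.leaf 0) (.leaf 2)))) (.node (.node (.node (.leaf 0) (.leaf 0)) (.node (.leaf 0) (.leaf 2))) (.node (.node (.leaf 0) (.leaf 2)) (.node (.leaf 2) (.leaf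 0))))) (.node (.node (.node (.node (.node (.leaf 0) (.leaf 2)) (.leaf 1)) (.node (.leaf 1) (.leaf 1))) (.node (.node (.leaf 0) (.leaf 2)) (.node (.leaf 1) (.leaf 0)))) (.node (.node (.node (.leaf 0) (.leaf 0)) (.node (.leaf 0) (.leaf 1))) (.node (.node (.leaf 0) (.leaf 1)) (.node (.leaf 0) (.leaf 1)))))))

def bigVala54 : Janko.Tree (ℕ) :=
  (.node (.node (.node (.node (.node (.node (.node (.leaf 0) (.leaf 2)) (.leaf 2)) (.node (.leaf 1) (.leaf 1))) (.node (.node (.leaf 0) (.leaf 0)) (.node (.leaf 2) (.leaf 0)))) (.node (.node (.node (.leaf 0) (.leaf 0)) (.node (.leaf 2) (.leaf 2))) (.node (.node (.leaf 0) (.leaf 2)) (.node (.leaf 0) (.leaf 1))))) (.node (.node (.node (.node (.node (.leaf 0) (.leaf 2)) (.leaf 0)) (.node (.leaf 0) (.leaf 0))) (.node (.node (.leaf 0) (.leaf 2)) (.node (.leaf 0) (.leaf 2)))) (.node (.node (.node (.leaf 0) (.leaf 0)) (.node (.leaf 0) (.leaf 1))) (.node (.node (.leaf 0) (.leaf 0)) (.node (.leaf 0)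 (.leaf 2)))))) (.node (.node (.node (.node (.node (.node (.leaf 0) (.leaf 0)) (.leaf 2)) (.node (.leaf 2) (.leaf 2))) (.node (.node (.leaf 0) (.leaf 2)) (.node (.leaf 1) (.leaf 2)))) (.node (.node (.node (.leaf 0) (.leaf 0)) (.node (.leaf 0) (.leaf 1))) (.node (.node (.leaf 0) (.leaf 2)) (.node (.leaf 0) (.leaf 1))))) (.node (.node (.node (.node (.node (.leaf 0) (.leaf 1)) (.leaf 1)) (.node (.leaf 2) (.leaf 2))) (.node (.node (.leaf 0) (.leaf 2)) (.node (.leaf 1) (.leaf 1)))) (.node (.node (.node (.leaf 0) (.leaf 0)) (.node (.leaf 0) (.leaf 2))) (.node (.node (.leaf 1) (.leaf 1)) (.node (.leaf 0) (.leaf 0)))))))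

def bigVala55 : Janko.Tree (ℕ) :=
  (.node (.node (.node (.node (.node (.node (.node (.leaf 0) (.leaf 0)) (.leaf 0)) (.node (.leaf 2) (.leaf 0))) (.node (.node (.leaf 0) (.leaf 1)) (.node (.leaf 0) (.leaf 0)))) (.node (.node (.node (.leaf 0) (.leaf 1)) (.node (.leaf 0) (.leaf 2))) (.node (.node (.leaf 0) (.leaf 2)) (.node (.leaf 0) (.leaf 2))))) (.node (.node (.node (.node (.node (.leaf 0) (.leaf 1)) (.leaf 0)) (.node (.leaf 0) (.leaf 2))) (.node (.node (.leaf 0) (.leaf 0)) (.node (.leaf 2) (.leaf 0)))) (.node (.node (.node (.leaf 0) (.leaf 0)) (.node (.leaf 0) (.leaf 0))) (.node (.node (.leaf 0) (.leaf 2)) (.node (.leaf 1) (.leaf 2)))))) (.node (.node (.node (.node (.node (.node (.leaf 1) (.leaf 1)) (.leaf 0)) (.node (.leaf 0) (.leaf 2))) (.node (.node (.leaf 1) (.leaf 1)) (.node (.leaf 1) (.leaf 1)))) (.node (.node (.node (.leaf 1) (.leaf 0)) (.node (.leaf 0) (.leaf 0))) (.node (.node (.leaf 0) (.leaf 1)) (.node (.leaf 1) (.leaf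 2))))) (.node (.node (.node (.node (.node (.leaf 0) (.leaf 1)) (.leaf 1)) (.node (.leaf 0) (.leaf 2))) (.node (.node (.leaf 0) (.leaf 0)) (.node (.leaf 1) (.leaf 0)))) (.node (.node (.node (.leaf 0) (.leaf 0)) (.node (.leaf 0) (.leaf 0))) (.node (.node (.leaf 0) (.leaf 0)) (.node (.leaf 2) (.leaf 2)))))))

def bigVala56 : Janko.Tree (ℕ) :=
  (.node (.node (.node (.node (.node (.node (.node (.leaf 0) (.leaf 0)) (.leaf 0)) (.node (.leaf 0) (.leaf 0))) (.node (.node (.leaf 1) (.leaf 1)) (.node (.leaf 1) (.leaf 1)))) (.node (.node (.node (.leaf 0) (.leaf 2)) (.node (.leaf 0) (.leaf 0))) (.node (.node (.leaf 0) (.leaf 0)) (.node (.leaf 0) (.leaf 0))))) (.node (.node (.node (.node (.node (.leaf 2) (.leaf 2)) (.leaf 0)) (.node (.leaf 0) (.leaf 0))) (.node (.node (.leaf 0) (.leaf 0)) (.node (.leaf 0) (.leaf 2)))) (.node (.node (.node (.leaf 0) (.leaf 2)) (.node (.leaf 1) (.leaf 0))) (.node (.node (.leaf 1) (.leaf 2)) (.node (.leaf 0)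 (.leaf 2)))))) (.node (.node (.node (.node (.node (.node (.leaf 0) (.leaf 0)) (.leaf 2)) (.node (.leaf 0) (.leaf 1))) (.node (.node (.leaf 2) (.leaf 0)) (.node (.leaf 2) (.leaf 0)))) (.node (.node (.node (.leaf 0) (.leaf 0)) (.node (.leaf 2) (.leaf 0))) (.node (.node (.leaf 0) (.leaf 0)) (.node (.leaf 1) (.leaf 0))))) (.node (.node (.node (.node (.node (.leaf 0) (.leaf 2)) (.leaf 1)) (.node (.leaf 0) (.leaf 1))) (.node (.node (.leaf 0) (.leaf 1)) (.node (.leaf 0) (.leaf 0)))) (.node (.node (.node (.leaf 0) (.leaf 2)) (.node (.leaf 0) (.leaf 1))) (.node (.node (.leaf 0) (.leaf 1)) (.node (.leaf 0) (.leaf 2)))))))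

def bigVala57 : Janko.Tree (ℕ) :=
  (.node (.node (.node (.node (.node (.node (.node (.leaf 1) (.leaf 0)) (.leaf 1)) (.node (.leaf 0) (.leaf 2))) (.node (.node (.leaf 1) (.leaf 0)) (.node (.leaf 2) (.leaf 2)))) (.node (.node (.node (.leaf 0) (.leaf 1)) (.node (.leaf 1) (.leaf 2))) (.node (.node (.leaf 0) (.leaf 1)) (.node (.leaf 0) (.leaf 2))))) (.node (.node (.node (.node (.node (.leaf 0) (.leaf 2)) (.leaf 0)) (.node (.leaf 0) (.leaf 1))) (.node (.node (.leaf 0) (.leaf 0)) (.node (.leaf 1) (.leaf 2)))) (.node (.node (.node (.leaf 0) (.leaf 0)) (.node (.leaf 2) (.leaf 1))) (.node (.node (.leaf 0) (.leaf 1)) (.node (.leaf 1) (.leaf 1)))))) (.node (.node (.node (.node (.node (.node (.leaf 0) (.leaf 0)) (.leaf 1)) (.node (.leaf 0) (.leaf 2))) (.node (.node (.leaf 2) (.leaf 0)) (.node (.leaf 1) (.leaf 1)))) (.node (.node (.node (.leaf 2) (.leaf 2)) (.node (.leaf 0) (.leaf 0))) (.node (.node (.leaf 0) (.leaf 1)) (.node (.leaf 0) (.leaf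 1))))) (.node (.node (.node (.node (.node (.leaf 0) (.leaf 0)) (.leaf 1)) (.node (.leaf 0) (.leaf 2))) (.node (.node (.leaf 0) (.leaf 0)) (.node (.leaf 0) (.leaf 2)))) (.node (.node (.node (.leaf 2) (.leaf 1)) (.node (.leaf 0) (.leaf 1))) (.node (.node (.leaf 0) (.leaf 1)) (.node (.leaf 1) (.leaf 1)))))))

def bigVala58 : Janko.Tree (ℕ) :=
  (.node (.node (.node (.node (.node (.node (.node (.leaf 0) (.leaf 2)) (.leaf 0)) (.node (.leaf 1) (.leaf 0))) (.node (.node (.leaf 0) (.leaf 0)) (.node (.leaf 1) (.leaf 1)))) (.node (.node (.node (.leaf 0) (.leaf 2)) (.node (.leaf 0) (.leaf 2))) (.node (.node (.leaf 0) (.leaf 0)) (.node (.leaf 0) (.leaf 1))))) (.node (.node (.node (.node (.node (.leaf 0) (.leaf 0)) (.leaf 0)) (.node (.leaf 2) (.leaf 2))) (.node (.node (.leaf 0) (.leaf 1)) (.node (.leaf 0) (.leaf 0)))) (.node (.node (.node (.leaf 0) (.leaf 0)) (.node (.leaf 0) (.leaf 2))) (.node (.node (.leaf 2) (.leaf 0)) (.node (.leaf 0)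 (.leaf 2)))))) (.node (.node (.node (.node (.node (.node (.leaf 1) (.leaf 1)) (.leaf 1)) (.node (.leaf 0) (.leaf 0))) (.node (.node (.leaf 0) (.leaf 1)) (.node (.leaf 1) (.leaf 0)))) (.node (.node (.node (.leaf 0) (.leaf 2)) (.node (.leaf 0) (.leaf 0))) (.node (.node (.leaf 0) (.leaf 2)) (.node (.leaf 2) (.leaf 2))))) (.node (.node (.node (.node (.node (.leaf 0) (.leaf 2)) (.leaf 2)) (.node (.leaf 1) (.leaf 0))) (.node (.node (.leaf 0) (.leaf 0)) (.node (.leaf 0) (.leaf 2)))) (.node (.node (.node (.leaf 0) (.leaf 0)) (.node (.leaf 1) (.leaf 2))) (.node (.node (.leaf 0) (.leaf 1)) (.node (.leaf 0) (.leaf 1)))))))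

def bigVala59 : Janko.Tree (ℕ) :=
  (.node (.node (.node (.node (.node (.node (.node (.leaf 0) (.leaf 0)) (.leaf 0)) (.node (.leaf 0) (.leaf 0))) (.node (.node (.leaf 0) (.leaf 0)) (.node (.leaf 0) (.leaf 2)))) (.node (.node (.node (.leaf 1) (.leaf 2)) (.node (.leaf 0) (.leaf 1))) (.node (.node (.leaf 0) (.leaf 1)) (.node (.leaf 1) (.leaf 1))))) (.node (.node (.node (.node (.node (.leaf 1) (.leaf 0)) (.leaf 0)) (.node (.leaf 1) (.leaf 0))) (.node (.node (.leaf 0) (.leaf 2)) (.node (.leaf 1) (.leaf 1)))) (.node (.node (.node (.leaf 0) (.leaf 0)) (.node (.leaf 0) (.leaf 1))) (.node (.node (.leaf 0) (.leaf 2)) (.node (.leaf 0) (.leaf 0)))))) (.node (.node (.node (.node (.node (.node (.leaf 0) (.leaf 0)) (.leaf 2)) (.node (.leaf 2) (.leaf 0))) (.node (.node (.leaf 1) (.leaf 0)) (.node (.leaf 1) (.leaf 0)))) (.node (.node (.node (.leaf 0) (.leaf 0)) (.node (.leaf 1) (.leaf 0))) (.node (.node (.leaf 1) (.leaf 0)) (.node (.leaf 0) (.leaf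 1))))) (.node (.node (.node (.node (.node (.leaf 0) (.leaf 1)) (.leaf 1)) (.node (.leaf 0) (.leaf 0))) (.node (.node (.leaf 0) (.leaf 0)) (.node (.leaf 0) (.leaf 1)))) (.node (.node (.node (.leaf 0) (.leaf 2)) (.node (.leaf 2) (.leaf 1))) (.node (.node (.leaf 0) (.leaf 1)) (.node (.leaf 1) (.leaf 2)))))))

def bigVala60 : Janko.Tree (ℕ) :=
  (.node (.node (.node (.node (.node (.node (.node (.leaf 0) (.leaf 0)) (.leaf 0)) (.node (.leaf 0) (.leaf 0))) (.node (.node (.leaf 1) (.leaf 1)) (.node (.leaf 2) (.leaf 0)))) (.node (.node (.node (.leaf 0) (.leaf 0)) (.node (.leaf 2) (.leaf 0))) (.node (.node (.leaf 0) (.leaf 0)) (.node (.leaf 0) (.leaf 0))))) (.node (.node (.node (.node (.node (.leaf 1) (.leaf 2)) (.leaf 0)) (.node (.leaf 0) (.leaf 2))) (.node (.node (.leaf 0) (.leaf 0)) (.node (.leaf 0) (.leaf 2)))) (.node (.node (.node (.leaf 0) (.leaf 1)) (.node (.leaf 1) (.leaf 1))) (.node (.node (.leaf 0) (.leaf 0)) (.node (.leaf 2)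 (.leaf 2)))))) (.node (.node (.node (.node (.node (.node (.leaf 0) (.leaf 0)) (.leaf 2)) (.node (.leaf 0) (.leaf 0))) (.node (.node (.leaf 0) (.leaf 0)) (.node (.leaf 0) (.leaf 0)))) (.node (.node (.node (.leaf 1) (.leaf 0)) (.node (.leaf 0) (.leaf 2))) (.node (.node (.leaf 1) (.leaf 0)) (.node (.leaf 0) (.leaf 2))))) (.node (.node (.node (.node (.node (.leaf 0) (.leaf 2)) (.leaf 0)) (.node (.leaf 0) (.leaf 1))) (.node (.node (.leaf 0) (.leaf 2)) (.node (.leaf 0) (.leaf 2)))) (.node (.node (.node (.leaf 0) (.leaf 0)) (.node (.leaf 0) (.leaf 2))) (.node (.node (.leaf 0) (.leaf 0)) (.node (.leaf 2) (.leaf 1)))))))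

def bigVala61 : Janko.Tree (ℕ) :=
  (.node (.node (.node (.node (.node (.node (.node (.leaf 0) (.leaf 2)) (.leaf 2)) (.node (.leaf 2) (.leaf 2))) (.node (.node (.leaf 0) (.leaf 2)) (.node (.leaf 1) (.leaf 0)))) (.node (.node (.node (.leaf 1) (.leaf 0)) (.node (.leaf 1) (.leaf 0))) (.node (.node (.leaf 0) (.leaf 2)) (.node (.leaf 0) (.leaf 0))))) (.node (.node (.node (.node (.node (.leaf 0) (.leaf 2)) (.leaf 2)) (.node (.leaf 0) (.leaf 0))) (.node (.node (.leaf 1) (.leaf 1)) (.node (.leaf 0) (.leaf 0)))) (.node (.node (.node (.leaf 1) (.leaf 2)) (.node (.leaf 2) (.leaf 1))) (.node (.node (.leaf 1) (.leaf 1)) (.node (.leaf 1) (.leaf 0)))))) (.node (.node (.node (.node (.node (.node (.leaf 0) (.leaf 2)) (.leaf 0)) (.node (.leaf 0) (.leaf 0))) (.node (.node (.leaf 0) (.leaf 1)) (.node (.leaf 0) (.leaf 0)))) (.node (.node (.node (.leaf 0) (.leaf 2)) (.node (.leaf 0) (.leaf 1))) (.node (.node (.leaf 0) (.leaf 0)) (.node (.leaf 1) (.leaf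 0))))) (.node (.node (.node (.node (.node (.leaf 0) (.leaf 1)) (.leaf 0)) (.node (.leaf 2) (.leaf 0))) (.node (.node (.leaf 0) (.leaf 0)) (.node (.leaf 0) (.leaf 0)))) (.node (.node (.node (.leaf 1) (.leaf 0)) (.node (.leaf 0) (.leaf 2))) (.node (.node (.leaf 2) (.leaf 1)) (.node (.leaf 1) (.leaf 1)))))))

def bigVala62 : Janko.Tree (ℕ) :=
  (.node (.node (.node (.node (.node (.node (.node (.leaf 0) (.leaf 1)) (.leaf 1)) (.node (.leaf 0) (.leaf 2))) (.node (.node (.leaf 0) (.leaf 0)) (.node (.leaf 1) (.leaf 1)))) (.node (.node (.node (.leaf 0) (.leaf 2)) (.node (.leaf 1) (.leaf 1))) (.node (.node (.leaf 0) (.leaf 0)) (.node (.leaf 0) (.leaf 1))))) (.node (.node (.node (.node (.node (.leaf 0) (.leaf 0)) (.leaf 1)) (.node (.leaf 0) (.leaf 2))) (.node (.node (.leaf 1) (.leaf 1)) (.node (.leaf 2) (.leaf 0)))) (.node (.node (.node (.leaf 2) (.leaf 1)) (.node (.leaf 0) (.leaf 0))) (.node (.node (.leaf 0) (.leaf 0)) (.node (.leaf 0)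 (.leaf 1)))))) (.node (.node (.node (.node (.node (.node (.leaf 0) (.leaf 2)) (.leaf 1)) (.node (.leaf 2) (.leaf 0))) (.node (.node (.leaf 2) (.leaf 0)) (.node (.leaf 0) (.leaf 0)))) (.node (.node (.node (.leaf 0) (.leaf 0)) (.node (.leaf 0) (.leaf 2))) (.node (.node (.leaf 0) (.leaf 2)) (.node (.leaf 0) (.leaf 0))))) (.node (.node (.node (.node (.node (.leaf 0) (.leaf 0)) (.leaf 0)) (.node (.leaf 1) (.leaf 0))) (.node (.node (.leaf 0) (.leaf 0)) (.node (.leaf 0) (.leaf 0)))) (.node (.node (.node (.leaf 0) (.leaf 1)) (.node (.leaf 1) (.leaf 2))) (.node (.node (.leaf 2) (.leaf 2)) (.node (.leaf 1) (.leaf 0)))))))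

def bigVala63 : Janko.Tree (ℕ) :=
  (.node (.node (.node (.node (.node (.node (.node (.leaf 0) (.leaf 0)) (.leaf 0)) (.node (.leaf 0) (.leaf 2))) (.node (.node (.leaf 0) (.leaf 1)) (.node (.leaf 2) (.leaf 2)))) (.node (.node (.node (.leaf 0) (.leaf 2)) (.node (.leaf 0) (.leaf 2))) (.node (.node (.leaf 0) (.leaf 0)) (.node (.leaf 0) (.leaf 2))))) (.node (.node (.node (.node (.node (.leaf 1) (.leaf 1)) (.leaf 0)) (.node (.leaf 0) (.leaf 2))) (.node (.node (.leaf 0) (.leaf 0)) (.node (.leaf 2) (.leaf 1)))) (.node (.node (.node (.leaf 0) (.leaf 0)) (.node (.leaf 1) (.leaf 1))) (.node (.node (.leaf 2) (.leaf 2)) (.node (.leaf 0) (.leaf 0)))))) (.node (.node (.node (.node (.node (.node (.leaf 0) (.leaf 0)) (.leaf 1)) (.node (.leaf 0) (.leaf 1))) (.node (.node (.leaf 2) (.leaf 2)) (.node (.leaf 2) (.leaf 0)))) (.node (.node (.node (.leaf 0) (.leaf 1)) (.node (.leaf 1) (.leaf 1))) (.node (.node (.leaf 0) (.leaf 2)) (.node (.leaf 2) (.leaf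 0))))) (.node (.node (.node (.node (.node (.leaf 0) (.leaf 0)) (.leaf 2)) (.node (.leaf 2) (.leaf 1))) (.node (.node (.leaf 0) (.leaf 0)) (.node (.leaf 2) (.leaf 0)))) (.node (.node (.node (.leaf 0) (.leaf 1)) (.node (.leaf 2) (.leaf 1))) (.node (.node (.leaf 1) (.leaf 0)) (.node (.leaf 1) (.leaf 0)))))))

def bigVala : Janko.Tree (ℕ) := (.node (.node (.node (.node (.node (.node bigVala0 bigVala32) (.node bigVala16 bigVala48)) (.node (.node bigVala8 bigVala40) (.node bigVala24 bigVala56))) (.node (.node (.node bigVala4 bigVala36) (.node bigVala20 bigVala52)) (.node (.node bigVala12 bigVala44) (.node bigVala28 bigVala60)))) (.node (.node (.node (.node bigVala2 bigVala34) (.node bigVala18 bigVala50)) (.node (.node bigVala10 bigVala42) (.node bigVala26 bigVala58))) (.node (.node (.node bigVala6 bigVala38) (.node bigVala22 bigVala54)) (.node (.node bigVala14 bigVala46) (.node bigVala30 bigVala62))))) (.node (.node (.node (.node (.node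 bigVala1 bigVala33) (.node bigVala17 bigVala49)) (.node (.node bigVala9 bigVala41) (.node bigVala25 bigVala57))) (.node (.node (.node bigVala5 bigVala37) (.node bigVala21 bigVala53)) (.node (.node bigVala13 bigVala45) (.node bigVala29 bigVala61)))) (.node (.node (.node (.node bigVala3 bigVala35) (.node bigVala19 bigVala51)) (.node (.node bigVala11 bigVala43) (.node bigVala27 bigVala59))) (.node (.node (.node bigVala7 bigVala39) (.node bigVala23 bigVala55)) (.node (.node bigVala15 bigVala47) (.node bigVala31 bigVala63))))))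

theorem big_lefta0 : ((List.range 64).all fun i => CoverCocycle.leftOK bigCert bigVala.get 3 (Nat.add 0 i)) = true := by decide +kernel

theorem big_lefta1 : ((List.range 64).all fun i => CoverCocycle.leftOK bigCert bigVala.get 3 (Nat.add 64 i)) = true := by decide +kernel

theorem big_lefta2 : ((List.range 64).all fun i => CoverCocycle.leftOK bigCert bigVala.get 3 (Nat.add 128 i)) = true := by decide +kernel

theorem big_lefta3 : ((List.range 64).all fun i => CoverCocycle.leftOK bigCert bigVala.get 3 (Nat.add 192 i)) = true := by decide +kernel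

theorem big_lefta4 : ((List.range 64).all fun i => CoverCocycle.leftOK bigCert bigVala.get 3 (Nat.add 256 i)) = true := by decide +kernel

theorem big_lefta5 : ((List.range 64).all fun i => CoverCocycle.leftOK bigCert bigVala.get 3 (Nat.add 320 i)) = true := by decide +kernel

theorem big_lefta6 : ((List.range 64).all fun i => CoverCocycle.leftOK bigCert bigVala.get 3 (Nat.add 384 i)) = true := by decide +kernel

theorem big_lefta7 : ((List.range 64).all fun i => CoverCocycle.leftOK bigCert bigVala.get 3 (Nat.add 448 i)) = true := by decide +kernel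

theorem big_lefta8 : ((List.range 64).all fun i => CoverCocycle.leftOK bigCert bigVala.get 3 (Nat.add 512 i)) = true := by decide +kernel

theorem big_lefta9 : ((List.range 64).all fun i => CoverCocycle.leftOK bigCert bigVala.get 3 (Nat.add 576 i)) = true := by decide +kernel

theorem big_lefta10 : ((List.range 64).all fun i => CoverCocycle.leftOK bigCert bigVala.get 3 (Nat.add 640 i)) = true := by decide +kernel

theorem big_lefta11 : ((List.range 64).all fun i => CoverCocycle.leftOK bigCert bigVala.get 3 (Nat.add 704 i)) = true := by decide +kernel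

theorem big_lefta12 : ((List.range 64).all fun i => CoverCocycle.leftOK bigCert bigVala.get 3 (Nat.add 768 i)) = true := by decide +kernel

theorem big_lefta13 : ((List.range 64).all fun i => CoverCocycle.leftOK bigCert bigVala.get 3 (Nat.add 832 i)) = true := by decide +kernel

theorem big_lefta14 : ((List.range 64).all fun i => CoverCocycle.leftOK bigCert bigVala.get 3 (Nat.add 896 i)) = true := by decide +kernel

theorem big_lefta15 : ((List.range 64).all fun i => CoverCocycle.leftOK bigCert bigVala.get 3 (Nat.add 960 i)) = true := by decide +kernel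

theorem big_lefta16 : ((List.range 64).all fun i => CoverCocycle.leftOK bigCert bigVala.get 3 (Nat.add 1024 i)) = true := by decide +kernel

theorem big_lefta17 : ((List.range 64).all fun i => CoverCocycle.leftOK bigCert bigVala.get 3 (Nat.add 1088 i)) = true := by decide +kernel

theorem big_lefta18 : ((List.range 64).all fun i => CoverCocycle.leftOK bigCert bigVala.get 3 (Nat.add 1152 i)) = true := by decide +kernel

theorem big_lefta19 : ((List.range 64).all fun i => CoverCocycle.leftOK bigCert bigVala.get 3 (Nat.add 1216 i)) = true := by decide +kernel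

theorem big_lefta20 : ((List.range 64).all fun i => CoverCocycle.leftOK bigCert bigVala.get 3 (Nat.add 1280 i)) = true := by decide +kernel

theorem big_lefta21 : ((List.range 64).all fun i => CoverCocycle.leftOK bigCert bigVala.get 3 (Nat.add 1344 i)) = true := by decide +kernel

theorem big_lefta22 : ((List.range 50).all fun i => CoverCocycle.leftOK bigCert bigVala.get 3 (Nat.add 1408 i)) = true := by decide +kernel

theorem big_lefta : ∀ i < 1458, CoverCocycle.leftOK bigCert bigVala.get 3 i = true := by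
  intro i hi
  by_cases h0 : i < 64
  · have := List.all_eq_true.1 big_lefta0 (i - 0) (List.mem_range.2 (by omega)); rwa [show Nat.add 0 (i - 0) = i from Nat.add_sub_cancel' (by omega)] at this
  by_cases h1 : i < 128
  · have := List.all_eq_true.1 big_lefta1 (i - 64) (List.mem_range.2 (by omega)); rwa [show Nat.add 64 (i - 64) = i from Nat.add_sub_cancel' (by omega)] at this
  by_cases h2 : i < 192
  · have := List.all_eq_true.1 big_lefta2 (i - 128) (List.mem_range.2 (by omega)); rwa [show Nat.add 128 (i - 128) = i from Nat.add_sub_cancel' (by omega)] at this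
  by_cases h3 : i < 256
  · have := List.all_eq_true.1 big_lefta3 (i - 192) (List.mem_range.2 (by omega)); rwa [show Nat.add 192 (i - 192) = i from Nat.add_sub_cancel' (by omega)] at this
  by_cases h4 : i < 320
  · have := List.all_eq_true.1 big_lefta4 (i - 256) (List.mem_range.2 (by omega)); rwa [show Nat.add 256 (i - 256) = i from Nat.add_sub_cancel' (by omega)] at this
  by_cases h5 : i < 384
  · have := List.all_eq_true.1 big_lefta5 (i - 320) (List.mem_range.2 (by omega)); rwa [show Nat.add 320 (i - 320) = i from Nat.add_sub_cancel' (by omega)] at this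
  by_cases h6 : i < 448
  · have := List.all_eq_true.1 big_lefta6 (i - 384) (List.mem_range.2 (by omega)); rwa [show Nat.add 384 (i - 384) = i from Nat.add_sub_cancel' (by omega)] at this
  by_cases h7 : i < 512
  · have := List.all_eq_true.1 big_lefta7 (i - 448) (List.mem_range.2 (by omega)); rwa [show Nat.add 448 (i - 448) = i from Nat.add_sub_cancel' (by omega)] at this
  by_cases h8 : i < 576
  · have := List.all_eq_true.1 big_lefta8 (i - 512) (List.mem_range.2 (by omega)); rwa [show Nat.add 512 (i - 512) = i from Nat.add_sub_cancel' (by omega)] at this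
  by_cases h9 : i < 640
  · have := List.all_eq_true.1 big_lefta9 (i - 576) (List.mem_range.2 (by omega)); rwa [show Nat.add 576 (i - 576) = i from Nat.add_sub_cancel' (by omega)] at this
  by_cases h10 : i < 704
  · have := List.all_eq_true.1 big_lefta10 (i - 640) (List.mem_range.2 (by omega)); rwa [show Nat.add 640 (i - 640) = i from Nat.add_sub_cancel' (by omega)] at this
  by_cases h11 : i < 768
  · have := List.all_eq_true.1 big_lefta11 (i - 704) (List.mem_range.2 (by omega)); rwa [show Nat.add 704 (i - 704) = i from Nat.add_sub_cancel' (by omega)] at this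
  by_cases h12 : i < 832
  · have := List.all_eq_true.1 big_lefta12 (i - 768) (List.mem_range.2 (by omega)); rwa [show Nat.add 768 (i - 768) = i from Nat.add_sub_cancel' (by omega)] at this
  by_cases h13 : i < 896
  · have := List.all_eq_true.1 big_lefta13 (i - 832) (List.mem_range.2 (by omega)); rwa [show Nat.add 832 (i - 832) = i from Nat.add_sub_cancel' (by omega)] at this
  by_cases h14 : i < 960
  · have := List.all_eq_true.1 big_lefta14 (i - 896) (List.mem_range.2 (by omega)); rwa [show Nat.add 896 (i - 896) = i from Nat.add_sub_cancel' (by omega)] at this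
  by_cases h15 : i < 1024
  · have := List.all_eq_true.1 big_lefta15 (i - 960) (List.mem_range.2 (by omega)); rwa [show Nat.add 960 (i - 960) = i from Nat.add_sub_cancel' (by omega)] at this
  by_cases h16 : i < 1088
  · have := List.all_eq_true.1 big_lefta16 (i - 1024) (List.mem_range.2 (by omega)); rwa [show Nat.add 1024 (i - 1024) = i from Nat.add_sub_cancel' (by omega)] at this
  by_cases h17 : i < 1152
  · have := List.all_eq_true.1 big_lefta17 (i - 1088) (List.mem_range.2 (by omega)); rwa [show Nat.add 1088 (i - 1088) = i from Nat.add_sub_cancel' (by omega)] at this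
  by_cases h18 : i < 1216
  · have := List.all_eq_true.1 big_lefta18 (i - 1152) (List.mem_range.2 (by omega)); rwa [show Nat.add 1152 (i - 1152) = i from Nat.add_sub_cancel' (by omega)] at this
  by_cases h19 : i < 1280
  · have := List.all_eq_true.1 big_lefta19 (i - 1216) (List.mem_range.2 (by omega)); rwa [show Nat.add 1216 (i - 1216) = i from Nat.add_sub_cancel' (by omega)] at this
  by_cases h20 : i < 1344
  · have := List.all_eq_true.1 big_lefta20 (i - 1280) (List.mem_range.2 (by omega)); rwa [show Nat.add 1280 (i - 1280) = i from Nat.add_sub_cancel' (by omega)] at this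
  by_cases h21 : i < 1408
  · have := List.all_eq_true.1 big_lefta21 (i - 1344) (List.mem_range.2 (by omega)); rwa [show Nat.add 1344 (i - 1344) = i from Nat.add_sub_cancel' (by omega)] at this
  have := List.all_eq_true.1 big_lefta22 (i - 1408) (List.mem_range.2 (by omega)); rwa [show Nat.add 1408 (i - 1408) = i from Nat.add_sub_cancel' (by omega)] at this


theorem big_wda0 : ((List.range 512).all fun i => CoverCocycle.treeOK bigCert bigVala.get 3 (Nat.add 0 i)) = true := by decide +kernel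

theorem big_wda1 : ((List.range 512).all fun i => CoverCocycle.treeOK bigCert bigVala.get 3 (Nat.add 512 i)) = true := by decide +kernel

theorem big_wda2 : ((List.range 434).all fun i => CoverCocycle.treeOK bigCert bigVala.get 3 (Nat.add 1024 i)) = true := by decide +kernel

theorem big_wda : ∀ i < 1458, CoverCocycle.treeOK bigCert bigVala.get 3 i = true := by
  intro i hi
  by_cases h0 : i < 512
  · have := List.all_eq_true.1 big_wda0 (i - 0) (List.mem_range.2 (by omega)); rwa [show Nat.add 0 (i - 0) = i from Nat.add_sub_cancel' (by omega)] at this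
  by_cases h1 : i < 1024
  · have := List.all_eq_true.1 big_wda1 (i - 512) (List.mem_range.2 (by omega)); rwa [show Nat.add 512 (i - 512) = i from Nat.add_sub_cancel' (by omega)] at this
  have := List.all_eq_true.1 big_wda2 (i - 1024) (List.mem_range.2 (by omega)); rwa [show Nat.add 1024 (i - 1024) = i from Nat.add_sub_cancel' (by omega)] at this



end Cfsg.Agent.Lie.GTwoThreeMult
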