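import Cfsg.Agent.Lib.Lie.CoverEval
import Cfsg.Agent.Lib.Lie.GTwoThreeMult.BigCover

/-!
Values of the cocycles at 3 of the covering of the group of type G2 over three elements (generated).
-/

set_option autoImplicit false
set_option maxRecDepth 100000
set_option maxHeartbeats 0
set_option Elab.async false

namespace Cfsg.Agent.Lie.GTwoThreeMult

open Cfsg.Agent.Lie PermCover

theorem big_value0aP_part0 : CoverEval.evalPart bigCert bigVala.get 0 416 (fun j => bigMvq.get j % 4096) (fun j => bigMvp.get j / 4096) (fun j => bigMvp.get j % 4096) = 1905 := by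
  decide +kernel

theorem big_value0aP_part1 : CoverEval.evalPart bigCert bigVala.get 416 416 (fun j => bigMvq.get j % 4096) (fun j => bigMvp.get j / 4096) (fun j => bigMvp.get j % 4096) = 1753 := by
  decide +kernel

theorem big_value0aP_part2 : CoverEval.evalPart bigCert bigVala.get 832 416 (fun j => bigMvq.get j % 4096) (fun j => bigMvp.get j / 4096) (fun j => bigMvp.get j % 4096) = 1785 := by
  decide +kernel

theorem big_value0aP_part3 : CoverEval.evalPart bigCert bigVala.get 1248 416 (fun j => bigMvq.get j % 4096) (fun j => bigMvp.get j / 4096) (fun j => bigMvp.get j % 4096) = 1873 := by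
  decide +kernel

theorem big_value0aP_part4 : CoverEval.evalPart bigCert bigVala.get 1664 416 (fun j => bigMvq.get j % 4096) (fun j => bigMvp.get j / 4096) (fun j => bigMvp.get j % 4096) = 1818 := by
  decide +kernel

theorem big_value0aP_part5 : CoverEval.evalPart bigCert bigVala.get 2080 416 (fun j => bigMvq.get j % 4096) (fun j => bigMvp.get j / 4096) (fun j => bigMvp.get j % 4096) = 1702 := by
  decide +kernel

theorem big_value0aP_part6 : CoverEval.evalPart bigCert bigVala.get 2496 416 (fun j => bigMvq.get j % 4096) (fun j => bigMvp.get j / 4096) (fun j => bigMvp.get j % 4096) = 1753 := by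
  decide +kernel

theorem big_value0aP : CoverTable.evalSum bigCert bigVala.get 2912 (fun j => bigMvq.get j % 4096) (fun j => bigMvp.get j / 4096) (fun j => bigMvp.get j % 4096) = 12589 := by
  refine ((CoverEval.evalSum_add bigCert bigVala.get (a := 2496) (b := 416) (N := 2912) (by norm_num) (fun j => bigMvq.get j % 4096) (fun j => bigMvp.get j / 4096) (fun j => bigMvp.get j % 4096) (CoverEval.evalSum_add bigCert bigVala.get (a := 2080) (b := 416) (N := 2496) (by norm_num) (fun j => bigMvq.get j % 4096) (fun j => bigMvp.get j / 4096) (fun j => bigMvp.get j % 4096) (CoverEval.evalSum_add bigCert bigVala.get (a := 1664) (b := 416) (N := 2080) (by norm_num) (fun j => bigMvq.get j % 4096) (fun j => bigMvp.get j / 4096) (fun j => bigMvp.get j % 4096) (CoverEval.evalSum_add bigCert bigVala.get (a := 1248) (b := 416) (N := 1664) (by norm_num) (fun j => bigMvq.get j % 4096) (fun j => bigMvp.get j / 4096) (fun j => bigMvp.get j % 4096) (CoverEval.evalSum_add bigCert bigVala.get (a := 832) (b := 416) (N := 1248) (by norm_num) (fun j => bigMvq.get j % 4096) (fun j => bigMvp.get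 j / 4096) (fun j => bigMvp.get j % 4096) (CoverEval.evalSum_add bigCert bigVala.get (a := 416) (b := 416) (N := 832) (by norm_num) (fun j => bigMvq.get j % 4096) (fun j => bigMvp.get j / 4096) (fun j => bigMvp.get j % 4096) (CoverEval.evalSum_add bigCert bigVala.get (a := 0) (b := 416) (N := 416) (by norm_num) (fun j => bigMvq.get j % 4096) (fun j => bigMvp.get j / 4096) (fun j => bigMvp.get j % 4096) (CoverEval.evalSum_zero bigCert bigVala.get (fun j => bigMvq.get j % 4096) (fun j => bigMvp.get j / 4096) (fun j => bigMvp.get j % 4096)) big_value0aP_part0) big_value0aP_part1) big_value0aP_part2) big_value0aP_part3) big_value0aP_part4) big_value0aP_part5) big_value0aP_part6)).trans ?_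
  norm_num

theorem big_value0aQ_part0 : CoverEval.evalPart bigCert bigVala.get 0 416 (fun j => bigMvp.get j % 4096) (fun j => bigMvq.get j / 4096) (fun j => bigMvq.get j % 4096) = 1855 := by
  decide +kernel

theorem big_value0aQ_part1 : CoverEval.evalPart bigCert bigVala.get 416 416 (fun j => bigMvp.get j % 4096) (fun j => bigMvq.get j / 4096) (fun j => bigMvq.get j % 4096) = 1801 := by
  decide +kernel

theorem big_value0aQ_part2 : CoverEval.evalPart bigCert bigVala.get 832 416 (fun j => bigMvp.get j % 4096) (fun j => bigMvq.get j / 4096) (fun j => bigMvq.get j % 4096) = 1703 := by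
  decide +kernel

theorem big_value0aQ_part3 : CoverEval.evalPart bigCert bigVala.get 1248 416 (fun j => bigMvp.get j % 4096) (fun j => bigMvq.get j / 4096) (fun j => bigMvq.get j % 4096) = 1859 := by
  decide +kernel

theorem big_value0aQ_part4 : CoverEval.evalPart bigCert bigVala.get 1664 416 (fun j => bigMvp.get j % 4096) (fun j => bigMvq.get j / 4096) (fun j => bigMvq.get j % 4096) = 1741 := by
  decide +kernel

theorem big_value0aQ_part5 : CoverEval.evalPart bigCert bigVala.get 2080 416 (fun j => bigMvp.get j % 4096) (fun j => bigMvq.get j / 4096) (fun j => bigMvq.get j % 4096) = 1713 := by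
  decide +kernel

theorem big_value0aQ_part6 : CoverEval.evalPart bigCert bigVala.get 2496 416 (fun j => bigMvp.get j % 4096) (fun j => bigMvq.get j / 4096) (fun j => bigMvq.get j % 4096) = 1747 := by
  decide +kernel

theorem big_value0aQ : CoverTable.evalSum bigCert bigVala.get 2912 (fun j => bigMvp.get j % 4096) (fun j => bigMvq.get j / 4096) (fun j => bigMvq.get j % 4096) = 12419 := by
  refine ((CoverEval.evalSum_add bigCert bigVala.get (a := 2496) (b := 416) (N := 2912) (by norm_num) (fun j => bigMvp.get j % 4096) (fun j => bigMvq.get j / 4096) (fun j => bigMvq.get j % 4096) (CoverEval.evalSum_add bigCert bigVala.get (a := 2080) (b := 416) (N := 2496) (by norm_num) (fun j => bigMvp.get j % 4096) (fun j => bigMvq.get j / 4096) (fun j => bigMvq.get j % 4096) (CoverEval.evalSum_add bigCert bigVala.get (a := 1664) (b := 416) (N := 2080) (by norm_num) (fun j => bigMvp.get j % 4096) (fun j => bigMvq.get j / 4096) (fun j => bigMvq.get j % 4096) (CoverEval.evalSum_add bigCert bigVala.get (a := 1248) (b := 416) (N := 1664) (by norm_num) (fun j => bigMvp.get j % 4096) (fun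 j => bigMvq.get j / 4096) (fun j => bigMvq.get j % 4096) (CoverEval.evalSum_add bigCert bigVala.get (a := 832) (b := 416) (N := 1248) (by norm_num) (fun j => bigMvp.get j % 4096) (fun j => bigMvq.get j / 4096) (fun j => bigMvq.get j % 4096) (CoverEval.evalSum_add bigCert bigVala.get (a := 416) (b := 416) (N := 832) (by norm_num) (fun j => bigMvp.get j % 4096) (fun j => bigMvq.get j / 4096) (fun j => bigMvq.get j % 4096) (CoverEval.evalSum_add bigCert bigVala.get (a := 0) (b := 416) (N := 416) (by norm_num) (fun j => bigMvp.get j % 4096) (fun j => bigMvq.get j / 4096) (fun j => bigMvq.get j % 4096) (CoverEval.evalSum_zero bigCert bigVala.get (fun j => bigMvp.get j % 4096) (fun j => bigMvq.get j / 4096) (fun j => bigMvq.get j % 4096)) big_value0aQ_part0) big_value0aQ_part1) big_value0aQ_part2) big_value0aQ_part3) big_value0aQ_part4) big_value0aQ_part5) big_value0aQ_part6)).trans ?_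
  norm_num

theorem big_value0a : ((CoverTable.evalSum bigCert bigVala.get 2912 (fun j => bigMvq.get j % 4096) (fun j => bigMvp.get j / 4096) (fun j => bigMvp.get j % 4096) : ℕ) : ZMod 3) - ((CoverTable.evalSum bigCert bigVala.get 2912 (fun j => bigMvp.get j % 4096) (fun j => bigMvq.get j / 4096) (fun j => bigMvq.get j % 4096) : ℕ) : ZMod 3) = 2 := by
  rw [big_value0aP, big_value0aQ]
  decide +kernel

end Cfsg.Agent.Lie.GTwoThreeMult
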