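import Cfsg.Agent.Lib.Lie.PermCover
import Cfsg.Agent.Lib.Lie.GTwoThreeMult.Gens

/-!
A central table on a Sylow 3-subgroup of the group of type G2 over three elements (generated).
-/

set_option autoImplicit false
set_option maxRecDepth 100000
set_option maxHeartbeats 0
set_option Elab.async false

namespace Cfsg.Agent.Lie.GTwoThreeMult

open Cfsg.Agent.Lie PermCover

/-- generators of the subgroup -/
def threeGens : List Elem := [(0x25c0642c00ba367efe1f08d06c7768b2711295976c8d9361b9ab6b4d83128954d0265f1127c266854adb88eae79f0b916bf0ed1480f86488108d131d460c468e1ddbd62413204d4e1bbbc0c964e521ea350d2317d268d162b06565552731e3915476ab63241ad0c7880820146c3ce1c8650af2515ea18a4c0439d5563ebb42a81c2fc8ba3d54c57440d9b5f94d10624e341a49832070001a130880e6367a65a2654d1d15ce2e96741144bd43b7e2afa6223952452f8a0f681024cc72d41b4b5b514a39d9d647a909d70ad2cd71fec25186e7a64800c1992339d02301e60a90a1657b01cf47f29bbad4ae10aea54426ec1cc336690b63ab956090b8f7b0a9430c37355c943f9238e1750369aa930f40028f2489bb4258787ca7524251c42ad2b702ac6c7101a29d10192d505c92233395973c24aa11416ad4647a9e4888aa70815b728c5b7a1ae5d3537bc16c0b57ad410b028d29b6d3a7949fa74928be055953224384189d813e930fbb0c51bae8f22cfb939c0ace0a125c2a7d59ac802124c1f088cf9dd58550575480bd6619c35e53033935af4b4c83cfcb4,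 0xaa274dade70031495934cc1162e784104eb6a395c691d43049fd1a28aee6c801dcb1b8df020f8fb265f9367cee8187cc4aab2d0d625c09bfe335d3ba50914963375c208a69258475ada65df0511c806e8356182d20e7ec6123331447caca97b895a2c017d7298683e4241510409ba94504b4d420d6790d6d4af5ad9072f812340e73c4628e4a4b850261e469527abe2a5e83db0f3a221cbc6141519f220694c52e4e1eb06b10b02c46aac41e24e70760a35de2ad2ec6e772eb044de8cf442d14f68a0485a9067e26920b93611484000d868d44021a71708f8a3d59a5a330cd14a659b560efa16950e527a9d3c06170f4a2a151161c4a7127b33acd22a0964646569c21f739b0cbd907b50004381664a84f274992fa8a3855c5db22223d58ff57251f9d4eb0397e38b09b8a52b0165836b48d2618d6f1e6d0862d484f8e87ea5a5bb00ce9b5a14b6785e4d1981580260613d4258caa268ab6d8a6f95b0e486705ba1daae1b509255e2784604ca5d4b4e08eb1149373a15aa27e315948cc889b39603b0c72061c70d0139dcb52221ea9c41514a4d6c77143832e6, [3, 3, 1, 3, 0, 1, 0, 1, 3]),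
  (0x77b14ecd5212382b599e1a1febe3d338594a11575c2364107ad13f762d8bd5f13d20d8ba7d32cfa2f9ed601cf638b1c78db488e5bc85a059c2eea312bc8e9681a6e0e45811252f1a2628ca6a28927a2c518e47c092301c8417208dacd1216b5985be37a23acd6cfb0531fc304089977533834c753877309180d540054c0c572a554ad0344e5c449912e30468bccca50893c1256509313a001c452cac8dd2fd1c6ae89d905e81346b06aada3bbee9e2b5e88cfe69ae32a689527a649b302a4bd340a85c3e210a02c38050c5292a48489627650a121b4848f7339fa97615c8b50d43302c469690eb9dc41479b5925373c32481511db1aa8d77903d20729ca10c7451c2dec6e3730617f5b173e44ad035540f32d832813f3582c05493100164b0560416cae5d03a7253148ca624b2a8aa52c4fc3d9bc541f66535801b328c56adca120ed4e947d49ea123a0f588d99b4e9a8c8ab24de0111f1cc343232519c0b0b2a1ddab8a7335fb5a3e1b8422868af292f8af2004029368fcea1061cf9b15745bc466660cad282e4b3221ca5c049563b1155ab2131e9129e1a5a, 0x8b93541559d03c66e142975510fa808eb4cb400b2c9460c0fdaa9184129287a688bcad0e54d704b4e6f0d911135213c233baa06a8f636d90917044c10ce8c9773cce0c4613d4f0b374980cab175b9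cc2b59000e3d1c9101013238dcb0c6f177c94be647b49c10bd5f2e802b85faf00aec989dce6ea99cbce4e5b0c345a5c6952cfc245651092d94da3c2c3db5c0c6353894e098dc4f20c1a1042276b2358acf5c050a035088194826ad041832b84e7c885785c57a53292c40a124ad4450dc09ac5540d819e2684d314e3043548a2128d38944349b3edf00603be5f4ff013f56e71954a160763ac996466993058c6296cd1905e1f2667e8d25d99af010bb8e320e19296788a2755e162266aaa922b2dd7cf29769da43a471d23287072d0a83f4d889ed996255850a63744cde2ca36fd44d00c35000dc6d349b014c394bb648e863b998b2b792da5cb49abc260f457d9db4950f0ec8d4149c167c878a561baa10a8e0a50ca41fd4d5d681644028a7c28faad6756c52212c5593ee42a0e426829cc62ca9c6c120781c4751600fc8eb00166b33bdd77218fae5fc6f, [0, 1, 1, 0, 0, 1, 0]),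
  (0x97a259b5984b14426126c057b693511036916c47026782ec9cf6e3af4695f1459584b8153b4a8fcdd26080c53241b4218c8a9a2db71f6058e081a3590c8a1936239ab22b341d752440b816b5b8b9dcb6146155a1e632707e6a86650a8582e79bc1eca252a7e7f45a151a81430502006a7552b46e331abadd0e5a55429af4773c4683919399d2ec180a4573d9d4dc020c04a652c9c4ba6928f97e3fc0e0205bf9f6f8188d870a14f292773e9c29958a9a7522962d178a1bd283f96422755bd7626672485a06b9b5a3db31d60d621cd196a1ca4252f180a626aac2d8ece99a12b5195a3924a7c3a168248c6b48c2e69252fed100b2c19789269c8096183432e608a1397ca9116254820732c459636070cacf2906bc7a04b8b21b88e1c5b58a3057071c1c52c40194a02242b3e630a61d458d5486890cc4f4434a681e3791926da90aeecf056e498f55c892c0e2560683ce4556fca4fb1559d7d04cc9755e20c92888cc96a842f8901d36a35a91b51d3ddae74ed2698ea500147e401e00074411f01272f255aba78f577aa26cfd4dd1e82f74aa6288fa210187a3b, 0x5d8c2c09526cbd26739d1ba9c7c1d54d844894296d0b61b489565c9fa08bcfe1333dfa2166bfc44ce0543a20058643c130d88b51e0116abbc2ad3770363a5553d10c289b58dd66683d5287cc8ab12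9432c4d4c09e8e9e1d9715a14549486d939f879506091d083590ad4b74155182ce2f9724899395e9d6c4947137818e36e811c8dc0445420fc8b851f51607bec4af481081eb01123da00a2aa1a4f72a1fb26904b9e941735b3ba6e6229479596942312a2d2384546c694054976cc832fc8d6f3b4b0bac291274b57874619be52a31dd3cfa46a884a0cd109c1da00e8434a26d613c51b01f8935c46e805b99d40673ba40ee528a42b8785d4c8549c9f222d45759470c6a6a18e6566763d247aa0aa924f3589352d889f401048a6a299c857339bd7d308b60164cc3190516c8ae432beaf4d92a798c7f36110808556ac466652c47ec74746a5d7e2d3894a6b5e9b00c301c0e85c021b00065f0d982b6a06f9823ddb6f365c61991978c69e4ca43ab1605a19192cb468f1505870aece2688c4cafa9924aca758a81211ac86ec6fc2dd70a708083c1684b81da1a, [2, 0, 0, 2, 1, 0, 2, 2, 1, 1])]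

def threeElt0 : Janko.Tree (ℕ) :=
  (.node (.node (.node (.node (.node (.node (.node (.leaf 721033475327525376) (.leaf 723893809358896143)) (.leaf 3647926159130934898)) (.node (.node (.leaf 3644132738922588367) (.leaf 728649007478092514)) (.leaf 721055411142470391))) (.node (.node (.node (.leaf 5103306685815583304) (.leaf 5104234267583877922)) (.leaf 721049257082156613)) (.node (.node (.leaf 732454112858490181) (.leaf 5108992528835827286)) (.leaf 729584622752056453)))) (.node (.node (.node (.node (.leaf 725805631910212762) (.leaf 5098548531761078376)) (.leaf 725793919378186466)) (.node (.node (.leaf 722935717561283373) (.leaf 5109006543469431607)) (.leaf 5100445407959700076))) (.node (.node (.node (.leaf 723896922715852634) (.leaf 3646980737695633539)) (.leaf 3642227740838884927)) (.node (.leaf 3639384833947413591) (.leaf 729594016784234288))))) (.node (.node (.node (.node (.node (.leaf 5106142626759690593) (.leaf 5103289646966764323)) (.leaf 5109944374048699981)) (.node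 (.node (.leaf 3644131187284828313) (.leaf 5108994815551120605)) (.leaf 3642230811011975710))) (.node (.node (.node (.leaf 3650783929357209189) (.leaf 5103292673045067007)) (.leaf 5100454053037386276)) (.node (.node (.leaf 3645077077800962254) (.leaf 726735033417471711)) (.leaf 5098533159154745876)))) (.node (.node (.node (.node (.leaf 729598949617911118) (.leaf 3646988023089435340)) (.leaf 3642217841641787132)) (.node (.node (.leaf 732455495795492144) (.leaf 5108985167304349396)) (.leaf 721043001617686721))) (.node (.node (.node (.leaf 732450416255926383) (.leaf 722937243122447122)) (.leaf 725796843065068267)) (.node (.leaf 5100436891747487304) (.leaf 5103297634114527586)))))) (.node (.node (.node (.node (.node (.node (.leaf 728644673383045722) (.leaf 5103297003643859716)) (.leaf 5106138209406294818)) (.node (.node (.leaf 728650909880238899) (.leaf 732451801517085785)) (.leaf 725799965485086344))) (.node (.node (.node (.leaf 5104238193586607904) (.leaf 731501891786724954))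 (.leaf 3649832097865824942)) (.node (.node (.leaf 722943142125669731) (.leaf 5101388657326822498)) (.leaf 3646981328345248487)))) (.node (.node (.node (.node (.leaf 3641283388672871567) (.leaf 729597116049100880)) (.leaf 5109943134913658900)) (.node (.node (.leaf 728634359358001809) (.leaf 5101404069753309454)) (.leaf 3647930519885986050))) (.node (.node (.node (.leaf 3645078283365699381) (.leaf 732439438411326214)) (.leaf 5106146960310444214)) (.node (.leaf 722950571839753355) (.leaf 5104255446464703149))))) (.node (.node (.node (.node (.node (.leaf 5109940188474304113) (.leaf 5104250083300977181)) (.leaf 5109948690453845304)) (.node (.node (.leaf 3645066559860035179) (.leaf 5101399098618415834)) (.leaf 3642220117885614835))) (.node (.node (.node (.leaf 723887025882008257) (.leaf 3650780225742104406)) (.leaf 3642231935153012054)) (.node (.node (.leaf 3639373047360217391) (.leaf 721047293176902697)) (.leaf 3641270346425422501)))) (.node (.node (.node (.node (.leaf 3650765878022390823)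 (.leaf 5103295562789861128)) (.leaf 721036863841067875)) (.node (.node (.leaf 722944636393739080) (.leaf 5107102263671099500)) (.leaf 723897639632961577))) (.node (.node (.node (.leaf 5108982389399910971) (.leaf 5107105593762885749)) (.leaf 5100444820912646712)) (.node (.leaf 3649827236855970546) (.leaf 731497288768547352)))))))

def threeElt1 : Janko.Tree (ℕ) :=
  (.node (.node (.node (.node (.node (.node (.node (.leaf 3646984288795898598) (.leaf 729605863979269664)) (.leaf 5100448524609033058)) (.node (.node (.leaf 722947730842911274) (.leaf 5107089641025174815)) (.leaf 5109952196328434774))) (.node (.node (.node (.leaf 3641280628174533236) (.leaf 723902002659641474)) (.leaf 3649835252954257169)) (.node (.node (.leaf 5101396644468493853) (.leaf 5108984206382090755)) (.leaf 5104252962963508916)))) (.node (.node (.node (.node (.leaf 5100452199660903109) (.leaf 3650784533025943229)) (.leaf 3647923128774004967)) (.node (.node (.leaf 5108998105850823434) (.leaf 3639389137349178598))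 (.leaf 3649830248201213574))) (.node (.node (.node (.leaf 3646981828150875330) (.leaf 3646975620510501167)) (.leaf 3649817056466534053)) (.node (.leaf 732443113126257196) (.leaf 5104249842874604637))))) (.node (.node (.node (.node (.node (.leaf 3647938514130939982) (.leaf 3641278817082978873)) (.leaf 3642240122547472950)) (.node (.node (.leaf 722954906423327328) (.leaf 3645088075396832291)) (.leaf 726743038689434668))) (.node (.node (.node (.leaf 5104243896110932030) (.leaf 729588520052699314)) (.leaf 5109934966712459997)) (.node (.node (.leaf 728636687407782758) (.leaf 5100441106431382262)) (.leaf 723897502730877994)))) (.node (.node (.node (.node (.leaf 5104247376553318124) (.leaf 3650785236245381372)) (.leaf 3649838996141473337)) (.node (.node (.leaf 5107097309866016408) (.leaf 3645070029967712570)) (.leaf 5109952831602050387))) (.node (.node (.node (.leaf 728638539167342809) (.leaf 3639371847866592038)) (.leaf 3642225133080070470)) (.node (.leaf 3649838883087668852) (.leaf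 5104254420552390246)))))) (.node (.node (.node (.node (.node (.node (.leaf 3644128715735940179) (.leaf 723900606526918355)) (.leaf 3647933263151905025)) (.node (.node (.leaf 3644135786212881085) (.leaf 3645084963360858322)) (.leaf 5100447279131513371))) (.node (.node (.node (.leaf 5104237570971703380) (.leaf 731507149589562007)) (.leaf 5106132444770500670)) (.node (.node (.leaf 732453489498764848) (.leaf 3644123250792745670)) (.leaf 5103291443271874122)))) (.node (.node (.node (.node (.leaf 731490458004510440) (.leaf 731492309640828463)) (.leaf 3642238101941963024)) (.node (.node (.leaf 5107088105037411849) (.leaf 5108996883154032466)) (.leaf 726757304229597728))) (.node (.node (.node (.leaf 728647159342514807) (.leaf 732442504367276195)) (.leaf 725800546802365591)) (.node (.leaf 3639367150730215957) (.leaf 3650788954270876998))))) (.node (.node (.node (.node (.node (.leaf 3642222883643593827) (.leaf 5103298037904423963)) (.leaf 3642240745897096743)) (.node (.node (.leaf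 728634637924254395) (.leaf 728633335855985176)) (.leaf 5109933510337113327))) (.node (.node (.node (.leaf 729592145160617716) (.leaf 3650771550321912985)) (.leaf 5109955314882735802)) (.node (.leaf 5107104951170843713) (.leaf 5103303581230844779)))) (.node (.node (.node (.node (.leaf 723887603824359150) (.leaf 5103285194625760403)) (.leaf 3642219515128712902)) (.node (.node (.leaf 5108997883655509699) (.leaf 728645887474125113)) (.leaf 729587273728130373))) (.node (.node (.node (.leaf 3644129344958922961) (.leaf 5101382123683845131)) (.leaf 3649820956823430152)) (.node (.leaf 5109954912535063693) (.leaf 3641267720911704849)))))))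

def threeElt2 : Janko.Tree (ℕ) :=
  (.node (.node (.node (.node (.node (.node (.node (.leaf 729595877911821423) (.leaf 3646984933196582999)) (.leaf 3649832730610815047)) (.node (.node (.leaf 5109000998129860435) (.leaf 722935103176170249)) (.leaf 5106147960882233508))) (.node (.node (.node (.leaf 5098535105941272349) (.leaf 3646990629060821707)) (.leaf 3642221605188434621)) (.node (.node (.leaf 728653407983817924) (.leaf 5107093834184888467)) (.leaf 3641270971004096071)))) (.node (.node (.node (.node (.leaf 3649830849786193214) (.leaf 5104232421885239861)) (.leaf 726742424830220101)) (.node (.node (.leaf 722954538419661631) (.leaf 3645081985859851802)) (.leaf 5109937416341458627))) (.node (.node (.node (.leaf 729600818805225686) (.leaf 3646978228163092558)) (.leaf 5109938074997839132)) (.node (.leaf 3645072182756400293) (.leaf 3641268338136623925))))) (.node (.node (.node (.node (.node (.leaf 5100452833463808835) (.leaf 731492965482059460)) (.leaf 5106147569073926926)) (.node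 (.node (.leaf 3639371206418850122) (.leaf 5107085278707298442)) (.leaf 3647920820137410179))) (.node (.node (.node (.leaf 723889009104418488) (.leaf 729594647361204567)) (.leaf 726745524546869462)) (.node (.node (.leaf 3644125901903740210) (.leaf 726737123311378949)) (.leaf 729591014870662879)))) (.node (.node (.node (.node (.leaf 5103284368720443167) (.leaf 3646969403771294465)) (.leaf 725804261246614573)) (.node (.node (.leaf 722942504860685038) (.leaf 3645084346372088679)) (.leaf 725806294987617825))) (.node (.node (.node (.leaf 3639377450248708236) (.leaf 732439881505713486)) (.leaf 3647928635458929685)) (.node (.leaf 5109939584141984029) (.leaf 5103283756306147574)))))) (.node (.node (.node (.node (.node (.node (.leaf 5107084199033224995) (.leaf 5104235351858326151)) (.leaf 5100433108444971676)) (.node (.node (.leaf 722941276789846694) (.leaf 728642814312882453)) (.leaf 721051032916915295))) (.node (.node (.node (.leaf 3646981980159268134) (.leaf 731502476531750554))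 (.leaf 3647929246036552028)) (.node (.node (.leaf 3645077654142036596) (.leaf 725784099783237751)) (.leaf 5098532180128956931)))) (.node (.node (.node (.node (.leaf 5103294961210239032) (.leaf 3646968353640829285)) (.leaf 726745198730024537)) (.node (.node (.leaf 3644119675027728728) (.leaf 5107094247631073612)) (.leaf 3647926452181662780))) (.node (.node (.node (.leaf 3644120736120828562) (.leaf 3645085574888298158)) (.leaf 3642238715811381906)) (.node (.leaf 721040571831771949) (.leaf 5104248859643399862))))) (.node (.node (.node (.node (.node (.leaf 3647933888327104158) (.leaf 3641269732756859674)) (.leaf 5106156629908134580)) (.node (.node (.leaf 3644133653322789406) (.leaf 3644130607443102345)) (.leaf 3642222582067369061))) (.node (.node (.node (.leaf 5104244491253474154) (.leaf 3641285875808928466)) (.leaf 3642235033672008527)) (.node (.leaf 722947455428131369) (.leaf 3641275372854088434)))) (.node (.node (.node (.node (.leaf 5098552254347947283) (.leaf 5098551016662575702))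 (.leaf 721054162359509230)) (.node (.node (.leaf 732440054449475205) (.leaf 3639384199789896243)) (.leaf 5104235087986318563))) (.node (.node (.node (.leaf 732447473376832535) (.leaf 728644028425076971)) (.leaf 725786981170329284)) (.node (.leaf 5100442958197283660) (.leaf 723903702971612003)))))))

def threeElt3 : Janko.Tree (ℕ) :=
  (.node (.node (.node (.node (.node (.node (.node (.leaf 3641281249040521754) (.leaf 729583314305824791)) (.leaf 725789585283000922)) (.node (.node (.leaf 732437406375302388) (.leaf 5101392899348762205)) (.leaf 721042355628549789))) (.node (.node (.node (.leaf 731491084646569689) (.leaf 731487044735434517)) (.leaf 5106156017478111797)) (.node (.node (.leaf 732443616990604583) (.leaf 5101394774573872867)) (.leaf 5098541140314695327)))) (.node (.node (.node (.node (.leaf 5109949748873639672) (.leaf 3641276608685605559)) (.leaf 5100446676467231349)) (.node (.node (.leaf 3639373671182969692) (.leaf 5101397257559374420)) (.leaf 5106150437241762531)))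 (.node (.node (.node (.leaf 5104243248268743402) (.leaf 3646972757716900673)) (.leaf 3647940052534454466)) (.node (.leaf 3639387383257691906) (.leaf 5098547323865213553))))) (.node (.node (.node (.node (.node (.leaf 726737757006107299) (.leaf 3641288711716592194)) (.leaf 3649815906676656675)) (.node (.node (.leaf 3644135539520747343) (.leaf 3645081376713235599)) (.leaf 3647917557091416066))) (.node (.node (.node (.leaf 5098554135485426936) (.leaf 3646985521462681948)) (.leaf 3649822837690460855)) (.node (.node (.leaf 3639379338794901671) (.leaf 721039344545639716)) (.leaf 5104244314446258958)))) (.node (.node (.node (.node (.leaf 729596513255188739) (.leaf 3641273911672220334)) (.leaf 3642216601137714188)) (.node (.node (.leaf 5109000374849556530) (.leaf 3645081889393513026)) (.leaf 5106133684158214685))) (.node (.node (.node (.leaf 732456587988887212) (.leaf 722955180897796703)) (.leaf 726754443088154356)) (.node (.leaf 3642222234959220530) (.leaf 3641270818098646603))))))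 (.node (.node (.node (.node (.node (.node (.leaf 3645069452139061817) (.leaf 5098533225184363026)) (.leaf 3649816904574523023)) (.node (.node (.leaf 5108992340731740785) (.leaf 3644120275228062783)) (.leaf 725788944083303740))) (.node (.node (.node (.leaf 5103285305489640151) (.leaf 3650769698508934811)) (.leaf 5100456551520701695)) (.node (.node (.leaf 5107105342471170084) (.leaf 725802565953432362)) (.leaf 3650766912364565702)))) (.node (.node (.node (.node (.leaf 723885347913992951) (.leaf 723906819486710852)) (.leaf 3649821596758726426)) (.node (.node (.leaf 722938218462056004) (.leaf 5107093204977628932)) (.leaf 726750496529689350))) (.node (.node (.node (.leaf 3645090040457322571) (.leaf 728655259743427208)) (.leaf 721046680816066726)) (.node (.leaf 5109941074510647050) (.leaf 3646975015280263701))))) (.node (.node (.node (.node (.node (.leaf 5109949947842552479) (.leaf 5098549192283466299)) (.leaf 3649837122822097767)) (.node (.node (.leaf 3644140770709359143) (.leaf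 5109003031915391592)) (.leaf 3647931100957141132))) (.node (.node (.node (.leaf 731503732696566630) (.leaf 3650787014556352595)) (.leaf 5106144859958362759)) (.node (.leaf 3644116438995741276) (.leaf 723904315676298909)))) (.node (.node (.node (.node (.leaf 729586645133715461) (.leaf 5103292067702778188)) (.leaf 3647923781093404839)) (.node (.node (.leaf 5101385029631933728) (.leaf 3639375612868305090)) (.leaf 5103287633990549701))) (.node (.node (.node (.leaf 3645068383890098494) (.leaf 5107085043021015264)) (.leaf 3642234430921427081)) (.node (.leaf 3642228348586885275) (.leaf 3650777217933829976)))))))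

def threeElt4 : Janko.Tree (ℕ) :=
  (.node (.node (.node (.node (.node (.node (.node (.leaf 5101400329845524615) (.leaf 5104241821281587810)) (.leaf 3642231439702783571)) (.node (.node (.leaf 732443740131200765) (.leaf 5107099373887305943)) (.leaf 5100435039903089443))) (.node (.node (.node (.leaf 5103292459681346883) (.leaf 723889612617812781)) (.leaf 726753827378801200)) (.node (.node (.leaf 728646521498162474) (.leaf 5107099814042823010)) (.leaf 5103288261571291657)))) (.node (.node (.node (.node (.leaf 725793785627599197) (.leaf 3641273294426067756)) (.leaf 3649819131370721459)) (.node (.node (.leaf 732433946511468152) (.leaf 3644125286939394149)) (.leaf 5106145477220160748))) (.node (.node (.node (.leaf 731495065698990905) (.leaf 723892696715938111)) (.leaf 726747409811687544)) (.node (.leaf 3645090654121911057) (.leaf 3650775366120909923))))) (.node (.node (.node (.node (.node (.leaf 5106137586136093508) (.leaf 3646966500126151785)) (.leaf 5106152481490785514)) (.node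 (.node (.leaf 3639375014938551966) (.leaf 5108991301441388052)) (.leaf 3649819753716939330))) (.node (.node (.node (.leaf 731487631213361670) (.leaf 729589154274653785)) (.leaf 5100436836208086602)) (.node (.node (.leaf 3645080781478729911) (.leaf 721046089925928578)) (.leaf 731485547422829089)))) (.node (.node (.node (.node (.leaf 5104240308208191652) (.leaf 3641266481481387528)) (.leaf 721051102039832160)) (.node (.node (.leaf 3644126533474888473) (.leaf 3645085699979252574)) (.leaf 729597206511830136))) (.node (.node (.node (.leaf 3645071547627771912) (.leaf 3644138645216176227)) (.leaf 3649823426863809374)) (.node (.leaf 3647925223697002790) (.leaf 5098543002661693114)))))) (.node (.node (.node (.node (.node (.node (.leaf 5109002423259122488) (.leaf 729603977661167267)) (.leaf 725787556776539142)) (.node (.node (.leaf 732456731538941654) (.leaf 732456115500857013)) (.leaf 721034529774240270))) (.node (.node (.node (.leaf 731504335683437101) (.leaf 5103298228316949100))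 (.leaf 5109949341157199419)) (.node (.node (.leaf 3644126262267259689) (.leaf 726735642251124055)) (.leaf 5098543631106056333)))) (.node (.node (.node (.node (.leaf 731504714053362914) (.leaf 3646971500283676857)) (.leaf 725797615776989265)) (.node (.node (.leaf 3639376829873137337) (.leaf 5108985074559861389)) (.leaf 3647920179349636326))) (.node (.node (.node (.leaf 5108997502816003258) (.leaf 722957384732414594)) (.leaf 726740583653363311)) (.node (.leaf 5106151054503747682) (.leaf 3641282764136551262))))) (.node (.node (.node (.node (.node (.leaf 3642218472154233641) (.leaf 3646977009384456522)) (.leaf 725785920291359545)) (.node (.node (.leaf 5101383168895548596) (.leaf 732446093328805719)) (.leaf 5100450383700548320))) (.node (.node (.node (.leaf 5098554718966866644) (.leaf 3650769102963502646)) (.leaf 5109941689114776594)) (.node (.leaf 3639367293548102161) (.leaf 5098546699076198477)))) (.node (.node (.node (.node (.leaf 3650782077501713617) (.leaf 5098544833165534852))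 (.leaf 3642235669047737551)) (.node (.node (.leaf 3639389200555505383) (.leaf 5101386785779154154)) (.leaf 5104239685685005835))) (.node (.node (.node (.leaf 5107096708399249663) (.leaf 5101391668733068055)) (.leaf 726747673817899031)) (.node (.leaf 5106142383598883095) (.leaf 723905697065519369)))))))

def threeElt5 : Janko.Tree (ℕ) :=
  (.node (.node (.node (.node (.node (.node (.node (.leaf 3639378714301048451) (.leaf 729592766670202924)) (.leaf 3642232088440668504)) (.node (.node (.leaf 5101384951919870242) (.leaf 5109003460938857199)) (.leaf 721041216140553562))) (.node (.node (.node (.leaf 723906956522225733) (.leaf 5098556593677624074)) (.leaf 5100434984336947999)) (.node (.node (.leaf 5107090230557361515) (.leaf 5101395416587307873)) (.leaf 5098555983437573341)))) (.node (.node (.node (.node (.leaf 5100438754447915780) (.leaf 5098536885441590610)) (.leaf 5109944145149321832)) (.node (.node (.leaf 728653989227382829) (.leaf 5101393549654915646)) (.leaf 5106148195990012237)))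 (.node (.node (.node (.leaf 5101406509414119974) (.leaf 728639142228021399)) (.leaf 725796240200692334)) (.node (.leaf 728640997520427162) (.leaf 723884096661492736))))) (.node (.node (.node (.node (.node (.leaf 725803669131406101) (.leaf 3641284002306130750)) (.leaf 3647940681195406540)) (.node (.node (.leaf 732435177400284931) (.leaf 732449792905601714)) (.leaf 3647932627249686633))) (.node (.node (.node (.leaf 723893947201290254) (.leaf 3650782675013842462)) (.leaf 5109947244386550071)) (.node (.node (.leaf 3644138001260639484) (.leaf 721044843310882955)) (.leaf 5098536945968281427)))) (.node (.node (.node (.node (.leaf 731495418869240076) (.leaf 3650773412941981196)) (.leaf 5109934115709010947)) (.node (.node (.leaf 5101402184976332650) (.leaf 5109003685147474600)) (.leaf 731500369086611054))) (.node (.node (.node (.leaf 3644133335510054214) (.leaf 722933843737185792)) (.leaf 721044228925826744)) (.node (.leaf 3642228207535062169) (.leaf 3646967716483969538)))))) (.node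 (.node (.node (.node (.node (.node (.leaf 721056032506863827) (.leaf 5103306090275725536)) (.leaf 3642235779777364177)) (.node (.node (.leaf 3644117648350231824) (.leaf 3639369353903300965)) (.leaf 726752614731911822))) (.node (.node (.node (.leaf 5103290288414449781) (.leaf 3641290203949208198)) (.leaf 5106153719586508838)) (.node (.node (.leaf 722957978575342839) (.leaf 725790060215937169)) (.leaf 729605229757229396)))) (.node (.node (.node (.node (.leaf 3650770954755356495) (.leaf 3650776593242153564)) (.leaf 5100438687983403784)) (.node (.node (.leaf 5101402812294236836) (.leaf 728640401903768686)) (.leaf 3642225752748376857))) (.node (.node (.node (.leaf 3644120898612147955) (.leaf 5109005930389695108)) (.leaf 721053573545536274)) (.node (.leaf 3647925823339335697) (.leaf 5104249455811938448))))) (.node (.node (.node (.node (.node (.leaf 5106142002259530413) (.leaf 5103300484806639754)) (.leaf 3649833937676124698)) (.node (.node (.leaf 3639385444570428619) (.leaf 5107091754594204744))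 (.leaf 721034804248707599))) (.node (.node (.node (.leaf 731499738758413116) (.leaf 3641288094491783715)) (.leaf 5106153097502212701)) (.node (.leaf 5101398502938932909) (.leaf 729603349201137712)))) (.node (.node (.node (.node (.leaf 723890246817682527) (.leaf 3650779080554090191)) (.leaf 3647919571117303859)) (.node (.node (.leaf 5107098777160957514) (.leaf 3639382971955883068)) (.leaf 731484891593425643))) (.node (.node (.node (.leaf 722945893300240910) (.leaf 5108983596038613779)) (.leaf 726744586251296003)) (.node (.leaf 726733781611878480) (.leaf 729590375882057909)))))))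

def threeElt6 : Janko.Tree (ℕ) :=
  (.node (.node (.node (.node (.node (.node (.node (.leaf 5107094457449605366) (.leaf 731483671440434257)) (.leaf 721049188766118980)) (.node (.node (.leaf 728657707359162684) (.leaf 5107104326527089820)) (.leaf 3649834595894815438))) (.node (.node (.node (.leaf 5098538711736710455) (.leaf 729584320019796140)) (.leaf 3649837046897330988)) (.node (.node (.leaf 722945618018892303) (.leaf 5101400985817629517)) (.leaf 3650772806521217779)))) (.node (.node (.node (.node (.leaf 3646970014504353852) (.leaf 3650787095263663167)) (.leaf 721038701706437448)) (.node (.node (.leaf 5107082366450952248) (.leaf 5108991936806965496)) (.leaf 5106135244955078874))) (.node (.node (.node (.leaf 3639369978408151873) (.leaf 3644118284789514582)) (.leaf 3647920668149415269)) (.node (.leaf 3644140124429672603) (.leaf 3646988651924586654))))) (.node (.node (.node (.node (.node (.leaf 5100450993564725948) (.leaf 731494473644211848)) (.leaf 5100433169889950360)) (.node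 (.node (.leaf 3645067777515563771) (.leaf 728637284757307398)) (.leaf 3649828441414739258))) (.node (.node (.node (.leaf 5098535039906149660) (.leaf 731495690058722099)) (.leaf 721057893230141705)) (.node (.node (.leaf 5108987524054557773) (.leaf 721057292407876316)) (.leaf 3650788873648489778)))) (.node (.node (.node (.node (.leaf 3641276338339642035) (.leaf 5104246796788209997)) (.leaf 726749855081090864)) (.node (.node (.leaf 5108989540060462876) (.leaf 728655848308506856)) (.leaf 5103303813921881276))) (.node (.node (.node (.leaf 722937844955470493) (.leaf 5108995421920122386)) (.leaf 3647918200277854529)) (.node (.leaf 5106135118253508752) (.leaf 5098538783414482744)))))) (.node (.node (.node (.node (.node (.node (.leaf 5109932279673417266) (.leaf 3641283724238453562)) (.leaf 5100454692529230401)) (.node (.node (.leaf 722952706233903800) (.leaf 728647206318740049)) (.leaf 726738399464644741))) (.node (.node (.node (.leaf 723893337202148114) (.leaf 5103301108532030104))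 (.leaf 5100443548968202967)) (.node (.node (.leaf 3639366105406374402) (.leaf 726755087425915175)) (.leaf 5104233631413035287)))) (.node (.node (.node (.node (.leaf 723906322322211467) (.leaf 3650780821647680146)) (.leaf 721037471177059647)) (.node (.node (.leaf 728649058142663436) (.leaf 728650866592420701)) (.leaf 5109955495597993747))) (.node (.node (.node (.leaf 722952094539961052) (.leaf 732452415117225812)) (.leaf 726745785663265102)) (.node (.leaf 5100432142679150089) (.leaf 3646985691516508839))))) (.node (.node (.node (.node (.node (.leaf 726754795565211820) (.leaf 5103302558915537564)) (.leaf 5109943735285245652)) (.node (.node (.leaf 732438818705998047) (.leaf 5107087492784165187)) (.leaf 3647933570016130863))) (.node (.node (.node (.leaf 5103303162542850084) (.leaf 3646977631999332881)) (.leaf 3647935714804547402)) (.node (.leaf 3639380465376125518) (.leaf 3646972464256688268)))) (.node (.node (.node (.node (.leaf 5104252320384731174) (.leaf 5104241227557888353))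 (.leaf 726738099416779005)) (.node (.node (.leaf 732436785431342597) (.leaf 3645088688750500019)) (.leaf 723902585899369288))) (.node (.node (.node (.leaf 3645075062037523244) (.leaf 5101391063158409540)) (.leaf 3649835191214112507)) (.node (.leaf 3649824743684958795) (.leaf 3641285618110888654)))))))

def threeElt7 : Janko.Tree (ℕ) :=
  (.node (.node (.node (.node (.node (.node (.node (.leaf 3645075693553240135) (.leaf 731488293786872669)) (.leaf 3647935428383866041)) (.node (.node (.leaf 3645078171257720562) (.leaf 722940675028015908)) (.leaf 725793281618867046))) (.node (.node (.node (.leaf 3650767053469876361) (.leaf 731497574518149239)) (.leaf 5109954282903848274)) (.node (.node (.leaf 5101388749652890726) (.leaf 5101386859614634220)) (.leaf 5104255634546253124)))) (.node (.node (.node (.node (.leaf 729607096458045702) (.leaf 3646978114286131763)) (.leaf 3647937927047647435)) (.node (.node (.leaf 5108990142911008927) (.leaf 3644133962606884406)) (.leaf 725797489209649176)))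 (.node (.node (.node (.leaf 5107083587719280667) (.leaf 3639381098357140594)) (.leaf 726741208125254484)) (.node (.leaf 732435800750572576) (.leaf 3650774734202582825))))) (.node (.node (.node (.node (.node (.leaf 3649825356099207989) (.leaf 3650785155580515600)) (.leaf 5100449141820787859)) (.node (.node (.leaf 722953952826872513) (.leaf 5107099984401295557)) (.leaf 725790190471643404))) (.node (.node (.node (.leaf 729607702831824014) (.leaf 3646972158063493890)) (.leaf 5109946653807273640)) (.node (.node (.leaf 3644123841495097356) (.leaf 721047362433250858)) (.leaf 729599042970554663)))) (.node (.node (.node (.node (.leaf 731507794350983978) (.leaf 3641290817635126523)) (.leaf 3642227134421928540)) (.node (.node (.leaf 732446710574175374) (.leaf 728657122480005153)) (.leaf 723890109782168672))) (.node (.node (.node (.leaf 3639382343795696233) (.leaf 5107091150443201724)) (.leaf 3647916356984157783)) (.node (.leaf 5100441689902583147) (.leaf 5104255011351992538)))))) (.node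 (.node (.node (.node (.node (.node (.leaf 726757896086381234) (.leaf 3650778441383964441)) (.leaf 3649829094475847275)) (.node (.node (.leaf 3645072531160470298) (.leaf 5107102896678811400)) (.leaf 725806900176103611))) (.node (.node (.node (.leaf 5098552877794812655) (.leaf 3641275981690867047)) (.leaf 725806748177170739)) (.node (.node (.leaf 722949968326333274) (.leaf 725792647520864815)) (.leaf 731504981747999931)))) (.node (.node (.node (.node (.leaf 5098545474141429928) (.leaf 723899982209776294)) (.leaf 725785306493219545)) (.node (.node (.leaf 3639385518658614988) (.leaf 722945268361374419)) (.leaf 5109935223873582724))) (.node (.node (.node (.leaf 3639387309025064193) (.leaf 5108988162986563357)) (.leaf 5106139573058327563)) (.node (.leaf 5106153538702657620) (.leaf 3646989993699297394))))) (.node (.node (.node (.node (.node (.leaf 5106134301388742944) (.leaf 723885980150036260)) (.leaf 726751986614821557)) (.node (.node (.leaf 3645072798826763910) (.leaf 722938492936523333))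 (.leaf 5106141388664085094))) (.node (.node (.node (.leaf 723896300150356700) (.leaf 3641279429497182827)) (.leaf 5100455910786503306)) (.node (.leaf 732447325066268240) (.leaf 5103282498996827201)))) (.node (.node (.node (.node (.leaf 731488004349022353) (.leaf 729600884097956093)) (.leaf 3649826607255703762)) (.node (.node (.leaf 5101404675633365648) (.leaf 5101405921087721013)) (.leaf 5098541734233645251))) (.node (.node (.node (.leaf 728642169343201327) (.leaf 5101383120024567990)) (.leaf 725801928439741672)) (.node (.leaf 5106140186738770794) (.leaf 5098550410180649010)))))))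

def threeElt : Janko.Tree (ℕ) := (.node (.node (.node threeElt0 threeElt4) (.node threeElt2 threeElt6)) (.node (.node threeElt1 threeElt5) (.node threeElt3 threeElt7)))

def threeNext0 : Janko.Tree (ℕ) :=
  (.node (.node (.node (.node (.node (.node (.node (.leaf 1) (.leaf 434)) (.leaf 590)) (.node (.leaf 360) (.leaf 206))) (.node (.node (.leaf 192) (.leaf 537)) (.node (.leaf 462) (.leaf 614)))) (.node (.node (.node (.node (.leaf 113) (.leaf 515)) (.leaf 478)) (.node (.leaf 311) (.leaf 706))) (.node (.node (.leaf 296) (.leaf 655)) (.node (.leaf 459) (.leaf 369))))) (.node (.node (.node (.node (.node (.leaf 61) (.leaf 434)) (.leaf 493)) (.node (.leaf 34) (.leaf 674))) (.node (.node (.leaf 246) (.leaf 150)) (.node (.leaf 514) (.leaf 348)))) (.node (.node (.node (.leaf 164) (.leaf 560)) (.node (.leaf 54) (.leaf 145))) (.node (.node (.leaf 335) (.leaf 112)) (.node (.leaf 560) (.leaf 288)))))) (.node (.node (.node (.node (.node (.node (.leaf 32) (.leaf 331)) (.leaf 572)) (.node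 (.leaf 272) (.leaf 661))) (.node (.node (.leaf 224) (.leaf 129)) (.node (.leaf 41) (.leaf 709)))) (.node (.node (.node (.leaf 142) (.leaf 589)) (.node (.leaf 422) (.leaf 213))) (.node (.node (.leaf 319) (.leaf 116)) (.node (.leaf 50) (.leaf 426))))) (.node (.node (.node (.node (.node (.leaf 45) (.leaf 74)) (.leaf 477)) (.node (.leaf 27) (.leaf 634))) (.node (.node (.leaf 273) (.leaf 642)) (.node (.leaf 489) (.leaf 364)))) (.node (.node (.node (.leaf 189) (.leaf 594)) (.node (.leaf 459) (.leaf 673))) (.node (.node (.leaf 355) (.leaf 172)) (.node (.leaf 64) (.leaf 714)))))))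

def threeNext1 : Janko.Tree (ℕ) :=
  (.node (.node (.node (.node (.node (.node (.node (.leaf 2) (.leaf 338)) (.leaf 57)) (.node (.leaf 370) (.leaf 183))) (.node (.node (.leaf 152) (.leaf 482)) (.node (.leaf 478) (.leaf 675)))) (.node (.node (.node (.node (.leaf 114) (.leaf 533)) (.leaf 582)) (.node (.leaf 419) (.leaf 233))) (.node (.node (.leaf 297) (.leaf 162)) (.node (.leaf 50) (.leaf 387))))) (.node (.node (.node (.node (.node (.leaf 38) (.leaf 416)) (.leaf 551)) (.node (.leaf 392) (.leaf 688))) (.node (.node (.leaf 247) (.leaf 134)) (.node (.leaf 42) (.leaf 410)))) (.node (.node (.node (.leaf 156) (.leaf 590)) (.node (.leaf 437) (.leaf 705))) (.node (.node (.leaf 322) (.leaf 193)) (.node (.leaf 480) (.leaf 346)))))) (.node (.node (.node (.node (.node (.node (.leaf 33) (.leaf 396)) (.leaf 597)) (.node (.leaf 324) (.leaf 665))) (.node (.node (.leaf 225) (.leaf 615)) (.node (.leaf 498) (.leaf 222)))) (.node (.node (.node (.leaf 102) (.leaf 557)) (.node (.leaf 405) (.leaf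 711))) (.node (.node (.leaf 303) (.leaf 194)) (.node (.leaf 508) (.leaf 431))))) (.node (.node (.node (.node (.node (.leaf 88) (.leaf 601)) (.leaf 65)) (.node (.leaf 397) (.leaf 708))) (.node (.node (.leaf 274) (.leaf 637)) (.node (.leaf 475) (.leaf 285)))) (.node (.node (.node (.leaf 190) (.leaf 566)) (.node (.leaf 99) (.leaf 130))) (.node (.node (.leaf 356) (.leaf 635)) (.node (.leaf 509) (.leaf 278)))))))

def threeNext2 : Janko.Tree (ℕ) :=
  (.node (.node (.node (.node (.node (.node (.node (.leaf 3) (.leaf 276)) (.leaf 540)) (.node (.leaf 371) (.leaf 691))) (.node (.node (.leaf 136) (.leaf 583)) (.node (.leaf 479) (.leaf 713)))) (.node (.node (.node (.node (.leaf 115) (.leaf 610)) (.leaf 564)) (.node (.leaf 268) (.leaf 131))) (.node (.node (.leaf 236) (.leaf 656)) (.node (.leaf 548) (.leaf 405))))) (.node (.node (.node (.node (.node (.leaf 39) (.leaf 262)) (.leaf 575)) (.node (.leaf 297) (.leaf 676))) (.node (.node (.leaf 248) (.leaf 628)) (.node (.leaf 515) (.leaf 396))))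 (.node (.node (.node (.leaf 165) (.leaf 592)) (.node (.leaf 438) (.leaf 176))) (.node (.node (.leaf 336) (.leaf 653)) (.node (.leaf 482) (.leaf 28)))))) (.node (.node (.node (.node (.node (.node (.leaf 34) (.leaf 408)) (.leaf 536)) (.node (.leaf 335) (.leaf 669))) (.node (.node (.leaf 226) (.leaf 616)) (.node (.leaf 499) (.leaf 670)))) (.node (.node (.node (.leaf 103) (.leaf 506)) (.node (.leaf 416) (.leaf 110))) (.node (.node (.leaf 18) (.leaf 666)) (.node (.leaf 564) (.leaf 400))))) (.node (.node (.node (.node (.node (.leaf 1) (.leaf 439)) (.leaf 516)) (.node (.leaf 29) (.leaf 232))) (.node (.node (.leaf 256) (.leaf 106)) (.node (.leaf 532) (.leaf 423)))) (.node (.node (.node (.leaf 191) (.leaf 598)) (.node (.leaf 78) (.leaf 210))) (.node (.node (.leaf 292) (.leaf 686)) (.node (.leaf 574) (.leaf 314)))))))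

def threeNext3 : Janko.Tree (ℕ) :=
  (.node (.node (.node (.node (.node (.node (.node (.leaf 4) (.leaf 284)) (.leaf 59)) (.node (.leaf 372) (.leaf 689))) (.node (.node (.leaf 10) (.leaf 558)) (.node (.leaf 480) (.leaf 178)))) (.node (.node (.node (.node (.leaf 116) (.leaf 552)) (.leaf 468)) (.node (.leaf 33) (.leaf 692))) (.node (.node (.leaf 237) (.leaf 109)) (.node (.leaf 549) (.leaf 318))))) (.node (.node (.node (.node (.node (.leaf 62) (.leaf 288)) (.leaf 602)) (.node (.leaf 302) (.leaf 125))) (.node (.node (.leaf 249) (.leaf 629)) (.node (.leaf 516) (.leaf 375)))) (.node (.node (.node (.leaf 166) (.leaf 531)) (.node (.leaf 439) (.leaf 216))) (.node (.node (.leaf 319) (.leaf 682)) (.node (.leaf 571) (.leaf 384)))))) (.node (.node (.node (.node (.node (.node (.leaf 35) (.leaf 726)) (.leaf 541)) (.node (.leaf 388) (.leaf 118))) (.node (.node (.leaf 156) (.leaf 101)) (.node (.leaf 500) (.leaf 710)))) (.node (.node (.node (.leaf 143) (.leaf 606)) (.node (.leaf 372) (.leaf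 704))) (.node (.node (.leaf 320) (.leaf 207)) (.node (.leaf 530) (.leaf 435))))) (.node (.node (.node (.node (.node (.leaf 89) (.leaf 540)) (.leaf 606)) (.node (.leaf 259) (.leaf 688))) (.node (.node (.leaf 15) (.leaf 643)) (.node (.leaf 455) (.leaf 240)))) (.node (.node (.node (.leaf 105) (.leaf 568)) (.node (.leaf 460) (.leaf 633))) (.node (.node (.leaf 357) (.leaf 683)) (.node (.leaf 44) (.leaf 347)))))))

def threeNext4 : Janko.Tree (ℕ) :=
  (.node (.node (.node (.node (.node (.node (.node (.leaf 5) (.leaf 391)) (.leaf 591)) (.node (.leaf 246) (.leaf 695))) (.node (.node (.leaf 207) (.leaf 522)) (.node (.leaf 481) (.leaf 211)))) (.node (.node (.node (.node (.leaf 117) (.leaf 499)) (.leaf 588)) (.node (.leaf 312) (.leaf 191))) (.node (.node (.leaf 298) (.leaf 638)) (.node (.leaf 550) (.leaf 264))))) (.node (.node (.node (.node (.node (.leaf 63) (.leaf 325)) (.leaf 450)) (.node (.leaf 27) (.leaf 224))) (.node (.node (.leaf 32) (.leaf 630)) (.node (.leaf 84) (.leaf 414))))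 (.node (.node (.node (.leaf 7) (.leaf 79)) (.node (.leaf 440) (.leaf 668))) (.node (.node (.leaf 337) (.leaf 683)) (.node (.leaf 564) (.leaf 403)))))) (.node (.node (.node (.node (.node (.node (.leaf 36) (.leaf 265)) (.leaf 547)) (.node (.leaf 389) (.leaf 702))) (.node (.node (.leaf 227) (.leaf 168)) (.node (.leaf 487) (.leaf 699)))) (.node (.node (.node (.leaf 120) (.leaf 456)) (.node (.leaf 36) (.leaf 132))) (.node (.node (.leaf 321) (.leaf 667)) (.node (.leaf 71) (.leaf 404))))) (.node (.node (.node (.node (.node (.leaf 90) (.leaf 589)) (.leaf 452)) (.node (.leaf 409) (.leaf 128))) (.node (.node (.leaf 275) (.leaf 209)) (.node (.leaf 486) (.leaf 387)))) (.node (.node (.node (.leaf 106) (.leaf 472)) (.node (.leaf 436) (.leaf 668))) (.node (.node (.leaf 22) (.leaf 687)) (.node (.leaf 579) (.leaf 402)))))))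

def threeNext5 : Janko.Tree (ℕ) :=
  (.node (.node (.node (.node (.node (.node (.node (.leaf 6) (.leaf 334)) (.leaf 584)) (.node (.leaf 315) (.leaf 117))) (.node (.node (.leaf 208) (.leaf 608)) (.node (.leaf 437) (.leaf 703)))) (.node (.node (.node (.node (.leaf 118) (.leaf 606)) (.leaf 555)) (.node (.leaf 327) (.leaf 211))) (.node (.node (.leaf 299) (.leaf 657)) (.node (.leaf 543) (.leaf 395))))) (.node (.node (.node (.node (.node (.leaf 64) (.leaf 342)) (.leaf 584)) (.node (.leaf 401) (.leaf 667))) (.node (.node (.leaf 250) (.leaf 617)) (.node (.leaf 517) (.leaf 716)))) (.node (.node (.node (.leaf 167) (.leaf 535)) (.node (.leaf 70) (.leaf 11))) (.node (.node (.leaf 315) (.leaf 657)) (.node (.leaf 572) (.leaf 371)))))) (.node (.node (.node (.node (.node (.node (.leaf 37) (.leaf 251)) (.leaf 58)) (.node (.leaf 390) (.leaf 196))) (.node (.node (.leaf 10) (.leaf 111)) (.node (.leaf 43) (.leaf 197)))) (.node (.node (.node (.leaf 144) (.leaf 441)) (.node (.leaf 429) (.leaf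 203))) (.node (.node (.leaf 32) (.leaf 668)) (.node (.leaf 460) (.leaf 300))))) (.node (.node (.node (.node (.node (.leaf 91) (.leaf 504)) (.leaf 503)) (.node (.leaf 410) (.leaf 709))) (.node (.node (.leaf 276) (.leaf 644)) (.node (.leaf 94) (.leaf 427)))) (.node (.node (.node (.leaf 138) (.leaf 86)) (.node (.leaf 461) (.leaf 710))) (.node (.node (.leaf 308) (.leaf 151)) (.node (.leaf 569) (.leaf 721)))))))

def threeNext6 : Janko.Tree (ℕ) :=
  (.node (.node (.node (.node (.node (.node (.node (.leaf 7) (.leaf 727)) (.leaf 592)) (.node (.leaf 22) (.leaf 664))) (.node (.node (.leaf 209) (.leaf 498)) (.node (.leaf 438) (.leaf 216)))) (.node (.node (.node (.node (.leaf 119) (.leaf 596)) (.leaf 559)) (.node (.leaf 304) (.leaf 631))) (.node (.node (.leaf 300) (.leaf 634)) (.node (.leaf 551) (.leaf 350))))) (.node (.node (.node (.node (.node (.leaf 65) (.leaf 401)) (.leaf 603)) (.node (.leaf 316) (.leaf 137))) (.node (.node (.leaf 234) (.leaf 631)) (.node (.leaf 81) (.leaf 305))))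 (.node (.node (.node (.leaf 168) (.leaf 82)) (.node (.leaf 441) (.leaf 643))) (.node (.node (.leaf 338) (.leaf 130)) (.node (.leaf 92) (.leaf 255)))))) (.node (.node (.node (.node (.node (.node (.leaf 13) (.leaf 728)) (.leaf 598)) (.node (.leaf 391) (.leaf 155))) (.node (.node (.leaf 228) (.leaf 617)) (.node (.leaf 501) (.leaf 711)))) (.node (.node (.node (.leaf 145) (.leaf 607)) (.node (.leaf 351) (.leaf 649))) (.node (.node (.leaf 251) (.leaf 669)) (.node (.leaf 565) (.leaf 28))))) (.node (.node (.node (.node (.node (.leaf 68) (.leaf 604)) (.leaf 532)) (.node (.leaf 329) (.leaf 647))) (.node (.node (.leaf 277) (.leaf 129)) (.node (.leaf 533) (.leaf 333)))) (.node (.node (.node (.leaf 175) (.leaf 534)) (.node (.leaf 462) (.leaf 136))) (.node (.node (.leaf 358) (.leaf 688)) (.node (.leaf 485) (.leaf 388)))))))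

def threeNext7 : Janko.Tree (ℕ) :=
  (.node (.node (.node (.node (.node (.node (.node (.leaf 8) (.leaf 344)) (.leaf 85)) (.node (.leaf 363) (.leaf 119))) (.node (.node (.leaf 210) (.leaf 570)) (.node (.leaf 482) (.leaf 632)))) (.node (.node (.node (.node (.leaf 120) (.leaf 538)) (.leaf 483)) (.node (.leaf 420) (.leaf 684))) (.node (.node (.leaf 301) (.leaf 614)) (.node (.leaf 552) (.leaf 722))))) (.node (.node (.node (.node (.node (.leaf 66) (.leaf 329)) (.leaf 595)) (.node (.leaf 320) (.leaf 703))) (.node (.node (.leaf 235) (.leaf 104)) (.node (.leaf 518) (.leaf 284)))) (.node (.node (.node (.leaf 169) (.leaf 611)) (.node (.leaf 442) (.leaf 146))) (.node (.node (.leaf 339) (.leaf 624)) (.node (.leaf 573) (.leaf 391)))))) (.node (.node (.node (.node (.node (.node (.leaf 38) (.leaf 358)) (.leaf 528)) (.node (.leaf 243) (.leaf 231))) (.node (.node (.leaf 229) (.leaf 618)) (.node (.leaf 502) (.leaf 673)))) (.node (.node (.node (.leaf 146) (.leaf 510)) (.node (.leaf 339) (.leaf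 656))) (.node (.node (.leaf 293) (.leaf 202)) (.node (.leaf 566) (.leaf 386))))) (.node (.node (.node (.node (.node (.leaf 3) (.leaf 603)) (.leaf 588)) (.node (.leaf 411) (.leaf 656))) (.node (.node (.leaf 278) (.leaf 143)) (.node (.leaf 534) (.leaf 717)))) (.node (.node (.node (.leaf 192) (.leaf 537)) (.node (.leaf 463) (.leaf 655))) (.node (.node (.leaf 359) (.leaf 223)) (.node (.leaf 580) (.leaf 305)))))))

def threeNext8 : Janko.Tree (ℕ) :=
  (.node (.node (.node (.node (.node (.node (.node (.leaf 9) (.leaf 727)) (.leaf 523)) (.node (.leaf 24) (.leaf 696))) (.node (.node (.leaf 211) (.leaf 484)) (.node (.leaf 483) (.leaf 630)))) (.node (.node (.node (.node (.leaf 121) (.leaf 599)) (.leaf 98)) (.node (.leaf 421) (.leaf 215))) (.node (.node (.leaf 302) (.leaf 658)) (.node (.leaf 49) (.leaf 283))))) (.node (.node (.node (.node (.node (.leaf 67) (.leaf 300)) (.leaf 471)) (.node (.leaf 402) (.leaf 162))) (.node (.node (.leaf 251) (.leaf 139)) (.node (.leaf 519) (.leaf 351))))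 (.node (.node (.node (.leaf 142) (.leaf 581)) (.node (.leaf 38) (.leaf 658))) (.node (.node (.leaf 340) (.leaf 684)) (.node (.leaf 574) (.leaf 432)))))) (.node (.node (.node (.node (.node (.node (.leaf 39) (.leaf 716)) (.leaf 96)) (.node (.leaf 244) (.leaf 703))) (.node (.node (.leaf 230) (.leaf 227)) (.node (.leaf 56) (.leaf 641)))) (.node (.node (.node (.leaf 108) (.leaf 91)) (.node (.leaf 430) (.leaf 223))) (.node (.node (.leaf 322) (.leaf 623)) (.node (.leaf 532) (.leaf 317))))) (.node (.node (.node (.node (.node (.leaf 92) (.leaf 612)) (.leaf 2)) (.node (.leaf 30) (.leaf 149))) (.node (.node (.leaf 21) (.leaf 168)) (.node (.leaf 535) (.leaf 290)))) (.node (.node (.node (.leaf 193) (.leaf 61)) (.node (.leaf 452) (.leaf 226))) (.node (.node (.leaf 321) (.leaf 666)) (.node (.leaf 581) (.leaf 280)))))))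

def threeNext9 : Janko.Tree (ℕ) :=
  (.node (.node (.node (.node (.node (.node (.node (.leaf 10) (.leaf 256)) (.leaf 550)) (.node (.leaf 338) (.leaf 690))) (.node (.node (.leaf 140) (.leaf 52)) (.node (.leaf 484) (.leaf 651)))) (.node (.node (.node (.node (.leaf 101) (.leaf 513)) (.leaf 495)) (.node (.leaf 355) (.leaf 710))) (.node (.node (.leaf 254) (.leaf 212)) (.node (.leaf 553) (.leaf 389))))) (.node (.node (.node (.node (.node (.leaf 68) (.leaf 724)) (.leaf 450)) (.node (.leaf 275) (.leaf 167))) (.node (.node (.leaf 252) (.leaf 165)) (.node (.leaf 520) (.leaf 363)))) (.node (.node (.node (.leaf 170) (.leaf 587)) (.node (.leaf 443) (.leaf 121))) (.node (.node (.leaf 321) (.leaf 164)) (.node (.leaf 543) (.leaf 286)))))) (.node (.node (.node (.node (.node (.node (.leaf 40) (.leaf 421)) (.leaf 449)) (.node (.leaf 366) (.leaf 196))) (.node (.node (.leaf 198) (.leaf 231)) (.node (.leaf 449) (.leaf 712)))) (.node (.node (.node (.leaf 147) (.leaf 470)) (.node (.leaf 323) (.leaf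 711))) (.node (.node (.leaf 323) (.leaf 113)) (.node (.leaf 448) (.leaf 279))))) (.node (.node (.node (.node (.node (.leaf 93) (.leaf 595)) (.leaf 522)) (.node (.leaf 377) (.leaf 696))) (.node (.node (.leaf 279) (.leaf 219)) (.node (.leaf 441) (.leaf 435)))) (.node (.node (.node (.leaf 194) (.leaf 577)) (.node (.leaf 40) (.leaf 182))) (.node (.node (.leaf 360) (.leaf 620)) (.node (.leaf 582) (.leaf 294)))))))

def threeNext10 : Janko.Tree (ℕ) :=
  (.node (.node (.node (.node (.node (.node (.node (.leaf 11) (.leaf 281)) (.leaf 576)) (.node (.leaf 297) (.leaf 697))) (.node (.node (.leaf 212) (.leaf 553)) (.node (.leaf 485) (.leaf 133)))) (.node (.node (.node (.node (.leaf 102) (.leaf 474)) (.leaf 593)) (.node (.leaf 247) (.leaf 139))) (.node (.node (.leaf 303) (.leaf 637)) (.node (.leaf 554) (.leaf 293))))) (.node (.node (.node (.node (.node (.leaf 69) (.leaf 431)) (.leaf 548)) (.node (.leaf 368) (.leaf 225))) (.node (.node (.leaf 17) (.leaf 632)) (.node (.leaf 521) (.leaf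 299)))) (.node (.node (.node (.leaf 171) (.leaf 462)) (.node (.leaf 48) (.leaf 627))) (.node (.node (.leaf 341) (.leaf 199)) (.node (.leaf 453) (.leaf 253)))))) (.node (.node (.node (.node (.node (.node (.leaf 41) (.leaf 335)) (.leaf 599)) (.node (.leaf 390) (.leaf 124))) (.node (.node (.leaf 12) (.leaf 135)) (.node (.leaf 477) (.leaf 220)))) (.node (.node (.node (.leaf 4) (.leaf 567)) (.node (.leaf 414) (.leaf 127))) (.node (.node (.leaf 263) (.leaf 670)) (.node (.leaf 526) (.leaf 352))))) (.node (.node (.node (.node (.node (.leaf 94) (.leaf 605)) (.leaf 67)) (.node (.leaf 274) (.leaf 159))) (.node (.node (.leaf 0) (.leaf 205)) (.node (.leaf 536) (.leaf 378)))) (.node (.node (.node (.leaf 163) (.leaf 572)) (.node (.leaf 464) (.leaf 122))) (.node (.node (.leaf 295) (.leaf 114)) (.node (.leaf 59) (.leaf 418)))))))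

def threeNext11 : Janko.Tree (ℕ) :=
  (.node (.node (.node (.node (.node (.node (.node (.leaf 12) (.leaf 389)) (.leaf 586)) (.node (.leaf 373) (.leaf 144))) (.node (.node (.leaf 107) (.leaf 498)) (.node (.leaf 486) (.leaf 705)))) (.node (.node (.node (.leaf 122) (.leaf 605)) (.node (.leaf 324) (.leaf 144))) (.node (.node (.leaf 304) (.leaf 622)) (.node (.leaf 461) (.leaf 716))))) (.node (.node (.node (.node (.node (.leaf 70) (.leaf 359)) (.leaf 553)) (.node (.leaf 344) (.leaf 661))) (.node (.node (.leaf 253) (.leaf 624)) (.node (.leaf 500) (.leaf 717)))) (.node (.node (.node (.leaf 172) (.leaf 55)) (.node (.leaf 444) (.leaf 701))) (.node (.node (.leaf 304) (.leaf 206)) (.node (.leaf 51) (.leaf 379)))))) (.node (.node (.node (.node (.node (.node (.leaf 42) (.leaf 429)) (.leaf 528)) (.node (.leaf 392) (.leaf 691))) (.node (.node (.leaf 231) (.leaf 123)) (.node (.leaf 503) (.leaf 169)))) (.node (.node (.node (.leaf 148) (.leaf 93)) (.node (.leaf 291) (.leaf 225))) (.node (.node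 (.leaf 324) (.leaf 671)) (.node (.leaf 58) (.leaf 723))))) (.node (.node (.node (.node (.node (.leaf 95) (.leaf 445)) (.leaf 479)) (.node (.leaf 263) (.leaf 185))) (.node (.node (.leaf 280) (.leaf 645)) (.node (.leaf 530) (.leaf 262)))) (.node (.node (.node (.leaf 195) (.leaf 461)) (.node (.leaf 91) (.leaf 712))) (.node (.node (.leaf 240) (.leaf 682)) (.node (.leaf 493) (.leaf 398)))))))

def threeNext12 : Janko.Tree (ℕ) :=
  (.node (.node (.node (.node (.node (.node (.node (.leaf 13) (.leaf 355)) (.leaf 571)) (.node (.leaf 374) (.leaf 218))) (.node (.node (.leaf 113) (.leaf 88)) (.node (.leaf 451) (.leaf 713)))) (.node (.node (.node (.leaf 123) (.leaf 582)) (.node (.leaf 422) (.leaf 191))) (.node (.node (.leaf 305) (.leaf 636)) (.node (.leaf 505) (.leaf 722))))) (.node (.node (.node (.node (.node (.leaf 71) (.leaf 310)) (.leaf 573)) (.node (.leaf 245) (.leaf 675))) (.node (.node (.leaf 254) (.leaf 626)) (.node (.leaf 45) (.leaf 311)))) (.node (.node (.node (.leaf 149) (.leaf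 473)) (.node (.leaf 445) (.leaf 699))) (.node (.node (.leaf 342) (.leaf 655)) (.node (.leaf 563) (.leaf 724)))))) (.node (.node (.node (.node (.node (.node (.leaf 43) (.leaf 725)) (.leaf 65)) (.node (.leaf 393) (.leaf 645))) (.node (.node (.leaf 180) (.leaf 619)) (.node (.leaf 504) (.leaf 653)))) (.node (.node (.node (.leaf 149) (.leaf 484)) (.node (.leaf 250) (.leaf 677))) (.node (.node (.leaf 241) (.leaf 672)) (.node (.leaf 558) (.leaf 317))))) (.node (.node (.node (.node (.node (.leaf 56) (.leaf 600)) (.leaf 607)) (.node (.leaf 412) (.leaf 632))) (.node (.node (.leaf 281) (.leaf 195)) (.node (.leaf 537) (.leaf 242)))) (.node (.node (.node (.leaf 7) (.leaf 465)) (.node (.leaf 75) (.leaf 662))) (.node (.node (.leaf 241) (.leaf 116)) (.node (.leaf 583) (.leaf 354)))))))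

def threeNext13 : Janko.Tree (ℕ) :=
  (.node (.node (.node (.node (.node (.node (.node (.leaf 14) (.leaf 426)) (.leaf 580)) (.node (.leaf 29) (.leaf 672))) (.node (.node (.leaf 213) (.leaf 100)) (.node (.leaf 487) (.leaf 700)))) (.node (.node (.node (.leaf 8) (.leaf 72)) (.node (.leaf 423) (.leaf 698))) (.node (.node (.leaf 306) (.leaf 153)) (.node (.leaf 507) (.leaf 246))))) (.node (.node (.node (.node (.node (.leaf 72) (.leaf 349)) (.leaf 555)) (.node (.leaf 308) (.leaf 686))) (.node (.node (.leaf 255) (.leaf 633)) (.node (.leaf 522) (.leaf 717)))) (.node (.node (.node (.leaf 173) (.leaf 512)) (.node (.leaf 446) (.leaf 164))) (.node (.node (.leaf 17) (.leaf 636)) (.node (.leaf 53) (.leaf 411)))))) (.node (.node (.node (.node (.node (.node (.leaf 3) (.leaf 370)) (.leaf 585)) (.node (.leaf 394) (.leaf 704))) (.node (.node (.leaf 232) (.leaf 141)) (.node (.leaf 457) (.leaf 622)))) (.node (.node (.node (.leaf 150) (.leaf 561)) (.node (.leaf 377) (.leaf 654))) (.node (.node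 (.leaf 325) (.leaf 666)) (.node (.leaf 481) (.leaf 253))))) (.node (.node (.node (.node (.node (.leaf 96) (.leaf 604)) (.leaf 581)) (.node (.leaf 375) (.leaf 702))) (.node (.node (.leaf 282) (.leaf 213)) (.node (.leaf 538) (.leaf 720)))) (.node (.node (.node (.leaf 196) (.leaf 469)) (.node (.leaf 465) (.leaf 635))) (.node (.node (.leaf 361) (.leaf 621)) (.node (.leaf 459) (.leaf 260)))))))

def threeNext14 : Janko.Tree (ℕ) :=
  (.node (.node (.node (.node (.node (.node (.node (.leaf 15) (.leaf 427)) (.leaf 539)) (.node (.leaf 375) (.leaf 192))) (.node (.node (.leaf 118) (.leaf 541)) (.node (.leaf 488) (.leaf 706)))) (.node (.node (.node (.leaf 124) (.leaf 586)) (.node (.leaf 424) (.leaf 132))) (.node (.node (.leaf 307) (.leaf 169)) (.node (.leaf 555) (.leaf 714))))) (.node (.node (.node (.node (.node (.leaf 73) (.leaf 357)) (.leaf 66)) (.node (.leaf 350) (.leaf 641))) (.node (.node (.leaf 256) (.leaf 634)) (.node (.leaf 485) (.leaf 238)))) (.node (.node (.node (.leaf 174)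 (.leaf 86)) (.node (.leaf 447) (.leaf 702))) (.node (.node (.leaf 343) (.leaf 114)) (.node (.leaf 454) (.leaf 14)))))) (.node (.node (.node (.node (.node (.node (.leaf 44) (.leaf 367)) (.leaf 507)) (.node (.leaf 382) (.leaf 628))) (.node (.node (.leaf 233) (.leaf 620)) (.node (.leaf 505) (.leaf 228)))) (.node (.node (.node (.leaf 127) (.leaf 508)) (.node (.leaf 431) (.leaf 695))) (.node (.node (.leaf 326) (.leaf 187)) (.node (.leaf 486) (.leaf 420))))) (.node (.node (.node (.node (.node (.leaf 97) (.leaf 446)) (.leaf 573)) (.node (.leaf 401) (.leaf 667))) (.node (.node (.leaf 283) (.leaf 642)) (.node (.leaf 539) (.leaf 322)))) (.node (.node (.node (.leaf 197) (.leaf 89)) (.node (.leaf 466) (.leaf 689))) (.node (.node (.leaf 261) (.leaf 119)) (.node (.leaf 57) (.leaf 415)))))))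

def threeNext15 : Janko.Tree (ℕ) :=
  (.node (.node (.node (.node (.node (.node (.node (.leaf 16) (.leaf 267)) (.leaf 60)) (.node (.leaf 376) (.leaf 692))) (.node (.node (.leaf 214) (.leaf 559)) (.node (.leaf 66) (.leaf 618)))) (.node (.node (.node (.leaf 125) (.leaf 514)) (.node (.leaf 425) (.leaf 649))) (.node (.node (.leaf 308) (.leaf 659)) (.node (.leaf 556) (.leaf 715))))) (.node (.node (.node (.node (.node (.leaf 74) (.leaf 725)) (.leaf 466)) (.node (.leaf 359) (.leaf 126))) (.node (.node (.leaf 257) (.leaf 613)) (.node (.leaf 523) (.leaf 373)))) (.node (.node (.node (.leaf 175) (.leaf 603)) (.node (.leaf 448) (.leaf 685))) (.node (.node (.leaf 344) (.leaf 217)) (.node (.leaf 575) (.leaf 429)))))) (.node (.node (.node (.node (.node (.node (.leaf 45) (.leaf 370)) (.leaf 600)) (.node (.leaf 395) (.leaf 173))) (.node (.node (.leaf 234) (.leaf 621)) (.node (.leaf 70) (.leaf 400)))) (.node (.node (.node (.leaf 6) (.leaf 610)) (.node (.leaf 346) (.leaf 696))) (.node (.node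 (.leaf 327) (.leaf 673)) (.node (.leaf 51) (.leaf 719))))) (.node (.node (.node (.node (.node (.leaf 98) (.leaf 578)) (.leaf 69)) (.node (.leaf 353) (.leaf 153))) (.node (.node (.leaf 284) (.leaf 222)) (.node (.leaf 445) (.leaf 365)))) (.node (.node (.node (.leaf 198) (.leaf 95)) (.node (.leaf 467) (.leaf 214))) (.node (.node (.leaf 362) (.leaf 186)) (.node (.leaf 494) (.leaf 312)))))))

def threeNext16 : Janko.Tree (ℕ) :=
  (.node (.node (.node (.node (.node (.node (.node (.leaf 17) (.leaf 378)) (.leaf 62)) (.node (.leaf 377) (.leaf 686))) (.node (.node (.leaf 201) (.leaf 494)) (.node (.leaf 489) (.leaf 704)))) (.node (.node (.node (.leaf 126) (.leaf 517)) (.node (.leaf 248) (.leaf 221))) (.node (.node (.leaf 309) (.leaf 660)) (.node (.leaf 83) (.leaf 247))))) (.node (.node (.node (.node (.node (.leaf 75) (.leaf 343)) (.leaf 545)) (.node (.leaf 252) (.leaf 681))) (.node (.node (.leaf 258) (.leaf 635)) (.node (.leaf 524) (.leaf 330)))) (.node (.node (.node (.leaf 176) (.leaf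 497)) (.node (.leaf 436) (.leaf 631))) (.node (.node (.leaf 239) (.leaf 176)) (.node (.leaf 576) (.leaf 255)))))) (.node (.node (.node (.node (.node (.node (.leaf 46) (.leaf 37)) (.leaf 465)) (.node (.leaf 25) (.leaf 115))) (.node (.node (.leaf 235) (.leaf 622)) (.node (.leaf 84) (.leaf 234)))) (.node (.node (.node (.leaf 151) (.leaf 47)) (.node (.leaf 432) (.leaf 171))) (.node (.node (.leaf 309) (.leaf 112)) (.node (.leaf 567) (.leaf 361))))) (.node (.node (.node (.node (.node (.leaf 99) (.leaf 602)) (.leaf 608)) (.node (.leaf 334) (.leaf 189))) (.node (.node (.leaf 245) (.leaf 174)) (.node (.leaf 496) (.leaf 424)))) (.node (.node (.node (.leaf 182) (.leaf 570)) (.node (.leaf 468) (.leaf 652))) (.node (.node (.leaf 363) (.leaf 689)) (.node (.leaf 87) (.leaf 332)))))))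

def threeNext17 : Janko.Tree (ℕ) :=
  (.node (.node (.node (.node (.node (.node (.node (.leaf 18) (.leaf 270)) (.leaf 521)) (.node (.leaf 378) (.leaf 180))) (.node (.node (.leaf 215) (.leaf 98)) (.node (.leaf 490) (.leaf 167)))) (.node (.node (.node (.leaf 127) (.leaf 472)) (.node (.leaf 249) (.leaf 224))) (.node (.node (.leaf 310) (.leaf 615)) (.node (.leaf 557) (.leaf 413))))) (.node (.node (.node (.node (.node (.leaf 76) (.leaf 366)) (.leaf 78)) (.node (.leaf 399) (.leaf 650))) (.node (.node (.leaf 259) (.leaf 184)) (.node (.leaf 525) (.leaf 718)))) (.node (.node (.node (.leaf 104) (.leaf 576)) (.node (.leaf 449) (.leaf 145))) (.node (.node (.leaf 345) (.leaf 643)) (.node (.leaf 93) (.leaf 368)))))) (.node (.node (.node (.node (.node (.node (.leaf 47) (.leaf 282)) (.leaf 495)) (.node (.leaf 396) (.leaf 187))) (.node (.node (.leaf 30) (.leaf 131)) (.node (.leaf 443) (.leaf 289)))) (.node (.node (.node (.leaf 152) (.leaf 600)) (.node (.leaf 428) (.leaf 158))) (.node (.node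 (.leaf 313) (.leaf 674)) (.node (.leaf 497) (.leaf 412))))) (.node (.node (.node (.node (.node (.leaf 100) (.leaf 579)) (.leaf 511)) (.node (.leaf 372) (.leaf 620))) (.node (.node (.leaf 18) (.leaf 646)) (.node (.leaf 46) (.leaf 425)))) (.node (.node (.node (.leaf 9) (.leaf 575)) (.node (.leaf 469) (.leaf 709))) (.node (.node (.leaf 277) (.leaf 623)) (.node (.leaf 488) (.leaf 380)))))))

def threeNext18 : Janko.Tree (ℕ) :=
  (.node (.node (.node (.node (.node (.node (.node (.leaf 19) (.leaf 728)) (.leaf 511)) (.node (.leaf 379) (.leaf 651))) (.node (.node (.leaf 198) (.leaf 547)) (.node (.leaf 491) (.leaf 204)))) (.node (.node (.node (.leaf 128) (.leaf 75)) (.node (.leaf 307) (.leaf 166))) (.node (.node (.leaf 311) (.leaf 661)) (.node (.leaf 442) (.leaf 718))))) (.node (.node (.node (.node (.node (.leaf 77) (.leaf 726)) (.leaf 599)) (.node (.leaf 403) (.leaf 706))) (.node (.node (.leaf 260) (.leaf 161)) (.node (.leaf 526) (.leaf 258)))) (.node (.node (.node (.leaf 105) (.leaf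 562)) (.node (.leaf 76) (.leaf 659))) (.node (.node (.leaf 346) (.leaf 685)) (.node (.leaf 77) (.leaf 257)))))) (.node (.node (.node (.node (.node (.node (.leaf 48) (.leaf 424)) (.leaf 52)) (.node (.leaf 354) (.leaf 229))) (.node (.node (.leaf 236) (.leaf 181)) (.node (.leaf 506) (.leaf 348)))) (.node (.node (.node (.leaf 153) (.leaf 73)) (.node (.leaf 433) (.leaf 680))) (.node (.node (.leaf 276) (.leaf 675)) (.node (.leaf 501) (.leaf 294))))) (.node (.node (.node (.node (.node (.leaf 101) (.leaf 550)) (.leaf 527)) (.node (.leaf 343) (.leaf 621))) (.node (.node (.leaf 285) (.leaf 647)) (.node (.leaf 74) (.leaf 323)))) (.node (.node (.node (.leaf 199) (.leaf 88)) (.node (.leaf 470) (.leaf 640))) (.node (.node (.leaf 364) (.leaf 117)) (.node (.leaf 584) (.leaf 395)))))))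

def threeNext19 : Janko.Tree (ℕ) :=
  (.node (.node (.node (.node (.node (.node (.node (.leaf 20) (.leaf 331)) (.leaf 593)) (.node (.leaf 380) (.leaf 647))) (.node (.node (.leaf 216) (.leaf 518)) (.node (.leaf 89) (.leaf 221)))) (.node (.node (.node (.leaf 129) (.leaf 492)) (.node (.leaf 421) (.leaf 678))) (.node (.node (.leaf 312) (.leaf 657)) (.node (.leaf 443) (.leaf 415))))) (.node (.node (.node (.node (.node (.leaf 78) (.leaf 385)) (.leaf 476)) (.node (.leaf 397) (.leaf 629))) (.node (.node (.leaf 261) (.leaf 230)) (.node (.leaf 476) (.leaf 31)))) (.node (.node (.node (.leaf 177) (.leaf 542)) (.node (.leaf 42) (.leaf 662))) (.node (.node (.leaf 347) (.leaf 627)) (.node (.leaf 54) (.leaf 725)))))) (.node (.node (.node (.node (.node (.node (.leaf 49) (.leaf 388)) (.leaf 551)) (.node (.leaf 397) (.leaf 663))) (.node (.node (.leaf 237) (.leaf 209)) (.node (.leaf 447) (.leaf 352)))) (.node (.node (.node (.leaf 154) (.leaf 492)) (.node (.leaf 243) (.leaf 695))) (.node (.node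 (.leaf 265) (.leaf 625)) (.node (.leaf 568) (.leaf 257))))) (.node (.node (.node (.node (.node (.leaf 102) (.leaf 524)) (.leaf 90)) (.node (.leaf 307) (.leaf 154))) (.node (.node (.leaf 286) (.leaf 220)) (.node (.leaf 48) (.leaf 715)))) (.node (.node (.node (.leaf 200) (.leaf 92)) (.node (.leaf 444) (.leaf 674))) (.node (.node (.leaf 347) (.leaf 639)) (.node (.leaf 585) (.leaf 336)))))))

def threeNext20 : Janko.Tree (ℕ) :=
  (.node (.node (.node (.node (.node (.node (.node (.leaf 21) (.leaf 404)) (.leaf 504)) (.node (.leaf 236) (.leaf 698))) (.node (.node (.leaf 194) (.leaf 568)) (.node (.leaf 492) (.leaf 185)))) (.node (.node (.node (.leaf 130) (.leaf 47)) (.node (.leaf 419) (.leaf 219))) (.node (.node (.leaf 237) (.leaf 662)) (.node (.leaf 533) (.leaf 383))))) (.node (.node (.node (.node (.node (.leaf 79) (.leaf 318)) (.leaf 604)) (.node (.leaf 404) (.leaf 677))) (.node (.node (.leaf 262) (.leaf 636)) (.node (.leaf 527) (.leaf 289)))) (.node (.node (.node (.leaf 178) (.leaf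 513)) (.node (.leaf 450) (.leaf 121))) (.node (.node (.leaf 0) (.leaf 660)) (.node (.leaf 544) (.leaf 417)))))) (.node (.node (.node (.node (.node (.node (.leaf 1) (.leaf 413)) (.leaf 569)) (.node (.leaf 20) (.leaf 123))) (.node (.node (.leaf 238) (.leaf 171)) (.node (.leaf 507) (.leaf 264)))) (.node (.node (.node (.leaf 12) (.leaf 519)) (.node (.leaf 367) (.leaf 697))) (.node (.node (.leaf 19) (.leaf 644)) (.node (.leaf 464) (.leaf 390))))) (.node (.node (.node (.node (.node (.leaf 103) (.leaf 455)) (.leaf 591)) (.node (.leaf 413) (.leaf 193))) (.node (.node (.leaf 287) (.leaf 648)) (.node (.leaf 510) (.leaf 384)))) (.node (.node (.node (.leaf 120) (.leaf 552)) (.node (.leaf 43) (.leaf 640))) (.node (.node (.leaf 303) (.leaf 146)) (.node (.leaf 525) (.leaf 726)))))))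

def threeNext21 : Janko.Tree (ℕ) :=
  (.node (.node (.node (.node (.node (.node (.node (.leaf 22) (.leaf 409)) (.leaf 64)) (.node (.leaf 268) (.leaf 155))) (.node (.node (.leaf 217) (.leaf 612)) (.node (.leaf 493) (.leaf 170)))) (.node (.node (.node (.leaf 131) (.leaf 565)) (.node (.leaf 426) (.leaf 707))) (.node (.node (.leaf 238) (.leaf 663)) (.node (.leaf 83) (.leaf 402))))) (.node (.node (.node (.node (.node (.leaf 80) (.leaf 727)) (.leaf 467)) (.node (.leaf 394) (.leaf 163))) (.node (.node (.leaf 263) (.leaf 178)) (.node (.leaf 46) (.leaf 340)))) (.node (.node (.node (.leaf 179) (.leaf 546)) (.node (.leaf 451) (.leaf 210))) (.node (.node (.leaf 348) (.leaf 648)) (.node (.leaf 463) (.leaf 423)))))) (.node (.node (.node (.node (.node (.node (.leaf 50) (.leaf 280)) (.leaf 538)) (.node (.leaf 26) (.leaf 678))) (.node (.node (.leaf 15) (.leaf 623)) (.node (.leaf 503) (.leaf 252)))) (.node (.node (.node (.leaf 155) (.leaf 527)) (.node (.leaf 406) (.leaf 658))) (.node (.node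 (.leaf 328) (.leaf 645)) (.node (.leaf 535) (.leaf 14))))) (.node (.node (.node (.node (.node (.leaf 104) (.leaf 579)) (.leaf 100)) (.node (.leaf 414) (.leaf 633))) (.node (.node (.leaf 16) (.leaf 143)) (.node (.leaf 481) (.leaf 409)))) (.node (.node (.node (.leaf 122) (.leaf 71)) (.node (.leaf 79) (.leaf 147))) (.node (.node (.leaf 306) (.leaf 190)) (.node (.leaf 446) (.leaf 418)))))))

def threeNext22 : Janko.Tree (ℕ) :=
  (.node (.node (.node (.node (.node (.node (.node (.leaf 23) (.leaf 412)) (.leaf 475)) (.node (.leaf 26) (.leaf 207))) (.node (.node (.leaf 218) (.leaf 587)) (.node (.leaf 494) (.leaf 664)))) (.node (.node (.node (.leaf 132) (.leaf 512)) (.node (.leaf 33) (.leaf 181))) (.node (.node (.leaf 267) (.leaf 200)) (.node (.leaf 558) (.leaf 287))))) (.node (.node (.node (.node (.node (.leaf 81) (.leaf 433)) (.leaf 536)) (.node (.leaf 296) (.leaf 124))) (.node (.node (.leaf 264) (.leaf 637)) (.node (.leaf 491) (.leaf 326)))) (.node (.node (.node (.leaf 180) (.leaf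 55)) (.node (.leaf 63) (.leaf 687))) (.node (.node (.leaf 19) (.leaf 617)) (.node (.leaf 457) (.leaf 273)))))) (.node (.node (.node (.node (.node (.node (.leaf 51) (.leaf 425)) (.leaf 63)) (.node (.leaf 336) (.leaf 128))) (.node (.node (.leaf 239) (.leaf 158)) (.node (.leaf 508) (.leaf 411)))) (.node (.node (.node (.leaf 156) (.leaf 574)) (.node (.leaf 434) (.leaf 138))) (.node (.node (.leaf 329) (.leaf 676)) (.node (.leaf 516) (.leaf 298))))) (.node (.node (.node (.node (.node (.leaf 105) (.leaf 607)) (.leaf 601)) (.node (.leaf 337) (.leaf 233))) (.node (.node (.leaf 288) (.leaf 649)) (.node (.leaf 540) (.leaf 718)))) (.node (.node (.node (.leaf 172) (.leaf 577)) (.node (.leaf 471) (.leaf 159))) (.node (.node (.leaf 291) (.leaf 690)) (.node (.leaf 505) (.leaf 261)))))))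

def threeNext23 : Janko.Tree (ℕ) :=
  (.node (.node (.node (.node (.node (.node (.node (.leaf 24) (.leaf 406)) (.leaf 96)) (.node (.leaf 381) (.leaf 699))) (.node (.node (.leaf 219) (.leaf 440)) (.node (.leaf 438) (.leaf 708)))) (.node (.node (.node (.leaf 133) (.leaf 609)) (.node (.leaf 373) (.leaf 615))) (.node (.node (.leaf 296) (.leaf 618)) (.node (.leaf 559) (.leaf 326))))) (.node (.node (.node (.node (.node (.leaf 82) (.leaf 371)) (.leaf 554)) (.node (.leaf 298) (.leaf 648))) (.node (.node (.leaf 265) (.leaf 190)) (.node (.leaf 528) (.leaf 719)))) (.node (.node (.node (.leaf 181) (.leaf 501)) (.node (.leaf 452) (.leaf 625))) (.node (.node (.leaf 349) (.leaf 638)) (.node (.leaf 577) (.leaf 356)))))) (.node (.node (.node (.node (.node (.node (.leaf 52) (.leaf 333)) (.leaf 557)) (.node (.leaf 398) (.leaf 671))) (.node (.node (.leaf 36) (.leaf 137)) (.node (.leaf 500) (.leaf 270)))) (.node (.node (.node (.leaf 157) (.leaf 610)) (.node (.leaf 369) (.leaf 660))) (.node (.node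 (.leaf 330) (.leaf 677)) (.node (.leaf 444) (.leaf 419))))) (.node (.node (.node (.node (.node (.leaf 106) (.leaf 463)) (.leaf 474)) (.node (.leaf 408) (.leaf 683))) (.node (.node (.leaf 289) (.leaf 650)) (.node (.leaf 541) (.leaf 719)))) (.node (.node (.node (.leaf 201) (.leaf 478)) (.node (.leaf 472) (.leaf 665))) (.node (.node (.leaf 365) (.leaf 691)) (.node (.leaf 586) (.leaf 422)))))))

def threeNext24 : Janko.Tree (ℕ) :=
  (.node (.node (.node (.node (.node (.node (.node (.leaf 25) (.leaf 272)) (.leaf 544)) (.node (.leaf 382) (.leaf 140))) (.node (.node (.leaf 200) (.leaf 554)) (.node (.leaf 439) (.leaf 208)))) (.node (.node (.node (.leaf 134) (.leaf 80)) (.node (.leaf 35) (.leaf 708))) (.node (.node (.leaf 313) (.leaf 174)) (.node (.leaf 560) (.leaf 339))))) (.node (.node (.node (.node (.node (.leaf 83) (.leaf 728)) (.leaf 571)) (.node (.leaf 405) (.leaf 707))) (.node (.node (.leaf 266) (.leaf 638)) (.node (.leaf 529) (.leaf 316)))) (.node (.node (.node (.leaf 125)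 (.leaf 87)) (.node (.leaf 82) (.leaf 628))) (.node (.node (.leaf 350) (.leaf 650)) (.node (.leaf 542) (.leaf 282)))))) (.node (.node (.node (.node (.node (.node (.leaf 53) (.leaf 374)) (.leaf 69)) (.node (.leaf 360) (.leaf 5))) (.node (.node (.leaf 240) (.leaf 624)) (.node (.leaf 509) (.leaf 23)))) (.node (.node (.node (.leaf 158) (.leaf 68)) (.node (.leaf 374) (.leaf 141))) (.node (.node (.leaf 331) (.leaf 142)) (.node (.leaf 491) (.leaf 392))))) (.node (.node (.node (.node (.node (.leaf 6) (.leaf 597)) (.leaf 598)) (.node (.leaf 20) (.leaf 226))) (.node (.node (.leaf 290) (.leaf 651)) (.node (.leaf 53) (.leaf 721)))) (.node (.node (.node (.leaf 202) (.leaf 546)) (.node (.leaf 41) (.leaf 679))) (.node (.node (.leaf 260) (.leaf 654)) (.node (.leaf 587) (.leaf 342)))))))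

def threeNext25 : Janko.Tree (ℕ) :=
  (.node (.node (.node (.node (.node (.node (.node (.leaf 0) (.leaf 278)) (.leaf 594)) (.node (.leaf 383) (.leaf 700))) (.node (.node (.leaf 220) (.leaf 612)) (.node (.leaf 458) (.leaf 179)))) (.node (.node (.node (.leaf 135) (.leaf 85)) (.node (.leaf 427) (.leaf 646))) (.node (.node (.leaf 314) (.leaf 109)) (.node (.leaf 549) (.leaf 357))))) (.node (.node (.node (.node (.node (.leaf 39) (.leaf 341)) (.leaf 499)) (.node (.leaf 398) (.leaf 619))) (.node (.node (.leaf 267) (.leaf 148)) (.node (.leaf 502) (.leaf 295)))) (.node (.node (.node (.leaf 182) (.leaf 531)) (.node (.leaf 453) (.leaf 629))) (.node (.node (.leaf 351) (.leaf 197)) (.node (.leaf 567) (.leaf 306)))))) (.node (.node (.node (.node (.node (.node (.leaf 54) (.leaf 393)) (.leaf 549)) (.node (.leaf 361) (.leaf 177))) (.node (.node (.leaf 241) (.leaf 227)) (.node (.leaf 496) (.leaf 714)))) (.node (.node (.node (.leaf 159) (.leaf 467)) (.node (.leaf 380) (.leaf 712))) (.node (.node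 (.leaf 332) (.leaf 678)) (.node (.leaf 520) (.leaf 721))))) (.node (.node (.node (.node (.node (.leaf 107) (.leaf 608)) (.leaf 545)) (.node (.leaf 415) (.leaf 694))) (.node (.node (.leaf 271) (.leaf 642)) (.node (.leaf 542) (.leaf 432)))) (.node (.node (.node (.leaf 134) (.leaf 609)) (.node (.leaf 80) (.leaf 639))) (.node (.node (.leaf 302) (.leaf 204)) (.node (.leaf 588) (.leaf 345)))))))

def threeNext26 : Janko.Tree (ℕ) :=
  (.node (.node (.node (.node (.node (.node (.node (.leaf 26) (.leaf 283)) (.leaf 81)) (.node (.leaf 376) (.leaf 697))) (.node (.node (.leaf 183) (.leaf 451)) (.node (.leaf 480) (.leaf 707)))) (.node (.node (.node (.leaf 136) (.leaf 514)) (.node (.leaf 420) (.leaf 150))) (.node (.node (.leaf 315) (.leaf 133)) (.node (.leaf 561) (.leaf 313))))) (.node (.node (.node (.node (.node (.leaf 40) (.leaf 290)) (.leaf 67)) (.node (.leaf 406) (.leaf 195))) (.node (.node (.leaf 268) (.leaf 203)) (.node (.leaf 530) (.leaf 720)))) (.node (.node (.node (.leaf 183)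 (.leaf 566)) (.node (.leaf 454) (.leaf 148))) (.node (.node (.leaf 319) (.leaf 135)) (.node (.leaf 523) (.leaf 381)))))) (.node (.node (.node (.node (.node (.node (.leaf 55) (.leaf 393)) (.leaf 2)) (.node (.leaf 271) (.leaf 690))) (.node (.node (.leaf 242) (.leaf 625)) (.node (.leaf 510) (.leaf 362)))) (.node (.node (.node (.leaf 160) (.leaf 556)) (.node (.leaf 34) (.leaf 232))) (.node (.node (.leaf 269) (.leaf 616)) (.node (.leaf 529) (.leaf 254))))) (.node (.node (.node (.node (.node (.leaf 108) (.leaf 509)) (.leaf 94)) (.node (.leaf 403) (.leaf 676))) (.node (.node (.leaf 291) (.leaf 108)) (.node (.leaf 543) (.leaf 314)))) (.node (.node (.node (.leaf 203) (.leaf 77)) (.node (.leaf 473) (.leaf 157))) (.node (.node (.leaf 330) (.leaf 644)) (.node (.leaf 589) (.leaf 287)))))))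

def threeNext27 : Janko.Tree (ℕ) :=
  (.node (.node (.node (.node (.node (.node (.node (.leaf 27) (.leaf 309)) (.leaf 595)) (.node (.leaf 384) (.leaf 701))) (.node (.node (.leaf 221) (.leaf 517)) (.node (.leaf 90) (.leaf 701)))) (.node (.node (.node (.leaf 137) (.leaf 593)) (.node (.leaf 428) (.leaf 630))) (.node (.node (.leaf 286) (.leaf 111)) (.node (.leaf 49) (.leaf 279))))) (.node (.node (.node (.node (.node (.leaf 84) (.leaf 430)) (.leaf 561)) (.node (.leaf 328) (.leaf 199))) (.node (.node (.leaf 269) (.leaf 186)) (.node (.leaf 479) (.leaf 417)))) (.node (.node (.node (.leaf 184) (.leaf 97)) (.node (.leaf 455) (.leaf 154))) (.node (.node (.leaf 21) (.leaf 684)) (.node (.leaf 506) (.leaf 386)))))) (.node (.node (.node (.node (.node (.node (.leaf 56) (.leaf 299)) (.leaf 597)) (.node (.leaf 399) (.leaf 705))) (.node (.node (.leaf 243) (.leaf 626)) (.node (.leaf 511) (.leaf 292)))) (.node (.node (.node (.leaf 161) (.leaf 525)) (.node (.leaf 435) (.leaf 693))) (.node (.node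 (.leaf 333) (.leaf 214)) (.node (.leaf 76) (.leaf 345))))) (.node (.node (.node (.node (.node (.leaf 109) (.leaf 548)) (.leaf 602)) (.node (.leaf 301) (.leaf 679))) (.node (.node (.leaf 292) (.leaf 652)) (.node (.leaf 544) (.leaf 430)))) (.node (.node (.node (.leaf 110) (.leaf 526)) (.node (.leaf 474) (.leaf 669))) (.node (.node (.leaf 366) (.leaf 692)) (.node (.leaf 447) (.leaf 399)))))))

def threeNext28 : Janko.Tree (ℕ) :=
  (.node (.node (.node (.node (.node (.node (.node (.leaf 28) (.leaf 37)) (.leaf 592)) (.node (.leaf 385) (.leaf 616))) (.node (.node (.leaf 8) (.leaf 202)) (.node (.leaf 495) (.leaf 663)))) (.node (.node (.node (.leaf 138) (.leaf 73)) (.node (.leaf 325) (.leaf 217))) (.node (.node (.leaf 316) (.leaf 646)) (.node (.leaf 562) (.leaf 328))))) (.node (.node (.node (.node (.node (.leaf 60) (.leaf 362)) (.leaf 520)) (.node (.leaf 407) (.leaf 694))) (.node (.node (.leaf 270) (.leaf 639)) (.node (.leaf 440) (.leaf 341)))) (.node (.node (.node (.leaf 185) (.leaf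 473)) (.node (.leaf 72) (.leaf 160))) (.node (.node (.leaf 352) (.leaf 229)) (.node (.leaf 539) (.leaf 407)))))) (.node (.node (.node (.node (.node (.node (.leaf 57) (.leaf 332)) (.leaf 580)) (.node (.leaf 400) (.leaf 700))) (.node (.node (.leaf 13) (.leaf 208)) (.node (.leaf 512) (.leaf 715)))) (.node (.node (.node (.leaf 115) (.leaf 590)) (.node (.leaf 358) (.leaf 626))) (.node (.node (.leaf 239) (.leaf 679)) (.node (.leaf 565) (.leaf 407))))) (.node (.node (.node (.node (.node (.leaf 110) (.leaf 609)) (.leaf 453)) (.node (.leaf 416) (.leaf 184))) (.node (.node (.leaf 293) (.leaf 230)) (.node (.leaf 545) (.leaf 722)))) (.node (.node (.node (.leaf 204) (.leaf 468)) (.node (.leaf 460) (.leaf 212))) (.node (.node (.leaf 367) (.leaf 693)) (.node (.leaf 448) (.leaf 340)))))))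

def threeNext29 : Janko.Tree (ℕ) :=
  (.node (.node (.node (.node (.node (.node (.node (.leaf 29) (.leaf 275)) (.leaf 596)) (.node (.leaf 25) (.leaf 659))) (.node (.node (.leaf 222) (.leaf 613)) (.node (.leaf 496) (.leaf 189)))) (.node (.node (.node (.leaf 139) (.leaf 519)) (.node (.leaf 353) (.leaf 152))) (.node (.node (.leaf 16) (.leaf 201)) (.node (.leaf 524) (.leaf 385))))) (.node (.node (.node (.node (.node (.leaf 85) (.leaf 349)) (.leaf 605)) (.node (.leaf 408) (.leaf 5))) (.node (.node (.leaf 271) (.leaf 613)) (.node (.leaf 531) (.leaf 379)))) (.node (.node (.node (.leaf 186) (.leaf 61)) (.node (.leaf 456) (.leaf 188))) (.node (.node (.leaf 301) (.leaf 682)) (.node (.leaf 515) (.leaf 277)))))) (.node (.node (.node (.node (.node (.node (.leaf 58) (.leaf 723)) (.leaf 456)) (.node (.leaf 365) (.leaf 175))) (.node (.node (.leaf 244) (.leaf 619)) (.node (.leaf 502) (.leaf 281)))) (.node (.node (.node (.leaf 9) (.leaf 591)) (.node (.leaf 250) (.leaf 11))) (.node (.node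 (.leaf 244) (.leaf 680)) (.node (.leaf 569) (.leaf 266))))) (.node (.node (.node (.node (.node (.leaf 111) (.leaf 594)) (.leaf 454)) (.node (.leaf 417) (.leaf 157))) (.node (.node (.leaf 273) (.leaf 218)) (.node (.leaf 546) (.leaf 320)))) (.node (.node (.node (.leaf 205) (.leaf 489)) (.node (.leaf 475) (.leaf 685))) (.node (.node (.leaf 368) (.leaf 694)) (.node (.leaf 490) (.leaf 724)))))))

def threeNext30 : Janko.Tree (ℕ) :=
  (.node (.node (.node (.node (.node (.node (.node (.leaf 30) (.leaf 433)) (.leaf 442)) (.node (.leaf 386) (.leaf 687))) (.node (.node (.leaf 223) (.leaf 170)) (.node (.leaf 471) (.leaf 228)))) (.node (.node (.node (.leaf 140) (.leaf 578)) (.node (.leaf 383) (.leaf 161))) (.node (.node (.leaf 317) (.leaf 664)) (.node (.leaf 563) (.leaf 269))))) (.node (.node (.node (.node (.node (.leaf 86) (.leaf 470)) (.leaf 469)) (.node (.leaf 376) (.leaf 652))) (.node (.node (.leaf 235) (.leaf 640)) (.node (.leaf 518) (.leaf 31)))) (.node (.node (.node (.leaf 187)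 (.leaf 464)) (.node (.leaf 457) (.leaf 147))) (.node (.node (.leaf 353) (.leaf 160)) (.node (.leaf 490) (.leaf 310)))))) (.node (.node (.node (.node (.node (.node (.leaf 59) (.leaf 337)) (.leaf 483)) (.node (.leaf 249) (.leaf 177))) (.node (.node (.leaf 24) (.leaf 103)) (.node (.leaf 513) (.leaf 266)))) (.node (.node (.node (.leaf 162) (.leaf 458)) (.node (.leaf 97) (.leaf 165))) (.node (.node (.leaf 334) (.leaf 671)) (.node (.leaf 563) (.leaf 723))))) (.node (.node (.node (.node (.node (.leaf 112) (.leaf 529)) (.leaf 95)) (.node (.leaf 418) (.leaf 173))) (.node (.node (.leaf 294) (.leaf 653)) (.node (.leaf 547) (.leaf 327)))) (.node (.node (.node (.leaf 206) (.leaf 62)) (.node (.leaf 476) (.leaf 713))) (.node (.node (.leaf 242) (.leaf 166)) (.node (.leaf 585) (.leaf 720)))))))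

def threeNext31 : Janko.Tree (ℕ) :=
  (.node (.node (.node (.node (.node (.node (.node (.leaf 31) (.leaf 259)) (.leaf 534)) (.node (.leaf 387) (.leaf 179))) (.node (.node (.leaf 107) (.leaf 614)) (.node (.leaf 497) (.leaf 672)))) (.node (.node (.node (.leaf 141) (.leaf 466)) (.node (.leaf 410) (.leaf 681))) (.node (.node (.leaf 318) (.leaf 665)) (.node (.leaf 44) (.leaf 394))))) (.node (.node (.node (.node (.node (.leaf 87) (.leaf 521)) (.leaf 556)) (.node (.leaf 258) (.leaf 126))) (.node (.node (.leaf 272) (.leaf 641)) (.node (.leaf 487) (.leaf 428)))) (.node (.node (.node (.leaf 188) (.leaf 596)) (.node (.leaf 458) (.leaf 151))) (.node (.node (.leaf 354) (.leaf 680)) (.node (.leaf 578) (.leaf 23)))))) (.node (.node (.node (.node (.node (.node (.leaf 60) (.leaf 381)) (.leaf 601)) (.node (.leaf 356) (.leaf 670))) (.node (.node (.leaf 245) (.leaf 627)) (.node (.leaf 488) (.leaf 382)))) (.node (.node (.node (.leaf 163) (.leaf 99)) (.node (.leaf 436) (.leaf 215))) (.node (.node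 (.leaf 248) (.leaf 681)) (.node (.leaf 570) (.leaf 285))))) (.node (.node (.node (.node (.node (.leaf 4) (.leaf 611)) (.leaf 562)) (.node (.leaf 35) (.leaf 698))) (.node (.node (.leaf 295) (.leaf 654)) (.node (.leaf 437) (.leaf 364)))) (.node (.node (.node (.leaf 188) (.leaf 611)) (.node (.leaf 477) (.leaf 693))) (.node (.node (.leaf 369) (.leaf 205)) (.node (.leaf 583) (.leaf 274)))))))

def threeNext : Janko.Tree (ℕ) := (.node (.node (.node (.node (.node threeNext0 threeNext16) (.node threeNext8 threeNext24)) (.node (.node threeNext4 threeNext20) (.node threeNext12 threeNext28))) (.node (.node (.node threeNext2 threeNext18) (.node threeNext10 threeNext26)) (.node (.node threeNext6 threeNext22) (.node threeNext14 threeNext30)))) (.node (.node (.node (.node threeNext1 threeNext17) (.node threeNext9 threeNext25)) (.node (.node threeNext5 threeNext21) (.node threeNext13 threeNext29))) (.node (.node (.node threeNext3 threeNext19) (.node threeNext11 threeNext27)) (.node (.node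 threeNext7 threeNext23) (.node threeNext15 threeNext31)))))

def threeWord0 : Janko.Tree (ℕ) :=
  (.node (.node (.node (.node (.node (.node (.node (.leaf 1) (.leaf 268571136)) (.leaf 16781345)) (.node (.node (.leaf 1052706) (.leaf 4295041280)) (.leaf 17891586))) (.node (.node (.node (.leaf 69648) (.leaf 270532865)) (.leaf 16851218)) (.node (.node (.leaf 1122320) (.leaf 4311748864)) (.leaf 268435986)))) (.node (.node (.node (.node (.leaf 4610) (.leaf 269492752)) (.leaf 16843026)) (.node (.node (.leaf 1114128) (.leaf 4296081664)) (.leaf 18882848))) (.node (.node (.node (.leaf 74241) (.leaf 285352210)) (.leaf 16916754)) (.node (.leaf 1187856) (.leaf 268501536))))) (.node (.node (.node (.node (.node (.leaf 4112) (.leaf 269484560)) (.leaf 16785664)) (.node (.node (.leaf 1056784) (.leaf 4296016144)) (.leaf 17900034))) (.node (.node (.node (.leaf 70161) (.leaf 270606849)) (.leaf 16912416)) (.node (.node (.leaf 1179936) (.leaf 68719612193)) (.leaf 268443922)))) (.node (.node (.node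 (.node (.leaf 65794) (.leaf 269557778)) (.leaf 16846882)) (.node (.node (.leaf 1114657) (.leaf 4296155153)) (.leaf 19009553))) (.node (.node (.node (.leaf 1048848) (.leaf 4294971937)) (.leaf 17830418)) (.node (.leaf 16777472) (.leaf 268509202)))))) (.node (.node (.node (.node (.node (.node (.leaf 273) (.leaf 268574977)) (.leaf 16781824)) (.node (.node (.leaf 1053185) (.leaf 4295103009)) (.leaf 17899536))) (.node (.node (.node (.leaf 69890) (.leaf 270598658)) (.leaf 16908562)) (.node (.node (.leaf 1122592) (.leaf 4313973010)) (.leaf 268439841)))) (.node (.node (.node (.node (.leaf 65538) (.leaf 269549840)) (.leaf 16843296)) (.node (.node (.leaf 1114400) (.leaf 4296089618)) (.leaf 18944544))) (.node (.node (.node (.leaf 1048592) (.leaf 4294967568)) (.leaf 17826336)) (.node (.leaf 1188129) (.leaf 268505122))))) (.node (.node (.node (.node (.node (.leaf 4354) (.leaf 269492225)) (.leaf 16785936)) (.node (.node (.leaf 1057056) (.leaf 4296024353)) (.leaf 17965074))) (.node (.node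 (.node (.leaf 73761) (.leaf 285217024)) (.leaf 16912929)) (.node (.node (.leaf 1183778) (.leaf 68738482450)) (.leaf 268501264)))) (.node (.node (.node (.node (.leaf 66050) (.leaf 269615394)) (.leaf 16847393)) (.node (.node (.leaf 1118720) (.leaf 4297138450)) (.leaf 268435712))) (.node (.node (.node (.leaf 1049120) (.leaf 4295033121)) (.leaf 17834498)) (.node (.leaf 16777745) (.leaf 268509698)))))))

def threeWord1 : Janko.Tree (ℕ) :=
  (.node (.node (.node (.node (.node (.node (.node (.leaf 16) (.leaf 268571138)) (.leaf 16781346)) (.node (.node (.leaf 1052928) (.leaf 4295041281)) (.leaf 17891600))) (.node (.node (.node (.leaf 69649) (.leaf 270532898)) (.leaf 16851232)) (.node (.node (.leaf 1122321) (.leaf 4311814146)) (.leaf 268439553)))) (.node (.node (.node (.node (.leaf 4624) (.leaf 269492753)) (.leaf 16843040)) (.node (.node (.leaf 1114129) (.leaf 4296081680)) (.leaf 18882849))) (.node (.node (.node (.leaf 74242) (.leaf 286269970)) (.leaf 16916769)) (.node (.leaf 1187857)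 (.leaf 268501537))))) (.node (.node (.node (.node (.node (.leaf 4113) (.leaf 269484561)) (.leaf 16785665)) (.node (.node (.leaf 1056785) (.leaf 4296016416)) (.leaf 17957138))) (.node (.node (.node (.leaf 70162) (.leaf 270663970)) (.leaf 16912418)) (.node (.node (.leaf 1179937) (.leaf 68720591377)) (.leaf 268443938)))) (.node (.node (.node (.node (.leaf 65808) (.leaf 269557793)) (.leaf 16847360)) (.node (.node (.leaf 1118209) (.leaf 4297130018)) (.leaf 19009568))) (.node (.node (.node (.leaf 1048850) (.leaf 4294975744)) (.leaf 17833985)) (.node (.leaf 16777473) (.leaf 268509217)))))) (.node (.node (.node (.node (.node (.node (.leaf 274) (.leaf 268574978)) (.leaf 16781825)) (.node (.node (.leaf 1053186) (.leaf 4295106816)) (.leaf 17899537))) (.node (.node (.node (.leaf 69920) (.leaf 270598688)) (.leaf 16908576)) (.node (.node (.leaf 1122817) (.leaf 4330684930)) (.leaf 268439842)))) (.node (.node (.node (.node (.leaf 65552) (.leaf 269549842)) (.leaf 16843297)) (.node (.node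 (.leaf 1114401) (.leaf 4296089633)) (.leaf 18944545))) (.node (.node (.node (.leaf 1048593) (.leaf 4294967585)) (.leaf 17829889)) (.node (.leaf 1188130) (.leaf 268505601))))) (.node (.node (.node (.node (.node (.leaf 4368) (.leaf 269492240)) (.leaf 16785937)) (.node (.node (.leaf 1057057) (.leaf 4296024354)) (.leaf 18874624))) (.node (.node (.node (.leaf 73984) (.leaf 285278721)) (.leaf 16916496)) (.node (.leaf 1184033) (.leaf 268501280)))) (.node (.node (.node (.node (.leaf 66064) (.leaf 269619232)) (.leaf 16850960)) (.node (.node (.leaf 1118721) (.leaf 4297138689)) (.leaf 268435714))) (.node (.node (.node (.leaf 1049121) (.leaf 4295033361)) (.leaf 17834512)) (.node (.leaf 16777746) (.leaf 268509713)))))))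

def threeWord2 : Janko.Tree (ℕ) :=
  (.node (.node (.node (.node (.node (.node (.node (.leaf 17) (.leaf 268571153)) (.leaf 16781568)) (.node (.node (.leaf 1052929) (.leaf 4295041282)) (.leaf 17891602))) (.node (.node (.node (.leaf 69650) (.leaf 270537233)) (.leaf 16851457)) (.node (.node (.leaf 1122322) (.leaf 4311875873)) (.leaf 268439569)))) (.node (.node (.node (.node (.leaf 4625) (.leaf 269492754)) (.leaf 16843041)) (.node (.node (.leaf 1114145) (.leaf 4296081682)) (.leaf 18882850))) (.node (.node (.node (.leaf 74256) (.leaf 286400530)) (.leaf 16916770)) (.node (.leaf 1187858) (.leaf 268505089))))) (.node (.node (.node (.node (.node (.leaf 4114) (.leaf 269484576)) (.leaf 16785666)) (.node (.node (.leaf 1056786) (.leaf 4296020224)) (.leaf 17957154))) (.node (.node (.node (.leaf 70176) (.leaf 270667778)) (.leaf 16912673)) (.node (.node (.leaf 1179938) (.leaf 68720599298)) (.leaf 268444176)))) (.node (.node (.node (.node (.leaf 65810) (.leaf 269558016)) (.leaf 16847361))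 (.node (.node (.leaf 1118210) (.leaf 4297130498)) (.leaf 19009825))) (.node (.node (.node (.leaf 1048864) (.leaf 4294975745)) (.leaf 17834000)) (.node (.leaf 16777474) (.leaf 268509440)))))) (.node (.node (.node (.node (.node (.node (.leaf 288) (.leaf 268574994)) (.leaf 16781826)) (.node (.node (.leaf 1053200) (.leaf 4295106817)) (.leaf 17899538))) (.node (.node (.node (.leaf 69921) (.leaf 270602769)) (.leaf 16908577)) (.node (.node (.leaf 1122818) (.leaf 68719481089)) (.leaf 268440080)))) (.node (.node (.node (.node (.leaf 65553) (.leaf 269549856)) (.leaf 16846849)) (.node (.node (.leaf 1114624) (.leaf 4296089858)) (.leaf 18948129))) (.node (.node (.node (.leaf 1048594) (.leaf 4294967586)) (.leaf 17829920)) (.node (.leaf 16777216) (.leaf 268505602))))) (.node (.node (.node (.node (.node (.leaf 4370) (.leaf 269492241)) (.leaf 16785938)) (.node (.node (.leaf 1057058) (.leaf 4296024578)) (.leaf 18874625))) (.node (.node (.node (.leaf 73985) (.leaf 285278738)) (.leaf 16916497))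 (.node (.leaf 1184034) (.leaf 268501281)))) (.node (.node (.node (.node (.leaf 66065) (.leaf 269619234)) (.leaf 16850961)) (.node (.node (.leaf 1118722) (.leaf 4297195810)) (.leaf 268435728))) (.node (.node (.node (.leaf 1052673) (.leaf 4295033362)) (.leaf 17834513)) (.node (.leaf 16777761) (.leaf 268570626)))))))

def threeWord3 : Janko.Tree (ℕ) :=
  (.node (.node (.node (.node (.node (.node (.node (.leaf 18) (.leaf 268571168)) (.leaf 16781569)) (.node (.node (.leaf 1052930) (.leaf 4295041298)) (.leaf 17891616))) (.node (.node (.node (.leaf 69664) (.leaf 270541056)) (.leaf 16851458)) (.node (.node (.leaf 1122337) (.leaf 4311880225)) (.leaf 268439570)))) (.node (.node (.node (.node (.leaf 4626) (.leaf 269549584)) (.leaf 16843264)) (.node (.node (.leaf 1114146) (.leaf 4296081696)) (.leaf 18939938))) (.node (.node (.node (.leaf 74257) (.leaf 287441170)) (.leaf 17826048)) (.node (.leaf 1187873) (.leaf 268505090))))) (.node (.node (.node (.node (.node (.leaf 4128) (.leaf 269488384))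 (.leaf 16785682)) (.node (.node (.leaf 1056801) (.leaf 4296020497)) (.leaf 17960992))) (.node (.node (.node (.leaf 70177) (.leaf 270667793)) (.leaf 16912674)) (.node (.node (.leaf 1180176) (.leaf 68736258049)) (.leaf 268444177)))) (.node (.node (.node (.node (.leaf 65824) (.leaf 269558018)) (.leaf 16847362)) (.node (.node (.leaf 1118224) (.leaf 4297130528)) (.leaf 19010080))) (.node (.node (.node (.leaf 1048865) (.leaf 4294975762)) (.leaf 17834001)) (.node (.leaf 16777488) (.leaf 268509441)))))) (.node (.node (.node (.node (.node (.node (.leaf 289) (.leaf 268575009)) (.leaf 16781840)) (.node (.node (.leaf 1053201) (.leaf 4295106818)) (.leaf 17899553))) (.node (.node (.node (.leaf 69922) (.leaf 270602770)) (.leaf 16908578)) (.node (.node (.leaf 1122833) (.leaf 68719481361)) (.leaf 268440081)))) (.node (.node (.node (.node (.leaf 65554) (.leaf 269550097)) (.leaf 16846850)) (.node (.node (.leaf 1114625) (.leaf 4296089888)) (.leaf 18948370))) (.node (.node (.node (.leaf 1048609)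 (.leaf 4294971425)) (.leaf 17829921)) (.node (.leaf 16777217) (.leaf 268505616))))) (.node (.node (.node (.node (.node (.leaf 4384) (.leaf 269492242)) (.leaf 16842768)) (.node (.node (.leaf 1057281) (.leaf 4296024593)) (.leaf 18874640))) (.node (.node (.node (.leaf 73986) (.leaf 285282306)) (.leaf 16916498)) (.node (.leaf 1184256) (.leaf 268501504)))) (.node (.node (.node (.node (.leaf 66066) (.leaf 269619712)) (.leaf 16850962)) (.node (.node (.leaf 1118736) (.leaf 4297199618)) (.leaf 268435730))) (.node (.node (.node (.leaf 1052674) (.leaf 4295036929)) (.leaf 17834514)) (.node (.leaf 16781313) (.leaf 268570641)))))))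

def threeWord4 : Janko.Tree (ℕ) :=
  (.node (.node (.node (.node (.node (.node (.node (.leaf 256) (.leaf 268571169)) (.leaf 16781570)) (.node (.node (.leaf 1052960) (.leaf 4295041553)) (.leaf 17891857))) (.node (.node (.node (.leaf 69665) (.leaf 270541088)) (.leaf 16851473)) (.node (.node (.leaf 1122560) (.leaf 4311884033)) (.leaf 268439585)))) (.node (.node (.node (.node (.leaf 4640) (.leaf 269549601)) (.leaf 16843265)) (.node (.node (.leaf 1114368) (.leaf 4296081937)) (.leaf 18940418))) (.node (.node (.node (.leaf 74258) (.leaf 304153090)) (.leaf 17826049)) (.node (.leaf 1188096) (.leaf 268505104))))) (.node (.node (.node (.node (.node (.leaf 4129) (.leaf 269488418)) (.leaf 16785696)) (.node (.node (.leaf 1057024) (.leaf 4296020498)) (.leaf 17960994))) (.node (.node (.node (.leaf 73729) (.leaf 270667808)) (.leaf 16912896)) (.node (.node (.leaf 1180178) (.leaf 68736389665)) (.leaf 268444178)))) (.node (.node (.node (.node (.leaf 65825) (.leaf 269558048)) (.leaf 16847376))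 (.node (.node (.leaf 1118225) (.leaf 4297134609)) (.leaf 268435457))) (.node (.node (.node (.leaf 1048866) (.leaf 4294975778)) (.leaf 17834002)) (.node (.leaf 16777490) (.leaf 268509442)))))) (.node (.node (.node (.node (.node (.node (.leaf 290) (.leaf 268575010)) (.leaf 16781841)) (.node (.node (.leaf 1053202) (.leaf 4295106834)) (.leaf 17899776))) (.node (.node (.node (.leaf 70144) (.leaf 270602784)) (.leaf 16908816)) (.node (.node (.leaf 1179664) (.leaf 68719546369)) (.leaf 268440097)))) (.node (.node (.node (.node (.leaf 65569) (.leaf 269550098)) (.leaf 16846864)) (.node (.node (.leaf 1114626) (.leaf 4296090113)) (.leaf 18948609))) (.node (.node (.node (.leaf 1048610) (.leaf 4294971648)) (.leaf 17830144)) (.node (.leaf 16777232) (.leaf 268505618))))) (.node (.node (.node (.node (.node (.leaf 4385) (.leaf 269492513)) (.leaf 16842769)) (.node (.node (.leaf 1057282) (.leaf 4296024594)) (.leaf 18874658))) (.node (.node (.node (.leaf 74002) (.leaf 285343761)) (.leaf 16916513))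 (.node (.leaf 1184258) (.leaf 268501505)))) (.node (.node (.node (.node (.leaf 66080) (.leaf 269619714)) (.leaf 16850977)) (.node (.node (.leaf 1118737) (.leaf 4297199633)) (.leaf 268435745))) (.node (.node (.node (.leaf 1052689) (.leaf 4295036946)) (.leaf 17891344)) (.node (.leaf 16781314) (.leaf 268570656)))))))

def threeWord5 : Janko.Tree (ℕ) :=
  (.node (.node (.node (.node (.node (.node (.node (.leaf 257) (.leaf 268574736)) (.leaf 16781600)) (.node (.node (.leaf 1052961) (.leaf 4295102481)) (.leaf 17891858))) (.node (.node (.node (.leaf 69666) (.leaf 270541089)) (.leaf 16908304)) (.node (.node (.leaf 1122561) (.leaf 4311884050)) (.leaf 268439808)))) (.node (.node (.node (.node (.leaf 4641) (.leaf 269549602)) (.leaf 16843266)) (.node (.node (.leaf 1114370) (.leaf 4296081938)) (.leaf 18940448))) (.node (.node (.node (.leaf 1048576) (.leaf 4294967313)) (.leaf 17826064)) (.node (.leaf 1188097) (.leaf 268505105))))) (.node (.node (.node (.node (.node (.leaf 4130) (.leaf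 269488656)) (.leaf 16785697)) (.node (.node (.leaf 1057025) (.leaf 4296024065)) (.leaf 17961472))) (.node (.node (.node (.leaf 73744) (.leaf 270668065)) (.leaf 16912898)) (.node (.node (.leaf 1183746) (.leaf 68736393490)) (.leaf 268501008)))) (.node (.node (.node (.node (.leaf 65826) (.leaf 269558273)) (.leaf 16847377)) (.node (.node (.leaf 1118226) (.leaf 4297134610)) (.leaf 268435472))) (.node (.node (.node (.leaf 1049104) (.leaf 4295032848)) (.leaf 17834273)) (.node (.leaf 16777505) (.leaf 268509458)))))) (.node (.node (.node (.node (.node (.node (.leaf 4096) (.leaf 269484288)) (.leaf 16781842)) (.node (.node (.leaf 1053216) (.leaf 4295106850)) (.leaf 17899778))) (.node (.node (.node (.leaf 70145) (.leaf 270602785)) (.leaf 16908818)) (.node (.node (.leaf 1179665) (.leaf 68719546401)) (.leaf 268443904)))) (.node (.node (.node (.node (.leaf 65570) (.leaf 269550113)) (.leaf 16846865)) (.node (.node (.leaf 1114641) (.leaf 4296147234)) (.leaf 19005714))) (.node (.node (.node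 (.leaf 1048832) (.leaf 4294971649)) (.leaf 17830178)) (.node (.leaf 16777233) (.leaf 268505632))))) (.node (.node (.node (.node (.node (.leaf 4386) (.leaf 269492514)) (.leaf 16842785)) (.node (.node (.leaf 1057296) (.leaf 4296081424)) (.leaf 18878993))) (.node (.node (.node (.leaf 74016) (.leaf 285344033)) (.leaf 16916736)) (.node (.leaf 1184273) (.leaf 268501506)))) (.node (.node (.node (.node (.leaf 66081) (.leaf 269623313)) (.leaf 16851200)) (.node (.node (.leaf 1118738) (.leaf 4297199648)) (.leaf 268435746))) (.node (.node (.node (.leaf 1052690) (.leaf 4295036961)) (.leaf 17891361)) (.node (.leaf 16781329) (.leaf 268570658)))))))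

def threeWord6 : Janko.Tree (ℕ) :=
  (.node (.node (.node (.node (.node (.node (.node (.leaf 258) (.leaf 268574738)) (.leaf 16781601)) (.node (.node (.leaf 1052962) (.leaf 4295102753)) (.leaf 17891872))) (.node (.node (.node (.leaf 69888) (.leaf 270541090)) (.leaf 16908305)) (.node (.node (.leaf 1122562) (.leaf 4312801810)) (.leaf 268439809)))) (.node (.node (.node (.node (.leaf 65536) (.leaf 269549824)) (.leaf 16843281)) (.node (.node (.leaf 1114384) (.leaf 4296081953)) (.leaf 18944529))) (.node (.node (.node (.leaf 1048577) (.leaf 4294967552)) (.leaf 17826320)) (.node (.leaf 1188098) (.leaf 268505106))))) (.node (.node (.node (.node (.node (.leaf 4352) (.leaf 269488657)) (.leaf 16785698)) (.node (.node (.leaf 1057026) (.leaf 4296024080)) (.leaf 17961474))) (.node (.node (.node (.leaf 73745) (.leaf 270668320)) (.leaf 16912913)) (.node (.node (.leaf 1183761) (.leaf 68737311250)) (.leaf 268501009)))) (.node (.node (.node (.node (.leaf 66048) (.leaf 269558274)) (.leaf 16847378))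 (.node (.node (.leaf 1118241) (.leaf 4297134624)) (.leaf 268435473))) (.node (.node (.node (.leaf 1049105) (.leaf 4295032849)) (.leaf 17834274)) (.node (.leaf 16777506) (.leaf 268509472)))))) (.node (.node (.node (.node (.node (.node (.leaf 4097) (.leaf 269484289)) (.leaf 16781856)) (.node (.node (.leaf 1053217) (.leaf 4296016128)) (.leaf 17899808))) (.node (.node (.node (.leaf 70146) (.leaf 270606369)) (.leaf 16912386)) (.node (.node (.leaf 1179666) (.leaf 68719550993)) (.leaf 268443905)))) (.node (.node (.node (.node (.leaf 65792) (.leaf 269557776)) (.leaf 16846866)) (.node (.node (.leaf 1114642) (.leaf 4296151552)) (.leaf 19005730))) (.node (.node (.node (.leaf 1048833) (.leaf 4294971650)) (.leaf 17830416)) (.node (.leaf 16777234) (.leaf 268505633))))) (.node (.node (.node (.node (.node (.leaf 4608) (.leaf 269492737)) (.leaf 16842786)) (.node (.node (.leaf 1057297) (.leaf 4296081441)) (.leaf 18878994))) (.node (.node (.node (.leaf 74017) (.leaf 285348385)) (.leaf 16916737))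 (.node (.leaf 1184288) (.leaf 268501521)))) (.node (.node (.node (.node (.leaf 69633) (.leaf 269623314)) (.leaf 16851201)) (.node (.node (.leaf 1118752) (.leaf 4297200160)) (.leaf 268435984))) (.node (.node (.node (.leaf 1052704) (.leaf 4295037456)) (.leaf 17891362)) (.node (.leaf 16781330) (.leaf 268570913)))))))

def threeWord7 : Janko.Tree (ℕ) :=
  (.node (.node (.node (.node (.node (.node (.node (.leaf 272) (.leaf 268574976)) (.leaf 16781602)) (.node (.node (.leaf 1053184) (.leaf 4295102754)) (.leaf 17891873))) (.node (.node (.node (.leaf 69889) (.leaf 270598178)) (.leaf 16908306)) (.node (.node (.leaf 1122578) (.leaf 4312932370)) (.leaf 268439810)))) (.node (.node (.node (.node (.leaf 65537) (.leaf 269549826)) (.leaf 16843282)) (.node (.node (.leaf 1114386) (.leaf 4296089617)) (.leaf 18944530))) (.node (.node (.node (.leaf 1048578) (.leaf 4294967554)) (.leaf 17826321)) (.node (.leaf 1188114) (.leaf 268505121))))) (.node (.node (.node (.node (.node (.leaf 4353) (.leaf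 269488658)) (.leaf 16785921)) (.node (.node (.leaf 1057042) (.leaf 4296024081)) (.leaf 17965073))) (.node (.node (.node (.leaf 73746) (.leaf 285216769)) (.leaf 16912928)) (.node (.node (.leaf 1183776) (.leaf 68737441810)) (.leaf 268501026)))) (.node (.node (.node (.node (.leaf 66049) (.leaf 269615378)) (.leaf 16847392)) (.node (.node (.leaf 1118242) (.leaf 4297138209)) (.leaf 268435474))) (.node (.node (.node (.leaf 1049106) (.leaf 4295033104)) (.leaf 17834497)) (.node (.leaf 16777744) (.leaf 268509697)))))) (.node (.node (.node (.node (.node (.node (.leaf 4098) (.leaf 269484304)) (.leaf 16781857)) (.node (.node (.leaf 1056769) (.leaf 4296016129)) (.leaf 17900033))) (.node (.node (.node (.leaf 70160) (.leaf 270606610)) (.leaf 16912401)) (.node (.node (.leaf 1179922) (.leaf 68719611921)) (.leaf 268443906)))) (.node (.node (.node (.node (.leaf 65793) (.leaf 269557777)) (.leaf 16846881)) (.node (.node (.leaf 1114656) (.leaf 4296151554)) (.leaf 19009538))) (.node (.node (.node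 (.leaf 1048834) (.leaf 4294971921)) (.leaf 17830417)) (.node (.leaf 16777249) (.leaf 268509201))))) (.node (.node (.node (.node (.node (.leaf 4609) (.leaf 269492738)) (.leaf 16843024)) (.node (.node (.leaf 1057298) (.leaf 4296081442)) (.leaf 18882816))) (.node (.node (.node (.leaf 74018) (.leaf 285352193)) (.leaf 16916738)) (.node (.leaf 1184289) (.leaf 268501522)))) (.node (.node (.node (.node (.leaf 69634) (.leaf 270532864)) (.leaf 16851202)) (.node (.node (.leaf 1118753) (.leaf 4311748609)) (.leaf 268435985))) (.node (.node (.node (.leaf 1052705) (.leaf 4295037473)) (.leaf 17891584)) (.node (.leaf 16781344) (.leaf 268570914)))))))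

def threeWord : Janko.Tree (ℕ) := (.node (.node (.node threeWord0 threeWord4) (.node threeWord2 threeWord6)) (.node (.node threeWord1 threeWord5) (.node threeWord3 threeWord7)))

def threePar0 : Janko.Tree (ℕ) :=
  (.node (.node (.node (.node (.node (.node (.node (.leaf 0) (.leaf 4416)) (.leaf 1777)) (.node (.node (.leaf 770) (.leaf 7328)) (.leaf 2866))) (.node (.node (.node (.leaf 368) (.leaf 5201)) (.leaf 2226)) (.node (.node (.leaf 1232) (.leaf 8432)) (.leaf 3826)))) (.node (.node (.node (.node (.leaf 162) (.leaf 4752)) (.leaf 1986)) (.node (.node (.leaf 992) (.leaf 7744)) (.leaf 3392))) (.node (.node (.node (.leaf 577) (.leaf 6050)) (.leaf 2530)) (.node (.leaf 1536) (.leaf 4112))))) (.node (.node (.node (.node (.node (.leaf 80) (.leaf 4560)) (.leaf 1872)) (.node (.node (.leaf 880) (.leaf 7520)) (.leaf 3042))) (.node (.node (.node (.leaf 449) (.leaf 5489)) (.leaf 2400)) (.node (.node (.leaf 1392) (.leaf 10033)) (.leaf 3970)))) (.node (.node (.node (.node (.leaf 258) (.leaf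 4898)) (.leaf 2098)) (.node (.node (.leaf 1105) (.leaf 8049)) (.leaf 3665))) (.node (.node (.node (.leaf 672) (.leaf 7121)) (.leaf 2706)) (.node (.leaf 1664) (.leaf 4242)))))) (.node (.node (.node (.node (.node (.node (.leaf 33) (.leaf 4481)) (.leaf 1824)) (.node (.node (.leaf 817) (.leaf 7441)) (.leaf 2960))) (.node (.node (.node (.leaf 402) (.leaf 5378)) (.leaf 2322)) (.node (.node (.leaf 1296) (.leaf 9170)) (.leaf 3905)))) (.node (.node (.node (.node (.leaf 210) (.leaf 4816)) (.leaf 2048)) (.node (.node (.leaf 1056) (.leaf 7826)) (.leaf 3488))) (.node (.node (.node (.leaf 624) (.leaf 7008)) (.leaf 2608)) (.node (.leaf 1601) (.leaf 4162))))) (.node (.node (.node (.node (.node (.leaf 114) (.leaf 4657)) (.leaf 1936)) (.node (.node (.leaf 944) (.leaf 7665)) (.leaf 3218))) (.node (.node (.node (.leaf 513) (.leaf 5712)) (.leaf 2465)) (.node (.node (.leaf 1458) (.leaf 11010)) (.leaf 4048)))) (.node (.node (.node (.node (.leaf 306) (.leaf 5042)) (.leaf 2145)) (.node (.node (.leaf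 1168) (.leaf 8226)) (.leaf 3776))) (.node (.node (.node (.leaf 720) (.leaf 7217)) (.leaf 2802)) (.node (.leaf 1713) (.leaf 4322)))))))

def threePar1 : Janko.Tree (ℕ) :=
  (.node (.node (.node (.node (.node (.node (.node (.leaf 0) (.leaf 4418)) (.leaf 1778)) (.node (.node (.leaf 784) (.leaf 7329)) (.leaf 2880))) (.node (.node (.node (.leaf 369) (.leaf 5234)) (.leaf 2240)) (.node (.node (.leaf 1233) (.leaf 8498)) (.leaf 3841)))) (.node (.node (.node (.node (.leaf 176) (.leaf 4753)) (.leaf 2000)) (.node (.node (.leaf 993) (.leaf 7760)) (.leaf 3393))) (.node (.node (.node (.leaf 578) (.leaf 6258)) (.leaf 2545)) (.node (.leaf 1537) (.leaf 4113))))) (.node (.node (.node (.node (.node (.leaf 81) (.leaf 4561)) (.leaf 1873)) (.node (.node (.leaf 881) (.leaf 7536)) (.leaf 3090))) (.node (.node (.node (.leaf 450) (.leaf 5554)) (.leaf 2402)) (.node (.node (.leaf 1393) (.leaf 10193)) (.leaf 3986)))) (.node (.node (.node (.node (.leaf 272) (.leaf 4913)) (.leaf 2112)) (.node (.node (.leaf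 1121) (.leaf 8098)) (.leaf 3680))) (.node (.node (.node (.leaf 674) (.leaf 7136)) (.leaf 2721)) (.node (.leaf 1665) (.leaf 4257)))))) (.node (.node (.node (.node (.node (.node (.leaf 34) (.leaf 4482)) (.leaf 1825)) (.node (.node (.leaf 818) (.leaf 7456)) (.leaf 2961))) (.node (.node (.node (.leaf 416) (.leaf 5392)) (.leaf 2336)) (.node (.node (.leaf 1313) (.leaf 9538)) (.leaf 3906)))) (.node (.node (.node (.node (.leaf 224) (.leaf 4818)) (.leaf 2049)) (.node (.node (.leaf 1057) (.leaf 7841)) (.leaf 3489))) (.node (.node (.node (.leaf 625) (.leaf 7025)) (.leaf 2625)) (.node (.leaf 1602) (.leaf 4177))))) (.node (.node (.node (.node (.node (.leaf 128) (.leaf 4672)) (.leaf 1937)) (.node (.node (.leaf 945) (.leaf 7666)) (.leaf 3264))) (.node (.node (.node (.leaf 528) (.leaf 5793)) (.leaf 2480)) (.node (.leaf 1473) (.leaf 4064)))) (.node (.node (.node (.node (.leaf 320) (.leaf 5104)) (.leaf 2176)) (.node (.node (.leaf 1169) (.leaf 8241)) (.leaf 3778))) (.node (.node (.node (.leaf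 721) (.leaf 7233)) (.leaf 2816)) (.node (.leaf 1714) (.leaf 4337)))))))

def threePar2 : Janko.Tree (ℕ) :=
  (.node (.node (.node (.node (.node (.node (.node (.leaf 1) (.leaf 4433)) (.leaf 1792)) (.node (.node (.leaf 785) (.leaf 7330)) (.leaf 2882))) (.node (.node (.node (.leaf 370) (.leaf 5281)) (.leaf 2257)) (.node (.node (.leaf 1234) (.leaf 8625)) (.leaf 3857)))) (.node (.node (.node (.node (.leaf 177) (.leaf 4754)) (.leaf 2001)) (.node (.node (.leaf 1009) (.leaf 7762)) (.leaf 3394))) (.node (.node (.node (.leaf 592) (.leaf 6386)) (.leaf 2546)) (.node (.leaf 1538) (.leaf 4129))))) (.node (.node (.node (.node (.node (.leaf 82) (.leaf 4576)) (.leaf 1874)) (.node (.node (.leaf 882) (.leaf 7552)) (.leaf 3106))) (.node (.node (.node (.leaf 464) (.leaf 5586)) (.leaf 2417)) (.node (.node (.leaf 1394) (.leaf 10210)) (.leaf 4000)))) (.node (.node (.node (.node (.leaf 274) (.leaf 4928)) (.leaf 2113)) (.node (.node (.leaf 1122) (.leaf 8130)) (.leaf 3697))) (.node (.node (.node (.leaf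 688) (.leaf 7137)) (.leaf 2736)) (.node (.leaf 1666) (.leaf 4272)))))) (.node (.node (.node (.node (.node (.node (.leaf 48) (.leaf 4498)) (.leaf 1826)) (.node (.node (.leaf 832) (.leaf 7457)) (.leaf 2962))) (.node (.node (.node (.leaf 417) (.leaf 5409)) (.leaf 2337)) (.node (.node (.leaf 1314) (.leaf 9857)) (.leaf 3920)))) (.node (.node (.node (.node (.leaf 225) (.leaf 4832)) (.leaf 2065)) (.node (.node (.leaf 1072) (.leaf 7858)) (.leaf 3521))) (.node (.node (.node (.leaf 626) (.leaf 7026)) (.leaf 2640)) (.node (.leaf 1616) (.leaf 4178))))) (.node (.node (.node (.node (.node (.leaf 130) (.leaf 4673)) (.leaf 1938)) (.node (.node (.leaf 946) (.leaf 7682)) (.leaf 3265))) (.node (.node (.node (.leaf 529) (.leaf 5810)) (.leaf 2481)) (.node (.leaf 1474) (.leaf 4065)))) (.node (.node (.node (.node (.leaf 321) (.leaf 5106)) (.leaf 2177)) (.node (.node (.leaf 1170) (.leaf 8290)) (.leaf 3792))) (.node (.node (.node (.leaf 737) (.leaf 7234)) (.leaf 2817)) (.node (.leaf 1729) (.leaf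 4354)))))))

def threePar3 : Janko.Tree (ℕ) :=
  (.node (.node (.node (.node (.node (.node (.node (.leaf 2) (.leaf 4448)) (.leaf 1793)) (.node (.node (.leaf 786) (.leaf 7346)) (.leaf 2896))) (.node (.node (.node (.leaf 384) (.leaf 5312)) (.leaf 2258)) (.node (.node (.leaf 1249) (.leaf 8657)) (.leaf 3858)))) (.node (.node (.node (.node (.leaf 178) (.leaf 4768)) (.leaf 2016)) (.node (.node (.leaf 1010) (.leaf 7776)) (.leaf 3410))) (.node (.node (.node (.leaf 593) (.leaf 6514)) (.leaf 2560)) (.node (.leaf 1553) (.leaf 4130))))) (.node (.node (.node (.node (.node (.leaf 96) (.leaf 4592)) (.leaf 1890)) (.node (.node (.leaf 897) (.leaf 7585)) (.leaf 3168))) (.node (.node (.node (.leaf 465) (.leaf 5601)) (.leaf 2418)) (.node (.node (.leaf 1408) (.leaf 10465)) (.leaf 4001)))) (.node (.node (.node (.node (.leaf 288) (.leaf 4930)) (.leaf 2114)) (.node (.node (.leaf 1136) (.leaf 8144)) (.leaf 3728))) (.node (.node (.node (.leaf 689) (.leaf 7154)) (.leaf 2737)) (.node (.leaf 1680) (.leaf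 4273)))))) (.node (.node (.node (.node (.node (.node (.leaf 49) (.leaf 4513)) (.leaf 1840)) (.node (.node (.leaf 833) (.leaf 7458)) (.leaf 2977))) (.node (.node (.node (.leaf 418) (.leaf 5410)) (.leaf 2338)) (.node (.node (.leaf 1329) (.leaf 9873)) (.leaf 3921)))) (.node (.node (.node (.node (.leaf 226) (.leaf 4849)) (.leaf 2066)) (.node (.node (.leaf 1073) (.leaf 7872)) (.leaf 3538))) (.node (.node (.node (.leaf 641) (.leaf 7057)) (.leaf 2641)) (.node (.leaf 1617) (.leaf 4192))))) (.node (.node (.node (.node (.node (.leaf 144) (.leaf 4674)) (.leaf 1952)) (.node (.node (.leaf 961) (.leaf 7697)) (.leaf 3280))) (.node (.node (.node (.leaf 530) (.leaf 5826)) (.leaf 2482)) (.node (.leaf 1488) (.leaf 4080)))) (.node (.node (.node (.node (.leaf 322) (.leaf 5136)) (.leaf 2178)) (.node (.node (.leaf 1184) (.leaf 8306)) (.leaf 3794))) (.node (.node (.node (.leaf 738) (.leaf 7249)) (.leaf 2818)) (.node (.leaf 1745) (.leaf 4369)))))))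

def threePar4 : Janko.Tree (ℕ) :=
  (.node (.node (.node (.node (.node (.node (.node (.leaf 16) (.leaf 4449)) (.leaf 1794)) (.node (.node (.leaf 800) (.leaf 7361)) (.leaf 2913))) (.node (.node (.node (.leaf 385) (.leaf 5328)) (.leaf 2273)) (.node (.node (.leaf 1264) (.leaf 8705)) (.leaf 3873)))) (.node (.node (.node (.node (.leaf 192) (.leaf 4785)) (.leaf 2017)) (.node (.node (.leaf 1024) (.leaf 7793)) (.leaf 3442))) (.node (.node (.node (.leaf 594) (.leaf 6930)) (.leaf 2561)) (.node (.leaf 1568) (.leaf 4144))))) (.node (.node (.node (.node (.node (.leaf 97) (.leaf 4610)) (.leaf 1904)) (.node (.node (.leaf 912) (.leaf 7586)) (.leaf 3170))) (.node (.node (.node (.leaf 481) (.leaf 5616)) (.leaf 2432)) (.node (.node (.leaf 1410) (.leaf 10641)) (.leaf 4002)))) (.node (.node (.node (.node (.leaf 289) (.leaf 4960)) (.leaf 2128)) (.node (.node (.leaf 1137) (.leaf 8161)) (.leaf 3745))) (.node (.node (.node (.leaf 690) (.leaf 7170)) (.leaf 2738)) (.node (.leaf 1682) (.leaf 4274))))))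 (.node (.node (.node (.node (.node (.node (.leaf 50) (.leaf 4514)) (.leaf 1841)) (.node (.node (.leaf 834) (.leaf 7474)) (.leaf 2992))) (.node (.node (.node (.leaf 432) (.leaf 5424)) (.leaf 2352)) (.node (.node (.leaf 1344) (.leaf 9921)) (.leaf 3937)))) (.node (.node (.node (.node (.leaf 241) (.leaf 4850)) (.leaf 2080)) (.node (.node (.leaf 1074) (.leaf 7889)) (.leaf 3553))) (.node (.node (.node (.leaf 642) (.leaf 7072)) (.leaf 2656)) (.node (.leaf 1632) (.leaf 4194))))) (.node (.node (.node (.node (.node (.leaf 145) (.leaf 4721)) (.leaf 1953)) (.node (.node (.leaf 962) (.leaf 7698)) (.leaf 3298))) (.node (.node (.node (.leaf 546) (.leaf 5905)) (.leaf 2497)) (.node (.leaf 1490) (.leaf 4081)))) (.node (.node (.node (.node (.leaf 336) (.leaf 5138)) (.leaf 2193)) (.node (.node (.leaf 1185) (.leaf 8321)) (.leaf 3809))) (.node (.node (.node (.leaf 753) (.leaf 7266)) (.leaf 2832)) (.node (.leaf 1746) (.leaf 4384)))))))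

def threePar5 : Janko.Tree (ℕ) :=
  (.node (.node (.node (.node (.node (.node (.node (.leaf 17) (.leaf 4464)) (.leaf 1808)) (.node (.node (.leaf 801) (.leaf 7393)) (.leaf 2914))) (.node (.node (.node (.leaf 386) (.leaf 5329)) (.leaf 2288)) (.node (.node (.leaf 1265) (.leaf 8722)) (.leaf 3888)))) (.node (.node (.node (.node (.leaf 193) (.leaf 4786)) (.leaf 2018)) (.node (.node (.leaf 1026) (.leaf 7794)) (.leaf 3456))) (.node (.node (.node (.leaf 608) (.leaf 6977)) (.leaf 2576)) (.node (.leaf 1569) (.leaf 4145))))) (.node (.node (.node (.node (.node (.leaf 98) (.leaf 4640)) (.leaf 1905)) (.node (.node (.leaf 913) (.leaf 7601)) (.leaf 3200))) (.node (.node (.node (.leaf 496) (.leaf 5633)) (.leaf 2434)) (.node (.node (.leaf 1426) (.leaf 10674)) (.leaf 4016)))) (.node (.node (.node (.node (.leaf 290) (.leaf 4977)) (.leaf 2129)) (.node (.node (.leaf 1138) (.leaf 8162)) (.leaf 3760))) (.node (.node (.node (.leaf 704) (.leaf 7184)) (.leaf 2785)) (.node (.leaf 1697) (.leaf 4290))))))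 (.node (.node (.node (.node (.node (.node (.leaf 64) (.leaf 4528)) (.leaf 1842)) (.node (.node (.leaf 848) (.leaf 7490)) (.leaf 2994))) (.node (.node (.node (.leaf 433) (.leaf 5425)) (.leaf 2354)) (.node (.node (.leaf 1345) (.leaf 9953)) (.leaf 3952)))) (.node (.node (.node (.node (.leaf 242) (.leaf 4865)) (.leaf 2081)) (.node (.node (.leaf 1089) (.leaf 7938)) (.leaf 3602))) (.node (.node (.node (.leaf 656) (.leaf 7073)) (.leaf 2674)) (.node (.leaf 1633) (.leaf 4208))))) (.node (.node (.node (.node (.node (.leaf 146) (.leaf 4722)) (.leaf 1969)) (.node (.node (.leaf 976) (.leaf 7712)) (.leaf 3345))) (.node (.node (.node (.leaf 560) (.leaf 5953)) (.leaf 2512)) (.node (.leaf 1505) (.leaf 4082)))) (.node (.node (.node (.node (.leaf 337) (.leaf 5153)) (.leaf 2208)) (.node (.node (.leaf 1186) (.leaf 8336)) (.leaf 3810))) (.node (.node (.node (.leaf 754) (.leaf 7281)) (.leaf 2849)) (.node (.leaf 1761) (.leaf 4386)))))))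

def threePar6 : Janko.Tree (ℕ) :=
  (.node (.node (.node (.node (.node (.node (.node (.leaf 18) (.leaf 4466)) (.leaf 1809)) (.node (.node (.leaf 802) (.leaf 7425)) (.leaf 2928))) (.node (.node (.node (.leaf 400) (.leaf 5330)) (.leaf 2289)) (.node (.node (.leaf 1266) (.leaf 8914)) (.leaf 3889)))) (.node (.node (.node (.node (.leaf 208) (.leaf 4800)) (.leaf 2033)) (.node (.node (.leaf 1040) (.leaf 7809)) (.leaf 3473))) (.node (.node (.node (.leaf 609) (.leaf 6992)) (.leaf 2592)) (.node (.leaf 1570) (.leaf 4146))))) (.node (.node (.node (.node (.node (.leaf 112) (.leaf 4641)) (.leaf 1906)) (.node (.node (.leaf 914) (.leaf 7616)) (.leaf 3202))) (.node (.node (.node (.leaf 497) (.leaf 5664)) (.leaf 2449)) (.node (.node (.leaf 1441) (.leaf 10850)) (.leaf 4017)))) (.node (.node (.node (.node (.leaf 304) (.leaf 4978)) (.leaf 2130)) (.node (.node (.leaf 1153) (.leaf 8176)) (.leaf 3761))) (.node (.node (.node (.leaf 705) (.leaf 7185)) (.leaf 2786)) (.node (.leaf 1698) (.leaf 4304))))))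 (.node (.node (.node (.node (.node (.node (.leaf 65) (.leaf 4529)) (.leaf 1856)) (.node (.node (.leaf 849) (.leaf 7504)) (.leaf 3024))) (.node (.node (.node (.leaf 434) (.leaf 5457)) (.leaf 2370)) (.node (.node (.leaf 1346) (.leaf 9985)) (.leaf 3953)))) (.node (.node (.node (.node (.leaf 256) (.leaf 4896)) (.leaf 2082)) (.node (.node (.leaf 1090) (.leaf 8032)) (.leaf 3618))) (.node (.node (.node (.leaf 657) (.leaf 7074)) (.leaf 2704)) (.node (.leaf 1634) (.leaf 4209))))) (.node (.node (.node (.node (.node (.leaf 160) (.leaf 4737)) (.leaf 1970)) (.node (.node (.leaf 977) (.leaf 7729)) (.leaf 3346))) (.node (.node (.node (.leaf 561) (.leaf 5985)) (.leaf 2513)) (.node (.leaf 1520) (.leaf 4097)))) (.node (.node (.node (.node (.leaf 353) (.leaf 5154)) (.leaf 2209)) (.node (.node (.leaf 1200) (.leaf 8384)) (.leaf 3824))) (.node (.node (.node (.leaf 768) (.leaf 7296)) (.leaf 2850)) (.node (.leaf 1762) (.leaf 4401)))))))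

def threePar7 : Janko.Tree (ℕ) :=
  (.node (.node (.node (.node (.node (.node (.node (.leaf 32) (.leaf 4480)) (.leaf 1810)) (.node (.node (.leaf 816) (.leaf 7426)) (.leaf 2929))) (.node (.node (.node (.leaf 401) (.leaf 5346)) (.leaf 2290)) (.node (.node (.leaf 1282) (.leaf 9042)) (.leaf 3890)))) (.node (.node (.node (.node (.leaf 209) (.leaf 4802)) (.leaf 2034)) (.node (.node (.leaf 1042) (.leaf 7825)) (.leaf 3474))) (.node (.node (.node (.leaf 610) (.leaf 6994)) (.leaf 2593)) (.node (.leaf 1586) (.leaf 4161))))) (.node (.node (.node (.node (.node (.leaf 113) (.leaf 4642)) (.leaf 1921)) (.node (.node (.leaf 930) (.leaf 7617)) (.leaf 3217))) (.node (.node (.node (.leaf 498) (.leaf 5681)) (.leaf 2464)) (.node (.node (.leaf 1456) (.leaf 10946)) (.leaf 4034)))) (.node (.node (.node (.node (.leaf 305) (.leaf 5026)) (.leaf 2144)) (.node (.node (.leaf 1154) (.leaf 8209)) (.leaf 3762))) (.node (.node (.node (.leaf 706) (.leaf 7200)) (.leaf 2801)) (.node (.leaf 1712) (.leaf 4321))))))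 (.node (.node (.node (.node (.node (.node (.leaf 66) (.leaf 4544)) (.leaf 1857)) (.node (.node (.leaf 865) (.leaf 7505)) (.leaf 3041))) (.node (.node (.node (.leaf 448) (.leaf 5474)) (.leaf 2385)) (.node (.node (.leaf 1378) (.leaf 10017)) (.leaf 3954)))) (.node (.node (.node (.node (.leaf 257) (.leaf 4897)) (.leaf 2097)) (.node (.node (.leaf 1104) (.leaf 8034)) (.leaf 3650))) (.node (.node (.node (.leaf 658) (.leaf 7105)) (.leaf 2705)) (.node (.leaf 1649) (.leaf 4241))))) (.node (.node (.node (.node (.node (.leaf 161) (.leaf 4738)) (.leaf 1984)) (.node (.node (.leaf 978) (.leaf 7730)) (.leaf 3376))) (.node (.node (.node (.leaf 562) (.leaf 6033)) (.leaf 2514)) (.node (.leaf 1521) (.leaf 4098)))) (.node (.node (.node (.node (.leaf 354) (.leaf 5200)) (.leaf 2210)) (.node (.node (.leaf 1201) (.leaf 8401)) (.leaf 3825))) (.node (.node (.node (.leaf 769) (.leaf 7313)) (.leaf 2864)) (.node (.leaf 1776) (.leaf 4402)))))))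

def threePar : Janko.Tree (ℕ) := (.node (.node (.node threePar0 threePar4) (.node threePar2 threePar6)) (.node (.node threePar1 threePar5) (.node threePar3 threePar7)))

def threeL0 : Janko.Tree (List ℤ) :=
  (.node (.node (.node (.node (.node (.node (.node (.leaf []) (.leaf [1063, -848, 0, 6338, -61, -59, -6216, 1031, -63])) (.leaf [])) (.node (.leaf []) (.leaf [-32, 11, 0, -130, 0, 0, 130, -11]))) (.node (.node (.leaf [-2736, 2586, 0, -15839, 19, -9, 15888, -2556, -40]) (.leaf [-9048, 5681, 0, -46647, 190, 260, 46127, -6392, 261])) (.node (.leaf [142, -55, 0, 653, -4, -6, -639, 73, -8]) (.leaf [-453, -136, 0, -1112, 6, 12, 1069, 87, 32])))) (.node (.node (.node (.node (.leaf []) (.leaf [-1014, 474, 0, -5496, 82, 104, 5275, -776, 117])) (.leaf [983, -142, 0, 4026, -44, -58, -3877, 335, -91])) (.node (.leaf [824, -107, 0, 3159, -17, -34, -3071, 212, -54]) (.leaf [-1, 0, 0, 0, 1, -1, 1]))) (.node (.node (.leaf []) (.leaf [])) (.node (.leaf [-556, 257, 0, -2639, 6, 22, 2591,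 -311, 26]) (.leaf [-10, 0, 0, -31, 0, 0, 31]))))) (.node (.node (.node (.node (.node (.leaf []) (.leaf [911, -664, 0, 5369, -57, -66, -5236, 855, -68])) (.leaf [-17, 3, 0, -62, 1, 0, 62, -4])) (.node (.leaf [-1655, 131, 0, -6292, 42, 90, 6069, -396, 133]) (.leaf [-51, -42, 0, -44, 0, 1, 39, 37, 4]))) (.node (.node (.leaf []) (.leaf [57, -35, 0, 275, 0, 0, -275, 35])) (.node (.leaf []) (.leaf [2, -4, 0, 17, 0, 0, -17, 4])))) (.node (.node (.node (.node (.leaf []) (.leaf [1, -3, 0, 18, 0, 0, -16, 4])) (.leaf [1575, 885, 0, 3938, -76, -189, -3492, -363, -257])) (.node (.leaf [1, 0, 0, 2, 0, 0, -2]) (.leaf [0, -1, 0, 0, 1]))) (.node (.node (.leaf []) (.leaf [-1, 0, 0, -1, 0, 0, 2])) (.node (.leaf [20338, -1073, 0, 72411, -15, -891, -70289, 3210, -1231]) (.leaf [-16631, -6917, 0, -34365, -592, 665, 32673, 5817, 1027])))))) (.node (.node (.node (.node (.node (.node (.leaf []) (.leaf [-9, 7, 0, -50, 0, 1, 49, -7])) (.leaf [-2, 6, 0, -19, 0, -1, 20, -5])) (.node (.leaf [2156, -1965,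 0, 12785, -43, -43, -12703, 2091, -39]) (.leaf [-1, -2, 0, 11, 0, -1, -9, 3]))) (.node (.node (.leaf []) (.leaf [3, -2, 0, 12, 1, 0, -12, 1])) (.node (.leaf [-1, 0, 0, -1, 0, 0, 2]) (.leaf [595, 19, 0, 1908, -8, -13, -1862, 35, -33])))) (.node (.node (.node (.node (.leaf []) (.leaf [1, -1, 0, 7, 1, 0, -6, 1])) (.leaf [-570, 302, 0, -2831, 10, 24, 2782, -361, 25])) (.node (.leaf [-18651, 1954, 0, -68098, -63, 699, 66429, -3561, 970]) (.leaf [79, -3258, 0, 8994, 20, 79, -9268, 2965, 195]))) (.node (.node (.leaf []) (.leaf [0, 0, 0, -1, 0, 0, 1])) (.node (.leaf [0, 1]) (.leaf [-2404, 868, 0, -11871, 167, 200, 11431, -1475, 240]))))) (.node (.node (.node (.node (.node (.leaf []) (.leaf [-1775, 571, 0, -8890, 161, 179, 8500, -1122, 211])) (.leaf [-700, 790, 0, -4710, 28, 28, 4666, -861, 16])) (.node (.leaf [-2, 0, 0, -4, 0, 0, 5]) (.leaf [-1149, 97, 0, -4320, 29, 55, 4182, -264, 83]))) (.node (.node (.leaf []) (.leaf [])) (.node (.leaf [-1002, 607, 0, -5461, 52, 64, 5327, -793,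 70]) (.leaf [-15, 11, 0, -81, 1, 0, 81, -12])))) (.node (.node (.node (.leaf []) (.leaf [-9, -1, 0, -24, 0, 0, 24, 1])) (.node (.leaf []) (.leaf [-1670, -1851, 0, -1341, 99, 165, 889, 1299, 288]))) (.node (.node (.leaf []) (.leaf [11347, -2725, 0, 54428, -1107, -1102, -51831, 6430, -1495])) (.node (.leaf [0, 0, 0, -1, -1, 1, 1]) (.leaf [19, -12, 0, 93, 0, 0, -93, 12])))))))

def threeL1 : Janko.Tree (List ℤ) :=
  (.node (.node (.node (.node (.node (.node (.node (.leaf []) (.leaf [903, -430, 0, 4295, -17, -31, -4228, 514, -36])) (.leaf [-2, 0, 0, -4, 0, 0, 5])) (.node (.leaf []) (.leaf [312, -188, 0, 1565, -2, -7, -1549, 206, -9]))) (.node (.node (.leaf [5, -4, 0, 27, 0, 0, -27, 4]) (.leaf [-19375, 10230, 0, -98476, 691, 952, 96351, -13047, 1174])) (.node (.leaf []) (.leaf [-440, -68, 0, -1171, -16, 6, 1146, 58, 20])))) (.node (.node (.node (.node (.leaf []) (.leaf [-3627, 2042, 0, -18917, 137, 198, 18504, -2593, 216])) (.leaf [-5548, 3183, 0, -28893, 4, 331, 28215, -3863,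 346])) (.node (.leaf []) (.leaf [586, -252, 0, 2678, -11, -14, -2641, 302, -24]))) (.node (.node (.leaf []) (.leaf [-51, 212, 0, -613, -1, -23, 656, -168, -20])) (.node (.leaf [1, 0, 0, 2, 0, 0, -2]) (.leaf [661, -634, 0, 4129, -25, -27, -4082, 706, -20]))))) (.node (.node (.node (.node (.node (.leaf [-1, 0, 0, 0, 0, 0, 1]) (.leaf [63, -57, 0, 380, -1, -3, -377, 63, -1])) (.leaf [437, -89, 0, 1776, -7, -20, -1728, 144, -28])) (.node (.leaf [-144, -933, 0, 1156, 88, 114, -1425, 576, 155]) (.leaf [-76, 38, 0, -338, -2, 0, 338, -36]))) (.node (.node (.leaf []) (.leaf [32, -17, 0, 141, 0, 1, -142, 16])) (.node (.leaf [0, -1, 0, 0, 0, 1]) (.leaf [-855, -1795, 0, 1123, 68, 171, -1529, 1321, 235])))) (.node (.node (.node (.node (.leaf [0, 0, 0, -1, 1]) (.leaf [13, 33, 0, -39, -2, -1, 44, -26, -3])) (.leaf [-189, -1, 0, -587, -5, 3, 578, -3, 6])) (.node (.leaf []) (.leaf [317, 11, 0, 1071, -8, -13, -1034, 34, -24]))) (.node (.node (.leaf [278, -57, 0, 1138, -7, -13, -1107, 95, -18])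 (.leaf [668, 2625, 0, -3671, -85, -216, 4204, -2007, -317])) (.node (.leaf [-41, 16, 0, -183, 0, 2, 179, -19, 2]) (.leaf [1, 0, 0, -3, 0, 1, 2, -1])))))) (.node (.node (.node (.node (.node (.node (.leaf []) (.leaf [-15853, 25429, 0, -126757, 683, 277, 126427, -26443, 54])) (.leaf [])) (.node (.leaf [146, -116, 0, 881, -13, -9, -864, 146, -8]) (.leaf [2591, -1936, 0, 13978, -15, -44, -13885, 2044, -49]))) (.node (.node (.leaf []) (.leaf [])) (.node (.leaf []) (.leaf [-32, 30, 0, -219, 1, 5, 211, -38, 3])))) (.node (.node (.node (.node (.leaf [-2, 2, 0, -9, 0, 0, 10, -2]) (.leaf [15, -5, 0, 61, 1, 0, -60, 5])) (.leaf [3416, -8039, 0, 33375, -25, 64, -33679, 7760, 240])) (.node (.leaf [6, -7, 0, 42, 1, -1, -41, 7]) (.leaf []))) (.node (.node (.leaf [4725, -96, 0, 18846, -273, -423, -17849, 1366, -574]) (.leaf [-96, -144, 0, 42, 2, 11, -67, 117, 14])) (.node (.leaf [-20, 121, 0, -431, 0, 3, 429, -122, -1]) (.leaf [16, -8, 0, 71, 0, 0, -71, 8]))))) (.node (.node (.node (.node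 (.node (.leaf []) (.leaf [-278, -64, 0, -833, 11, 18, 789, 9, 26])) (.leaf [0, -1, 0, 0, 0, 1])) (.node (.leaf [6, -15, 0, 68, 0, -1, -67, 16]) (.leaf []))) (.node (.node (.leaf []) (.leaf [-6216, 3735, 0, -32577, 198, 288, 31993, -4517, 296])) (.node (.leaf [-1756, 330, 0, -7071, 37, 79, 6876, -561, 116]) (.leaf [-2097, 242, 0, -8572, 131, 139, 8234, -711, 199])))) (.node (.node (.node (.leaf []) (.leaf [-183, 101, 0, -909, 3, 6, 896, -117, 7])) (.node (.leaf [1, -1, 0, 0, 0, 1, -1]) (.leaf [-2386, 1341, 0, -12392, 105, 122, 12140, -1699, 131]))) (.node (.node (.leaf []) (.leaf [28826, 3835, 0, 92453, -510, -1771, -88147, 980, -2534])) (.node (.leaf [36, -16, 0, 156, 0, 0, -156, 16]) (.leaf [210, 103, 0, 530, -6, -22, -480, -45, -29])))))))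

def threeL2 : Janko.Tree (List ℤ) :=
  (.node (.node (.node (.node (.node (.node (.node (.leaf []) (.leaf [-1369, 306, 0, -5638, 33, 59, 5494, -482, 85])) (.leaf [-23, 24, 0, -159, 0, 3, 155, -28, 1])) (.node (.leaf []) (.leaf [28, -9, 0, 111, 0, 0, -111, 9]))) (.node (.node (.leaf [-16, -1, 0, -51, 0, 0, 49, -1, 2]) (.leaf [4383, -2739, 0, 22158, -60, -79, -21988, 2970, -91])) (.node (.leaf []) (.leaf [-1, -6, 0, 15, 0, 0, -15, 6])))) (.node (.node (.node (.node (.leaf []) (.leaf [-2604, -446, 0, -9064, 185, 244, 8487, -316, 333])) (.leaf [4100, -1841, 0, 19480, -109, -157, -19105, 2325, -218])) (.node (.leaf [-138, 272, 0, -1582, 38, 36, 1514, -378, 32]) (.leaf [0, 1]))) (.node (.node (.leaf [-25, 17, 0, -123, 0, 0, 124, -17]) (.leaf [])) (.node (.leaf []) (.leaf [0, -1, 0, 2, 0, 0, -2, 1]))))) (.node (.node (.node (.node (.node (.leaf [0, -1, 0, 3, 0, 0, -3, 1]) (.leaf [20, 22, 0, 2, 1, -1, 1, -20, -2])) (.leaf [6, -38, 0, 128, 1, 0, -130, 36, 2])) (.node (.leaf [6880,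 -4588, 0, 36402, -152, -208, -35976, 5166, -218]) (.leaf [-259, 189, 0, -1435, 7, 10, 1416, -215, 9]))) (.node (.node (.leaf []) (.leaf [])) (.node (.leaf []) (.leaf [308, -1864, 0, 5934, 13, 54, -6083, 1702, 95])))) (.node (.node (.node (.node (.leaf []) (.leaf [-3, -24, 0, 63, 0, 0, -63, 24, 1])) (.leaf [42, -99, 0, 433, -5, 0, -433, 104])) (.node (.leaf []) (.leaf [17, -28, 0, 120, 2, 2, -122, 24]))) (.node (.node (.leaf []) (.leaf [-4, 14, 0, -61, -1, 2, 58, -14])) (.node (.leaf [301, 2872, 0, -5632, -78, -205, 6137, -2290, -299]) (.leaf [12, 35, 0, -48, -2, -2, 53, -28, -3])))))) (.node (.node (.node (.node (.node (.node (.leaf []) (.leaf [17023, -4973, 0, 73850, -305, -799, -71965, 7163, -1086])) (.leaf [19, -14, 0, 107, 0, -1, -105, 15])) (.node (.leaf [-314, 76, 0, -1319, 7, 15, 1284, -118, 20]) (.leaf [36, 23, 0, 74, -1, -3, -65, -14, -5]))) (.node (.node (.leaf []) (.leaf [])) (.node (.leaf []) (.leaf [-2, -2, 0, 6, 1, -1, -4, 2])))) (.node (.node (.node (.node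 (.leaf [1, 0, 0, 3, 0, 0, -3]) (.leaf [1, 0, 0, 1, 0, 1, -1])) (.leaf [4191, -2027, 0, 20086, -67, -149, -19754, 2427, -183])) (.node (.leaf [13, -1, 0, 42, 0, 0, -42, 1]) (.leaf [0, 1, 0, 1, -1]))) (.node (.node (.leaf [0, 1]) (.leaf [])) (.node (.leaf []) (.leaf [1378, -1370, 0, 8543, -6, -42, -8475, 1444, -26]))))) (.node (.node (.node (.node (.node (.leaf [0, 0, 0, 2, 0, 0, -1]) (.leaf [0, 1])) (.leaf [120, -190, 0, 1014, -3, -12, -996, 211, -6])) (.node (.leaf [0, 1]) (.leaf [-16, 400, 0, -1166, 8, -9, 1193, -381, -18]))) (.node (.node (.leaf [1136, -396, 0, 5691, -87, -108, -5456, 718, -127]) (.leaf [0, 1])) (.node (.leaf []) (.leaf [79, -30, 0, 365, -1, -5, -356, 41, -5])))) (.node (.node (.node (.leaf []) (.leaf [-28, 5, 0, -99, 0, 0, 99, -5])) (.node (.leaf [-12, 10, 0, -67, 0, 0, 67, -10]) (.leaf [21, -11, 0, 94, 0, 1, -95, 11]))) (.node (.node (.leaf [-8940, 6280, 0, -48330, 242, 271, 47782, -7070, 277]) (.leaf [])) (.node (.leaf [-7131, 2476, 0, -33285, 283, 446,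 32283, -3761, 556]) (.leaf [279, -89, 0, 1256, -8, -16, -1221, 132, -19])))))))

def threeL3 : Janko.Tree (List ℤ) :=
  (.node (.node (.node (.node (.node (.node (.node (.leaf []) (.leaf [531, -1087, 0, 4190, 11, 70, -4357, 908, 98])) (.leaf [0, 1])) (.node (.leaf []) (.leaf [-20, 9, 0, -87, 0, 0, 87, -9]))) (.node (.node (.leaf [0, 1]) (.leaf [4192, -2868, 0, 21879, -56, -73, -21732, 3070, -73])) (.node (.leaf []) (.leaf [-219, 106, 0, -1045, 5, 7, 1030, -127, 9])))) (.node (.node (.node (.node (.leaf []) (.leaf [-2380, 164, 0, -9820, 205, 197, 9359, -831, 265])) (.leaf [-2674, -3973, 0, 898, 60, 276, -1675, 3138, 500])) (.node (.leaf [0, 1]) (.leaf [9878, -2059, 0, 41639, -389, -557, -40327, 3760, -755]))) (.node (.node (.leaf [22, -14, 0, 108, 0, 0, -108, 14]) (.leaf [0, 1])) (.node (.leaf []) (.leaf [1127, -532, 0, 5513, -43, -56, -5400, 688, -57]))))) (.node (.node (.node (.node (.node (.leaf []) (.leaf [1403, -333, 0, 5861, -27, -66, -5705, 516, -90])) (.leaf [])) (.node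 (.leaf [-18, -883, 0, 1464, 80, 109, -1715, 552, 142]) (.leaf [0, 1]))) (.node (.node (.leaf []) (.leaf [])) (.node (.leaf []) (.leaf [523, -15613, 0, 43246, -50, 526, -44649, 14260, 877])))) (.node (.node (.node (.node (.leaf []) (.leaf [-41, 16, 0, -182, 1, 2, 179, -19, 2])) (.leaf [-96, 117, 0, -634, -2, 1, 635, -115, -1])) (.node (.leaf []) (.leaf [-17, 23, 0, -121, 0, 0, 121, -23]))) (.node (.node (.leaf [-135, 273, 0, -1225, 12, 2, 1234, -276, -11]) (.leaf [])) (.node (.leaf []) (.leaf [-1428, 231, 0, -5820, 54, 76, 5626, -479, 118])))))) (.node (.node (.node (.node (.node (.node (.leaf []) (.leaf [2050, 392, 0, 7326, -188, -217, -6812, 310, -297])) (.leaf [-558, 1637, 0, -6524, 12, -2, 6551, -1622, -25])) (.node (.leaf []) (.leaf [0, -1, 0, 0, 0, 1]))) (.node (.node (.leaf []) (.leaf [0, 1])) (.node (.leaf []) (.leaf [-112, 497, 0, -1329, -88, -41, 1409, -329, -39])))) (.node (.node (.node (.node (.leaf []) (.leaf [9, -8, 0, 57, -3, 0, -57, 11, 1])) (.leaf [130, 193,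 0, -96, -10, -5, 117, -162, -16])) (.node (.leaf [-139, -40, 0, -333, 2, 1, 323, 28, 9]) (.leaf [103, -13, 0, 388, -2, -3, -378, 24, -6]))) (.node (.node (.leaf []) (.leaf [-21757, 9812, 0, -105763, 821, 1015, 103302, -13094, 1446])) (.node (.leaf [0, 0, 0, -1, 0, 1]) (.leaf [9, -2, 0, 32, 0, 0, -32, 2]))))) (.node (.node (.node (.node (.node (.leaf []) (.leaf [-392, 55, 0, -1537, 8, 19, 1490, -110, 28])) (.leaf [])) (.node (.leaf [1757, -562, 0, 8815, -161, -180, -8423, 1114, -211]) (.leaf [-86, 194, 0, -825, 4, -1, 832, -191, -6]))) (.node (.node (.leaf [0, 1]) (.leaf [])) (.node (.leaf [12, -9, 0, 61, 1, 0, -61, 8]) (.leaf [0, 1])))) (.node (.node (.node (.leaf [8, -8, 0, 51, 0, 0, -50, 8]) (.leaf [-6505, 1387, 0, -31499, 711, 685, 29822, -3775, 992])) (.node (.leaf []) (.leaf [19432, -5065, 0, 78299, 124, -563, -76989, 6250, -746]))) (.node (.node (.leaf []) (.leaf [-1086, 551, 0, -5248, 21, 35, 5173, -647, 40])) (.node (.leaf [9, -7, 0, 50, 0, 0, -49, 7]) (.leaf [2106,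 1700, 0, 2997, -69, -162, -2559, -1191, -277])))))))

def threeL4 : Janko.Tree (List ℤ) :=
  (.node (.node (.node (.node (.node (.node (.node (.leaf []) (.leaf [-2429, 4734, 0, -22177, 164, 79, 22110, -4965, -12])) (.leaf [])) (.node (.leaf [7, -4, 0, 33, 0, 0, -33, 4]) (.leaf []))) (.node (.node (.leaf []) (.leaf [407, -32, 0, 1512, -10, -17, -1465, 89, -30])) (.node (.leaf []) (.leaf [8, 1, 0, 23, 0, 0, -22, -1])))) (.node (.node (.node (.node (.leaf []) (.leaf [-12141, 1307, 0, -49310, 568, 868, 47279, -3907, 1164])) (.leaf [-4351, -2439, 0, -9260, 175, 317, 8412, 1418, 530])) (.node (.leaf [8149, -902, 0, 32001, -287, -460, -30883, 2307, -658]) (.leaf [4589, -40, 0, 18156, -268, -409, -17184, 1280, -563]))) (.node (.node (.leaf []) (.leaf [158, -89, 0, 825, -5, -10, -807, 112, -8])) (.node (.leaf []) (.leaf [638, -772, 0, 4426, -40, -19, -4401, 838, -6]))))) (.node (.node (.node (.node (.node (.leaf []) (.leaf [113, -103, 0, 642, 2, 1, -643, 101])) (.leaf [-10, 0, 0,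 -30, 0, 0, 30])) (.node (.leaf [0, 1]) (.leaf [234, -112, 0, 1111, -4, -7, -1095, 133, -9]))) (.node (.node (.leaf [0, 0, 0, -1, 0, 0, 1]) (.leaf [])) (.node (.leaf [-21, 14, 0, -103, 0, 0, 104, -14]) (.leaf [11, -7, 0, 55, 0, -1, -55, 8])))) (.node (.node (.node (.leaf [0, 1]) (.leaf [-1, 0, 0, -1, 0, 0, 2])) (.node (.leaf []) (.leaf [-77, 42, 0, -357, 1, -1, 357, -43, 1]))) (.node (.node (.leaf []) (.leaf [])) (.node (.leaf [918, -529, 0, 4577, -15, -22, -4523, 598, -32]) (.leaf [-11748, 12719, 0, -98891, 3334, 2218, 94096, -20848, 2577])))))) (.node (.node (.node (.node (.node (.node (.leaf []) (.leaf [-9313, 1513, 0, -38479, 372, 579, 37113, -3252, 788])) (.leaf [-5797, 2867, 0, -28549, 50, 297, 27928, -3539, 325])) (.node (.leaf []) (.leaf []))) (.node (.node (.leaf []) (.leaf [-6, 5, 0, -32, -1, 0, 32, -4])) (.node (.leaf [4378, 828, 0, 11901, 69, -135, -11528, -524, -238]) (.leaf [114, 4849, 0, -13088, 31, -82, 13425, -4542, -255])))) (.node (.node (.node (.node (.leaf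 []) (.leaf [0, 0, 0, 1, 1])) (.leaf [1, 0, 0, 3, 0, 0, -3])) (.node (.leaf [0, 1]) (.leaf [-1, 0, 0, -1, 0, 0, 2]))) (.node (.node (.leaf []) (.leaf [])) (.node (.leaf [-988, -1606, 0, 334, 124, 133, -669, 1146, 203]) (.leaf [6, -1, 0, 25, 0, -1, -24, 2]))))) (.node (.node (.node (.node (.node (.leaf []) (.leaf [-510, 122, 0, -2177, 16, 28, 2113, -201, 35])) (.leaf [-1, -2, 0, 6, 0, 0, -5, 2])) (.node (.leaf []) (.leaf [0, 1]))) (.node (.node (.leaf []) (.leaf [54, 15, 0, 157, -3, -4, -148, -3, -5])) (.node (.leaf [-13721, 1206, 0, -45015, -679, 121, 44565, -977, 329]) (.leaf [-26, 12, 0, -113, -1, 0, 113, -11])))) (.node (.node (.node (.leaf [0, 2, 0, -6, 0, 0, 6, -2]) (.leaf [-129, 85, 0, -644, 1, 0, 644, -87, 1])) (.node (.leaf [-1, -4, 0, 12, 0, 0, -11, 4]) (.leaf [4859, 606, 0, 15855, -176, -277, -15125, 300, -453]))) (.node (.node (.leaf [0, 1]) (.leaf [])) (.node (.leaf []) (.leaf [2245, 1809, 0, 3507, -104, -199, -2977, -1173, -332])))))))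

def threeL5 : Janko.Tree (List ℤ) :=
  (.node (.node (.node (.node (.node (.node (.node (.leaf []) (.leaf [-7816, 4380, 0, -41655, 386, 505, 40559, -5861, 591])) (.leaf [-1, 0, 0, -3, 0, 0, 3])) (.node (.leaf [-369, 47, 0, -1427, 8, 17, 1384, -98, 26]) (.leaf [-2, 0, 0, -4, 0, 0, 5]))) (.node (.node (.leaf []) (.leaf [-440, 76, 0, -1692, 8, 13, 1658, -118, 21])) (.node (.leaf [-13, 5, 0, -51, 0, 0, 52, -5]) (.leaf [-374, -74, 0, -1143, 10, 23, 1084, 5, 36])))) (.node (.node (.node (.node (.leaf []) (.leaf [-4315, 2477, 0, -23332, 274, 275, 22713, -3370, 344])) (.leaf [-6636, -1602, 0, -20279, 263, 488, 19054, 114, 737])) (.node (.leaf [-2, 1, 0, -9, 0, 0, 9, -1]) (.leaf [11239, -1458, 0, 44662, -324, -656, -43126, 3319, -880]))) (.node (.node (.leaf []) (.leaf [])) (.node (.leaf [0, 0, 0, -1, 1]) (.leaf [-4752, 2069, 0, -22098, 83, 164, 21718, -2532, 216]))))) (.node (.node (.node (.node (.node (.leaf []) (.leaf [-358, 4, 0, -1253, 9, 14, 1213, -53, 26])) (.leaf [1309, -237,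 0, 5804, -108, -104, -5558, 593, -143])) (.node (.leaf []) (.leaf [22, -32, 0, 160, 1, 0, -160, 31]))) (.node (.node (.leaf []) (.leaf [77, -59, 0, 419, 0, -1, -416, 62, -2])) (.node (.leaf []) (.leaf [])))) (.node (.node (.node (.leaf []) (.leaf [177, 12, 0, 581, -5, -8, -561, 13, -12])) (.node (.leaf [24, -20, 0, 129, 1, 0, -129, 19]) (.leaf [4, -7, 0, 34, 0, 0, -33, 7]))) (.node (.node (.leaf [13571, 6349, 0, 29013, -24, -750, -27080, -4392, -1183]) (.leaf [0, 0, 0, -1, 0, 1])) (.node (.leaf []) (.leaf [192, -100, 0, 926, -4, -5, -915, 115, -6])))))) (.node (.node (.node (.node (.node (.node (.leaf []) (.leaf [923, 451, 0, 2459, -61, -95, -2215, -147, -148])) (.leaf [0, -1, 0, 0, 0, 1])) (.node (.leaf []) (.leaf [-86, -31, 0, -239, 3, 8, 222, 10, 10]))) (.node (.node (.leaf [0, 0, 0, 2, 0, 0, -1]) (.leaf [1, -2, 0, 8, 0, 0, -8, 2])) (.node (.leaf [0, 1]) (.leaf [-1106, 782, 0, -6701, 55, 112, 6467, -1072, 123])))) (.node (.node (.node (.node (.leaf []) (.leaf [1, 0, 0,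 6, 0, 0, -5, 1])) (.leaf [-1886, 569, 0, -8820, 122, 138, 8507, -1003, 175])) (.node (.leaf []) (.leaf [170, 96, 0, 397, -8, -17, -355, -46, -25]))) (.node (.node (.leaf [0, 0, 0, -2, 0, 1, 1]) (.leaf [])) (.node (.leaf [-843, 102, 0, -3219, 18, 36, 3127, -212, 56]) (.leaf [-367, -86, 0, -1031, 14, 15, 988, 28, 29]))))) (.node (.node (.node (.node (.node (.leaf []) (.leaf [21, -13, 0, 104, -1, 0, -105, 15])) (.leaf [-19872, 8660, 0, -95867, 771, 925, 93574, -11724, 1368])) (.node (.leaf []) (.leaf []))) (.node (.node (.leaf []) (.leaf [])) (.node (.leaf [0, 0, 0, 2, 1, -1, -1]) (.leaf [-3227, 2221, 0, -16730, 39, 38, 16653, -2336, 38])))) (.node (.node (.node (.leaf [10, -37, 0, 134, 1, 1, -135, 35]) (.leaf [0, -1, 0, 0, 0, 1])) (.node (.leaf []) (.leaf [-1701, -265, 0, -5751, 49, 143, 5398, -137, 210]))) (.node (.node (.leaf [-167, 49, 0, -726, 4, 8, 708, -71, 10]) (.leaf [-223, 154, 0, -1219, 5, 10, 1200, -178, 9])) (.node (.leaf [-22, 1, 0, -66, 1, -1, 67, -1]) (.leaf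 [2855, 1266, 0, 7069, -124, -205, -6521, -594, -343])))))))

def threeL6 : Janko.Tree (List ℤ) :=
  (.node (.node (.node (.node (.node (.node (.node (.leaf []) (.leaf [])) (.leaf [])) (.node (.leaf [-2, 0, 0, -4, 0, 0, 5]) (.leaf [590, 789, 0, 1101, -135, -162, -733, -286, -206]))) (.node (.node (.leaf []) (.leaf [324, 4, 0, 1154, -10, -18, -1108, 51, -27])) (.node (.leaf [-2, 1, 0, -9, 0, 0, 9, -1]) (.leaf [1038, -2317, 0, 8955, 31, 110, -9232, 2011, 166])))) (.node (.node (.node (.node (.leaf []) (.leaf [1063, -473, 0, 4974, -17, -37, -4889, 576, -48])) (.leaf [699, 1970, 0, -2579, -70, -112, 2869, -1610, -178])) (.node (.leaf [1715, -528, 0, 8565, -158, -178, -8177, 1074, -210]) (.leaf [3556, 390, 0, 13474, -259, -379, -12574, 768, -520]))) (.node (.node (.leaf []) (.leaf [-257, 47, 0, -1004, 5, 8, 982, -74, 14])) (.node (.leaf []) (.leaf [18, -4, 0, 62, -1, 1, -63, 4]))))) (.node (.node (.node (.node (.node (.leaf []) (.leaf [1579, 415, 0, 5237, -117, -165, -4843, 96,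 -229])) (.leaf [])) (.node (.leaf [1811, -171, 0, 6846, -38, -88, -6630, 425, -128]) (.leaf [2, 0, 0, 4, 0, 1, -5]))) (.node (.node (.leaf [-1, 0, 0, 0, 0, 0, 1]) (.leaf [])) (.node (.leaf [0, 1, 0, 1, 0, -1]) (.leaf [7, -1, 0, 23, 0, 0, -23, 1])))) (.node (.node (.node (.leaf []) (.leaf [0, 1])) (.node (.leaf []) (.leaf [17147, -4999, 0, 78603, -803, -1201, -75884, 8521, -1518]))) (.node (.node (.leaf []) (.leaf [350, -226, 0, 1810, -5, -8, -1791, 249, -10])) (.node (.leaf [-126, -77, 0, -268, 5, 13, 240, 44, 15]) (.leaf [0, 1])))))) (.node (.node (.node (.node (.node (.node (.leaf [-2, 0, 0, -3, 0, 0, 4]) (.leaf [1057, -461, 0, 5598, -82, -104, -5374, 767, -120])) (.leaf [])) (.node (.leaf []) (.leaf [-11, -1, 0, -28, 0, 0, 29, 1]))) (.node (.node (.leaf []) (.leaf [])) (.node (.leaf []) (.leaf [79, 47, 0, 132, -4, -2, -124, -35, -6])))) (.node (.node (.node (.node (.leaf []) (.leaf [17, -7, 0, 75, 0, 0, -74, 8])) (.leaf [2, 0, 0, 3, -1, 1, -4])) (.node (.leaf [-15, -2,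 0, -39, 0, 0, 39, 2]) (.leaf [745, -455, 0, 4367, -79, -64, -4208, 694, -95]))) (.node (.node (.leaf [-483, 147, 0, -2063, 9, 16, 2022, -198, 26]) (.leaf [])) (.node (.leaf []) (.leaf [-4, 2, 0, -12, 0, -1, 14, -1]))))) (.node (.node (.node (.node (.node (.leaf [-20, -6, 0, -24, 0, -3, 28, 10, -1]) (.leaf [19843, -8654, 0, 95745, -771, -923, -93456, 11714, -1366])) (.leaf [1157, -585, 0, 5741, -40, -54, -5632, 734, -55])) (.node (.leaf [-17, 14, 0, -93, 0, 0, 93, -14]) (.leaf [-204, -206, 0, -1434, 95, 151, 1118, -205, 165]))) (.node (.node (.leaf []) (.leaf [1039, -459, 0, 5018, -42, -54, -4907, 611, -56])) (.node (.leaf []) (.leaf [1031, -423, 0, 4661, -10, -30, -4589, 507, -43])))) (.node (.node (.node (.leaf []) (.leaf [-241, 119, 0, -1151, 4, 7, 1136, -140, 9])) (.node (.leaf []) (.leaf [-1863, 469, 0, -8665, 87, 174, 8283, -939, 209]))) (.node (.node (.leaf []) (.leaf [])) (.node (.leaf [-18593, 3944, 0, -75784, 297, 813, 73801, -6226, 1171]) (.leaf [2255, -1814, 0,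 11703, 74, 41, -11794, 1649, 50])))))))

def threeL7 : Janko.Tree (List ℤ) :=
  (.node (.node (.node (.node (.node (.node (.node (.leaf []) (.leaf [117, -78, 0, 608, 0, -3, -602, 84, -3])) (.leaf [-6, 4, 0, -28, 0, 0, 29, -4])) (.node (.leaf [45, -3, 0, 147, 0, 0, -146, 4, -1]) (.leaf [0, 1]))) (.node (.node (.leaf []) (.leaf [9112, -6274, 0, 53546, -666, -727, -52012, 8474, -807])) (.node (.leaf []) (.leaf [15894, -9501, 0, 86360, -852, -1000, -84203, 12510, -1157])))) (.node (.node (.node (.node (.leaf []) (.leaf [2268, -922, 0, 8987, 36, 72, -9109, 763, 51])) (.leaf [3438, 2403, 0, 10510, -661, -641, -8911, -142, -958])) (.node (.leaf []) (.leaf [3633, -5552, 0, 29292, -220, -191, -28987, 6077, -114]))) (.node (.node (.leaf []) (.leaf [-4, 2, 0, -15, 0, 0, 16, -2])) (.node (.leaf []) (.leaf [-10, -21, 0, 35, 0, -1, -35, 21, 1]))))) (.node (.node (.node (.node (.node (.leaf []) (.leaf [2214, -332, 0, 9300, -104, -160, -8923, 814, -217])) (.leaf [-510, 326, 0, -2832, 28,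 32, 2764, -422, 36])) (.node (.leaf [-425, -2703, 0, 4758, 82, 203, -5260, 2119, 299]) (.leaf [50, -126, 0, 505, 3, 1, -510, 117, 5]))) (.node (.node (.leaf [2, -4, 0, 18, 0, 0, -18, 4]) (.leaf [0, 1])) (.node (.leaf []) (.leaf [27, -21, 0, 141, 1, 0, -141, 20])))) (.node (.node (.node (.leaf []) (.leaf [])) (.node (.leaf []) (.leaf [0, 1]))) (.node (.node (.leaf []) (.leaf [1118, -474, 0, 5169, -21, -39, -5078, 586, -52])) (.node (.leaf []) (.leaf [2317, -1771, 0, 13217, -90, -99, -13025, 2053, -93])))))) (.node (.node (.node (.node (.node (.node (.leaf []) (.leaf [-5259, 2163, 0, -24241, 94, 203, 23781, -2718, 258])) (.leaf [-9002, 6785, 0, -55161, 881, 754, 53651, -9177, 757])) (.node (.leaf [2, -5, 0, 24, 0, 0, -23, 5]) (.leaf [17, 9, 0, 26, 0, 0, -25, -7, -2]))) (.node (.node (.leaf []) (.leaf [])) (.node (.leaf []) (.leaf [-1651, -1776, 0, -1530, 103, 167, 1075, 1217, 289])))) (.node (.node (.node (.node (.leaf []) (.leaf [4, -2, 0, 24, -3, 0, -24, 5, 1])) (.leaf [162,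 -55, 0, 762, -5, -13, -737, 85, -12])) (.node (.leaf [-1, 1, 0, -11, 0, 1, 10, -2]) (.leaf [-275, 92, 0, -1253, 9, 16, 1219, -136, 19]))) (.node (.node (.leaf [2, 0, 0, 6, 0, 0, -6]) (.leaf [0, -1, 0, 5, -1, 0, -6, 3])) (.node (.leaf []) (.leaf [875, -3107, 0, 11848, -30, 0, -11899, 3084, 52]))))) (.node (.node (.node (.node (.node (.leaf [0, 1]) (.leaf [-1118, 2019, 0, -10371, 125, 101, 10202, -2313, 68])) (.leaf [18741, -10881, 0, 99778, -829, -1084, -97416, 14072, -1278])) (.node (.leaf []) (.leaf [-520, 57, 0, -2116, 18, 41, 2027, -165, 49]))) (.node (.node (.leaf []) (.leaf [-19, 26, 0, -136, 0, 0, 136, -26])) (.node (.leaf []) (.leaf [-15801, 15099, 0, -118939, 3373, 2287, 113966, -23445, 2686])))) (.node (.node (.node (.leaf []) (.leaf [-2094, -56, 0, 2937, -1231, -758, -1246, 2977, -932])) (.node (.leaf []) (.leaf [235, -182, 0, 1340, -6, -10, -1321, 206, -8]))) (.node (.node (.leaf []) (.leaf [-289, 4901, 0, -12616, -37, -230, 13423, -4057, -577])) (.node (.leaf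 []) (.leaf [15, 47, 0, -99, 2, 1, 99, -48, -1])))))))

def threeL8 : Janko.Tree (List ℤ) :=
  (.node (.node (.node (.node (.node (.node (.node (.leaf []) (.leaf [-3239, 1888, 0, -16239, 49, 92, 16047, -2129, 100])) (.leaf [469, -378, 0, 2846, -27, -31, -2783, 468, -32])) (.node (.leaf [0, 1]) (.leaf []))) (.node (.node (.leaf []) (.leaf [-4771, 2080, 0, -22189, 80, 165, 21807, -2543, 218])) (.node (.leaf []) (.leaf [-13, 3, 0, -48, 0, 0, 48, -3])))) (.node (.node (.node (.node (.leaf []) (.leaf [-7970, 5844, 0, -43546, 202, 215, 43123, -6470, 209])) (.leaf [27232, -16839, 0, 165003, -3576, -2979, -158444, 26975, -3580])) (.node (.leaf []) (.leaf [-386, 142, 0, -2382, 137, 64, 2249, -411, 69]))) (.node (.node (.leaf []) (.leaf [])) (.node (.leaf [0, 1]) (.leaf [630, -355, 0, 3489, -42, -53, -3374, 511, -61]))))) (.node (.node (.node (.node (.node (.leaf []) (.leaf [0, 0, 0, -1, -1, 1, 1])) (.leaf [47, -51, 0, 293, 1, 0, -294, 50, 1])) (.node (.leaf []) (.leaf [-1123, 136,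 0, -4236, 23, 41, 4126, -269, 69]))) (.node (.node (.leaf []) (.leaf [68, -48, 0, 358, 1, -2, -355, 50, -1])) (.node (.leaf []) (.leaf [212, -116, 0, 1041, -3, -6, -1029, 133, -7])))) (.node (.node (.node (.leaf [-494, 101, 0, -2021, 10, 24, 1965, -167, 32]) (.leaf [-122, -1021, 0, 1595, 71, 111, -1841, 704, 135])) (.node (.leaf [0, 1]) (.leaf [595, -331, 0, 2974, -12, -20, -2930, 386, -23]))) (.node (.node (.leaf []) (.leaf [])) (.node (.leaf []) (.leaf [-685, 400, 0, -4131, 73, 90, 3948, -656, 93])))))) (.node (.node (.node (.node (.node (.node (.leaf []) (.leaf [516, -171, 0, 2324, -17, -26, -2265, 246, -32])) (.leaf [11, -1, 0, 38, 0, 0, -37, 1])) (.node (.leaf [0, -2, 0, 6, 0, 0, -6, 2]) (.leaf []))) (.node (.node (.leaf []) (.leaf [24, -16, 0, 116, 0, 0, -117, 16])) (.node (.leaf [1, 0, 0, 1, 0, 1, -2]) (.leaf [74, 15, 0, 77, 19, 13, -89, -47])))) (.node (.node (.node (.node (.leaf []) (.leaf [23, -10, 0, 102, 0, 0, -101, 11])) (.leaf [-9, -2, 0, -16, 0, -1, 16, 3,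 1])) (.node (.leaf []) (.leaf [-6188, 5772, 0, -41809, 723, 576, 40699, -7605, 534]))) (.node (.node (.leaf []) (.leaf [-996, 260, 0, -4562, 45, 82, 4382, -485, 98])) (.node (.leaf [774, -38, 0, 2910, -24, -48, -2800, 172, -62]) (.leaf [71, 122, 0, -53, -3, -10, 78, -95, -14]))))) (.node (.node (.node (.node (.node (.leaf []) (.leaf [319, 343, 0, -19, 7, 1, 41, -326, -24])) (.leaf [0, 0, 0, 1])) (.node (.leaf [0, 1]) (.leaf [-277, 53, 0, -1121, 7, 13, 1091, -91, 18]))) (.node (.node (.leaf [1, 0, 0, 2, 0, 0, -2]) (.leaf [10, 31, 0, -56, -1, 0, 58, -28, -2])) (.node (.leaf []) (.leaf [-17583, 11044, 0, -95359, 769, 938, 93338, -13834, 1083])))) (.node (.node (.node (.leaf []) (.leaf [1, -1, 0, 8, 0, 0, -7, 1])) (.node (.leaf [-817, 36, 0, -3003, 24, 42, 2899, -164, 62]) (.leaf [-6, 12, 0, -46, 0, -1, 47, -10]))) (.node (.node (.leaf [-289, -23, 0, -949, 7, 13, 912, -21, 24]) (.leaf [])) (.node (.leaf []) (.leaf [-430, 123, 0, -2130, 36, 45, 2026, -262, 59])))))))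

def threeL9 : Janko.Tree (List ℤ) :=
  (.node (.node (.node (.node (.node (.node (.node (.leaf []) (.leaf [4, -1, 0, 17, 0, 0, -16, 1])) (.leaf [34, -9, 0, 130, 0, 1, -129, 9, -1])) (.node (.leaf [-893, 280, 0, -3905, 8, 44, 3811, -382, 50]) (.leaf [-1, 0, 0, -3, 0, 0, 3]))) (.node (.node (.leaf [0, 1, 0, 2, 0, -1, -1]) (.leaf [-2, -1, 0, 4, 0, -1, -2, 2])) (.node (.leaf []) (.leaf [-75, 34, 0, -345, -1, 3, 339, -37, 2])))) (.node (.node (.node (.node (.leaf [-1, 0, 0, 0, 0, 0, 1]) (.leaf [272, 51, 0, 846, -2, -19, -800, -2, -27])) (.leaf [75, -56, 0, 420, -5, -1, -415, 66, -4])) (.node (.leaf [-16306, 9908, 0, -88893, 860, 1009, 86722, -12940, 1163]) (.leaf []))) (.node (.node (.leaf [2, 1, 0, 5, -1, 0, -5]) (.leaf [-546, 216, 0, -2491, 11, 21, 2443, -273, 26])) (.node (.leaf []) (.leaf [1434, -939, 0, 8834, -87, -189, -8446, 1414, -199]))))) (.node (.node (.node (.node (.node (.leaf []) (.leaf [1122, 119, 0, 4464, -37, -161, -4111, 271, -192])) (.leaf [-2, 0, 0, -3, 0,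 0, 4])) (.node (.leaf [1273, -432, 0, 6267, -91, -113, -6019, 771, -135]) (.leaf [-87, 64, 0, -465, -1, 2, 462, -66, 1]))) (.node (.node (.leaf []) (.leaf [-5, 5, 0, -31, 0, 0, 31, -5])) (.node (.leaf []) (.leaf [133, -13, 0, 485, -2, -4, -473, 27, -8])))) (.node (.node (.node (.leaf []) (.leaf [-24556, 5705, 0, -103279, 590, 1236, 100331, -9243, 1712])) (.node (.leaf []) (.leaf [0, -1, 0, 2, 0, 0, -2, 1]))) (.node (.node (.leaf [102, 44, 0, 188, 3, -1, -182, -41, -5]) (.leaf [-11, 6, 0, -47, -1, 0, 48, -5])) (.node (.leaf []) (.leaf [235, 20, 0, 779, -8, -11, -748, 20, -20])))))) (.node (.node (.node (.node (.node (.node (.leaf []) (.leaf [-48, 19, 0, -214, 0, 2, 210, -22, 2])) (.leaf [21, -5, 0, 78, 0, 0, -78, 5])) (.node (.leaf [14547, 1283, 0, 50540, -524, -1049, -48006, 1775, -1485]) (.leaf [210, -9, 0, 760, -6, -10, -736, 39, -14]))) (.node (.node (.leaf [-4, 0, 0, -7, 0, -1, 8, 1]) (.leaf [207, -82, 0, 923, -3, -6, -910, 99, -8])) (.node (.leaf [-77, 57, 0, -410, 0,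 1, 408, -60, 2]) (.leaf [4805, -2324, 0, 22992, -77, -166, -22619, 2774, -207])))) (.node (.node (.node (.node (.leaf []) (.leaf [17, -8, 0, 73, 0, 1, -73, 8])) (.leaf [-1158, 224, 0, -6069, 80, 181, 5602, -772, 287])) (.node (.leaf [3, -1, 0, 12, 0, 0, -12, 1]) (.leaf [6321, -1238, 0, 30468, -707, -682, -28797, 3616, -989]))) (.node (.node (.leaf []) (.leaf [1, 0, 0, 2, 0, 0, -2])) (.node (.leaf [-42, 30, 0, -207, 0, -1, 208, -28]) (.leaf [-4, -1, 0, -7, 0, 0, 8, 1]))))) (.node (.node (.node (.node (.node (.leaf []) (.leaf [300, 404, 0, -291, 12, 4, 309, -398, -22])) (.leaf [12412, 8292, 0, 13365, 972, -261, -12556, -8455, -548])) (.node (.leaf [-37, -5, 0, -111, -2, 2, 106, 2, 3]) (.leaf [547, -147, 0, 2293, -10, -22, -2244, 207, -28]))) (.node (.node (.leaf []) (.leaf [-20, 28, 0, -145, 0, 0, 145, -28])) (.node (.leaf [5, -7, 0, 36, 0, 0, -36, 7]) (.leaf [489, -299, 0, 2518, -10, -16, -2485, 344, -18])))) (.node (.node (.node (.leaf []) (.leaf [24, -47, 0, 213, 0, 0, -213,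 47])) (.node (.leaf [0, 1]) (.leaf [571, -306, 0, 2848, -10, -24, -2798, 365, -25]))) (.node (.node (.leaf []) (.leaf [-13, 8, 0, -62, 1, 0, 63, -9])) (.node (.leaf []) (.leaf [-322, -19, 0, -1174, 22, 23, 1116, -61, 35])))))))

def threeL10 : Janko.Tree (List ℤ) :=
  (.node (.node (.node (.node (.node (.node (.node (.leaf []) (.leaf [5, -3, 0, 18, 0, 1, -19, 2])) (.leaf [503, -304, 0, 2780, -31, -36, -2705, 409, -38])) (.node (.leaf [168, 39, 0, 450, -5, -4, -435, -19, -11]) (.leaf []))) (.node (.node (.leaf []) (.leaf [-16021, 6775, 0, -77686, 561, 945, 75592, -9432, 1150])) (.node (.leaf []) (.leaf [-175, 199, 0, -1147, -2, 5, 1141, -203, 1])))) (.node (.node (.node (.node (.leaf [-20, 17, 0, -111, 0, 0, 111, -17]) (.leaf [1, -1, 0, 13, 0, -1, -11, 2])) (.leaf [395, -120, 0, 1746, -11, -20, -1701, 178, -26])) (.node (.leaf [19, -28, 0, 144, 0, 0, -143, 28]) (.leaf [-1534, 212, 0, -6493, 48, 132, 6195, -558, 166]))) (.node (.node (.leaf []) (.leaf [-164, 6, 0, -613, 7,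 10, 590, -36, 13])) (.node (.leaf []) (.leaf [536, -241, 0, 2537, -9, -22, -2490, 298, -25]))))) (.node (.node (.node (.node (.node (.leaf []) (.leaf [1674, -226, 0, 7452, -106, -173, -7055, 730, -224])) (.leaf [15403, 3465, 0, 48046, -666, -1145, -45176, 71, -1725])) (.node (.leaf [0, 1, 0, 2, 0, -1, -1]) (.leaf [-19, 12, 0, -99, 0, 1, 98, -13]))) (.node (.node (.leaf [0, -1, 0, 0, 1]) (.leaf [])) (.node (.leaf []) (.leaf [-7, 5, 0, -37, 0, 0, 37, -5])))) (.node (.node (.node (.leaf []) (.leaf [176, -47, 0, 722, 1, -5, -707, 60, -9])) (.node (.leaf [21, -17, 0, 113, 0, 0, -113, 17]) (.leaf [6387, 539, 0, 22182, -243, -444, -21094, 792, -644]))) (.node (.node (.leaf []) (.leaf [-2193, 1018, 0, -11609, 154, 202, 11188, -1593, 219])) (.node (.leaf [-27, 14, 0, -122, 1, 0, 123, -15]) (.leaf [0, -1, 0, 0, 0, 1])))))) (.node (.node (.node (.node (.node (.node (.leaf []) (.leaf [4573, -1086, 0, 19863, -169, -292, -19208, 1909, -362])) (.leaf [])) (.node (.leaf []) (.leaf [0, -1,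 0, 0, 1]))) (.node (.node (.leaf [0, 1]) (.leaf [19, -17, 0, 107, 0, 0, -107, 17])) (.node (.leaf [1, 0, 0, 3, 0, 0, -3]) (.leaf [766, -6, 0, 2745, -23, -40, -2645, 130, -60])))) (.node (.node (.node (.node (.leaf [-2, 0, 0, -4, 0, 0, 5]) (.leaf [11, -7, 0, 57, 0, 0, -56, 8])) (.leaf [-359, 42, 0, -1471, -1, 30, 1401, -111, 40])) (.node (.leaf [0, 1, 0, 2, 0, -1, -1]) (.leaf [-5, 2, 0, -19, 0, 0, 20, -2]))) (.node (.node (.leaf [-82, 196, 0, -801, 3, -3, 812, -188, -8]) (.leaf [])) (.node (.leaf [-1818, 434, 0, -8098, 62, 141, 7786, -809, 172]) (.leaf [3222, 1890, 0, 6461, -123, -213, -5863, -1168, -386]))))) (.node (.node (.node (.node (.node (.leaf []) (.leaf [147, -91, 0, 762, -1, -7, -751, 103, -4])) (.leaf [0, 0, 0, 2, 0, 0, -1])) (.node (.leaf [38, -17, 0, 165, 0, 0, -165, 17]) (.leaf [901, -145, 0, 3523, -20, -36, -3433, 257, -55]))) (.node (.node (.leaf [0, 0, 0, 1]) (.leaf [0, -1, 0, 0, 1])) (.node (.leaf []) (.leaf [-7, 3, 0, -36, 0, 1, 35, -4])))) (.node (.node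 (.node (.leaf []) (.leaf [-21809, 9366, 0, -106806, 953, 1285, 103871, -13254, 1650])) (.node (.leaf []) (.leaf [-92, 136, 0, -748, 8, 7, 737, -156, 5]))) (.node (.node (.leaf [-2083, 449, 0, -9548, 95, 209, 9100, -992, 239]) (.leaf [-1, 0, 0, -1, 0, 0, 2])) (.node (.leaf [2, 0, 0, 5, 0, 0, -5]) (.leaf [20863, -7359, 0, 96275, -725, -1136, -93647, 10714, -1493])))))))

def threeL11 : Janko.Tree (List ℤ) :=
  (.node (.node (.node (.node (.node (.node (.node (.leaf []) (.leaf [24540, -9667, 0, 119137, -1081, -1671, -115466, 14419, -2000])) (.leaf [-8484, 619, 0, -32311, 213, 498, 31119, -2025, 694])) (.node (.leaf []) (.leaf [-8, -5, 0, -7, 0, 0, 8, 5]))) (.node (.node (.leaf [6, -7, 0, 39, 0, 0, -39, 7]) (.leaf [146, -118, 0, 812, -3, -1, -808, 124, -2])) (.node (.leaf []) (.leaf [-163, 139, 0, -901, -3, -1, 900, -137, 2])))) (.node (.node (.node (.node (.leaf []) (.leaf [1, 0, 0, 0, 0, 0, 0, 0, 0])) (.leaf [-1, 0, 0, 0, 1, -1, 1])) (.node (.leaf [105, 88, 0, 169, -4, -13,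 -141, -56, -15]) (.leaf [-919, 610, 0, -4832, 13, 27, 4776, -678, 29]))) (.node (.node (.leaf []) (.leaf [26, -21, 0, 139, 1, 0, -139, 20])) (.node (.leaf [-169, -15, 0, -574, 8, 11, 548, -18, 15]) (.leaf [-3875, -257, 0, -15031, 336, 395, 14126, -985, 511]))))) (.node (.node (.node (.node (.node (.leaf []) (.leaf [2633, -204, 0, 11348, -161, -289, -10702, 1010, -356])) (.leaf [-21485, 4800, 0, -92375, 693, 1366, 89241, -8627, 1768])) (.node (.leaf [-515, 328, 0, -2871, 29, 34, 2799, -429, 38]) (.leaf [2729, 94, 0, -802, 1213, 727, -807, -2916, 882]))) (.node (.node (.leaf []) (.leaf [-136, 83, 0, -698, -2, 6, 687, -92, 5])) (.node (.leaf [-24, 9, 0, -94, 0, -1, 95, -8]) (.leaf [])))) (.node (.node (.node (.leaf []) (.leaf [23, -13, 0, 107, 0, 0, -107, 13])) (.node (.leaf []) (.leaf [11, -1, 0, 36, 0, 0, -36, 1]))) (.node (.node (.leaf [-11, 2, 0, -44, 0, 1, 43, -3]) (.leaf [-43, 18, 0, -175, 0, -1, 176, -16])) (.node (.leaf [-1, 0, 0, -1, 0, 0, 2]) (.leaf [-99, 125, 0, -667,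 -5, 2, 667, -120, -2])))))) (.node (.node (.node (.node (.node (.node (.leaf []) (.leaf [2657, -782, 0, 11327, -37, -101, -11082, 1064, -144])) (.leaf [14002, -6207, 0, 66864, -403, -617, -65465, 8009, -782])) (.node (.leaf []) (.leaf [-932, 715, 0, -5649, 64, 76, 5505, -921, 67]))) (.node (.node (.leaf []) (.leaf [-1, -2, 0, 2, 0, 0, -2, 2])) (.node (.leaf []) (.leaf [-3, 2, 0, -8, 0, -1, 10, -1])))) (.node (.node (.node (.node (.leaf []) (.leaf [-14, -4, 0, -30, 0, 0, 30, 4, 1])) (.leaf [-42, 48, 0, -259, -3, -1, 259, -44, 1])) (.node (.leaf [-1, 2, 0, -6, 0, 0, 7, -2]) (.leaf [13, -2, 0, 39, 0, 1, -40, 1]))) (.node (.node (.leaf []) (.leaf [])) (.node (.leaf [-10072, -2722, 0, -28966, 381, 618, 27327, 702, 1021]) (.leaf []))))) (.node (.node (.node (.node (.node (.leaf []) (.leaf [0, 1])) (.leaf [567, -266, 0, 2703, -7, -23, -2655, 321, -25])) (.node (.leaf [20, -11, 0, 88, 0, 1, -89, 10]) (.leaf [9997, -4893, 0, 49740, -180, -563, -48545, 6268, -632]))) (.node (.node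 (.leaf []) (.leaf [])) (.node (.leaf []) (.leaf [772, 65, 0, 2499, -20, -33, -2408, 46, -58])))) (.node (.node (.node (.leaf []) (.leaf [19, -28, 0, 144, 0, 0, -143, 28])) (.node (.leaf [0, 4, 0, -13, 0, 0, 13, -4]) (.leaf [-50, 133, 0, -579, 5, 4, 575, -142]))) (.node (.node (.leaf [23, -10, 0, 102, 0, 0, -101, 10]) (.leaf [15, 54, 0, -88, 0, -4, 95, -47, -3])) (.node (.leaf [-1166, 499, 0, -5406, 22, 41, 5311, -616, 54]) (.leaf [8312, -5165, 0, 42237, -106, -199, -41838, 5670, -200])))))))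

def threeL12 : Janko.Tree (List ℤ) :=
  (.node (.node (.node (.node (.node (.node (.node (.leaf []) (.leaf [-522, 305, 0, -2652, 9, 19, 2614, -353, 20])) (.leaf [-3, 5, 0, -21, 1, -1, 22, -5])) (.node (.leaf []) (.leaf [-130, -50, 0, -376, 6, 15, 345, 13, 16]))) (.node (.node (.leaf [7, 26, 0, -51, 0, 0, 53, -24, -2]) (.leaf [-4, -1, 0, -7, 0, 0, 8, 1])) (.node (.leaf [10, -11, 0, 65, -1, 0, -65, 12]) (.leaf [6012, -2431, 0, 29125, -250, -380, -28281, 3527, -465])))) (.node (.node (.node (.node (.leaf []) (.leaf [0, 1, 0, 0, 0, 0, 0, 0, 0])) (.leaf [1067, -342, 0, 4539, -11, -29, -4463, 431, -48])) (.node (.leaf []) (.leaf [-1805, 2524, 0, -13752, 137, 56, 13626, -2787, 70]))) (.node (.node (.leaf []) (.leaf [27753, -20163, 0, 176298, -3604, -2969, -169830, 30235, -3499])) (.node (.leaf [8, 31, 0, -67, 2, 0, 69, -31, -2]) (.leaf [-22, 6, 0, -79, 0, -1, 80, -5]))))) (.node (.node (.node (.node (.node (.leaf []) (.leaf [-1, 0, 0, -1, 1, -1, 2])) (.leaf [-422, 104, 0, -1778,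 7, 21, 1730, -159, 27])) (.node (.leaf [1, 1, 0, 0, 0, 0, 0, -1]) (.leaf [118, -633, 0, 2557, -51, -32, -2511, 730, -14]))) (.node (.node (.leaf []) (.leaf [2772, -1240, 0, 14231, -76, -240, -13710, 1837, -281])) (.node (.leaf [0, 1]) (.leaf [10, -7, 0, 50, 0, 0, -50, 7])))) (.node (.node (.node (.leaf [-615, 56, 0, -2341, 5, 36, 2259, -143, 46]) (.leaf [26, -116, 0, 440, -1, -3, -438, 119, 1])) (.node (.leaf []) (.leaf [10, -1, 0, 33, 0, 0, -33, 1]))) (.node (.node (.leaf []) (.leaf [569, -316, 0, 2858, -13, -21, -2813, 373, -23])) (.node (.leaf [-306, 165, 0, -1573, 15, 17, 1541, -212, 15]) (.leaf [])))))) (.node (.node (.node (.node (.node (.node (.leaf []) (.leaf [2666, -1859, 0, 14673, -88, -116, -14443, 2177, -114])) (.leaf [0, -1, 0, 0, 1])) (.node (.leaf []) (.leaf [-3181, 1866, 0, -16430, 93, 127, 16147, -2242, 156]))) (.node (.node (.leaf [-690, 1890, 0, -7342, 0, -39, 7450, -1784, -68]) (.leaf [])) (.node (.leaf []) (.leaf [12, -7, 0, 57, 0, 0, -57, 7])))) (.node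 (.node (.node (.node (.leaf []) (.leaf [1, -1, 0, 9, 0, 0, -8, 2])) (.leaf [-3132, 1550, 0, -14413, -35, 49, 14300, -1629, 65])) (.node (.leaf [-2, -1, 0, -3, 0, 0, 3, 1]) (.leaf [-14775, 14040, 0, -93571, 743, 699, 92157, -16197, 715]))) (.node (.node (.leaf [159, -22, 0, 656, -4, -12, -629, 52, -14]) (.leaf [])) (.node (.leaf [1509, -195, 0, 6364, -47, -132, -6066, 540, -166]) (.leaf [1643, 2130, 0, -14, -60, -115, 380, -1704, -251]))))) (.node (.node (.node (.node (.node (.leaf []) (.leaf [-52, -139, 0, 166, 5, 9, -188, 111, 14])) (.leaf [])) (.node (.leaf []) (.leaf [-427, 264, 0, -2212, 12, 14, 2183, -305, 15]))) (.node (.node (.leaf []) (.leaf [-1361, 505, 0, -6777, 92, 116, 6523, -851, 138])) (.node (.leaf []) (.leaf [0, 1])))) (.node (.node (.node (.leaf [0, 0, 0, 2, 0, 0, -1]) (.leaf [27, -19, 0, 138, 0, 0, -138, 19])) (.node (.leaf [-19, 19, 0, -120, 0, 1, 119, -20]) (.leaf [-1906, 1265, 0, -10158, 46, 68, 10019, -1451, 72]))) (.node (.node (.leaf [9, -5, 0, 42,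 0, 0, -42, 5]) (.leaf [0, 1])) (.node (.leaf []) (.leaf [3600, -2301, 0, 20132, -218, -242, -19630, 3023, -261])))))))

def threeL13 : Janko.Tree (List ℤ) :=
  (.node (.node (.node (.node (.node (.node (.node (.leaf []) (.leaf [-14028, 5155, 0, -68478, 835, 1047, 66090, -8378, 1341])) (.leaf [-8, -1, 0, -21, 0, 0, 21, 1])) (.node (.leaf [0, 0, 0, -1, 0, 0, 1]) (.leaf [-109, 126, 0, -797, 3, 13, 777, -150, 8]))) (.node (.node (.leaf []) (.leaf [1, 0, 0, 2, 0, 0, -2])) (.node (.leaf []) (.leaf [3632, -2232, 0, 18743, -71, -122, -18488, 2558, -133])))) (.node (.node (.node (.node (.leaf [0, -1, 0, 0, 1]) (.leaf [0, 0, 1, 0, 0, 0, 0, 0, 0])) (.leaf [0, 1])) (.node (.leaf []) (.leaf [-3215, 1706, 0, -16485, 127, 175, 16111, -2205, 198]))) (.node (.node (.leaf []) (.leaf [-2, 0, 0, -4, 1, -1, 5])) (.node (.leaf [8, 1, 0, 4, -2, 3, -9, -4, 2]) (.leaf [0, 1]))))) (.node (.node (.node (.node (.node (.leaf []) (.leaf [195, -50, 0, 816, -4, -8, -798, 73, -10])) (.leaf [-11469, 1458,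 0, -45517, 331, 673, 43941, -3365, 903])) (.node (.leaf [-198, 42, 0, -801, 4, 8, 782, -65, 11]) (.leaf [-29640, 15891, 0, -173548, 3718, 3445, 166005, -27152, 4098]))) (.node (.node (.leaf []) (.leaf [])) (.node (.leaf []) (.leaf [-443, -369, 0, -345, -6, 6, 304, 334, 35])))) (.node (.node (.node (.leaf []) (.leaf [11, -5, 0, 48, 0, 0, -48, 5])) (.node (.leaf []) (.leaf [-6762, -277, 0, -24041, 263, 432, 22976, -1052, 634]))) (.node (.node (.leaf [0, -1, 0, 0, 0, 1]) (.leaf [408, -70, 0, 1869, -25, -47, -1772, 192, -50])) (.node (.leaf [0, 1]) (.leaf [-857, 241, 0, -3649, 15, 36, 3565, -341, 49])))))) (.node (.node (.node (.node (.node (.node (.leaf [1, 0, 0, 2, 0, 0, -2]) (.leaf [-64, 228, 0, -280, -44, -58, 411, -54, -72])) (.leaf [-15, -119, 0, 300, -2, 1, -306, 117, 4])) (.node (.leaf []) (.leaf []))) (.node (.node (.leaf []) (.leaf [-5, 7, 0, -37, 0, 0, 37, -7])) (.node (.leaf [-25, 4, 0, -90, 0, 0, 89, -5, 1]) (.leaf [502, -117, 0, 2074, -7, -22, -2021, 176, -30]))))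 (.node (.node (.node (.node (.leaf []) (.leaf [3, 0, 0, 12, 0, 0, -11, 1])) (.leaf [-16096, 7213, 0, -79230, 572, 955, 77147, -9868, 1128])) (.node (.leaf [-597, -327, 0, -1101, -2, 26, 1020, 248, 55]) (.leaf [-534, 1281, 0, -4517, -33, -92, 4743, -1023, -133]))) (.node (.node (.leaf []) (.leaf [0, 0, 0, -1, 1])) (.node (.leaf [631, 1724, 0, -2541, 76, -103, 2769, -1572, -125]) (.leaf [0, -1, 0, 0, 1]))))) (.node (.node (.node (.node (.node (.leaf []) (.leaf [-2002, 1219, 0, -11423, 53, 198, 11004, -1691, 221])) (.leaf [1544, -632, 0, 7427, -46, -93, -7220, 885, -114])) (.node (.leaf [21730, -9251, 0, 104090, -812, -1019, -101595, 12558, -1476]) (.leaf [-2335, -2853, 0, -1640, 145, 293, 866, 1936, 480]))) (.node (.node (.leaf []) (.leaf [-17, 46, 0, -190, 0, 0, 190, -46])) (.node (.leaf []) (.leaf [6809, 250, 0, 24244, -262, -430, -23183, 1073, -631])))) (.node (.node (.node (.leaf []) (.leaf [635, -349, 0, 3166, -13, -22, -3118, 409, -25])) (.node (.leaf []) (.leaf [-301,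 627, 0, -3178, 46, 46, 3108, -744, 25]))) (.node (.node (.leaf []) (.leaf [-46, -4, 0, -125, -2, 0, 124, 4, 2])) (.node (.leaf [593, -34, 0, 2183, -4, -33, -2107, 114, -43]) (.leaf [0, 1])))))))

def threeL14 : Janko.Tree (List ℤ) :=
  (.node (.node (.node (.node (.node (.node (.node (.leaf []) (.leaf [-3747, 3358, 0, -21504, 70, 18, 21500, -3432, -14])) (.leaf [-839, 98, 0, -3183, 20, 34, 3095, -206, 54])) (.node (.leaf []) (.leaf [1582, -94, 0, 5921, -42, -84, -5707, 349, -129]))) (.node (.node (.leaf [-1, -1, 0, -2, 1, 0, 2]) (.leaf [-3008, 224, 0, -12714, 172, 305, 12026, -1084, 383])) (.node (.leaf []) (.leaf [1094, -1031, 0, 6951, -63, -57, -6839, 1206, -55])))) (.node (.node (.node (.node (.leaf []) (.leaf [0, 0, 0, 1, 0, 0, 0, 0, 0])) (.leaf [340, -124, 0, 1481, -8, -8, -1462, 151, -11])) (.node (.leaf []) (.leaf [0, 1]))) (.node (.node (.leaf []) (.leaf [451, -86, 0, 1826, -8, -22, -1774, 146, -30])) (.node (.leaf []) (.leaf [-1157, 557, 0, -6272, 82, 117, 6028,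 -884, 128]))))) (.node (.node (.node (.node (.node (.leaf []) (.leaf [-427, 50, 0, -1624, 9, 18, 1578, -106, 29])) (.leaf [0, 1])) (.node (.leaf [2, 0, 0, 3, -1, 1, -4]) (.leaf [588, -813, 0, 5444, -72, -142, -5173, 1156, -129]))) (.node (.node (.leaf []) (.leaf [])) (.node (.leaf [-2114, -1701, 0, -3019, 69, 162, 2581, 1192, 277]) (.leaf [0, 1])))) (.node (.node (.node (.leaf []) (.leaf [0, -1, 0, 0, 1])) (.node (.leaf []) (.leaf [10, -1, 0, 33, 0, 0, -33, 1]))) (.node (.node (.leaf []) (.leaf [0, 1])) (.node (.leaf [8954, -4804, 0, 45322, -95, -459, -44342, 5878, -520]) (.leaf [0, 0, 0, 1])))))) (.node (.node (.node (.node (.node (.node (.leaf []) (.leaf [686, -16, 0, 3639, -128, -155, -3315, 466, -168])) (.leaf [-27, -51, 0, 28, 3, 4, -38, 38, 6])) (.node (.leaf []) (.leaf [-49, 19, 0, -199, -1, -1, 198, -17, 1]))) (.node (.node (.leaf []) (.leaf [])) (.node (.leaf []) (.leaf [17, -9, 0, 80, 0, 0, -79, 9])))) (.node (.node (.node (.node (.leaf [-416, 12, 0, -1572, 12,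 30, 1504, -92, 38]) (.leaf [4, 0, 0, 15, 0, 0, -14, 1])) (.leaf [-16050, 6701, 0, -77756, 569, 970, 75613, -9412, 1173])) (.node (.leaf []) (.leaf [-930, -499, 0, -2492, 58, 114, 2207, 156, 171]))) (.node (.node (.leaf []) (.leaf [5127, -2210, 0, 23862, -88, -190, -23430, 2730, -242])) (.node (.leaf [-20201, 7178, 0, -93432, 713, 1102, 90877, -10446, 1453]) (.leaf [-635, 350, 0, -3166, 13, 22, 3118, -409, 25]))))) (.node (.node (.node (.node (.node (.leaf []) (.leaf [0, 1])) (.leaf [447, -235, 0, 2208, -14, -16, -2174, 283, -18])) (.node (.leaf [-1670, -254, 0, -6040, 109, 181, 5636, -259, 223]) (.leaf [-4, 5, 0, -30, -1, 1, 29, -5]))) (.node (.node (.leaf []) (.leaf [-16, 3, 0, -55, 0, -1, 55, -3, 1])) (.node (.leaf []) (.leaf [-179, 25, 0, -739, 4, 14, 709, -59, 16])))) (.node (.node (.node (.leaf []) (.leaf [-1, 0, 0, -1, 0, 0, 2])) (.node (.leaf []) (.leaf [9751, 5070, 0, 21450, -291, -694, -19639, -2967, -1117]))) (.node (.node (.leaf [24, -9, 0, 97, 1, 0, -97, 8]) (.leaf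 [2, 0, 0, 5, 0, 0, -5])) (.node (.leaf [0, 1]) (.leaf [-638, 169, 0, -2674, 7, 25, 2610, -239, 39])))))))

def threeL15 : Janko.Tree (List ℤ) :=
  (.node (.node (.node (.node (.node (.node (.node (.leaf []) (.leaf [-2, 0, 0, -4, 0, 0, 5])) (.leaf [0, 1])) (.node (.leaf []) (.leaf [1081, -1445, 0, 7661, 3, -21, -7644, 1458, 4]))) (.node (.node (.leaf []) (.leaf [593, -508, 0, 3438, 14, -22, -3397, 533, -18])) (.node (.leaf [-8, 6, 0, -41, -1, 0, 41, -5]) (.leaf [-2, 6, 0, -27, 1, 1, 26, -7])))) (.node (.node (.node (.node (.leaf []) (.leaf [0, 0, 0, 0, 1, 0, 0, 0, 0])) (.leaf [306, 838, 0, -1770, 11, 28, 1738, -881, 4])) (.node (.leaf []) (.leaf [-425, 261, 0, -2172, 4, 13, 2144, -292, 15]))) (.node (.node (.leaf []) (.leaf [])) (.node (.leaf []) (.leaf [-1319, 467, 0, -6523, 92, 114, 6272, -810, 137]))))) (.node (.node (.node (.node (.node (.leaf []) (.leaf [34077, -14768, 0, 166947, -1424, -1972, -162407, 20732, -2568])) (.leaf [504, -250, 0, 2423, -7, -16, -2386, 295, -21]))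 (.node (.leaf [-1, -1, 0, -2, 1, 0, 2]) (.leaf [0, 1]))) (.node (.node (.leaf []) (.leaf [-1, 4, 0, -15, 0, 0, 15, -4])) (.node (.leaf []) (.leaf [633, -755, 0, 4391, -28, -26, -4351, 823, -14])))) (.node (.node (.node (.leaf []) (.leaf [357, 728, 0, -1683, 211, 17, 1645, -977, 21])) (.node (.leaf []) (.leaf [-1510, 751, 0, -7484, 42, 70, 7325, -952, 89]))) (.node (.node (.leaf []) (.leaf [-457, 206, 0, -2148, 2, 17, 2108, -248, 23])) (.node (.leaf []) (.leaf [-198, 39, 0, -841, 3, 15, 810, -73, 16])))))) (.node (.node (.node (.node (.node (.node (.leaf []) (.leaf [2863, -1475, 0, 14891, -148, -185, -14487, 2026, -218])) (.leaf [])) (.node (.leaf []) (.leaf [666, -127, 0, 2728, -6, -40, -2642, 219, -46]))) (.node (.node (.leaf []) (.leaf [])) (.node (.leaf [19347, 6966, 0, 52607, -720, -1455, -48902, -2542, -2249]) (.leaf [5, -2, 0, 17, 0, 0, -18, 2])))) (.node (.node (.node (.node (.leaf [0, 1]) (.leaf [3, 0, 0, 12, 0, 0, -11, 1])) (.leaf [])) (.node (.leaf [-1, -1, 0, -2,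 1, 0, 2]) (.leaf [3201, -3472, 0, 20575, -95, -63, -20495, 3647, -17]))) (.node (.node (.leaf []) (.leaf [])) (.node (.leaf [0, 1]) (.leaf [3623, -1659, 0, 17998, -54, -236, -17474, 2237, -288]))))) (.node (.node (.node (.node (.node (.leaf []) (.leaf [-19652, 7389, 0, -95078, 889, 1408, 91958, -11398, 1712])) (.leaf [0, 1])) (.node (.leaf [-4, 5, 0, -22, 0, -1, 23, -4]) (.leaf [0, 1, 0, 1, 0, -1]))) (.node (.node (.leaf []) (.leaf [3, 28, 0, -76, 0, 0, 76, -28])) (.node (.leaf [21, -13, 0, 102, 0, 0, -102, 13]) (.leaf [-16, 5, 0, -69, 0, 1, 68, -6])))) (.node (.node (.node (.leaf []) (.leaf [8, -15, 0, 68, 0, 0, -68, 15])) (.node (.leaf []) (.leaf [-10630, 13359, 0, -74241, 338, 287, 73900, -14039, 55]))) (.node (.node (.leaf []) (.leaf [52, -129, 0, 548, -5, -1, -550, 132, 3])) (.node (.leaf [-89, -1166, 0, 3120, -20, 2, -3169, 1137, 47]) (.leaf [11849, -9865, 0, 69054, -316, -403, -68229, 11006, -422])))))))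

def threeL16 : Janko.Tree (List ℤ) :=
  (.node (.node (.node (.node (.node (.node (.node (.leaf []) (.leaf [-1151, 435, 0, -5302, 37, 56, 5183, -591, 63])) (.leaf [245, 43, 0, 746, -6, -12, -711, -3, -22])) (.node (.leaf []) (.leaf [-5, 2, 0, -18, 1, -1, 19, -2]))) (.node (.node (.leaf [-158, -3, 0, -515, -1, 5, 501, -10, 9]) (.leaf [1042, -309, 0, 5247, -88, -122, -4989, 655, -136])) (.node (.leaf []) (.leaf [-17, -29, 0, 28, 0, 1, -30, 26, 2])))) (.node (.node (.node (.node (.leaf []) (.leaf [0, 0, 0, 0, 0, 1, 0, 0, 0])) (.leaf [-29, 21, 0, -172, 0, 4, 166, -26, 2])) (.node (.leaf [-1, -2, 0, 6, 0, 0, -5, 2]) (.leaf [22363, -13314, 0, 116609, -748, -944, -114544, 16127, -1121]))) (.node (.node (.leaf []) (.leaf [])) (.node (.leaf [-1760, 539, 0, -8752, 159, 180, 8360, -1090, 212]) (.leaf [0, 1]))))) (.node (.node (.node (.node (.node (.leaf []) (.leaf [-605, 489, 0, -3510, 19, 26, 3463, -554, 21])) (.leaf [74, -224, 0, 856, -2, 3, -868, 214, 9])) (.node (.leaf [-6251,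 4120, 0, -33394, 233, 245, 32951, -4795, 198]) (.leaf [3452, -1518, 0, 17070, -177, -210, -16608, 2157, -252]))) (.node (.node (.leaf []) (.leaf [])) (.node (.leaf []) (.leaf [-479, 234, 0, -2297, 15, 14, 2264, -282, 19])))) (.node (.node (.node (.leaf []) (.leaf [-3310, 1342, 0, -16199, 167, 218, 15708, -2000, 273])) (.node (.leaf [-1, -1, 0, 0, 0, 0, 0, 1]) (.leaf [14533, -13988, 0, 111670, -3365, -2277, -106729, 22293, -2663]))) (.node (.node (.leaf [-7, 5, 0, -33, 0, 0, 34, -5]) (.leaf [39, 13, 0, 71, 1, 2, -71, -14, -2])) (.node (.leaf []) (.leaf [-1, 0, 0, -1, 0, 0, 2])))))) (.node (.node (.node (.node (.node (.node (.leaf []) (.leaf [-1, -1, 0, 1, 0, 0, 0, 1])) (.leaf [157, 4, 0, 590, -7, -13, -561, 34, -17])) (.node (.leaf [-1, 0, 0, -1, 0, 0, 2]) (.leaf [254, -2924, 0, 11728, -365, -194, -11369, 3648, -165]))) (.node (.node (.leaf []) (.leaf [])) (.node (.leaf [-14, 5, 0, -58, 0, 0, 58, -5]) (.leaf [0, 1])))) (.node (.node (.node (.node (.leaf []) (.leaf [2, 0, 0,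 9, 0, 0, -8, 1])) (.leaf [0, 1, 0, 1, -1])) (.node (.leaf []) (.leaf [103, -270, 0, 1095, -7, -1, -1108, 263, 15]))) (.node (.node (.leaf [1, -53, 0, 125, 3, 3, -132, 42, 4]) (.leaf [0, 1])) (.node (.leaf []) (.leaf [161, -644, 0, 2460, -11, -12, -2460, 655, 12]))))) (.node (.node (.node (.node (.node (.leaf []) (.leaf [-135, 104, 0, -710, 1, -2, 712, -103])) (.leaf [])) (.node (.leaf [7, -7, 0, 42, 0, 0, -42, 7]) (.leaf [84, -116, 0, 628, -3, -4, -623, 124, -1]))) (.node (.node (.leaf [-1129, 508, 0, -5449, 42, 56, 5335, -664, 58]) (.leaf [319, -856, 0, 3563, -27, -9, -3574, 872, 20])) (.node (.leaf [-147, 47, 0, -605, -1, 2, 598, -53, 5]) (.leaf [2178, -4018, 0, 19949, -213, -141, -19731, 4449, -77])))) (.node (.node (.node (.leaf [39, -48, 0, 279, 0, -3, -275, 52, -1]) (.leaf [-455, 865, 0, -4023, 26, 13, 4028, -886, -18])) (.node (.leaf []) (.leaf [-37, 94, 0, -408, 5, 1, 407, -100]))) (.node (.node (.leaf []) (.leaf [])) (.node (.leaf [-35, 22, 0, -172, 0, 0, 172, -22])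 (.leaf [13142, -11031, 0, 76447, -339, -404, -75634, 12184, -409])))))))

def threeL17 : Janko.Tree (List ℤ) :=
  (.node (.node (.node (.node (.node (.node (.node (.leaf []) (.leaf [0, 1])) (.leaf [11, -2, 0, 39, 0, 0, -39, 2])) (.node (.leaf []) (.leaf [40, -22, 0, 205, 0, -3, -199, 26, -2]))) (.node (.node (.leaf []) (.leaf [0, 1])) (.node (.leaf []) (.leaf [16, -12, 0, 83, 0, 0, -83, 12])))) (.node (.node (.node (.node (.leaf []) (.leaf [0, 0, 0, 0, 0, 0, 1, 0, 0])) (.leaf [-24030, 9465, 0, -116810, 1070, 1652, 113183, -14163, 1976])) (.node (.leaf [40, -55, 0, 285, 0, 0, -285, 55]) (.leaf [-1755, -886, 0, -4568, 81, 199, 4100, 338, 269]))) (.node (.node (.leaf []) (.leaf [2, -4, 0, 18, 0, 0, -18, 4])) (.node (.leaf []) (.leaf [-5340, 651, 0, -19226, -47, 133, 18866, -964, 227]))))) (.node (.node (.node (.node (.node (.leaf []) (.leaf [-14401, -4804, 0, -40289, 602, 1062, 37566, 1478, 1662])) (.leaf [0, 0, 0, -2, 0, 1, 1])) (.node (.leaf [14639, -7005, 0, 73222, -499,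 -859, -71364, 9362, -999]) (.leaf [324, 102, 0, 842, -15, -13, -802, -47, -27]))) (.node (.node (.leaf []) (.leaf [28, -19, 0, 140, 0, 0, -140, 19])) (.node (.leaf []) (.leaf [])))) (.node (.node (.node (.leaf [-3, 2, 0, -12, 0, 0, 13, -2]) (.leaf [-1, 2, 0, -7, -1, 0, 7, -1])) (.node (.leaf []) (.leaf [0, -1, 0, 0, 0, 1]))) (.node (.node (.leaf []) (.leaf [4724, 63, 0, 18561, -356, -436, -17563, 1291, -562])) (.node (.leaf [-26, 41, 0, -202, 0, 0, 202, -41]) (.leaf [2020, -401, 0, 9208, -95, -209, -8762, 942, -237])))))) (.node (.node (.node (.node (.node (.node (.leaf []) (.leaf [1, 0, 0, 2, 0, 0, -2])) (.leaf [324, -305, 0, 1928, 0, -4, -1917, 316, -7])) (.node (.leaf []) (.leaf [1692, -336, 0, 7501, -121, -132, -7197, 761, -172]))) (.node (.node (.leaf [0, 0, 0, -1, 0, 0, 1]) (.leaf [2, -4, 0, 17, 0, 0, -17, 4])) (.node (.leaf [-230, -19, 0, -786, 15, 15, 755, -27, 16]) (.leaf [-12, 11, 0, -68, -1, 0, 68, -10])))) (.node (.node (.node (.node (.leaf []) (.leaf [2, 0, 0,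 9, 0, 0, -8, 1])) (.leaf [20, -7, 0, 82, 1, 0, -81, 6])) (.node (.leaf [523, -189, 0, 2983, -76, -85, -2808, 440, -90]) (.leaf [3, -6, 0, 21, 0, 1, -22, 5]))) (.node (.node (.leaf [256, -2322, 0, 7228, -89, 78, -7404, 2235, 98]) (.leaf [])) (.node (.leaf [77, -60, 0, 420, 1, -1, -417, 62, -2]) (.leaf [50, -101, 0, 550, -4, -13, -530, 127, -8]))))) (.node (.node (.node (.node (.node (.leaf []) (.leaf [-98, 47, 0, -429, 0, 0, 430, -45, -1])) (.leaf [-79, 34, 0, -411, 5, 7, 395, -55, 9])) (.node (.leaf [4922, -1431, 0, 23688, -400, -446, -22709, 2810, -533]) (.leaf [-10, 7, 0, -48, 0, 0, 49, -7]))) (.node (.node (.leaf [1, 0, 0, 2, 0, 0, -2]) (.leaf [])) (.node (.leaf [-2, 0, 0, -4, 0, 0, 5]) (.leaf [-177, -490, 0, 1126, -41, -23, -1106, 552, 2])))) (.node (.node (.node (.leaf [0, 1]) (.leaf [6, -2, 0, 27, 0, 0, -26, 2])) (.node (.leaf []) (.leaf [13144, -10337, 0, 75414, -472, -521, -74419, 11804, -474]))) (.node (.node (.leaf [4, -8, 0, 39, 1, -1, -38, 8]) (.leaf [105, -7,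 0, 374, -1, -3, -364, 18, -7])) (.node (.leaf [3569, -996, 0, 16938, -275, -310, -16247, 1962, -381]) (.leaf [-7128, -4232, 0, -10826, -141, 242, 10181, 3727, 404])))))))

def threeL18 : Janko.Tree (List ℤ) :=
  (.node (.node (.node (.node (.node (.node (.node (.leaf []) (.leaf [])) (.leaf [18, -8, 0, 73, 0, 1, -74, 7])) (.node (.leaf []) (.leaf [-12, 4, 0, -48, 0, 0, 48, -4]))) (.node (.node (.leaf [2070, 99, 0, 7340, -84, -130, -7007, 318, -203]) (.leaf [-944, 161, 0, -3710, 21, 37, 3617, -276, 57])) (.node (.leaf []) (.leaf [2544, -1861, 0, 15117, -166, -191, -14722, 2423, -204])))) (.node (.node (.node (.node (.leaf []) (.leaf [1, 0, 0, 3, 0, 0, -2])) (.leaf [1, 0, 0, 2, 0, 0, -2])) (.node (.leaf [230, 23, 0, 765, -8, -13, -731, 19, -21]) (.leaf [-3343, 362, 0, -12330, -22, 134, 12000, -671, 197]))) (.node (.node (.leaf []) (.leaf [])) (.node (.leaf [2, 4, 0, -3, 0, 0, 4, -4]) (.leaf [-186, 91, 0, -908, 5, 8, 891, -113, 9]))))) (.node (.node (.node (.node (.node (.leaf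 []) (.leaf [2024, 584, 0, 6927, -214, -236, -6358, 199, -333])) (.leaf [-1230, 1431, 0, -8114, 57, 10, 8115, -1488, -10])) (.node (.leaf []) (.leaf []))) (.node (.node (.leaf []) (.leaf [4, 3, 0, 0, 1, 0, 0, -4])) (.node (.leaf []) (.leaf [-540, 171, 0, -2323, 9, 18, 2278, -226, 28])))) (.node (.node (.node (.leaf [-1, 1, 0, -6, 0, 0, 6, -1]) (.leaf [-479, 113, 0, -2021, 4, 27, 1960, -178, 34])) (.node (.leaf [14, -5, 0, 56, 0, 0, -56, 5]) (.leaf [-1395, 365, 0, -5765, 19, 46, 5648, -503, 72]))) (.node (.node (.leaf []) (.leaf [])) (.node (.leaf [151, 902, 0, -1033, -87, -117, 1304, -544, -154]) (.leaf [0, 1])))))) (.node (.node (.node (.node (.node (.node (.leaf []) (.leaf [418, -4142, 0, 13616, -107, -13, -13717, 4148, 114])) (.leaf [-4964, 106, 0, -19199, 151, 406, 18241, -1215, 552])) (.node (.leaf [-1747, 359, 0, -7753, 122, 134, 7444, -788, 174]) (.leaf [10410, -6867, 0, 60889, -990, -865, -59106, 9640, -918]))) (.node (.node (.leaf []) (.leaf [-77, 32, 0, -356, 4,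 1, 350, -42, 5])) (.node (.leaf []) (.leaf [5, -1, 0, 14, 0, 0, -15, 1])))) (.node (.node (.node (.node (.leaf []) (.leaf [1, 0, 0, 6, 0, 0, -5, 1])) (.leaf [-1, 0, 0, -1, 0, 0, 2])) (.node (.leaf []) (.leaf [-106, 57, 0, -442, -1, -6, 453, -45, -5]))) (.node (.node (.leaf [20, -7, 0, 81, 0, 0, -81, 7]) (.leaf [])) (.node (.leaf [-28708, -4038, 0, -91494, 514, 1769, 87188, -782, 2537]) (.leaf [276, -94, 0, 1264, -9, -16, -1229, 138, -19]))))) (.node (.node (.node (.node (.node (.leaf []) (.leaf [-7827, 837, 0, -30836, 300, 461, 29729, -2245, 647])) (.leaf [-718, 165, 0, -3001, 6, 41, 2915, -258, 46])) (.node (.leaf [-5, 8, 0, -39, 0, 0, 39, -8]) (.leaf [-11, 12, 0, -69, 0, 0, 69, -12]))) (.node (.node (.leaf []) (.leaf [])) (.node (.leaf [2130, -388, 0, 9279, -134, -165, -8903, 898, -211]) (.leaf [15, -4, 0, 59, -1, 0, -60, 6])))) (.node (.node (.node (.leaf []) (.leaf [986, -401, 0, 4503, -18, -33, -4424, 499, -46])) (.node (.leaf []) (.leaf [-251, 157, 0, -1294, 8, 6, 1280,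 -180, 9]))) (.node (.node (.leaf []) (.leaf [0, 1])) (.node (.leaf []) (.leaf [-3041, 7851, 0, -30895, -112, -128, 31329, -7305, -306])))))))

def threeL19 : Janko.Tree (List ℤ) :=
  (.node (.node (.node (.node (.node (.node (.node (.leaf []) (.leaf [11, -5, 0, 47, 0, 0, -47, 5])) (.leaf [])) (.node (.leaf []) (.leaf [3, -2, 0, 10, 0, 1, -11, 1]))) (.node (.node (.leaf []) (.leaf [2, -2, 0, 12, 0, 0, -12, 2])) (.node (.leaf [-11, -19, 0, 21, 0, 0, -23, 18, 2]) (.leaf [16358, -10313, 0, 87856, -822, -739, -86282, 12709, -835])))) (.node (.node (.node (.node (.leaf []) (.leaf [1, 0, 0, 3, 0, 0, -2])) (.leaf [-353, 203, 0, -1747, 3, 8, 1728, -225, 11])) (.node (.leaf [4, -6, 0, 30, 0, 0, -30, 6]) (.leaf [38578, -16469, 0, 187980, -1606, -2201, -182905, 23150, -2874]))) (.node (.node (.leaf []) (.leaf [])) (.node (.leaf [2, -5, 0, 21, 0, 0, -21, 5]) (.leaf [-43, -7, 0, -141, 3, 3, 133, -3, 5]))))) (.node (.node (.node (.node (.node (.leaf []) (.leaf [4291, 2435, 0, 8729, -95,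 -292, -7933, -1545, -503])) (.leaf [-11, -30, 0, 34, 2, 2, -39, 23, 3])) (.node (.leaf [-176, 54, 0, -787, 6, 11, 766, -81, 10]) (.leaf [-1146, -42, 0, -4905, 130, 149, 4560, -434, 197]))) (.node (.node (.leaf []) (.leaf [-849, 145, 0, -4023, 87, 102, 3801, -452, 119])) (.node (.leaf [-3248, 1924, 0, -16851, 95, 133, 16558, -2312, 160]) (.leaf [2, -1, 0, 7, 0, 0, -7, 1])))) (.node (.node (.node (.leaf []) (.leaf [-3167, 1166, 0, -14410, 70, 148, 14085, -1561, 177])) (.node (.leaf [0, -1, 0, 0, 1]) (.leaf [-5132, 2698, 0, -25191, 101, 172, 24806, -3185, 214]))) (.node (.node (.leaf []) (.leaf [134, -105, 0, 714, -1, 1, -715, 105])) (.node (.leaf [0, 1]) (.leaf [])))))) (.node (.node (.node (.node (.node (.node (.leaf []) (.leaf [-252, 76, 0, -1078, 8, 8, 1059, -105, 12])) (.leaf [439, -61, 0, 1699, -6, -20, -1650, 116, -29])) (.node (.leaf []) (.leaf [198, -62, 0, 903, -4, -14, -874, 95, -15]))) (.node (.node (.leaf []) (.leaf [-1, 2, 0, -5, 0, -1, 6, -1])) (.node (.leaf [2,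 -1, 0, 7, 1, 0, -7]) (.leaf [1038, -64, 0, 3749, -24, -39, -3643, 195, -68])))) (.node (.node (.node (.node (.leaf []) (.leaf [1, -1, 0, 9, 0, 0, -8, 2])) (.leaf [-744, -537, 0, -1988, 97, 129, 1683, 135, 176])) (.node (.leaf [304, -264, 0, 1869, -12, -21, -1836, 308, -11]) (.leaf [9302, -1888, 0, 39253, -230, -582, -37900, 3471, -771]))) (.node (.node (.leaf [-1089, 254, 0, -4857, 48, 84, 4669, -490, 104]) (.leaf [20289, -7194, 0, 93809, -712, -1108, -91237, 10479, -1464])) (.node (.leaf []) (.leaf [1, 0, 0, 2, 0, 0, -2]))))) (.node (.node (.node (.node (.node (.leaf []) (.leaf [-1661, 522, 0, -7450, 58, 85, 7244, -784, 120])) (.leaf [-7084, 1745, 0, -29813, 163, 325, 29030, -2692, 459])) (.node (.leaf [37, -24, 0, 178, 0, 1, -179, 23]) (.leaf [-34, 10, 0, -130, 0, -1, 129, -9, 1]))) (.node (.node (.leaf []) (.leaf [-39, 55, 0, -283, 0, 0, 283, -55])) (.node (.leaf [0, 1]) (.leaf [421, -70, 0, 1675, -9, -20, -1627, 127, -28])))) (.node (.node (.node (.leaf []) (.leaf [0,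 1])) (.node (.leaf [505, -164, 0, 2183, -9, -16, -2141, 215, -26]) (.leaf [-660, 634, 0, -4060, 24, 18, 4030, -690, 13]))) (.node (.node (.leaf [-108, 66, 0, -585, 5, 6, 570, -84, 8]) (.leaf [37, 31, 0, 33, 1, -1, -28, -27, -4])) (.node (.leaf []) (.leaf [-3368, 1939, 0, -18192, 185, 226, 17708, -2607, 258])))))))

def threeL20 : Janko.Tree (List ℤ) :=
  (.node (.node (.node (.node (.node (.node (.node (.leaf []) (.leaf [-4274, 2087, 0, -20548, 68, 154, 20208, -2495, 186])) (.leaf [1, -1, 0, 6, 0, 0, -6, 1])) (.node (.leaf [5, -6, 0, 39, -1, 0, -39, 8]) (.leaf []))) (.node (.node (.leaf [-18231, 4831, 0, -73359, -141, 492, 72202, -5847, 665]) (.leaf [6300, -1495, 0, 32385, -788, -820, -30457, 4211, -1108])) (.node (.leaf []) (.leaf [53, -46, 0, 314, 0, -3, -310, 50, -1])))) (.node (.node (.node (.node (.leaf []) (.leaf [-2, 0, 0, -3, 0, 0, 5])) (.leaf [0, 1, 0, 1, -1])) (.node (.leaf [3, 0, 0, 9, 0, 0, -9]) (.leaf [-655, -280, 0, -1539, 11, 34, 1430, 161, 75]))) (.node (.node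 (.leaf [-20, 13, 0, -96, 0, 0, 97, -13]) (.leaf [])) (.node (.leaf [20, -70, 0, 254, 1, 1, -258, 65, 3]) (.leaf [-1140, -1548, 0, -431, 132, 146, 65, 1049, 221]))))) (.node (.node (.node (.node (.node (.leaf []) (.leaf [11770, 2963, 0, 34780, -431, -761, -32788, -541, -1230])) (.leaf [])) (.node (.leaf []) (.leaf [-12148, 9926, 0, -70284, 313, 422, 69420, -11103, 442]))) (.node (.node (.leaf []) (.leaf [])) (.node (.leaf []) (.leaf [1177, -1292, 0, 7504, -49, -6, -7508, 1337, 10])))) (.node (.node (.node (.leaf []) (.leaf [44, -17, 0, 183, 0, 0, -183, 17])) (.node (.leaf []) (.leaf [0, -1, 0, 5, 0, 0, -4, 1]))) (.node (.node (.leaf [0, 0, 0, 1]) (.leaf [0, 1, 0, 2, 0, -1, -1])) (.node (.leaf [399, -38, 0, 1488, -8, -16, -1445, 89, -27]) (.leaf [108, -96, 0, 613, -1, 0, -613, 97])))))) (.node (.node (.node (.node (.node (.node (.leaf [0, 1]) (.leaf [64, 89, 0, -38, -1, -3, 48, -78, -7])) (.leaf [130, 40, 0, 311, -2, -2, -300, -27, -9])) (.node (.leaf [-1409, 490, 0, -7116,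 129, 138, 6820, -914, 158]) (.leaf [0, 1]))) (.node (.node (.leaf []) (.leaf [-141, -34, 0, -363, 2, 2, 352, 21, 9])) (.node (.leaf []) (.leaf [0, -2, 0, 5, 0, 0, -5, 2])))) (.node (.node (.node (.node (.leaf [2, 0, 0, 5, 0, 0, -5]) (.leaf [4, -1, 0, 18, 0, 0, -17, 2])) (.leaf [2074, 1717, 0, 2834, -67, -160, -2399, -1214, -275])) (.node (.leaf [808, -129, 0, 3838, -86, -101, -3619, 432, -117]) (.leaf [1085, -1839, 0, 8488, -8, 24, -8572, 1763, 60]))) (.node (.node (.leaf [0, 1]) (.leaf [13366, -1196, 0, 43733, 692, -105, -43326, 911, -302])) (.node (.leaf [-1124, -75, 0, -3798, 26, 64, 3641, -108, 93]) (.leaf [-44, 80, 0, -382, 3, 0, 381, -84, 1]))))) (.node (.node (.node (.node (.node (.leaf []) (.leaf [0, 1])) (.leaf [16003, -13932, 0, 93349, -292, -421, -92643, 14931, -286])) (.node (.leaf []) (.leaf [14, 13, 0, -7, 1, 2, 6, -15, -1]))) (.node (.node (.leaf []) (.leaf [])) (.node (.leaf [-241, 76, 0, -1088, 8, 14, 1057, -115, 17]) (.leaf [-3406, 1623, 0, -16435, 90, 129,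 16132, -2016, 174])))) (.node (.node (.node (.leaf [0, 0, 0, -1, 0, 1]) (.leaf [-766, 204, 0, -3201, 21, 27, 3136, -291, 39])) (.node (.leaf [1, 0, 0, 2, 0, 0, -2]) (.leaf [-10, 11, 0, -97, 0, 5, 89, -20, 4]))) (.node (.node (.leaf [-28, 21, 0, -118, 1, -5, 125, -15, -2]) (.leaf [-23, 7, 0, -91, 0, 0, 91, -7])) (.node (.leaf [-85, 20, 0, -417, 11, 10, 397, -52, 11]) (.leaf [])))))))

def threeL21 : Janko.Tree (List ℤ) :=
  (.node (.node (.node (.node (.node (.node (.node (.leaf []) (.leaf [1, 2, 0, -1, 0, 0, 2, -2])) (.leaf [0, 1, 0, 1, -1])) (.node (.leaf [17198, -8593, 0, 82789, -276, -578, -81553, 10105, -658]) (.leaf [7, -7, 0, 41, 0, 0, -41, 7]))) (.node (.node (.leaf []) (.leaf [])) (.node (.leaf []) (.leaf [0, 1])))) (.node (.node (.node (.node (.leaf []) (.leaf [1, 0, 0, 2, 0, 1, -2])) (.leaf [-21085, 9730, 0, -105252, 911, 1252, 102425, -13468, 1575])) (.node (.leaf []) (.leaf [-2730, 214, 0, -11700, 161, 292, 11046, -1029, 362]))) (.node (.node (.leaf [0, 2, 0,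 -6, 0, 0, 6, -2]) (.leaf [])) (.node (.leaf [-3, 8, 0, -31, 0, 0, 32, -7, -1]) (.leaf [74, 153, 0, 164, -33, -36, -76, -32, -52]))))) (.node (.node (.node (.node (.node (.leaf []) (.leaf [-898, 347, 0, -4044, 14, 31, 3971, -434, 42])) (.leaf [5, 0, 0, 10, 0, 1, -11, -1])) (.node (.leaf [2117, -1343, 0, 11046, -39, -72, -10898, 1530, -76]) (.leaf [351, -40, 0, 1355, -8, -17, -1312, 92, -26]))) (.node (.node (.leaf []) (.leaf [-7, 2, 0, -28, 0, 0, 28, -2])) (.node (.leaf [0, 1]) (.leaf [-12, 13, 0, -76, 0, 0, 76, -13])))) (.node (.node (.node (.leaf []) (.leaf [328, -162, 0, 1647, -11, -19, -1608, 212, -20])) (.node (.leaf []) (.leaf [13, 1, 0, 35, 0, 0, -35, -1]))) (.node (.node (.leaf []) (.leaf [647, -260, 0, 2943, -7, -23, -2889, 321, -31])) (.node (.leaf [-5, -23, 0, 54, 0, 0, -54, 23]) (.leaf [127, -15, 0, 442, 2, 0, -435, 20, -7])))))) (.node (.node (.node (.node (.node (.node (.leaf []) (.leaf [0, 1])) (.leaf [-1224, 340, 0, -5898, 80, 121, 5630, -688, 147])) (.node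 (.leaf [0, 1]) (.leaf [3422, -2066, 0, 18786, -192, -231, -18294, 2750, -261]))) (.node (.node (.leaf [-1, 0, 0, -4, 0, 0, 4]) (.leaf [])) (.node (.leaf [-47, 15, 0, -185, 2, -1, 186, -16]) (.leaf [3, -2, 0, 14, 0, 0, -14, 2])))) (.node (.node (.node (.node (.leaf []) (.leaf [2, -1, 0, 7, 0, 1, -7, 1])) (.leaf [1865, 179, 0, 6943, -114, -191, -6518, 359, -233])) (.node (.leaf [0, 0, 0, 5, 0, -1, -4, 1]) (.leaf [-374, -303, 0, -433, 10, 16, 377, 236, 41]))) (.node (.node (.leaf []) (.leaf [1321, -497, 0, 6616, -92, -114, -6366, 839, -136])) (.node (.leaf [-2, 1, 0, -4, 0, -1, 5]) (.leaf [0, 0, 0, 1]))))) (.node (.node (.node (.node (.node (.leaf []) (.leaf [251, -74, 0, 1070, -8, -8, -1050, 103, -12])) (.leaf [-1220, 155, 0, -4793, 28, 69, 4634, -340, 89])) (.node (.leaf []) (.leaf [-441, 62, 0, -1710, 7, 20, 1661, -118, 29]))) (.node (.node (.leaf [0, 1]) (.leaf [-17, 11, 0, -82, 0, 0, 83, -11])) (.node (.leaf [-2116, 615, 0, -10104, 97, 206, 9669, -1147, 229]) (.leaf [113,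 252, 0, -410, 8, 5, 420, -249, -15])))) (.node (.node (.node (.leaf [-743, -528, 0, -1721, 36, 112, 1461, 231, 149]) (.leaf [-5367, -453, 0, -17960, 183, 287, 17201, -490, 473])) (.node (.leaf [439, -132, 0, 1870, -8, -14, -1832, 178, -24]) (.leaf [10, -1, 0, 35, 0, 0, -34, 1]))) (.node (.node (.leaf [1085, -518, 0, 5156, -20, -35, -5077, 617, -44]) (.leaf [-21, -106, 0, 248, 1, -1, -250, 103, 3])) (.node (.leaf [12, -13, 0, 78, 0, 0, -77, 13]) (.leaf [-6836, 5504, 0, -48322, 1375, 1003, 46139, -9060, 1179])))))))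

def threeL22 : Janko.Tree (List ℤ) :=
  (.node (.node (.node (.node (.node (.node (.node (.leaf []) (.leaf [-36, 17, 0, -160, 0, 0, 160, -17])) (.leaf [9, -7, 0, 51, 0, 0, -50, 7])) (.node (.leaf [1, 0, 0, 2, 0, 0, -2]) (.leaf [8532, -3223, 0, 40193, -213, -525, -39042, 4587, -626]))) (.node (.node (.leaf []) (.leaf [-676, 394, 0, -3762, 44, 55, 3644, -556, 63])) (.node (.leaf []) (.leaf [-245, -28, 0, -798, 8, 13, 763, -15, 22])))) (.node (.node (.node (.node (.leaf []) (.leaf [-1, 0, 0, 0, 0, 0, 2])) (.leaf [-249, 498, 0, -2579, 47, 37, 2521, -602, 21])) (.node (.leaf [-1, 0, 0, -1, 0, 0, 2]) (.leaf [-1470, 1910, 0, -10181, 25, 4, 10187, -1929, -10]))) (.node (.node (.leaf [1084, -727, 0, 6176, -62, -77, -6021, 944, -78]) (.leaf [4730, -2065, 0, 22012, -80, -164, -21632, 2525, -216])) (.node (.leaf []) (.leaf [-5991, 1989, 0, -27331, 241, 326, 26579, -2983, 427]))))) (.node (.node (.node (.node (.node (.leaf []) (.leaf [-5180, 853, 0, -25779, 709, 677, 24142, -3198, 960]))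 (.leaf [137, -350, 0, 854, 46, 58, -987, 171, 75])) (.node (.leaf [39, 4, 0, 147, -3, -4, -139, 8, -4]) (.leaf [0, -1, 0, 0, 0, 1]))) (.node (.node (.leaf []) (.leaf [])) (.node (.leaf [240, -1211, 0, 4455, -38, -13, -4455, 1249, 13]) (.leaf [-1, -1, 0, -3, 1, 0, 3])))) (.node (.node (.node (.leaf []) (.leaf [34, -13, 0, 143, 0, 0, -142, 13])) (.node (.leaf [1, -2, 0, 8, 0, 0, -8, 2]) (.leaf [11080, -4005, 0, 53799, -637, -815, -51919, 6522, -1065]))) (.node (.node (.leaf [0, 0, 0, 2, 0, 0, -1]) (.leaf [-1, 1, 0, -6, 0, 0, 6, -1])) (.node (.leaf [3, -5, 0, 19, 0, 1, -20, 4]) (.leaf [48, -19, 0, 202, -2, 1, -202, 20])))))) (.node (.node (.node (.node (.node (.node (.leaf []) (.leaf [-1150, 1135, 0, -7510, 64, 68, 7380, -1329, 62])) (.leaf [0, 1])) (.node (.leaf [-3610, 1012, 0, -17123, 276, 312, 16428, -1982, 383]) (.leaf [1, 0, 0, 2, 0, 0, -2]))) (.node (.node (.leaf []) (.leaf [1, -1, 0, 0, 0, 1, -1])) (.node (.leaf []) (.leaf [1582, -516, 0, 6932, -21, -66, -6777, 692,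 -89])))) (.node (.node (.node (.node (.leaf []) (.leaf [4, -1, 0, 18, 0, 0, -17, 2])) (.leaf [-1948, 26944, 0, -79377, 202, -724, 81462, -25061, -1361])) (.node (.leaf []) (.leaf [-1, 0, 0, -1, 0, 0, 2]))) (.node (.node (.leaf []) (.leaf [])) (.node (.leaf [-634, 40, 0, -2337, 14, 31, 2262, -129, 44]) (.leaf [-16, 1, 0, -54, 1, 0, 54, -2]))))) (.node (.node (.node (.node (.node (.leaf []) (.leaf [18, -6, 0, 68, -1, 1, -69, 6])) (.leaf [5241, 3919, 0, 9615, -340, -512, -8300, -2264, -803])) (.node (.leaf [-34, 26, 0, -180, 0, 0, 180, -26]) (.leaf [-475, 78, 0, -1876, 7, 22, 1822, -137, 31]))) (.node (.node (.leaf []) (.leaf [])) (.node (.leaf []) (.leaf [-28297, 20317, 0, -178579, 3614, 2988, 172068, -30442, 3523])))) (.node (.node (.node (.leaf [2, 0, 0, 6, 0, 0, -6]) (.leaf [10, -20, 0, 89, 0, 1, -90, 20])) (.node (.leaf []) (.leaf [1, 0, 0, 2, 0, 0, -2]))) (.node (.node (.leaf [734, -267, 0, 3894, -86, -83, -3711, 537, -100]) (.leaf [])) (.node (.leaf [179, -146, 0, 1012,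 -4, -4, -1005, 157, -3]) (.leaf [0, 1])))))))

def threeL23 : Janko.Tree (List ℤ) :=
  (.node (.node (.node (.node (.node (.node (.node (.leaf []) (.leaf [-33732, 14305, 0, -163666, 1349, 1879, 159300, -20020, 2487])) (.leaf [3, -1, 0, 11, 0, 0, -11, 1])) (.node (.leaf []) (.leaf []))) (.node (.node (.leaf []) (.leaf [-1171, 770, 0, -6572, 63, 78, 6415, -990, 80])) (.node (.leaf [-5, 4, 0, -24, 0, 0, 25, -4]) (.leaf [155, 4, 0, 493, -3, -2, -483, 9, -8])))) (.node (.node (.node (.node (.leaf []) (.leaf [-1, 0, 0, -1, 1, 0, 2])) (.leaf [])) (.node (.leaf [-21360, 12309, 0, -110268, 714, 909, 108263, -15028, 1096]) (.leaf [184, -157, 0, 1074, -1, -6, -1063, 170, -5]))) (.node (.node (.leaf []) (.leaf [2, 2, 0, 0, 0, 0, 0, -2])) (.node (.leaf []) (.leaf [-2, 1, 0, -7, 0, 0, 8, -1]))))) (.node (.node (.node (.node (.node (.leaf []) (.leaf [-77, -403, 0, 740, 6, 24, -799, 337, 36])) (.leaf [202, -564, 0, 2344, -18, -8, -2346, 580, 10])) (.node (.leaf [-3712, 1162, 0, -17335, 150,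 290, 16724, -1924, 322]) (.leaf [29, 65, 0, -117, 9, 0, 120, -71, -3]))) (.node (.node (.leaf []) (.leaf [-7, 2, 0, -28, 0, 0, 28, -2])) (.node (.leaf []) (.leaf [])))) (.node (.node (.node (.leaf []) (.leaf [-11883, 3086, 0, -56934, 1090, 1082, 54373, -6737, 1479])) (.node (.leaf []) (.leaf [-35, 38, 0, -216, 0, 0, 217, -38]))) (.node (.node (.leaf []) (.leaf [-351, -12, 0, -1185, 10, 14, 1145, -38, 26])) (.node (.leaf []) (.leaf [19, -6, 0, 78, -2, 0, -78, 8])))))) (.node (.node (.node (.node (.node (.node (.leaf []) (.leaf [-10, 1, 0, -34, 0, 0, 34, -1])) (.leaf [-1502, 439, 0, -6921, 24, 120, 6651, -733, 150])) (.node (.leaf []) (.leaf [-211, -24, 0, -642, 6, 6, 623, -1, 13]))) (.node (.node (.leaf [-2, 0, 0, -7, 0, 0, 7]) (.leaf [-21, 13, 0, -103, 0, 0, 103, -13])) (.node (.leaf [-265, 147, 0, -1348, 9, 11, 1324, -180, 13]) (.leaf [-2, 4, 0, -19, 0, 0, 19, -4])))) (.node (.node (.node (.node (.leaf []) (.leaf [-1, -1, 0, 6, 0, 0, -4, 2])) (.leaf [-1105, 661, 0, -5631,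 22, 32, 5556, -758, 43])) (.node (.leaf [-5, -2, 0, -1, 0, -1, 3, 3]) (.leaf [432, -66, 0, 1715, -8, -23, -1662, 127, -30]))) (.node (.node (.leaf []) (.leaf [])) (.node (.leaf [2, 1, 0, 3, 0, 0, -3, -1]) (.leaf [-636, 349, 0, -3164, 12, 22, 3116, -407, 25]))))) (.node (.node (.node (.node (.node (.leaf []) (.leaf [-1689, 655, 0, -8581, 90, 164, 8233, -1092, 184])) (.leaf [-1, -18, 0, 62, -3, -1, -61, 22])) (.node (.leaf [-193, 22, 0, -696, -2, 5, 681, -35, 10]) (.leaf [3425, -1562, 0, 16207, -64, -127, -15919, 1914, -161]))) (.node (.node (.leaf []) (.leaf [])) (.node (.leaf []) (.leaf [6119, -3797, 0, 32470, -203, -288, -31890, 4580, -292])))) (.node (.node (.node (.leaf []) (.leaf [-63, -22, 0, -157, -2, 4, 147, 13, 7])) (.node (.leaf []) (.leaf [223, -139, 0, 1170, -2, -10, -1150, 161, -10]))) (.node (.node (.leaf []) (.leaf [])) (.node (.leaf []) (.leaf [-585, 181, 0, -2519, 4, 22, 2463, -241, 34])))))))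

def threeL24 : Janko.Tree (List ℤ) :=
  (.node (.node (.node (.node (.node (.node (.node (.leaf []) (.leaf [-1, 0, 0, -1, 0, 0, 2])) (.leaf [-5793, 2349, 0, -28182, 250, 377, 27348, -3433, 457])) (.node (.leaf []) (.leaf [1, 0, 0, 5, 1, -1, -4]))) (.node (.node (.leaf [196, -73, 0, 902, -6, -10, -881, 100, -11]) (.leaf [-188, 70, 0, -829, 2, 6, 816, -86, 8])) (.node (.leaf [0, 2, 0, -6, 0, 0, 6, -2]) (.leaf [44, -20, 0, 222, -5, -1, -217, 31, -4])))) (.node (.node (.node (.node (.leaf []) (.leaf [-1, 0, 0, 0, 0, 0, 2])) (.leaf [-49, 47, 0, -307, 0, 3, 303, -51, 1])) (.node (.leaf [0, 1]) (.leaf [2, 0, 0, 3, -1, 1, -4]))) (.node (.node (.leaf []) (.leaf [-30, 45, 0, -216, -1, -1, 218, -42, -1])) (.node (.leaf []) (.leaf [1829, -530, 0, 8756, -96, -174, -8376, 1006, -206]))))) (.node (.node (.node (.node (.node (.leaf []) (.leaf [-706, 238, 0, -3144, 13, 32, 3070, -325, 42])) (.leaf [-2062, 1650, 0, -11896, 76, 73, 11742, -1880, 81])) (.node (.leaf []) (.leaf []))) (.node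 (.node (.leaf []) (.leaf [])) (.node (.leaf []) (.leaf [-3725, 1789, 0, -18366, 23, 206, 17911, -2267, 249])))) (.node (.node (.node (.leaf [0, 1, 0, -1, -1, 0, 1]) (.leaf [0, 1])) (.node (.leaf [5, -8, 0, 38, 0, 0, -38, 8]) (.leaf [-18, 11, 0, -87, 0, 0, 87, -11]))) (.node (.node (.leaf []) (.leaf [1, 0, 0, 0, -1, 1, -1])) (.node (.leaf [13237, -13340, 0, 84455, -536, -509, -83577, 14754, -369]) (.leaf [-18, -28, 0, -2, 1, 3, -7, 20, 5])))))) (.node (.node (.node (.node (.node (.node (.leaf []) (.leaf [12, 276, 0, -724, -5, -4, 741, -254, -13])) (.leaf [1, 0, 0, 2, 0, 0, -2])) (.node (.leaf [0, 0, 0, -1, 0, 1]) (.leaf [0, 0, 0, 1]))) (.node (.node (.leaf []) (.leaf [])) (.node (.leaf []) (.leaf [2, -1, 0, 9, -1, 0, -9, 2])))) (.node (.node (.node (.node (.leaf []) (.leaf [0, 0, 0, 1, 1])) (.leaf [-2, 2, 0, -10, 0, 0, 11, -2])) (.node (.leaf [-48, -286, 0, 661, -12, 7, -682, 277, 14]) (.leaf [0, 1]))) (.node (.node (.leaf []) (.leaf [-2650, 2942, 0, -17203, 75, 45, 17141,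 -3079, 17])) (.node (.leaf [-43, 39, 0, -249, 1, -1, 248, -41, 2]) (.leaf [409, 262, 0, 685, -11, -20, -624, -190, -41]))))) (.node (.node (.node (.node (.node (.leaf [1, 0, 0, 2, 0, 0, -2]) (.leaf [295, 226, 0, 290, -1, -2, -264, -199, -24])) (.leaf [225, -105, 0, 1063, -5, -7, -1048, 127, -9])) (.node (.leaf [-21, 11, 0, -94, 0, 0, 95, -11]) (.leaf [1343, -460, 0, 5898, -24, -48, -5784, 600, -67]))) (.node (.node (.leaf []) (.leaf [])) (.node (.leaf [0, 0, 0, -1, 0, 0, 1]) (.leaf [])))) (.node (.node (.node (.leaf []) (.leaf [-33, 4215, 0, -12408, 94, -13, 12574, -4143, -153])) (.node (.leaf [0, 1]) (.leaf [634, -166, 0, 2655, -7, -25, -2590, 236, -39]))) (.node (.node (.leaf [-1, 6, 0, -23, 1, 0, 23, -7]) (.leaf [-2690, -1915, 0, -4590, 107, 199, 4039, 1256, 353])) (.node (.leaf []) (.leaf [65, -42, 0, 260, 2, 7, -274, 26, 7])))))))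

def threeL25 : Janko.Tree (List ℤ) :=
  (.node (.node (.node (.node (.node (.node (.node (.leaf [0, 1]) (.leaf [-22, 0, 0, -67, 0, 0, 67])) (.leaf [])) (.node (.leaf []) (.leaf []))) (.node (.node (.leaf []) (.leaf [-8, 6, 0, -42, 0, 0, 42, -6])) (.node (.leaf [394, 158, 0, 863, -5, -11, -822, -112, -30]) (.leaf [0, 0, 0, -1, -1, 1, 1])))) (.node (.node (.node (.node (.leaf []) (.leaf [-1, 0, 0, 0, 0, 0, 2])) (.leaf [-767, 1441, 0, -5630, -77, -93, 5847, -1146, -124])) (.node (.leaf []) (.leaf [234, -52, 0, 969, -8, -10, -944, 85, -15]))) (.node (.node (.leaf []) (.leaf [-1, 0, 0, -1, 0, 0, 2])) (.node (.leaf []) (.leaf [-331, 243, 0, -1775, -2, 7, 1761, -256, 8]))))) (.node (.node (.node (.node (.node (.leaf [4, -1, 0, 18, 0, 0, -17, 1]) (.leaf [115, -144, 0, 834, -5, -7, -824, 160, -3])) (.leaf [-2122, 855, 0, -10810, 96, 206, 10385, -1376, 219])) (.node (.leaf [909, -892, 0, 4877, 69, 41, -4979, 721, 61]) (.leaf [3526, 1597, 0, 10338, -228, -462, -9281, -313, -594])))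 (.node (.node (.leaf []) (.leaf [-402, 152, 0, -1890, 9, 27, 1837, -213, 26])) (.node (.leaf [697, 544, 0, 1520, -35, -110, -1263, -252, -147]) (.leaf [577, -532, 0, 3620, -30, -30, -3562, 620, -28])))) (.node (.node (.node (.leaf []) (.leaf [-38, -70, 0, 82, 0, 1, -86, 65, 4])) (.node (.leaf []) (.leaf [792, -70, 0, 2953, -19, -34, -2866, 175, -52]))) (.node (.node (.leaf []) (.leaf [8006, -4801, 0, 42446, -322, -437, -41610, 5959, -399])) (.node (.leaf [1605, 247, 0, 5432, -104, -119, -5128, 161, -185]) (.leaf [346, -267, 0, 1908, -3, -8, -1892, 286, -8])))))) (.node (.node (.node (.node (.node (.node (.leaf []) (.leaf [10264, -414, 0, 39089, -436, -670, -37473, 2464, -945])) (.leaf [-89, 9, 0, -306, 0, 0, 302, -13, 4])) (.node (.leaf [1445, -225, 0, 6250, -105, -113, -5982, 597, -154]) (.leaf [-18, 22, 0, -123, 1, 0, 123, -23]))) (.node (.node (.leaf []) (.leaf [0, -4, 0, 11, 0, 0, -11, 4])) (.node (.leaf [-6612, 2836, 0, -33324, 402, 492, 32260, -4302, 572]) (.leaf []))))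 (.node (.node (.node (.node (.leaf []) (.leaf [4, -2, 0, 16, 0, 1, -16, 2])) (.leaf [3, -2, 0, 10, 0, 1, -11, 1])) (.node (.leaf [-259, -6331, 0, 15914, 98, 180, -16496, 5650, 403]) (.leaf []))) (.node (.node (.leaf []) (.leaf [])) (.node (.leaf [0, 0, 0, -3, -1, 1, 2]) (.leaf [1169, -264, 0, 4706, -14, -38, -4605, 379, -63]))))) (.node (.node (.node (.node (.node (.leaf []) (.leaf [1054, -554, 0, 5168, -23, -34, -5091, 655, -44])) (.leaf [39, -25, 0, 189, -1, 1, -190, 25])) (.node (.leaf []) (.leaf [8853, -1191, 0, 35242, -308, -484, -34068, 2675, -691]))) (.node (.node (.leaf [38, -82, 0, 367, -2, 0, -366, 85, -1]) (.leaf [-16, 3, 0, -52, 0, -1, 53, -2])) (.node (.leaf []) (.leaf [-1350, 548, 0, -6843, 90, 115, 6597, -884, 131])))) (.node (.node (.node (.leaf [671, -653, 0, 4143, -24, -18, -4114, 706, -11]) (.leaf [2758, -937, 0, 13056, -98, -202, -12599, 1492, -255])) (.node (.leaf [250, 27, 0, 820, -8, -14, -784, 17, -22]) (.leaf [-309, -351, 0, 66, -7, 1, -90, 334, 23])))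 (.node (.node (.leaf [-97, -12, 0, -303, 2, 4, 291, -2, 8]) (.leaf [-22, 11, 0, -97, 0, 0, 98, -11])) (.node (.leaf []) (.leaf [7349, -727, 0, 29185, -261, -488, -28033, 2141, -664])))))))

def threeL26 : Janko.Tree (List ℤ) :=
  (.node (.node (.node (.node (.node (.node (.node (.leaf []) (.leaf [3377, -2385, 0, 18906, -139, -163, -18567, 2862, -175])) (.leaf [-1, 0, 0, -1, 1, -1, 2])) (.node (.leaf [0, 0, 0, -1, 1]) (.leaf [-2895, 2043, 0, -15266, 29, 50, 15168, -2170, 48]))) (.node (.node (.leaf [0, -1, 0, -2, 0, 1, 1]) (.leaf [11, -12, 0, 80, 1, -2, -77, 13])) (.node (.leaf []) (.leaf [-8401, 2525, 0, -38754, 326, 613, 37388, -4217, 753])))) (.node (.node (.node (.node (.leaf []) (.leaf [0, 0, 0, 0, 0, 0, 0, 1, 0])) (.leaf [-976, 48, 0, -3510, 23, 40, 3406, -175, 64])) (.node (.leaf []) (.leaf [-112, 67, 0, -511, -6, -1, 514, -57, -2]))) (.node (.node (.leaf []) (.leaf [-772, 98, 0, -3231, 43, 57, 3091, -281, 83])) (.node (.leaf []) (.leaf [11458, -5092, 0, 57566, -636,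 -747, -55849, 7444, -969]))))) (.node (.node (.node (.node (.node (.leaf []) (.leaf [24, -25, 0, 154, 0, -1, -152, 26])) (.leaf [0, 1])) (.node (.leaf []) (.leaf [-776, 282, 0, -4080, 87, 85, 3893, -556, 102]))) (.node (.node (.leaf []) (.leaf [3, -3, 0, 12, 0, 1, -13, 2])) (.node (.leaf []) (.leaf [])))) (.node (.node (.node (.leaf []) (.leaf [2, -3, 0, 10, 0, 1, -11, 2])) (.node (.leaf []) (.leaf [-1, 0, 0, -1, 0, 0, 2]))) (.node (.node (.leaf [-10, 0, 0, -25, 0, -1, 26, 1]) (.leaf [2089, -619, 0, 10030, -97, -205, -9597, 1150, -228])) (.node (.leaf [-1, -1, 0, 5, 0, -1, -4, 2]) (.leaf [60, -137, 0, 596, -5, -1, -598, 140, 3])))))) (.node (.node (.node (.node (.node (.node (.leaf []) (.leaf [-4647, -1275, 0, -14185, 242, 380, 13245, 91, 561])) (.leaf [0, 0, 0, 1])) (.node (.leaf [20, 0, 0, 63, 0, 0, -62, 1, -1]) (.leaf [12, 81, 0, -205, 0, 1, 205, -79, -2]))) (.node (.node (.leaf []) (.leaf [])) (.node (.leaf []) (.leaf [22, -4, 0, 79, -1, 0, -79, 5])))) (.node (.node (.node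 (.node (.leaf []) (.leaf [-3, -10, 0, 21, 0, 0, -21, 10, 1])) (.leaf [-4625, 48, 0, -18307, 269, 411, 17331, -1293, 565])) (.node (.leaf [0, -1, 0, 0, 0, 1]) (.leaf [7799, -2530, 0, 35758, -286, -480, -34678, 3896, -600]))) (.node (.node (.leaf [-1, 1, 0, -1, 0, -1, 2]) (.leaf [-2, 1, 0, -6, 0, 0, 7, -1])) (.node (.leaf [-1, -1, 0, -2, 1, 0, 2]) (.leaf [0, 1]))))) (.node (.node (.node (.node (.node (.leaf []) (.leaf [2142, -877, 0, 10200, -77, -112, -9946, 1210, -143])) (.leaf [0, 1, 0, 1, 0, -1])) (.node (.leaf [-3, 1, 0, -9, 1, -1, 10, -1]) (.leaf [-1002, 2031, 0, -9266, 8, 38, 9241, -2064, -13]))) (.node (.node (.leaf []) (.leaf [0, 1])) (.node (.leaf []) (.leaf [194, -27, 0, 670, -4, 3, -668, 33, -5])))) (.node (.node (.node (.leaf []) (.leaf [1228, -272, 0, 5351, -51, -84, -5157, 516, -109])) (.node (.leaf []) (.leaf [0, 1]))) (.node (.node (.leaf [-1, 0, 0, 0, 1, -1, 1]) (.leaf [-11, -20, 0, 10, -1, 2, -15, 16, 3])) (.node (.leaf []) (.leaf [-500, -802, 0, -210, 56,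 110, -51, 484, 152])))))))

def threeL27 : Janko.Tree (List ℤ) :=
  (.node (.node (.node (.node (.node (.node (.node (.leaf []) (.leaf [2831, -1111, 0, 13912, -129, -219, -13447, 1703, -245])) (.leaf [])) (.node (.leaf []) (.leaf []))) (.node (.node (.leaf []) (.leaf [1, 1, 0, 3, 0, 0, -2, -1])) (.node (.leaf [1185, -510, 0, 6256, -85, -120, -6002, 849, -134]) (.leaf [-10235, 703, 0, -39806, 449, 661, 38214, -2743, 931])))) (.node (.node (.node (.node (.leaf []) (.leaf [9, -7, 0, 48, 0, 0, -48, 8])) (.leaf [-1688, 920, 0, -8208, 16, 40, 8116, -1026, 51])) (.node (.leaf []) (.leaf [711, -229, 0, 3171, -19, -38, -3092, 326, -40]))) (.node (.node (.leaf []) (.leaf [0, 1])) (.node (.leaf [-1, 0, 0, -1, 0, 0, 2]) (.leaf [2, -1, 0, 8, 0, 0, -8, 1]))))) (.node (.node (.node (.node (.node (.leaf []) (.leaf [5, 5, 0, -1, 0, 0, 1, -5])) (.leaf [291, 285, 0, 228, 0, -15, -168, -225, -45])) (.node (.leaf [-1619, -341, 0, -5328, 113, 133, 4994, -106, 201]) (.leaf [1559, -519, 0, 7026,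 -51, -83, -6851, 745, -92]))) (.node (.node (.leaf []) (.leaf [1, 2, 0, -4, 0, 0, 4, -2])) (.node (.leaf [39, -19, 0, 178, 2, -1, -176, 19, -1]) (.leaf [-1, -1, 0, 4, 0, -1, -3, 2])))) (.node (.node (.node (.leaf []) (.leaf [0, 0, 0, -2, 0, 1, 1])) (.node (.leaf []) (.leaf [31, -33, 0, 191, 0, 0, -191, 33]))) (.node (.node (.leaf [0, 1]) (.leaf [7932, -4446, 0, 42298, -397, -514, -41184, 5957, -600])) (.node (.leaf [19, -16, 0, 105, 0, 0, -105, 16]) (.leaf [-5062, 3478, 0, -49621, 2902, 2114, 44965, -11036, 2542])))))) (.node (.node (.node (.node (.node (.node (.leaf []) (.leaf [456, -11, 0, 1910, -37, -47, -1796, 161, -66])) (.leaf [-1084, 457, 0, -5725, 101, 105, 5495, -787, 124])) (.node (.leaf []) (.leaf []))) (.node (.node (.leaf []) (.leaf [])) (.node (.leaf []) (.leaf [-288, 776, 0, -3441, 38, 29, 3403, -852, 9])))) (.node (.node (.node (.node (.leaf []) (.leaf [0, -1, 0, 9, 0, 0, -7, 2])) (.leaf [-203, -3, 0, -701, 6, 10, 678, -27, 14])) (.node (.leaf []) (.leaf [1776,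 -27037, 0, 78707, -166, 762, -80887, 25023, 1418]))) (.node (.node (.leaf []) (.leaf [998, -699, 0, 5712, -53, -63, -5582, 882, -67])) (.node (.leaf [-1174, 587, 0, -5813, 41, 56, 5700, -740, 57]) (.leaf [10783, -1444, 0, 41878, -202, -517, -40626, 2899, -735]))))) (.node (.node (.node (.node (.node (.leaf []) (.leaf [5642, -1733, 0, 26960, -416, -463, -25934, 3175, -563])) (.leaf [-112, 158, 0, -827, 5, 2, 826, -164, -1])) (.node (.leaf [-8576, 1364, 0, -33430, 132, 366, 32560, -2368, 505]) (.leaf [3287, -1627, 0, 16339, -112, -166, -15992, 2086, -181]))) (.node (.node (.leaf []) (.leaf [])) (.node (.leaf []) (.leaf [-549, 401, 0, -3032, 14, 20, 2993, -452, 18])))) (.node (.node (.node (.leaf [-1, 20, 0, -31, -4, -3, 37, -11, -2]) (.leaf [802, -44, 0, 2990, -21, -46, -2884, 170, -59])) (.node (.leaf []) (.leaf [-24, 44, 0, -182, 0, -2, 188, -39, -3]))) (.node (.node (.leaf []) (.leaf [])) (.node (.leaf [0, -2, 0, 9, 0, 0, -8, 2]) (.leaf [16676, -6906, 0, 80456, -583, -989,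 -78267, 9678, -1200])))))))

def threeL28 : Janko.Tree (List ℤ) :=
  (.node (.node (.node (.node (.node (.node (.node (.leaf []) (.leaf [-10002, 2122, 0, -42307, 393, 570, 40970, -3851, 767])) (.leaf [-15043, 11433, 0, -85400, 530, 626, 84180, -13183, 594])) (.node (.leaf []) (.leaf [403, -111, 0, 2019, -36, -45, -1914, 251, -59]))) (.node (.node (.leaf [0, -1, 0, 0, 0, 1]) (.leaf [2, -1, 0, 5, 0, 0, -6, 1])) (.node (.leaf []) (.leaf [-103, -202, 0, 213, 7, 5, -233, 174, 16])))) (.node (.node (.node (.node (.leaf []) (.leaf [1, -1, 0, 9, 0, 0, -8, 2])) (.leaf [0, 1])) (.node (.leaf [9, -8, 0, 54, 0, 0, -53, 8]) (.leaf [-1027, 416, 0, -4687, 19, 35, 4604, -518, 48]))) (.node (.node (.leaf []) (.leaf [180, -71, 0, 826, -4, -7, -809, 92, -10])) (.node (.leaf []) (.leaf [-1268, 1358, 0, -7795, 9, -12, 7821, -1341, -14]))))) (.node (.node (.node (.node (.node (.leaf []) (.leaf [23, 80, 0, -142, -2, -1, 150, -71, -6])) (.leaf [54, -48, 0, 296, 0, 2, -298, 46])) (.node (.leaf [])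 (.leaf [2005, 3114, 0, -791, -55, -208, 1461, -2389, -462]))) (.node (.node (.leaf []) (.leaf [])) (.node (.leaf [-22, 20, 0, -123, 0, 0, 124, -20]) (.leaf [15, -5, 0, 59, 0, 0, -59, 5])))) (.node (.node (.node (.leaf []) (.leaf [3, -2, 0, 15, -1, 1, -15, 2])) (.node (.leaf [-6, 2, 0, -25, 0, 0, 25, -2]) (.leaf [8420, -5754, 0, 44847, -208, -235, -44367, 6441, -244]))) (.node (.node (.leaf []) (.leaf [26, -10, 0, 104, -1, 1, -105, 10])) (.node (.leaf [-2044, 1242, 0, -10485, 32, 67, 10342, -1417, 76]) (.leaf [2, 0, 0, 2, -1, 1, -3])))))) (.node (.node (.node (.node (.node (.node (.leaf []) (.leaf [-2, 1, 0, -7, 0, 0, 8, -1])) (.leaf [4864, 692, 0, 15734, -149, -306, -14966, 227, -463])) (.node (.leaf []) (.leaf [-807, -16, 0, -2841, 22, 47, 2731, -116, 63]))) (.node (.node (.leaf [0, 1]) (.leaf [11, -13, 0, 71, 0, 0, -71, 13])) (.node (.leaf []) (.leaf [])))) (.node (.node (.node (.node (.leaf [1639, -11, 0, 6449, -69, -154, -6098, 431, -197]) (.leaf [2, -1, 0, 7, 0, 1, -7,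 1])) (.leaf [5732, -2584, 0, 27082, -110, -219, -26590, 3186, -273])) (.node (.leaf [6893, 3491, 0, 16719, -376, -605, -15202, -1599, -911]) (.leaf [7118, -2495, 0, 33305, -284, -446, -32303, 3780, -555]))) (.node (.node (.leaf [6, -7, 0, 39, 0, 0, -39, 7]) (.leaf [])) (.node (.leaf [-1745, 783, 0, -9188, 83, 176, 8826, -1228, 186]) (.leaf [-259, 23, 0, -945, 4, 9, 921, -51, 15]))))) (.node (.node (.node (.node (.node (.leaf []) (.leaf [1889, -492, 0, 8582, -60, -144, -8238, 896, -200])) (.leaf [-33, 19, 0, -153, 0, 0, 154, -19])) (.node (.leaf []) (.leaf [16480, -6940, 0, 79821, -574, -974, -77667, 9669, -1180]))) (.node (.node (.leaf []) (.leaf [0, 1, 0, -4, 0, 0, 4, -1])) (.node (.leaf []) (.leaf [])))) (.node (.node (.node (.leaf []) (.leaf [-4, 6, 0, -21, 0, -1, 22, -4])) (.node (.leaf [-32, 32, 0, -221, 4, 3, 216, -41, 2]) (.leaf [15, 1, 0, 41, 0, 0, -41, -1]))) (.node (.node (.leaf []) (.leaf [])) (.node (.leaf [-14, 5, 0, -57, 0, 0, 57, -5]) (.leaf [-3102, 1535, 0,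 -15879, 158, 196, 15458, -2113, 225])))))))

def threeL29 : Janko.Tree (List ℤ) :=
  (.node (.node (.node (.node (.node (.node (.node (.leaf []) (.leaf [0, 1])) (.leaf [])) (.node (.leaf [0, 1]) (.leaf [4169, -2130, 0, 21313, -173, -245, -20785, 2829, -282]))) (.node (.node (.leaf []) (.leaf [])) (.node (.leaf []) (.leaf [-1, 0, 0, -1, 1, -1, 2])))) (.node (.node (.node (.node (.leaf []) (.leaf [3, 0, 0, 12, 0, 0, -11, 1])) (.leaf [-9011, 2625, 0, -40134, 202, 562, 38900, -4060, 672])) (.node (.leaf [12166, -9138, 0, 72452, -789, -880, -70718, 11661, -854]) (.leaf [1225, -732, 0, 6398, -36, -55, -6284, 883, -59]))) (.node (.node (.leaf [-1, 0, 0, -1, 0, 0, 2]) (.leaf [-196, -8, 0, -652, 4, 8, 631, -17, 13])) (.node (.leaf [215, -40, 0, 884, -4, -13, -857, 73, -15]) (.leaf [1570, 4711, 0, -7370, 33, -189, 7952, -4164, -392]))))) (.node (.node (.node (.node (.node (.leaf []) (.leaf [30, 0, 0, 92, 0, 0, -91])) (.leaf [])) (.node (.leaf []) (.leaf [0, 0, 0, 1]))) (.node (.node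 (.leaf []) (.leaf [0, -2, 0, 9, 0, 0, -8, 2])) (.node (.leaf []) (.leaf [-618, 600, 0, -3844, 25, 20, 3811, -658, 13])))) (.node (.node (.node (.leaf []) (.leaf [6, -7, 0, 38, 0, 0, -38, 7])) (.node (.leaf []) (.leaf [-26, 134, 0, -482, 3, 0, 485, -136, -2]))) (.node (.node (.leaf [-1361, 474, 0, -5995, 24, 48, 5881, -614, 67]) (.leaf [23, -33, 0, 170, 0, -1, -170, 33, 1])) (.node (.leaf [19, -7, 0, 78, 0, 0, -78, 7]) (.leaf [0, 1, 0, 1, 0, -1])))))) (.node (.node (.node (.node (.node (.node (.leaf []) (.leaf [-1644, 883, 0, -8430, 64, 83, 8245, -1132, 102])) (.leaf [298, -177, 0, 1595, -12, -19, -1559, 225, -17])) (.node (.leaf [-4630, 49, 0, -18312, 267, 411, 17339, -1289, 562]) (.leaf [-14421, 10480, 0, -80960, 502, 633, 79630, -12311, 697]))) (.node (.node (.leaf []) (.leaf [1423, 1455, 0, 1872, -129, -183, -1424, -878, -265])) (.node (.leaf [-97, 143, 0, -739, 3, 2, 736, -149, 1]) (.leaf [0, -1, 0, -3, 0, 1, 2])))) (.node (.node (.node (.node (.leaf [1, 0, 0, 2, 0, 0,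 -2]) (.leaf [-4, 3, 0, -15, 0, 0, 17, -2])) (.leaf [10670, -13402, 0, 74515, -338, -291, -74168, 14087, -56])) (.node (.leaf [0, -1, 0, 6, 0, 0, -5, 1]) (.leaf [2, -1, 0, 7, 0, 0, -7, 1]))) (.node (.node (.leaf [-1341, 245, 0, -5934, 108, 105, 5684, -603, 145]) (.leaf [])) (.node (.leaf []) (.leaf [0, 0, 0, -2, 0, 1, 1]))))) (.node (.node (.node (.node (.node (.leaf []) (.leaf [2907, -796, 0, 13011, -148, -179, -12596, 1360, -236])) (.leaf [11, -9, 0, 60, 0, 0, -60, 9])) (.node (.leaf []) (.leaf [11586, -4809, 0, 56022, -411, -696, -54482, 6761, -844]))) (.node (.node (.leaf [269, 11, 0, 1016, -10, -27, -960, 55, -29]) (.leaf [2, 1, 0, -3, 0, 1, 2, -2])) (.node (.leaf []) (.leaf [9, -14, 0, 106, -2, -5, -98, 24, -3])))) (.node (.node (.node (.leaf []) (.leaf [-444, 235, 0, -2164, 14, 12, 2139, -275, 14])) (.node (.leaf []) (.leaf [-134, 89, 0, -711, 1, 5, 701, -100, 5]))) (.node (.node (.leaf []) (.leaf [])) (.node (.leaf [-68, 17, 0, -198, -2, -7, 211, -2, -6]) (.leaf [-2993,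 1312, 0, -14895, 170, 190, 14475, -1902, 230])))))))

def threeL30 : Janko.Tree (List ℤ) :=
  (.node (.node (.node (.node (.node (.node (.node (.leaf []) (.leaf [-1168, 1306, 0, -7602, 0, 30, 7561, -1346, 11])) (.leaf [-166, 81, 0, -795, 3, 6, 783, -97, 7])) (.node (.leaf []) (.leaf [3, 0, 0, 14, 0, -1, -13, 1]))) (.node (.node (.leaf []) (.leaf [-8, 2, 0, -31, 0, 0, 31, -2])) (.node (.leaf []) (.leaf [333, -5, 0, 1182, -10, -14, -1143, 55, -25])))) (.node (.node (.node (.node (.leaf []) (.leaf [1, 0, 0, 1, 0, 1, -1])) (.leaf [-74, 120, 0, -591, 5, 1, 592, -124, -2])) (.node (.leaf [-1145, -5850, 0, 9424, 195, 388, -10599, 4479, 788]) (.leaf [-156, -4, 0, -502, 2, 4, 491, -10, 8]))) (.node (.node (.leaf []) (.leaf [])) (.node (.leaf []) (.leaf [1, 0, 0, 5, 1, -1, -4]))))) (.node (.node (.node (.node (.node (.leaf []) (.leaf [-4, 6, 0, -33, 1, 0, 33, -7])) (.leaf [-5643, 1656, 0, -26805, 415, 473, 25761, -3116, 572])) (.node (.leaf []) (.leaf [-36, -6, 0, -138, 3, 6, 128,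 -7, 4]))) (.node (.node (.leaf [-7, 5, 0, -33, 0, 0, 34, -5]) (.leaf [])) (.node (.leaf [566, 756, 0, 486, -55, -102, -240, -453, -145]) (.leaf [19, -13, 0, 97, 0, 0, -96, 13])))) (.node (.node (.node (.leaf []) (.leaf [736, -229, 0, 3180, -9, -27, -3109, 309, -44])) (.node (.leaf []) (.leaf [-942, 445, 0, -4473, 18, 33, 4402, -533, 38]))) (.node (.node (.leaf []) (.leaf [143, -100, 0, 789, -6, -5, -776, 118, -7])) (.node (.leaf [4, -3, 0, 16, 0, 1, -17, 2]) (.leaf [27, -2, 0, 16, 3, 8, -32, -17, 8])))))) (.node (.node (.node (.node (.node (.node (.leaf []) (.leaf [-43, 35, 0, -183, -8, -4, 191, -17, -5])) (.leaf [5, -9, 0, 40, 1, 0, -40, 8])) (.node (.leaf [9, -3, 0, 45, 0, -1, -44, 5]) (.leaf [-29, 22, 0, -153, 1, 0, 154, -23]))) (.node (.node (.leaf [2, -2, 0, 11, 0, 0, -11, 2]) (.leaf [0, 1])) (.node (.leaf []) (.leaf [1, -2, 0, 8, 0, 0, -8, 2])))) (.node (.node (.node (.node (.leaf []) (.leaf [12, -28, 0, 120, 0, 0, -120, 28, 1])) (.leaf [-1, 1, 0, -3, 0, 0, 4, -1]))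 (.node (.leaf [1, 0, 0, -1]) (.leaf [-3, 33, 0, -101, -1, 0, 103, -30, -2]))) (.node (.node (.leaf []) (.leaf [])) (.node (.leaf [-18, -81, 0, 152, 3, 2, -161, 69, 7]) (.leaf [-1095, 639, 0, -5537, 30, 31, 5466, -741, 41]))))) (.node (.node (.node (.node (.node (.leaf []) (.leaf [-460, 204, 0, -2170, 7, 20, 2129, -253, 22])) (.leaf [968, 1615, 0, -337, -129, -142, 690, -1131, -212])) (.node (.leaf []) (.leaf [94, -13, 0, 365, -2, -4, -354, 26, -7]))) (.node (.node (.leaf []) (.leaf [])) (.node (.leaf []) (.leaf [-3, 6, 0, -19, 0, -1, 20, -4])))) (.node (.node (.node (.leaf []) (.leaf [1859, -602, 0, 9266, -160, -182, -8866, 1161, -217])) (.node (.leaf []) (.leaf []))) (.node (.node (.leaf [3, -1, 0, 12, 0, 0, -12, 1]) (.leaf [94, -60, 0, 533, -5, -7, -517, 80, -8])) (.node (.leaf [-18, 24, 0, -126, 0, 0, 126, -24]) (.leaf [138, -109, 0, 735, -2, 2, -737, 109])))))))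

def threeL31 : Janko.Tree (List ℤ) :=
  (.node (.node (.node (.node (.node (.node (.node (.leaf []) (.leaf [-41, 15, 0, -182, 0, 2, 179, -19, 2])) (.leaf [-234, 114, 0, -1115, 4, 7, 1100, -135, 9])) (.node (.leaf []) (.leaf [-96, 64, 0, -482, -1, 0, 481, -65, 2]))) (.node (.node (.leaf [24, -28, 0, 159, 0, 0, -158, 28]) (.leaf [])) (.node (.leaf []) (.leaf [-21, 29, 0, -148, 2, 0, 150, -30, -1])))) (.node (.node (.node (.node (.leaf []) (.leaf [0, 0, 0, 0, 0, 0, 0, 0, 1])) (.leaf [-39, 20, 0, -199, 0, 4, 193, -25, 2])) (.node (.leaf [-686, -1684, 0, 2267, -76, 102, -2492, 1534, 124]) (.leaf [22952, -9953, 0, 113394, -1021, -1442, -110143, 14225, -1809]))) (.node (.node (.leaf []) (.leaf [])) (.node (.leaf [-156, -5, 0, -495, 3, 3, 484, -8, 8]) (.leaf [538, -298, 0, 2704, -9, -22, -2659, 352, -23]))))) (.node (.node (.node (.node (.node (.leaf []) (.leaf [-2476, 1360, 0, -12240, 45, 75, 12075, -1568, 89])) (.leaf [-6513, 596, 0, -25428, 304, 392, 24525, -1803, 511])) (.node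 (.leaf [-22, 11, 0, -98, 1, 0, 99, -12]) (.leaf [0, 0, 0, 2, 0, 0, -1]))) (.node (.node (.leaf []) (.leaf [])) (.node (.leaf [13650, -2424, 0, 61838, -1130, -1244, -58882, 6510, -1712]) (.leaf [-328, -28, 0, -1093, 10, 17, 1047, -27, 28])))) (.node (.node (.node (.leaf []) (.leaf [-10, -10, 0, 0, 0, 0, 0, 10])) (.node (.leaf []) (.leaf [0, 1]))) (.node (.node (.leaf []) (.leaf [-2609, 556, 0, -11154, 78, 168, 10765, -1023, 221])) (.node (.leaf []) (.leaf [3, 0, 0, 12, -1, 0, -11, 1])))))) (.node (.node (.node (.node (.node (.node (.leaf []) (.leaf [-55, 121, 0, -505, -2, -1, 511, -113, -5])) (.leaf [])) (.node (.leaf [1428, -508, 0, 7235, -130, -138, -6938, 934, -158]) (.leaf [-124, 189, 0, -947, 6, 1, 949, -193, -3]))) (.node (.node (.leaf []) (.leaf [])) (.node (.leaf [2, -1, 0, 4, 0, 1, -5]) (.leaf [-96, 56, 0, -484, 0, 3, 477, -63, 4])))) (.node (.node (.node (.node (.leaf []) (.leaf [0, -1, 0, 9, 0, 0, -7, 2])) (.leaf [1, 0, 0, -3, 0, 1, 2, -1])) (.node (.leaf []) (.leaf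 [-9, 8, 0, -52, 0, 0, 52, -8]))) (.node (.node (.leaf [0, -1, 0, 1, 1, 0, -1]) (.leaf [])) (.node (.leaf []) (.leaf [483, -2789, 0, 19734, -1384, -847, -17915, 5992, -972]))))) (.node (.node (.node (.node (.node (.leaf [0, 1]) (.leaf [-16490, 6026, 0, -78262, 706, 1043, 75857, -9137, 1362])) (.leaf [3169, -1475, 0, 15688, -196, -160, -15340, 2019, -188])) (.node (.leaf [1, 0, 0, 2, 0, 0, -2]) (.leaf [-242, 582, 0, -2535, 19, 10, 2532, -602, -8]))) (.node (.node (.leaf []) (.leaf [])) (.node (.leaf [19, -6, 0, 81, -1, 0, -81, 8]) (.leaf [-3457, 2197, 0, -19261, 189, 231, 18775, -2873, 256])))) (.node (.node (.node (.leaf [-19071, 7258, 0, -90256, 849, 1020, 87747, -10617, 1489]) (.leaf [-6016, -212, 0, -20325, 113, 271, 19610, -616, 444])) (.node (.leaf []) (.leaf [-2531, -2075, 0, -3567, 110, 187, 3032, 1430, 348]))) (.node (.node (.leaf []) (.leaf [-23, 13, 0, -106, 0, 0, 107, -13])) (.node (.leaf [36, -39, 0, 225, 0, 0, -225, 39]) (.leaf [87, -101, 0, 584, -3, -1, -581,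 108, -2])))))))

def threeL : Janko.Tree (List ℤ) := (.node (.node (.node (.node (.node threeL0 threeL16) (.node threeL8 threeL24)) (.node (.node threeL4 threeL20) (.node threeL12 threeL28))) (.node (.node (.node threeL2 threeL18) (.node threeL10 threeL26)) (.node (.node threeL6 threeL22) (.node threeL14 threeL30)))) (.node (.node (.node (.node threeL1 threeL17) (.node threeL9 threeL25)) (.node (.node threeL5 threeL21) (.node threeL13 threeL29))) (.node (.node (.node threeL3 threeL19) (.node threeL11 threeL27)) (.node (.node threeL7 threeL23) (.node threeL15 threeL31)))))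

def threeKind0 : Janko.Tree (ℕ) :=
  (.node (.node (.node (.node (.node (.node (.node (.leaf 0) (.leaf 3)) (.leaf 0)) (.node (.leaf 3) (.leaf 3))) (.node (.node (.leaf 3) (.leaf 3)) (.node (.leaf 3) (.leaf 3)))) (.node (.node (.node (.node (.leaf 0) (.leaf 3)) (.leaf 3)) (.node (.leaf 3) (.leaf 3))) (.node (.node (.leaf 0) (.leaf 0)) (.node (.leaf 3) (.leaf 3))))) (.node (.node (.node (.node (.node (.leaf 0) (.leaf 3)) (.leaf 3)) (.node (.leaf 3) (.leaf 3))) (.node (.node (.leaf 0) (.leaf 3)) (.node (.leaf 0) (.leaf 3)))) (.node (.node (.node (.node (.leaf 0) (.leaf 3)) (.leaf 3)) (.node (.leaf 3) (.leaf 3))) (.node (.node (.leaf 0) (.leaf 3)) (.node (.leaf 3) (.leaf 3)))))) (.node (.node (.node (.node (.node (.node (.leaf 0) (.leaf 3)) (.leaf 3)) (.node (.leaf 3) (.leaf 3))) (.node (.node (.leaf 0) (.leaf 3)) (.node (.leaf 3) (.leaf 3)))) (.node (.node (.node (.node (.leaf 0) (.leaf 3)) (.leaf 3)) (.node (.leaf 3) (.leaf 3))) (.node (.node (.leaf 0) (.leaf 3)) (.node (.leaf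 3) (.leaf 3))))) (.node (.node (.node (.node (.node (.leaf 3) (.leaf 3)) (.leaf 3)) (.node (.leaf 3) (.leaf 3))) (.node (.node (.leaf 0) (.leaf 0)) (.node (.leaf 3) (.leaf 3)))) (.node (.node (.node (.leaf 0) (.leaf 3)) (.node (.leaf 0) (.leaf 3))) (.node (.node (.leaf 0) (.leaf 3)) (.node (.leaf 3) (.leaf 3)))))))

def threeKind1 : Janko.Tree (ℕ) :=
  (.node (.node (.node (.node (.node (.node (.node (.leaf 0) (.leaf 3)) (.leaf 3)) (.node (.leaf 0) (.leaf 3))) (.node (.node (.leaf 3) (.leaf 3)) (.node (.leaf 0) (.leaf 3)))) (.node (.node (.node (.node (.leaf 0) (.leaf 3)) (.leaf 3)) (.node (.leaf 0) (.leaf 3))) (.node (.node (.leaf 0) (.leaf 3)) (.node (.leaf 3) (.leaf 3))))) (.node (.node (.node (.node (.node (.leaf 3) (.leaf 3)) (.leaf 3)) (.node (.leaf 3) (.leaf 3))) (.node (.node (.leaf 0) (.leaf 3)) (.node (.leaf 3) (.leaf 3)))) (.node (.node (.node (.node (.leaf 3) (.leaf 3)) (.leaf 3)) (.node (.leaf 0) (.leaf 3))) (.node (.node (.leaf 3) (.leaf 3)) (.node (.leaf 3)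 (.leaf 3)))))) (.node (.node (.node (.node (.node (.node (.leaf 0) (.leaf 3)) (.leaf 0)) (.node (.leaf 3) (.leaf 3))) (.node (.node (.leaf 0) (.leaf 0)) (.node (.leaf 0) (.leaf 3)))) (.node (.node (.node (.node (.leaf 3) (.leaf 3)) (.leaf 3)) (.node (.leaf 3) (.leaf 0))) (.node (.node (.leaf 3) (.leaf 3)) (.node (.leaf 3) (.leaf 3))))) (.node (.node (.node (.node (.node (.leaf 0) (.leaf 3)) (.leaf 3)) (.node (.leaf 3) (.leaf 0))) (.node (.node (.leaf 0) (.leaf 3)) (.node (.leaf 3) (.leaf 3)))) (.node (.node (.node (.leaf 0) (.leaf 3)) (.node (.leaf 3) (.leaf 3))) (.node (.node (.leaf 0) (.leaf 3)) (.node (.leaf 3) (.leaf 3)))))))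

def threeKind2 : Janko.Tree (ℕ) :=
  (.node (.node (.node (.node (.node (.node (.node (.leaf 0) (.leaf 3)) (.leaf 3)) (.node (.leaf 0) (.leaf 3))) (.node (.node (.leaf 3) (.leaf 3)) (.node (.leaf 0) (.leaf 3)))) (.node (.node (.node (.node (.leaf 0) (.leaf 3)) (.leaf 3)) (.node (.leaf 3) (.leaf 3))) (.node (.node (.leaf 3) (.leaf 0)) (.node (.leaf 0) (.leaf 3))))) (.node (.node (.node (.node (.node (.leaf 3) (.leaf 3)) (.leaf 3)) (.node (.leaf 3) (.leaf 3))) (.node (.node (.leaf 0) (.leaf 0)) (.node (.leaf 0) (.leaf 3)))) (.node (.node (.node (.node (.leaf 0) (.leaf 3)) (.leaf 3)) (.node (.leaf 0) (.leaf 3))) (.node (.node (.leaf 0) (.leaf 3)) (.node (.leaf 3) (.leaf 3)))))) (.node (.node (.node (.node (.node (.node (.leaf 0) (.leaf 3)) (.leaf 3)) (.node (.leaf 3) (.leaf 3))) (.node (.node (.leaf 0) (.leaf 0)) (.node (.leaf 0) (.leaf 3)))) (.node (.node (.node (.node (.leaf 3) (.leaf 3)) (.leaf 3)) (.node (.leaf 3) (.leaf 3))) (.node (.node (.leaf 3) (.leaf 0)) (.node (.leaf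 0) (.leaf 3))))) (.node (.node (.node (.node (.node (.leaf 3) (.leaf 3)) (.leaf 3)) (.node (.leaf 3) (.leaf 3))) (.node (.node (.leaf 3) (.leaf 3)) (.node (.leaf 0) (.leaf 3)))) (.node (.node (.node (.leaf 0) (.leaf 3)) (.node (.leaf 3) (.leaf 3))) (.node (.node (.leaf 3) (.leaf 0)) (.node (.leaf 3) (.leaf 3)))))))

def threeKind3 : Janko.Tree (ℕ) :=
  (.node (.node (.node (.node (.node (.node (.node (.leaf 0) (.leaf 3)) (.leaf 3)) (.node (.leaf 0) (.leaf 3))) (.node (.node (.leaf 3) (.leaf 3)) (.node (.leaf 0) (.leaf 3)))) (.node (.node (.node (.node (.leaf 0) (.leaf 3)) (.leaf 3)) (.node (.leaf 3) (.leaf 3))) (.node (.node (.leaf 3) (.leaf 3)) (.node (.leaf 0) (.leaf 3))))) (.node (.node (.node (.node (.node (.leaf 0) (.leaf 3)) (.leaf 0)) (.node (.leaf 3) (.leaf 3))) (.node (.node (.leaf 0) (.leaf 0)) (.node (.leaf 0) (.leaf 3)))) (.node (.node (.node (.node (.leaf 0) (.leaf 3)) (.leaf 3)) (.node (.leaf 0) (.leaf 3))) (.node (.node (.leaf 3) (.leaf 0)) (.node (.leaf 0)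 (.leaf 3)))))) (.node (.node (.node (.node (.node (.node (.leaf 0) (.leaf 3)) (.leaf 3)) (.node (.leaf 0) (.leaf 3))) (.node (.node (.leaf 3) (.leaf 3)) (.node (.leaf 0) (.leaf 3)))) (.node (.node (.node (.node (.leaf 0) (.leaf 3)) (.leaf 3)) (.node (.leaf 3) (.leaf 3))) (.node (.node (.leaf 0) (.leaf 3)) (.node (.leaf 3) (.leaf 3))))) (.node (.node (.node (.node (.node (.leaf 0) (.leaf 3)) (.leaf 0)) (.node (.leaf 3) (.leaf 3))) (.node (.node (.leaf 3) (.leaf 0)) (.node (.leaf 3) (.leaf 3)))) (.node (.node (.node (.leaf 3) (.leaf 3)) (.node (.leaf 0) (.leaf 3))) (.node (.node (.leaf 0) (.leaf 3)) (.node (.leaf 3) (.leaf 3)))))))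

def threeKind4 : Janko.Tree (ℕ) :=
  (.node (.node (.node (.node (.node (.node (.node (.leaf 0) (.leaf 3)) (.leaf 0)) (.node (.leaf 3) (.leaf 0))) (.node (.node (.leaf 0) (.leaf 3)) (.node (.leaf 0) (.leaf 3)))) (.node (.node (.node (.node (.leaf 0) (.leaf 3)) (.leaf 3)) (.node (.leaf 3) (.leaf 3))) (.node (.node (.leaf 0) (.leaf 3)) (.node (.leaf 0) (.leaf 3))))) (.node (.node (.node (.node (.node (.leaf 0) (.leaf 3)) (.leaf 3)) (.node (.leaf 3) (.leaf 3))) (.node (.node (.leaf 3) (.leaf 0)) (.node (.leaf 3) (.leaf 3)))) (.node (.node (.node (.leaf 3) (.leaf 3)) (.node (.leaf 0) (.leaf 3))) (.node (.node (.leaf 0) (.leaf 0)) (.node (.leaf 3) (.leaf 3)))))) (.node (.node (.node (.node (.node (.node (.leaf 0) (.leaf 3)) (.leaf 3)) (.node (.leaf 0) (.leaf 0))) (.node (.node (.leaf 0) (.leaf 3)) (.node (.leaf 3) (.leaf 3)))) (.node (.node (.node (.node (.leaf 3) (.leaf 3)) (.leaf 3)) (.node (.leaf 3) (.leaf 3))) (.node (.node (.leaf 0) (.leaf 0)) (.node (.leaf 3) (.leaf 3)))))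 (.node (.node (.node (.node (.node (.leaf 0) (.leaf 3)) (.leaf 3)) (.node (.leaf 0) (.leaf 3))) (.node (.node (.leaf 0) (.leaf 3)) (.node (.leaf 3) (.leaf 3)))) (.node (.node (.node (.leaf 3) (.leaf 3)) (.node (.leaf 3) (.leaf 3))) (.node (.node (.leaf 3) (.leaf 0)) (.node (.leaf 0) (.leaf 3)))))))

def threeKind5 : Janko.Tree (ℕ) :=
  (.node (.node (.node (.node (.node (.node (.node (.leaf 0) (.leaf 3)) (.leaf 3)) (.node (.leaf 3) (.leaf 3))) (.node (.node (.leaf 0) (.leaf 3)) (.node (.leaf 3) (.leaf 3)))) (.node (.node (.node (.node (.leaf 0) (.leaf 3)) (.leaf 3)) (.node (.leaf 3) (.leaf 3))) (.node (.node (.leaf 0) (.leaf 0)) (.node (.leaf 3) (.leaf 3))))) (.node (.node (.node (.node (.node (.leaf 0) (.leaf 3)) (.leaf 3)) (.node (.leaf 0) (.leaf 3))) (.node (.node (.leaf 0) (.leaf 3)) (.node (.leaf 0) (.leaf 0)))) (.node (.node (.node (.leaf 0) (.leaf 3)) (.node (.leaf 3) (.leaf 3))) (.node (.node (.leaf 3) (.leaf 3)) (.node (.leaf 0) (.leaf 3)))))) (.node (.node (.node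 (.node (.node (.node (.leaf 0) (.leaf 3)) (.leaf 3)) (.node (.leaf 0) (.leaf 3))) (.node (.node (.leaf 3) (.leaf 3)) (.node (.leaf 3) (.leaf 3)))) (.node (.node (.node (.node (.leaf 0) (.leaf 3)) (.leaf 3)) (.node (.leaf 0) (.leaf 3))) (.node (.node (.leaf 3) (.leaf 0)) (.node (.leaf 3) (.leaf 3))))) (.node (.node (.node (.node (.node (.leaf 0) (.leaf 3)) (.leaf 3)) (.node (.leaf 0) (.leaf 0))) (.node (.node (.leaf 0) (.leaf 0)) (.node (.leaf 3) (.leaf 3)))) (.node (.node (.node (.leaf 3) (.leaf 3)) (.node (.leaf 0) (.leaf 3))) (.node (.node (.leaf 3) (.leaf 3)) (.node (.leaf 3) (.leaf 3)))))))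

def threeKind6 : Janko.Tree (ℕ) :=
  (.node (.node (.node (.node (.node (.node (.node (.leaf 0) (.leaf 0)) (.leaf 0)) (.node (.leaf 3) (.leaf 3))) (.node (.node (.leaf 0) (.leaf 3)) (.node (.leaf 3) (.leaf 3)))) (.node (.node (.node (.node (.leaf 0) (.leaf 3)) (.leaf 3)) (.node (.leaf 3) (.leaf 3))) (.node (.node (.leaf 0) (.leaf 3)) (.node (.leaf 0) (.leaf 3))))) (.node (.node (.node (.node (.node (.leaf 0) (.leaf 3)) (.leaf 0)) (.node (.leaf 3) (.leaf 3))) (.node (.node (.leaf 3) (.leaf 0)) (.node (.leaf 3) (.leaf 3)))) (.node (.node (.node (.leaf 0) (.leaf 3)) (.node (.leaf 0) (.leaf 3))) (.node (.node (.leaf 0) (.leaf 3)) (.node (.leaf 3) (.leaf 3)))))) (.node (.node (.node (.node (.node (.node (.leaf 3) (.leaf 3)) (.leaf 0)) (.node (.leaf 0) (.leaf 3))) (.node (.node (.leaf 0) (.leaf 0)) (.node (.leaf 0) (.leaf 3)))) (.node (.node (.node (.node (.leaf 0) (.leaf 3)) (.leaf 3)) (.node (.leaf 3) (.leaf 3))) (.node (.node (.leaf 3) (.leaf 0)) (.node (.leaf 0) (.leaf 3)))))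 (.node (.node (.node (.node (.node (.leaf 3) (.leaf 3)) (.leaf 3)) (.node (.leaf 3) (.leaf 3))) (.node (.node (.leaf 0) (.leaf 3)) (.node (.leaf 0) (.leaf 3)))) (.node (.node (.node (.leaf 3) (.leaf 3)) (.node (.leaf 0) (.leaf 3))) (.node (.node (.leaf 0) (.leaf 0)) (.node (.leaf 3) (.leaf 3)))))))

def threeKind7 : Janko.Tree (ℕ) :=
  (.node (.node (.node (.node (.node (.node (.node (.leaf 0) (.leaf 3)) (.leaf 3)) (.node (.leaf 3) (.leaf 3))) (.node (.node (.leaf 0) (.leaf 3)) (.node (.leaf 0) (.leaf 3)))) (.node (.node (.node (.node (.leaf 0) (.leaf 3)) (.leaf 3)) (.node (.leaf 0) (.leaf 3))) (.node (.node (.leaf 0) (.leaf 3)) (.node (.leaf 0) (.leaf 3))))) (.node (.node (.node (.node (.node (.leaf 0) (.leaf 3)) (.leaf 3)) (.node (.leaf 3) (.leaf 3))) (.node (.node (.leaf 3) (.leaf 3)) (.node (.leaf 0) (.leaf 3)))) (.node (.node (.node (.leaf 0) (.leaf 0)) (.node (.leaf 0) (.leaf 3))) (.node (.node (.leaf 0) (.leaf 3)) (.node (.leaf 0) (.leaf 3)))))) (.node (.node (.node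 (.node (.node (.node (.leaf 0) (.leaf 3)) (.leaf 3)) (.node (.leaf 3) (.leaf 3))) (.node (.node (.leaf 0) (.leaf 0)) (.node (.leaf 0) (.leaf 3)))) (.node (.node (.node (.node (.leaf 0) (.leaf 3)) (.leaf 3)) (.node (.leaf 3) (.leaf 3))) (.node (.node (.leaf 3) (.leaf 3)) (.node (.leaf 0) (.leaf 3))))) (.node (.node (.node (.node (.node (.leaf 3) (.leaf 3)) (.leaf 3)) (.node (.leaf 0) (.leaf 3))) (.node (.node (.leaf 0) (.leaf 3)) (.node (.leaf 0) (.leaf 3)))) (.node (.node (.node (.leaf 0) (.leaf 3)) (.node (.leaf 0) (.leaf 3))) (.node (.node (.leaf 0) (.leaf 3)) (.node (.leaf 0) (.leaf 3)))))))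

def threeKind8 : Janko.Tree (ℕ) :=
  (.node (.node (.node (.node (.node (.node (.node (.leaf 0) (.leaf 3)) (.leaf 3)) (.node (.leaf 3) (.leaf 0))) (.node (.node (.leaf 0) (.leaf 3)) (.node (.leaf 0) (.leaf 3)))) (.node (.node (.node (.node (.leaf 0) (.leaf 3)) (.leaf 3)) (.node (.leaf 0) (.leaf 3))) (.node (.node (.leaf 0) (.leaf 0)) (.node (.leaf 3) (.leaf 3))))) (.node (.node (.node (.node (.node (.leaf 0) (.leaf 3)) (.leaf 3)) (.node (.leaf 0) (.leaf 3))) (.node (.node (.leaf 0) (.leaf 3)) (.node (.leaf 0) (.leaf 3)))) (.node (.node (.node (.leaf 3) (.leaf 3)) (.node (.leaf 3) (.leaf 3))) (.node (.node (.leaf 0) (.leaf 0)) (.node (.leaf 0) (.leaf 3)))))) (.node (.node (.node (.node (.node (.node (.leaf 0) (.leaf 3)) (.leaf 3)) (.node (.leaf 3) (.leaf 0))) (.node (.node (.leaf 0) (.leaf 3)) (.node (.leaf 3) (.leaf 3)))) (.node (.node (.node (.node (.leaf 3) (.leaf 3)) (.leaf 3)) (.node (.leaf 0) (.leaf 3))) (.node (.node (.leaf 0) (.leaf 3)) (.node (.leaf 3) (.leaf 3)))))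 (.node (.node (.node (.node (.node (.leaf 0) (.leaf 3)) (.leaf 3)) (.node (.leaf 3) (.leaf 3))) (.node (.node (.leaf 3) (.leaf 3)) (.node (.leaf 0) (.leaf 3)))) (.node (.node (.node (.leaf 0) (.leaf 3)) (.node (.leaf 3) (.leaf 3))) (.node (.node (.leaf 3) (.leaf 3)) (.node (.leaf 0) (.leaf 3)))))))

def threeKind9 : Janko.Tree (ℕ) :=
  (.node (.node (.node (.node (.node (.node (.node (.leaf 0) (.leaf 3)) (.leaf 3)) (.node (.leaf 3) (.leaf 3))) (.node (.node (.leaf 3) (.leaf 3)) (.node (.leaf 0) (.leaf 3)))) (.node (.node (.node (.node (.leaf 3) (.leaf 3)) (.leaf 3)) (.node (.leaf 3) (.leaf 0))) (.node (.node (.leaf 3) (.leaf 3)) (.node (.leaf 0) (.leaf 3))))) (.node (.node (.node (.node (.node (.leaf 0) (.leaf 3)) (.leaf 3)) (.node (.leaf 3) (.leaf 3))) (.node (.node (.leaf 0) (.leaf 3)) (.node (.leaf 0) (.leaf 3)))) (.node (.node (.node (.leaf 0) (.leaf 3)) (.node (.leaf 0) (.leaf 3))) (.node (.node (.leaf 3) (.leaf 3)) (.node (.leaf 3) (.leaf 3)))))) (.node (.node (.node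 (.node (.node (.node (.leaf 0) (.leaf 3)) (.leaf 3)) (.node (.leaf 3) (.leaf 3))) (.node (.node (.leaf 3) (.leaf 3)) (.node (.leaf 3) (.leaf 3)))) (.node (.node (.node (.node (.leaf 0) (.leaf 3)) (.leaf 3)) (.node (.leaf 3) (.leaf 3))) (.node (.node (.leaf 0) (.leaf 3)) (.node (.leaf 3) (.leaf 3))))) (.node (.node (.node (.node (.node (.leaf 0) (.leaf 3)) (.leaf 3)) (.node (.leaf 3) (.leaf 3))) (.node (.node (.leaf 0) (.leaf 3)) (.node (.leaf 3) (.leaf 3)))) (.node (.node (.node (.leaf 0) (.leaf 3)) (.node (.leaf 3) (.leaf 3))) (.node (.node (.leaf 0) (.leaf 3)) (.node (.leaf 0) (.leaf 3)))))))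

def threeKind10 : Janko.Tree (ℕ) :=
  (.node (.node (.node (.node (.node (.node (.node (.leaf 0) (.leaf 3)) (.leaf 3)) (.node (.leaf 3) (.leaf 0))) (.node (.node (.leaf 0) (.leaf 3)) (.node (.leaf 0) (.leaf 3)))) (.node (.node (.node (.node (.leaf 3) (.leaf 3)) (.leaf 3)) (.node (.leaf 3) (.leaf 3))) (.node (.node (.leaf 0) (.leaf 3)) (.node (.leaf 0) (.leaf 3))))) (.node (.node (.node (.node (.node (.leaf 0) (.leaf 3)) (.leaf 3)) (.node (.leaf 3) (.leaf 3))) (.node (.node (.leaf 3) (.leaf 0)) (.node (.leaf 0) (.leaf 3)))) (.node (.node (.node (.leaf 0) (.leaf 3)) (.node (.leaf 3) (.leaf 3))) (.node (.node (.leaf 0) (.leaf 3)) (.node (.leaf 3) (.leaf 3)))))) (.node (.node (.node (.node (.node (.node (.leaf 0) (.leaf 3)) (.leaf 0)) (.node (.leaf 3) (.leaf 3))) (.node (.node (.leaf 3) (.leaf 3)) (.node (.leaf 3) (.leaf 3)))) (.node (.node (.node (.node (.leaf 3) (.leaf 3)) (.leaf 3)) (.node (.leaf 3) (.leaf 3))) (.node (.node (.leaf 3) (.leaf 0)) (.node (.leaf 3) (.leaf 3)))))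 (.node (.node (.node (.node (.node (.leaf 0) (.leaf 3)) (.leaf 3)) (.node (.leaf 3) (.leaf 3))) (.node (.node (.leaf 3) (.leaf 3)) (.node (.leaf 0) (.leaf 3)))) (.node (.node (.node (.leaf 3) (.leaf 3)) (.node (.leaf 0) (.leaf 3))) (.node (.node (.leaf 3) (.leaf 3)) (.node (.leaf 3) (.leaf 3)))))))

def threeKind11 : Janko.Tree (ℕ) :=
  (.node (.node (.node (.node (.node (.node (.node (.leaf 0) (.leaf 3)) (.leaf 3)) (.node (.leaf 0) (.leaf 3))) (.node (.node (.leaf 3) (.leaf 3)) (.node (.leaf 0) (.leaf 3)))) (.node (.node (.node (.node (.leaf 0) (.leaf 2)) (.leaf 3)) (.node (.leaf 3) (.leaf 3))) (.node (.node (.leaf 0) (.leaf 3)) (.node (.leaf 3) (.leaf 3))))) (.node (.node (.node (.node (.node (.leaf 0) (.leaf 3)) (.leaf 3)) (.node (.leaf 3) (.leaf 3))) (.node (.node (.leaf 0) (.leaf 3)) (.node (.leaf 3) (.leaf 0)))) (.node (.node (.node (.leaf 0) (.leaf 3)) (.node (.leaf 0) (.leaf 3))) (.node (.node (.leaf 3) (.leaf 3)) (.node (.leaf 3) (.leaf 3)))))) (.node (.node (.node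 (.node (.node (.node (.leaf 0) (.leaf 3)) (.leaf 3)) (.node (.leaf 0) (.leaf 3))) (.node (.node (.leaf 0) (.leaf 3)) (.node (.leaf 0) (.leaf 3)))) (.node (.node (.node (.node (.leaf 0) (.leaf 3)) (.leaf 3)) (.node (.leaf 3) (.leaf 3))) (.node (.node (.leaf 0) (.leaf 0)) (.node (.leaf 3) (.leaf 0))))) (.node (.node (.node (.node (.node (.leaf 0) (.leaf 3)) (.leaf 3)) (.node (.leaf 3) (.leaf 3))) (.node (.node (.leaf 0) (.leaf 0)) (.node (.leaf 3) (.leaf 3)))) (.node (.node (.node (.leaf 0) (.leaf 3)) (.node (.leaf 3) (.leaf 3))) (.node (.node (.leaf 3) (.leaf 3)) (.node (.leaf 3) (.leaf 3)))))))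

def threeKind12 : Janko.Tree (ℕ) :=
  (.node (.node (.node (.node (.node (.node (.node (.leaf 0) (.leaf 3)) (.leaf 3)) (.node (.leaf 0) (.leaf 3))) (.node (.node (.leaf 3) (.leaf 3)) (.node (.leaf 3) (.leaf 3)))) (.node (.node (.node (.node (.leaf 0) (.leaf 2)) (.leaf 3)) (.node (.leaf 0) (.leaf 3))) (.node (.node (.leaf 0) (.leaf 3)) (.node (.leaf 3) (.leaf 3))))) (.node (.node (.node (.node (.node (.leaf 0) (.leaf 3)) (.leaf 3)) (.node (.leaf 3) (.leaf 3))) (.node (.node (.leaf 0) (.leaf 3)) (.node (.leaf 3) (.leaf 3)))) (.node (.node (.node (.leaf 3) (.leaf 3)) (.node (.leaf 0) (.leaf 3))) (.node (.node (.leaf 0) (.leaf 3)) (.node (.leaf 3) (.leaf 0)))))) (.node (.node (.node (.node (.node (.node (.leaf 0) (.leaf 3)) (.leaf 3)) (.node (.leaf 0) (.leaf 3))) (.node (.node (.leaf 3) (.leaf 0)) (.node (.leaf 0) (.leaf 3)))) (.node (.node (.node (.node (.leaf 0) (.leaf 3)) (.leaf 3)) (.node (.leaf 3) (.leaf 3))) (.node (.node (.leaf 3) (.leaf 0)) (.node (.leaf 3) (.leaf 3)))))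 (.node (.node (.node (.node (.node (.leaf 3) (.leaf 3)) (.leaf 0)) (.node (.leaf 0) (.leaf 3))) (.node (.node (.leaf 0) (.leaf 3)) (.node (.leaf 0) (.leaf 3)))) (.node (.node (.node (.leaf 3) (.leaf 3)) (.node (.leaf 3) (.leaf 3))) (.node (.node (.leaf 3) (.leaf 3)) (.node (.leaf 0) (.leaf 3)))))))

def threeKind13 : Janko.Tree (ℕ) :=
  (.node (.node (.node (.node (.node (.node (.node (.leaf 0) (.leaf 3)) (.leaf 3)) (.node (.leaf 3) (.leaf 3))) (.node (.node (.leaf 0) (.leaf 3)) (.node (.leaf 0) (.leaf 3)))) (.node (.node (.node (.node (.leaf 3) (.leaf 2)) (.leaf 3)) (.node (.leaf 0) (.leaf 3))) (.node (.node (.leaf 0) (.leaf 3)) (.node (.leaf 3) (.leaf 3))))) (.node (.node (.node (.node (.node (.leaf 0) (.leaf 3)) (.leaf 3)) (.node (.leaf 3) (.leaf 3))) (.node (.node (.leaf 0) (.leaf 0)) (.node (.leaf 0) (.leaf 3)))) (.node (.node (.node (.leaf 0) (.leaf 3)) (.node (.leaf 0) (.leaf 3))) (.node (.node (.leaf 3) (.leaf 3)) (.node (.leaf 3) (.leaf 3)))))) (.node (.node (.node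 (.node (.node (.node (.leaf 3) (.leaf 3)) (.leaf 3)) (.node (.leaf 0) (.leaf 0))) (.node (.node (.leaf 0) (.leaf 3)) (.node (.leaf 3) (.leaf 3)))) (.node (.node (.node (.node (.leaf 0) (.leaf 3)) (.leaf 3)) (.node (.leaf 3) (.leaf 3))) (.node (.node (.leaf 0) (.leaf 3)) (.node (.leaf 3) (.leaf 3))))) (.node (.node (.node (.node (.node (.leaf 0) (.leaf 3)) (.leaf 3)) (.node (.leaf 3) (.leaf 3))) (.node (.node (.leaf 0) (.leaf 3)) (.node (.leaf 0) (.leaf 3)))) (.node (.node (.node (.leaf 0) (.leaf 3)) (.node (.leaf 0) (.leaf 3))) (.node (.node (.leaf 0) (.leaf 3)) (.node (.leaf 3) (.leaf 3)))))))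

def threeKind14 : Janko.Tree (ℕ) :=
  (.node (.node (.node (.node (.node (.node (.node (.leaf 0) (.leaf 3)) (.leaf 3)) (.node (.leaf 0) (.leaf 3))) (.node (.node (.leaf 3) (.leaf 3)) (.node (.leaf 0) (.leaf 3)))) (.node (.node (.node (.node (.leaf 0) (.leaf 2)) (.leaf 3)) (.node (.leaf 0) (.leaf 3))) (.node (.node (.leaf 0) (.leaf 3)) (.node (.leaf 0) (.leaf 3))))) (.node (.node (.node (.node (.node (.leaf 0) (.leaf 3)) (.leaf 3)) (.node (.leaf 3) (.leaf 3))) (.node (.node (.leaf 0) (.leaf 0)) (.node (.leaf 3) (.leaf 3)))) (.node (.node (.node (.leaf 0) (.leaf 3)) (.node (.leaf 0) (.leaf 3))) (.node (.node (.leaf 0) (.leaf 3)) (.node (.leaf 3) (.leaf 3)))))) (.node (.node (.node (.node (.node (.node (.leaf 0) (.leaf 3)) (.leaf 3)) (.node (.leaf 3) (.leaf 3))) (.node (.node (.leaf 0) (.leaf 0)) (.node (.leaf 0) (.leaf 3)))) (.node (.node (.node (.node (.leaf 3) (.leaf 3)) (.leaf 3)) (.node (.leaf 0) (.leaf 3))) (.node (.node (.leaf 0) (.leaf 3)) (.node (.leaf 3) (.leaf 3)))))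 (.node (.node (.node (.node (.node (.leaf 0) (.leaf 3)) (.leaf 3)) (.node (.leaf 3) (.leaf 3))) (.node (.node (.leaf 0) (.leaf 3)) (.node (.leaf 0) (.leaf 3)))) (.node (.node (.node (.leaf 0) (.leaf 3)) (.node (.leaf 0) (.leaf 3))) (.node (.node (.leaf 3) (.leaf 3)) (.node (.leaf 3) (.leaf 3)))))))

def threeKind15 : Janko.Tree (ℕ) :=
  (.node (.node (.node (.node (.node (.node (.node (.leaf 0) (.leaf 3)) (.leaf 3)) (.node (.leaf 0) (.leaf 3))) (.node (.node (.leaf 0) (.leaf 3)) (.node (.leaf 3) (.leaf 3)))) (.node (.node (.node (.node (.leaf 0) (.leaf 2)) (.leaf 3)) (.node (.leaf 0) (.leaf 3))) (.node (.node (.leaf 0) (.leaf 0)) (.node (.leaf 0) (.leaf 3))))) (.node (.node (.node (.node (.node (.leaf 0) (.leaf 3)) (.leaf 3)) (.node (.leaf 3) (.leaf 3))) (.node (.node (.leaf 0) (.leaf 3)) (.node (.leaf 0) (.leaf 3)))) (.node (.node (.node (.leaf 0) (.leaf 3)) (.node (.leaf 0) (.leaf 3))) (.node (.node (.leaf 0) (.leaf 3)) (.node (.leaf 0) (.leaf 3)))))) (.node (.node (.node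 (.node (.node (.node (.leaf 0) (.leaf 3)) (.leaf 0)) (.node (.leaf 0) (.leaf 3))) (.node (.node (.leaf 0) (.leaf 0)) (.node (.leaf 3) (.leaf 3)))) (.node (.node (.node (.node (.leaf 3) (.leaf 3)) (.leaf 0)) (.node (.leaf 3) (.leaf 3))) (.node (.node (.leaf 0) (.leaf 0)) (.node (.leaf 3) (.leaf 3))))) (.node (.node (.node (.node (.node (.leaf 0) (.leaf 3)) (.leaf 3)) (.node (.leaf 3) (.leaf 3))) (.node (.node (.leaf 0) (.leaf 3)) (.node (.leaf 3) (.leaf 3)))) (.node (.node (.node (.leaf 0) (.leaf 3)) (.node (.leaf 0) (.leaf 3))) (.node (.node (.leaf 0) (.leaf 3)) (.node (.leaf 3) (.leaf 3)))))))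

def threeKind16 : Janko.Tree (ℕ) :=
  (.node (.node (.node (.node (.node (.node (.node (.leaf 0) (.leaf 3)) (.leaf 3)) (.node (.leaf 0) (.leaf 3))) (.node (.node (.leaf 3) (.leaf 3)) (.node (.leaf 0) (.leaf 3)))) (.node (.node (.node (.node (.leaf 0) (.leaf 2)) (.leaf 3)) (.node (.leaf 3) (.leaf 3))) (.node (.node (.leaf 0) (.leaf 0)) (.node (.leaf 3) (.leaf 3))))) (.node (.node (.node (.node (.node (.leaf 0) (.leaf 3)) (.leaf 3)) (.node (.leaf 3) (.leaf 3))) (.node (.node (.leaf 0) (.leaf 0)) (.node (.leaf 0) (.leaf 3)))) (.node (.node (.node (.leaf 0) (.leaf 3)) (.node (.leaf 3) (.leaf 3))) (.node (.node (.leaf 3) (.leaf 3)) (.node (.leaf 0) (.leaf 3)))))) (.node (.node (.node (.node (.node (.node (.leaf 0) (.leaf 3)) (.leaf 3)) (.node (.leaf 3) (.leaf 3))) (.node (.node (.leaf 0) (.leaf 0)) (.node (.leaf 3) (.leaf 3)))) (.node (.node (.node (.node (.leaf 0) (.leaf 3)) (.leaf 3)) (.node (.leaf 0) (.leaf 3))) (.node (.node (.leaf 3) (.leaf 3)) (.node (.leaf 0) (.leaf 3)))))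 (.node (.node (.node (.node (.node (.leaf 0) (.leaf 3)) (.leaf 0)) (.node (.leaf 3) (.leaf 3))) (.node (.node (.leaf 3) (.leaf 3)) (.node (.leaf 3) (.leaf 3)))) (.node (.node (.node (.leaf 3) (.leaf 3)) (.node (.leaf 0) (.leaf 3))) (.node (.node (.leaf 0) (.leaf 0)) (.node (.leaf 3) (.leaf 3)))))))

def threeKind17 : Janko.Tree (ℕ) :=
  (.node (.node (.node (.node (.node (.node (.node (.leaf 0) (.leaf 3)) (.leaf 3)) (.node (.leaf 0) (.leaf 3))) (.node (.node (.leaf 0) (.leaf 3)) (.node (.leaf 0) (.leaf 3)))) (.node (.node (.node (.node (.leaf 0) (.leaf 2)) (.leaf 3)) (.node (.leaf 3) (.leaf 3))) (.node (.node (.leaf 0) (.leaf 3)) (.node (.leaf 0) (.leaf 3))))) (.node (.node (.node (.node (.node (.leaf 0) (.leaf 3)) (.leaf 3)) (.node (.leaf 3) (.leaf 3))) (.node (.node (.leaf 0) (.leaf 3)) (.node (.leaf 0) (.leaf 0)))) (.node (.node (.node (.leaf 3) (.leaf 3)) (.node (.leaf 0) (.leaf 3))) (.node (.node (.leaf 0) (.leaf 3)) (.node (.leaf 3) (.leaf 3)))))) (.node (.node (.node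 (.node (.node (.node (.leaf 0) (.leaf 3)) (.leaf 3)) (.node (.leaf 0) (.leaf 3))) (.node (.node (.leaf 3) (.leaf 3)) (.node (.leaf 3) (.leaf 3)))) (.node (.node (.node (.node (.leaf 0) (.leaf 3)) (.leaf 3)) (.node (.leaf 3) (.leaf 3))) (.node (.node (.leaf 3) (.leaf 0)) (.node (.leaf 3) (.leaf 3))))) (.node (.node (.node (.node (.node (.leaf 0) (.leaf 3)) (.leaf 3)) (.node (.leaf 3) (.leaf 3))) (.node (.node (.leaf 3) (.leaf 0)) (.node (.leaf 3) (.leaf 3)))) (.node (.node (.node (.leaf 3) (.leaf 3)) (.node (.leaf 0) (.leaf 3))) (.node (.node (.leaf 3) (.leaf 3)) (.node (.leaf 3) (.leaf 3)))))))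

def threeKind18 : Janko.Tree (ℕ) :=
  (.node (.node (.node (.node (.node (.node (.node (.leaf 0) (.leaf 0)) (.leaf 3)) (.node (.leaf 0) (.leaf 3))) (.node (.node (.leaf 3) (.leaf 3)) (.node (.leaf 0) (.leaf 3)))) (.node (.node (.node (.node (.leaf 0) (.leaf 3)) (.leaf 3)) (.node (.leaf 3) (.leaf 3))) (.node (.node (.leaf 0) (.leaf 0)) (.node (.leaf 3) (.leaf 3))))) (.node (.node (.node (.node (.node (.leaf 0) (.leaf 3)) (.leaf 3)) (.node (.leaf 0) (.leaf 0))) (.node (.node (.leaf 0) (.leaf 3)) (.node (.leaf 0) (.leaf 3)))) (.node (.node (.node (.leaf 3) (.leaf 3)) (.node (.leaf 3) (.leaf 3))) (.node (.node (.leaf 0) (.leaf 0)) (.node (.leaf 3) (.leaf 3)))))) (.node (.node (.node (.node (.node (.node (.leaf 0) (.leaf 3)) (.leaf 3)) (.node (.leaf 3) (.leaf 3))) (.node (.node (.leaf 0) (.leaf 3)) (.node (.leaf 0) (.leaf 3)))) (.node (.node (.node (.node (.leaf 0) (.leaf 3)) (.leaf 3)) (.node (.leaf 0) (.leaf 3))) (.node (.node (.leaf 3) (.leaf 0)) (.node (.leaf 3) (.leaf 3)))))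 (.node (.node (.node (.node (.node (.leaf 0) (.leaf 3)) (.leaf 3)) (.node (.leaf 3) (.leaf 3))) (.node (.node (.leaf 0) (.leaf 0)) (.node (.leaf 3) (.leaf 3)))) (.node (.node (.node (.leaf 0) (.leaf 3)) (.node (.leaf 0) (.leaf 3))) (.node (.node (.leaf 0) (.leaf 3)) (.node (.leaf 0) (.leaf 3)))))))

def threeKind19 : Janko.Tree (ℕ) :=
  (.node (.node (.node (.node (.node (.node (.node (.leaf 0) (.leaf 3)) (.leaf 0)) (.node (.leaf 0) (.leaf 3))) (.node (.node (.leaf 0) (.leaf 3)) (.node (.leaf 3) (.leaf 3)))) (.node (.node (.node (.node (.leaf 0) (.leaf 3)) (.leaf 3)) (.node (.leaf 3) (.leaf 3))) (.node (.node (.leaf 0) (.leaf 3)) (.node (.leaf 3) (.leaf 3))))) (.node (.node (.node (.node (.node (.leaf 0) (.leaf 3)) (.leaf 3)) (.node (.leaf 3) (.leaf 3))) (.node (.node (.leaf 0) (.leaf 3)) (.node (.leaf 3) (.leaf 3)))) (.node (.node (.node (.leaf 0) (.leaf 3)) (.node (.leaf 3) (.leaf 3))) (.node (.node (.leaf 0) (.leaf 3)) (.node (.leaf 3) (.leaf 0)))))) (.node (.node (.node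 (.node (.node (.node (.leaf 0) (.leaf 3)) (.leaf 3)) (.node (.leaf 0) (.leaf 3))) (.node (.node (.leaf 0) (.leaf 3)) (.node (.leaf 3) (.leaf 3)))) (.node (.node (.node (.node (.leaf 0) (.leaf 3)) (.leaf 3)) (.node (.leaf 3) (.leaf 3))) (.node (.node (.leaf 3) (.leaf 3)) (.node (.leaf 0) (.leaf 3))))) (.node (.node (.node (.node (.node (.leaf 0) (.leaf 3)) (.leaf 3)) (.node (.leaf 3) (.leaf 3))) (.node (.node (.leaf 0) (.leaf 3)) (.node (.leaf 3) (.leaf 3)))) (.node (.node (.node (.leaf 0) (.leaf 3)) (.node (.leaf 3) (.leaf 3))) (.node (.node (.leaf 3) (.leaf 3)) (.node (.leaf 0) (.leaf 3)))))))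

def threeKind20 : Janko.Tree (ℕ) :=
  (.node (.node (.node (.node (.node (.node (.node (.leaf 0) (.leaf 3)) (.leaf 3)) (.node (.leaf 3) (.leaf 0))) (.node (.node (.leaf 3) (.leaf 3)) (.node (.leaf 0) (.leaf 3)))) (.node (.node (.node (.node (.leaf 0) (.leaf 3)) (.leaf 3)) (.node (.leaf 3) (.leaf 3))) (.node (.node (.leaf 3) (.leaf 0)) (.node (.leaf 3) (.leaf 3))))) (.node (.node (.node (.node (.node (.leaf 0) (.leaf 3)) (.leaf 0)) (.node (.leaf 0) (.leaf 3))) (.node (.node (.leaf 0) (.leaf 0)) (.node (.leaf 0) (.leaf 3)))) (.node (.node (.node (.leaf 0) (.leaf 3)) (.node (.leaf 0) (.leaf 3))) (.node (.node (.leaf 3) (.leaf 3)) (.node (.leaf 3) (.leaf 3)))))) (.node (.node (.node (.node (.node (.node (.leaf 3) (.leaf 3)) (.leaf 3)) (.node (.leaf 3) (.leaf 3))) (.node (.node (.leaf 0) (.leaf 3)) (.node (.leaf 0) (.leaf 3)))) (.node (.node (.node (.node (.leaf 3) (.leaf 3)) (.leaf 3)) (.node (.leaf 3) (.leaf 3))) (.node (.node (.leaf 3) (.leaf 3)) (.node (.leaf 3) (.leaf 3)))))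 (.node (.node (.node (.node (.node (.leaf 0) (.leaf 3)) (.leaf 3)) (.node (.leaf 0) (.leaf 3))) (.node (.node (.leaf 0) (.leaf 0)) (.node (.leaf 3) (.leaf 3)))) (.node (.node (.node (.leaf 3) (.leaf 3)) (.node (.leaf 3) (.leaf 3))) (.node (.node (.leaf 3) (.leaf 3)) (.node (.leaf 3) (.leaf 0)))))))

def threeKind21 : Janko.Tree (ℕ) :=
  (.node (.node (.node (.node (.node (.node (.node (.leaf 0) (.leaf 3)) (.leaf 3)) (.node (.leaf 3) (.leaf 3))) (.node (.node (.leaf 0) (.leaf 0)) (.node (.leaf 0) (.leaf 3)))) (.node (.node (.node (.node (.leaf 0) (.leaf 3)) (.leaf 3)) (.node (.leaf 0) (.leaf 3))) (.node (.node (.leaf 3) (.leaf 0)) (.node (.leaf 3) (.leaf 3))))) (.node (.node (.node (.node (.node (.leaf 0) (.leaf 3)) (.leaf 3)) (.node (.leaf 3) (.leaf 3))) (.node (.node (.leaf 0) (.leaf 3)) (.node (.leaf 3) (.leaf 3)))) (.node (.node (.node (.leaf 0) (.leaf 3)) (.node (.leaf 0) (.leaf 3))) (.node (.node (.leaf 0) (.leaf 3)) (.node (.leaf 3) (.leaf 3)))))) (.node (.node (.node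 (.node (.node (.node (.leaf 0) (.leaf 3)) (.leaf 3)) (.node (.leaf 3) (.leaf 3))) (.node (.node (.leaf 3) (.leaf 0)) (.node (.leaf 3) (.leaf 3)))) (.node (.node (.node (.node (.leaf 0) (.leaf 3)) (.leaf 3)) (.node (.leaf 3) (.leaf 3))) (.node (.node (.leaf 0) (.leaf 3)) (.node (.leaf 3) (.leaf 3))))) (.node (.node (.node (.node (.node (.leaf 0) (.leaf 3)) (.leaf 3)) (.node (.leaf 0) (.leaf 3))) (.node (.node (.leaf 3) (.leaf 3)) (.node (.leaf 3) (.leaf 3)))) (.node (.node (.node (.leaf 3) (.leaf 3)) (.node (.leaf 3) (.leaf 3))) (.node (.node (.leaf 3) (.leaf 3)) (.node (.leaf 3) (.leaf 3)))))))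

def threeKind22 : Janko.Tree (ℕ) :=
  (.node (.node (.node (.node (.node (.node (.node (.leaf 0) (.leaf 3)) (.leaf 3)) (.node (.leaf 3) (.leaf 3))) (.node (.node (.leaf 0) (.leaf 3)) (.node (.leaf 0) (.leaf 3)))) (.node (.node (.node (.node (.leaf 0) (.leaf 3)) (.leaf 3)) (.node (.leaf 3) (.leaf 3))) (.node (.node (.leaf 3) (.leaf 3)) (.node (.leaf 0) (.leaf 3))))) (.node (.node (.node (.node (.node (.leaf 0) (.leaf 3)) (.leaf 3)) (.node (.leaf 3) (.leaf 3))) (.node (.node (.leaf 0) (.leaf 0)) (.node (.leaf 3) (.leaf 3)))) (.node (.node (.node (.leaf 0) (.leaf 3)) (.node (.leaf 3) (.leaf 3))) (.node (.node (.leaf 3) (.leaf 3)) (.node (.leaf 3) (.leaf 3)))))) (.node (.node (.node (.node (.node (.node (.leaf 0) (.leaf 3)) (.leaf 3)) (.node (.leaf 3) (.leaf 3))) (.node (.node (.leaf 0) (.leaf 3)) (.node (.leaf 0) (.leaf 3)))) (.node (.node (.node (.node (.leaf 0) (.leaf 3)) (.leaf 3)) (.node (.leaf 0) (.leaf 3))) (.node (.node (.leaf 0) (.leaf 0)) (.node (.leaf 3) (.leaf 3)))))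 (.node (.node (.node (.node (.node (.leaf 0) (.leaf 3)) (.leaf 3)) (.node (.leaf 3) (.leaf 3))) (.node (.node (.leaf 0) (.leaf 0)) (.node (.leaf 0) (.leaf 3)))) (.node (.node (.node (.leaf 3) (.leaf 3)) (.node (.leaf 0) (.leaf 3))) (.node (.node (.leaf 3) (.leaf 0)) (.node (.leaf 3) (.leaf 3)))))))

def threeKind23 : Janko.Tree (ℕ) :=
  (.node (.node (.node (.node (.node (.node (.node (.leaf 0) (.leaf 3)) (.leaf 3)) (.node (.leaf 0) (.leaf 0))) (.node (.node (.leaf 0) (.leaf 3)) (.node (.leaf 3) (.leaf 3)))) (.node (.node (.node (.node (.leaf 0) (.leaf 3)) (.leaf 0)) (.node (.leaf 3) (.leaf 3))) (.node (.node (.leaf 3) (.leaf 3)) (.node (.leaf 0) (.leaf 3))))) (.node (.node (.node (.node (.node (.leaf 0) (.leaf 3)) (.leaf 3)) (.node (.leaf 3) (.leaf 3))) (.node (.node (.leaf 0) (.leaf 3)) (.node (.leaf 0) (.leaf 0)))) (.node (.node (.node (.leaf 0) (.leaf 3)) (.node (.leaf 0) (.leaf 3))) (.node (.node (.leaf 0) (.leaf 3)) (.node (.leaf 0) (.leaf 3)))))) (.node (.node (.node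 (.node (.node (.node (.leaf 0) (.leaf 3)) (.leaf 3)) (.node (.leaf 0) (.leaf 3))) (.node (.node (.leaf 3) (.leaf 3)) (.node (.leaf 3) (.leaf 3)))) (.node (.node (.node (.node (.leaf 0) (.leaf 3)) (.leaf 3)) (.node (.leaf 3) (.leaf 3))) (.node (.node (.leaf 0) (.leaf 0)) (.node (.leaf 3) (.leaf 3))))) (.node (.node (.node (.node (.node (.leaf 0) (.leaf 3)) (.leaf 3)) (.node (.leaf 3) (.leaf 3))) (.node (.node (.leaf 0) (.leaf 0)) (.node (.leaf 0) (.leaf 3)))) (.node (.node (.node (.leaf 0) (.leaf 3)) (.node (.leaf 0) (.leaf 3))) (.node (.node (.leaf 0) (.leaf 0)) (.node (.leaf 0) (.leaf 3)))))))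

def threeKind24 : Janko.Tree (ℕ) :=
  (.node (.node (.node (.node (.node (.node (.node (.leaf 0) (.leaf 3)) (.leaf 3)) (.node (.leaf 0) (.leaf 3))) (.node (.node (.leaf 3) (.leaf 3)) (.node (.leaf 3) (.leaf 3)))) (.node (.node (.node (.node (.leaf 0) (.leaf 3)) (.leaf 3)) (.node (.leaf 3) (.leaf 3))) (.node (.node (.leaf 0) (.leaf 3)) (.node (.leaf 0) (.leaf 3))))) (.node (.node (.node (.node (.node (.leaf 0) (.leaf 3)) (.leaf 3)) (.node (.leaf 0) (.leaf 0))) (.node (.node (.leaf 0) (.leaf 0)) (.node (.leaf 0) (.leaf 3)))) (.node (.node (.node (.leaf 3) (.leaf 3)) (.node (.leaf 3) (.leaf 3))) (.node (.node (.leaf 0) (.leaf 3)) (.node (.leaf 3) (.leaf 3)))))) (.node (.node (.node (.node (.node (.node (.leaf 0) (.leaf 3)) (.leaf 3)) (.node (.leaf 3) (.leaf 3))) (.node (.node (.leaf 0) (.leaf 0)) (.node (.leaf 0) (.leaf 3)))) (.node (.node (.node (.node (.leaf 0) (.leaf 3)) (.leaf 3)) (.node (.leaf 3) (.leaf 3))) (.node (.node (.leaf 0) (.leaf 3)) (.node (.leaf 3) (.leaf 3)))))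 (.node (.node (.node (.node (.node (.leaf 3) (.leaf 3)) (.leaf 3)) (.node (.leaf 3) (.leaf 3))) (.node (.node (.leaf 0) (.leaf 0)) (.node (.leaf 3) (.leaf 0)))) (.node (.node (.node (.leaf 0) (.leaf 3)) (.node (.leaf 3) (.leaf 3))) (.node (.node (.leaf 3) (.leaf 3)) (.node (.leaf 0) (.leaf 3)))))))

def threeKind25 : Janko.Tree (ℕ) :=
  (.node (.node (.node (.node (.node (.node (.node (.leaf 3) (.leaf 3)) (.leaf 0)) (.node (.leaf 0) (.leaf 0))) (.node (.node (.leaf 0) (.leaf 3)) (.node (.leaf 3) (.leaf 3)))) (.node (.node (.node (.node (.leaf 0) (.leaf 3)) (.leaf 3)) (.node (.leaf 0) (.leaf 3))) (.node (.node (.leaf 0) (.leaf 3)) (.node (.leaf 3) (.leaf 3))))) (.node (.node (.node (.node (.node (.leaf 3) (.leaf 3)) (.leaf 3)) (.node (.leaf 3) (.leaf 3))) (.node (.node (.leaf 0) (.leaf 3)) (.node (.leaf 3) (.leaf 3)))) (.node (.node (.node (.leaf 0) (.leaf 3)) (.node (.leaf 0) (.leaf 3))) (.node (.node (.leaf 0) (.leaf 3)) (.node (.leaf 3) (.leaf 3)))))) (.node (.node (.node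 (.node (.node (.node (.leaf 0) (.leaf 3)) (.leaf 3)) (.node (.leaf 3) (.leaf 3))) (.node (.node (.leaf 0) (.leaf 3)) (.node (.leaf 3) (.leaf 0)))) (.node (.node (.node (.node (.leaf 0) (.leaf 3)) (.leaf 3)) (.node (.leaf 3) (.leaf 0))) (.node (.node (.leaf 0) (.leaf 0)) (.node (.leaf 3) (.leaf 3))))) (.node (.node (.node (.node (.node (.leaf 0) (.leaf 3)) (.leaf 3)) (.node (.leaf 0) (.leaf 3))) (.node (.node (.leaf 3) (.leaf 3)) (.node (.leaf 0) (.leaf 3)))) (.node (.node (.node (.leaf 3) (.leaf 3)) (.node (.leaf 3) (.leaf 3))) (.node (.node (.leaf 3) (.leaf 3)) (.node (.leaf 0) (.leaf 3)))))))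

def threeKind26 : Janko.Tree (ℕ) :=
  (.node (.node (.node (.node (.node (.node (.node (.leaf 0) (.leaf 3)) (.leaf 3)) (.node (.leaf 3) (.leaf 3))) (.node (.node (.leaf 3) (.leaf 3)) (.node (.leaf 3) (.leaf 3)))) (.node (.node (.node (.node (.leaf 0) (.leaf 2)) (.leaf 3)) (.node (.leaf 3) (.leaf 3))) (.node (.node (.leaf 0) (.leaf 3)) (.node (.leaf 0) (.leaf 3))))) (.node (.node (.node (.node (.node (.leaf 3) (.leaf 3)) (.leaf 3)) (.node (.leaf 0) (.leaf 3))) (.node (.node (.leaf 0) (.leaf 3)) (.node (.leaf 0) (.leaf 0)))) (.node (.node (.node (.leaf 0) (.leaf 3)) (.node (.leaf 0) (.leaf 3))) (.node (.node (.leaf 3) (.leaf 3)) (.node (.leaf 3) (.leaf 3)))))) (.node (.node (.node (.node (.node (.node (.leaf 0) (.leaf 3)) (.leaf 3)) (.node (.leaf 3) (.leaf 3))) (.node (.node (.leaf 0) (.leaf 0)) (.node (.leaf 0) (.leaf 3)))) (.node (.node (.node (.node (.leaf 0) (.leaf 3)) (.leaf 3)) (.node (.leaf 3) (.leaf 3))) (.node (.node (.leaf 3) (.leaf 3)) (.node (.leaf 3) (.leaf 3)))))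 (.node (.node (.node (.node (.node (.leaf 0) (.leaf 3)) (.leaf 3)) (.node (.leaf 3) (.leaf 3))) (.node (.node (.leaf 0) (.leaf 3)) (.node (.leaf 0) (.leaf 3)))) (.node (.node (.node (.leaf 0) (.leaf 3)) (.node (.leaf 0) (.leaf 3))) (.node (.node (.leaf 3) (.leaf 3)) (.node (.leaf 0) (.leaf 3)))))))

def threeKind27 : Janko.Tree (ℕ) :=
  (.node (.node (.node (.node (.node (.node (.node (.leaf 0) (.leaf 3)) (.leaf 0)) (.node (.leaf 0) (.leaf 0))) (.node (.node (.leaf 0) (.leaf 3)) (.node (.leaf 3) (.leaf 3)))) (.node (.node (.node (.node (.leaf 0) (.leaf 3)) (.leaf 3)) (.node (.leaf 0) (.leaf 3))) (.node (.node (.leaf 3) (.leaf 3)) (.node (.leaf 3) (.leaf 3))))) (.node (.node (.node (.node (.node (.leaf 0) (.leaf 3)) (.leaf 3)) (.node (.leaf 3) (.leaf 3))) (.node (.node (.leaf 0) (.leaf 3)) (.node (.leaf 3) (.leaf 3)))) (.node (.node (.node (.leaf 0) (.leaf 3)) (.node (.leaf 0) (.leaf 3))) (.node (.node (.leaf 3) (.leaf 3)) (.node (.leaf 3) (.leaf 3)))))) (.node (.node (.node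 (.node (.node (.node (.leaf 0) (.leaf 3)) (.leaf 3)) (.node (.leaf 0) (.leaf 0))) (.node (.node (.leaf 0) (.leaf 0)) (.node (.leaf 0) (.leaf 3)))) (.node (.node (.node (.node (.leaf 0) (.leaf 3)) (.leaf 3)) (.node (.leaf 0) (.leaf 3))) (.node (.node (.leaf 0) (.leaf 3)) (.node (.leaf 3) (.leaf 3))))) (.node (.node (.node (.node (.node (.leaf 0) (.leaf 3)) (.leaf 3)) (.node (.leaf 3) (.leaf 3))) (.node (.node (.leaf 0) (.leaf 0)) (.node (.leaf 0) (.leaf 3)))) (.node (.node (.node (.leaf 3) (.leaf 3)) (.node (.leaf 0) (.leaf 3))) (.node (.node (.leaf 0) (.leaf 0)) (.node (.leaf 3) (.leaf 3)))))))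

def threeKind28 : Janko.Tree (ℕ) :=
  (.node (.node (.node (.node (.node (.node (.node (.leaf 0) (.leaf 3)) (.leaf 3)) (.node (.leaf 0) (.leaf 3))) (.node (.node (.leaf 3) (.leaf 3)) (.node (.leaf 0) (.leaf 3)))) (.node (.node (.node (.node (.leaf 0) (.leaf 3)) (.leaf 3)) (.node (.leaf 3) (.leaf 3))) (.node (.node (.leaf 0) (.leaf 3)) (.node (.leaf 0) (.leaf 3))))) (.node (.node (.node (.node (.node (.leaf 3) (.leaf 3)) (.leaf 3)) (.node (.leaf 0) (.leaf 3))) (.node (.node (.leaf 0) (.leaf 0)) (.node (.leaf 3) (.leaf 3)))) (.node (.node (.node (.leaf 0) (.leaf 3)) (.node (.leaf 3) (.leaf 3))) (.node (.node (.leaf 0) (.leaf 3)) (.node (.leaf 3) (.leaf 3)))))) (.node (.node (.node (.node (.node (.node (.leaf 0) (.leaf 3)) (.leaf 3)) (.node (.leaf 0) (.leaf 3))) (.node (.node (.leaf 3) (.leaf 3)) (.node (.leaf 0) (.leaf 0)))) (.node (.node (.node (.node (.leaf 3) (.leaf 3)) (.leaf 3)) (.node (.leaf 3) (.leaf 3))) (.node (.node (.leaf 3) (.leaf 0)) (.node (.leaf 3) (.leaf 3)))))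 (.node (.node (.node (.node (.node (.leaf 0) (.leaf 3)) (.leaf 3)) (.node (.leaf 0) (.leaf 3))) (.node (.node (.leaf 0) (.leaf 3)) (.node (.leaf 0) (.leaf 0)))) (.node (.node (.node (.leaf 0) (.leaf 3)) (.node (.leaf 3) (.leaf 3))) (.node (.node (.leaf 0) (.leaf 0)) (.node (.leaf 3) (.leaf 3)))))))

def threeKind29 : Janko.Tree (ℕ) :=
  (.node (.node (.node (.node (.node (.node (.node (.leaf 0) (.leaf 3)) (.leaf 0)) (.node (.leaf 3) (.leaf 3))) (.node (.node (.leaf 0) (.leaf 0)) (.node (.leaf 0) (.leaf 3)))) (.node (.node (.node (.node (.leaf 0) (.leaf 3)) (.leaf 3)) (.node (.leaf 3) (.leaf 3))) (.node (.node (.leaf 3) (.leaf 3)) (.node (.leaf 3) (.leaf 3))))) (.node (.node (.node (.node (.node (.leaf 0) (.leaf 3)) (.leaf 0)) (.node (.leaf 0) (.leaf 3))) (.node (.node (.leaf 0) (.leaf 3)) (.node (.leaf 0) (.leaf 3)))) (.node (.node (.node (.leaf 0) (.leaf 3)) (.node (.leaf 0) (.leaf 3))) (.node (.node (.leaf 3) (.leaf 3)) (.node (.leaf 3) (.leaf 3)))))) (.node (.node (.node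 (.node (.node (.node (.leaf 0) (.leaf 3)) (.leaf 3)) (.node (.leaf 3) (.leaf 3))) (.node (.node (.leaf 0) (.leaf 3)) (.node (.leaf 3) (.leaf 3)))) (.node (.node (.node (.node (.leaf 3) (.leaf 3)) (.leaf 3)) (.node (.leaf 3) (.leaf 3))) (.node (.node (.leaf 3) (.leaf 0)) (.node (.leaf 0) (.leaf 3))))) (.node (.node (.node (.node (.node (.leaf 0) (.leaf 3)) (.leaf 3)) (.node (.leaf 0) (.leaf 3))) (.node (.node (.leaf 3) (.leaf 3)) (.node (.leaf 0) (.leaf 3)))) (.node (.node (.node (.leaf 0) (.leaf 3)) (.node (.leaf 0) (.leaf 3))) (.node (.node (.leaf 0) (.leaf 0)) (.node (.leaf 3) (.leaf 3)))))))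

def threeKind30 : Janko.Tree (ℕ) :=
  (.node (.node (.node (.node (.node (.node (.node (.leaf 0) (.leaf 3)) (.leaf 3)) (.node (.leaf 0) (.leaf 3))) (.node (.node (.leaf 0) (.leaf 3)) (.node (.leaf 3) (.leaf 3)))) (.node (.node (.node (.node (.leaf 0) (.leaf 3)) (.leaf 3)) (.node (.leaf 3) (.leaf 3))) (.node (.node (.leaf 0) (.leaf 0)) (.node (.leaf 0) (.leaf 3))))) (.node (.node (.node (.node (.node (.leaf 0) (.leaf 3)) (.leaf 3)) (.node (.leaf 3) (.leaf 3))) (.node (.node (.leaf 3) (.leaf 0)) (.node (.leaf 3) (.leaf 3)))) (.node (.node (.node (.leaf 0) (.leaf 3)) (.node (.leaf 0) (.leaf 3))) (.node (.node (.leaf 0) (.leaf 3)) (.node (.leaf 3) (.leaf 3)))))) (.node (.node (.node (.node (.node (.node (.leaf 0) (.leaf 3)) (.leaf 3)) (.node (.leaf 3) (.leaf 3))) (.node (.node (.leaf 3) (.leaf 3)) (.node (.leaf 0) (.leaf 3)))) (.node (.node (.node (.node (.leaf 0) (.leaf 3)) (.leaf 3)) (.node (.leaf 3) (.leaf 3))) (.node (.node (.leaf 0) (.leaf 3)) (.node (.leaf 3) (.leaf 3)))))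 (.node (.node (.node (.node (.node (.leaf 0) (.leaf 3)) (.leaf 3)) (.node (.leaf 0) (.leaf 3))) (.node (.node (.leaf 0) (.leaf 0)) (.node (.leaf 0) (.leaf 3)))) (.node (.node (.node (.leaf 0) (.leaf 3)) (.node (.leaf 0) (.leaf 0))) (.node (.node (.leaf 3) (.leaf 3)) (.node (.leaf 3) (.leaf 3)))))))

def threeKind31 : Janko.Tree (ℕ) :=
  (.node (.node (.node (.node (.node (.node (.node (.leaf 0) (.leaf 3)) (.leaf 3)) (.node (.leaf 0) (.leaf 3))) (.node (.node (.leaf 3) (.leaf 0)) (.node (.leaf 0) (.leaf 3)))) (.node (.node (.node (.node (.leaf 0) (.leaf 2)) (.leaf 3)) (.node (.leaf 3) (.leaf 3))) (.node (.node (.leaf 0) (.leaf 0)) (.node (.leaf 3) (.leaf 3))))) (.node (.node (.node (.node (.node (.leaf 0) (.leaf 3)) (.leaf 3)) (.node (.leaf 3) (.leaf 3))) (.node (.node (.leaf 0) (.leaf 0)) (.node (.leaf 3) (.leaf 3)))) (.node (.node (.node (.leaf 0) (.leaf 3)) (.node (.leaf 0) (.leaf 3))) (.node (.node (.leaf 0) (.leaf 3)) (.node (.leaf 0) (.leaf 3)))))) (.node (.node (.node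 (.node (.node (.node (.leaf 0) (.leaf 3)) (.leaf 0)) (.node (.leaf 3) (.leaf 3))) (.node (.node (.leaf 0) (.leaf 0)) (.node (.leaf 3) (.leaf 3)))) (.node (.node (.node (.node (.leaf 0) (.leaf 3)) (.leaf 3)) (.node (.leaf 0) (.leaf 3))) (.node (.node (.leaf 3) (.leaf 0)) (.node (.leaf 0) (.leaf 3))))) (.node (.node (.node (.node (.node (.leaf 3) (.leaf 3)) (.leaf 3)) (.node (.leaf 3) (.leaf 3))) (.node (.node (.leaf 0) (.leaf 0)) (.node (.leaf 3) (.leaf 3)))) (.node (.node (.node (.leaf 3) (.leaf 3)) (.node (.leaf 0) (.leaf 3))) (.node (.node (.leaf 0) (.leaf 3)) (.node (.leaf 3) (.leaf 3)))))))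

def threeKind : Janko.Tree (ℕ) := (.node (.node (.node (.node (.node threeKind0 threeKind16) (.node threeKind8 threeKind24)) (.node (.node threeKind4 threeKind20) (.node threeKind12 threeKind28))) (.node (.node (.node threeKind2 threeKind18) (.node threeKind10 threeKind26)) (.node (.node threeKind6 threeKind22) (.node threeKind14 threeKind30)))) (.node (.node (.node (.node threeKind1 threeKind17) (.node threeKind9 threeKind25)) (.node (.node threeKind5 threeKind21) (.node threeKind13 threeKind29))) (.node (.node (.node threeKind3 threeKind19) (.node threeKind11 threeKind27)) (.node (.node threeKind7 threeKind23) (.node threeKind15 threeKind31)))))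

def threeRank0 : Janko.Tree (ℕ) :=
  (.node (.node (.node (.node (.node (.node (.node (.leaf 0) (.leaf 1872)) (.leaf 589)) (.node (.leaf 844) (.leaf 1198))) (.node (.node (.leaf 1993) (.leaf 2151)) (.node (.leaf 1429) (.leaf 1725)))) (.node (.node (.node (.node (.leaf 112) (.leaf 1763)) (.leaf 1840)) (.node (.leaf 1574) (.leaf 1002))) (.node (.node (.leaf 295) (.leaf 654)) (.node (.leaf 1498) (.leaf 1183))))) (.node (.node (.node (.node (.node (.leaf 60) (.leaf 1804)) (.leaf 1327)) (.node (.leaf 1992) (.leaf 1615))) (.node (.node (.leaf 245) (.leaf 1154)) (.node (.leaf 513) (.leaf 1065)))) (.node (.node (.node (.node (.leaf 163) (.leaf 1066)) (.leaf 1931)) (.node (.leaf 977) (.leaf 851))) (.node (.node (.leaf 334) (.leaf 904)) (.node (.leaf 2196) (.leaf 2221)))))) (.node (.node (.node (.node (.node (.node (.leaf 31) (.leaf 1350)) (.leaf 1292)) (.node (.leaf 1884) (.leaf 1061))) (.node (.node (.leaf 223) (.leaf 1226)) (.node (.leaf 907) (.leaf 1933)))) (.node (.node (.node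 (.node (.leaf 141) (.leaf 1047)) (.leaf 1604)) (.node (.leaf 2197) (.leaf 2078))) (.node (.node (.leaf 318) (.leaf 914)) (.node (.leaf 787) (.leaf 2017))))) (.node (.node (.node (.node (.node (.leaf 846) (.leaf 1912)) (.leaf 1739)) (.node (.leaf 948) (.leaf 1692))) (.node (.node (.leaf 272) (.leaf 641)) (.node (.leaf 1757) (.leaf 1248)))) (.node (.node (.node (.leaf 188) (.leaf 1296)) (.node (.leaf 458) (.leaf 1976))) (.node (.node (.leaf 354) (.leaf 2214)) (.node (.leaf 918) (.leaf 1221)))))))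

def threeRank1 : Janko.Tree (ℕ) :=
  (.node (.node (.node (.node (.node (.node (.node (.leaf 1) (.leaf 1642)) (.leaf 1005)) (.node (.leaf 369) (.leaf 1716))) (.node (.node (.leaf 1331) (.leaf 2155)) (.node (.leaf 477) (.leaf 1909)))) (.node (.node (.node (.node (.leaf 113) (.leaf 1893)) (.leaf 2184)) (.node (.leaf 418) (.leaf 2018))) (.node (.node (.leaf 296) (.leaf 1783)) (.node (.leaf 936) (.leaf 1702))))) (.node (.node (.node (.node (.node (.leaf 964) (.leaf 1440)) (.leaf 1568)) (.node (.leaf 1878) (.leaf 1613))) (.node (.node (.leaf 246) (.leaf 1330)) (.node (.leaf 877) (.leaf 1899)))) (.node (.node (.node (.node (.leaf 858) (.leaf 1396)) (.leaf 1579)) (.node (.leaf 436) (.leaf 1560))) (.node (.node (.leaf 1609) (.leaf 1918)) (.node (.leaf 1389) (.leaf 1060)))))) (.node (.node (.node (.node (.node (.node (.leaf 32) (.leaf 2206)) (.leaf 596)) (.node (.leaf 1775) (.leaf 1882))) (.node (.node (.leaf 224) (.leaf 614)) (.node (.leaf 497) (.leaf 1570)))) (.node (.node (.node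 (.node (.leaf 1068) (.leaf 1151)) (.leaf 2067)) (.node (.leaf 1179) (.leaf 710))) (.node (.node (.leaf 2181) (.leaf 1921)) (.node (.leaf 1556) (.leaf 1356))))) (.node (.node (.node (.node (.node (.leaf 87) (.leaf 1546)) (.leaf 875)) (.node (.leaf 1373) (.leaf 707))) (.node (.node (.leaf 273) (.leaf 2165)) (.node (.leaf 1627) (.leaf 1866)))) (.node (.node (.node (.leaf 189) (.leaf 1432)) (.node (.leaf 987) (.leaf 2099))) (.node (.node (.leaf 355) (.leaf 2220)) (.node (.leaf 1313) (.leaf 1620)))))))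

def threeRank2 : Janko.Tree (ℕ) :=
  (.node (.node (.node (.node (.node (.node (.node (.leaf 2) (.leaf 1853)) (.leaf 1558)) (.node (.leaf 370) (.leaf 1315))) (.node (.node (.leaf 1793) (.leaf 1994)) (.node (.leaf 478) (.leaf 1306)))) (.node (.node (.node (.node (.leaf 114) (.leaf 2096)) (.leaf 1842)) (.node (.leaf 1759) (.leaf 754))) (.node (.node (.leaf 1136) (.leaf 655)) (.node (.leaf 547) (.leaf 1180))))) (.node (.node (.node (.node (.node (.leaf 1103) (.leaf 1379)) (.leaf 1384)) (.node (.leaf 2070) (.leaf 2169))) (.node (.node (.leaf 247) (.leaf 627)) (.node (.leaf 514) (.leaf 1886)))) (.node (.node (.node (.node (.leaf 164) (.leaf 1365)) (.leaf 1664)) (.node (.leaf 437) (.leaf 1502))) (.node (.node (.leaf 335) (.leaf 1413)) (.node (.leaf 1920) (.leaf 1395)))))) (.node (.node (.node (.node (.node (.node (.leaf 33) (.leaf 2177)) (.leaf 1140)) (.node (.leaf 1608) (.leaf 1399))) (.node (.node (.leaf 225) (.leaf 615)) (.node (.leaf 498) (.leaf 1105)))) (.node (.node (.node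 (.node (.leaf 974) (.leaf 913)) (.leaf 1858)) (.node (.leaf 1297) (.leaf 861))) (.node (.node (.leaf 808) (.leaf 665)) (.node (.leaf 563) (.leaf 1708))))) (.node (.node (.node (.node (.node (.leaf 970) (.leaf 733)) (.leaf 1508)) (.node (.leaf 800) (.leaf 1956))) (.node (.node (.leaf 1764) (.leaf 767)) (.node (.leaf 531) (.leaf 1669)))) (.node (.node (.node (.leaf 190) (.leaf 1299)) (.node (.leaf 1111) (.leaf 1362))) (.node (.node (.leaf 2073) (.leaf 685)) (.node (.leaf 1850) (.leaf 1506)))))))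

def threeRank3 : Janko.Tree (ℕ) :=
  (.node (.node (.node (.node (.node (.node (.node (.leaf 3) (.leaf 1790)) (.leaf 782)) (.node (.leaf 371) (.leaf 1322))) (.node (.node (.leaf 813) (.leaf 1996)) (.node (.leaf 479) (.leaf 1442)))) (.node (.node (.node (.node (.leaf 115) (.leaf 2094)) (.leaf 2032)) (.node (.leaf 798) (.leaf 2179))) (.node (.node (.leaf 1144) (.leaf 765)) (.node (.leaf 548) (.leaf 1948))))) (.node (.node (.node (.node (.node (.leaf 61) (.leaf 1626)) (.leaf 601)) (.node (.leaf 1876) (.leaf 757))) (.node (.node (.leaf 248) (.leaf 628)) (.node (.leaf 515) (.leaf 2205)))) (.node (.node (.node (.node (.leaf 165) (.leaf 1387)) (.leaf 1543)) (.node (.leaf 438) (.leaf 1274))) (.node (.node (.leaf 1778) (.leaf 681)) (.node (.leaf 570) (.leaf 1841)))))) (.node (.node (.node (.node (.node (.node (.leaf 34) (.leaf 2097)) (.leaf 1929)) (.node (.leaf 387) (.leaf 872))) (.node (.node (.leaf 833) (.leaf 770)) (.node (.leaf 499) (.leaf 2030)))) (.node (.node (.node (.node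 (.leaf 142) (.leaf 1596)) (.leaf 1595)) (.node (.leaf 1471) (.leaf 1441))) (.node (.node (.leaf 319) (.leaf 2124)) (.node (.leaf 870) (.leaf 1358))))) (.node (.node (.node (.node (.node (.leaf 88) (.leaf 1536)) (.leaf 605)) (.node (.leaf 1913) (.leaf 1526))) (.node (.node (.leaf 810) (.leaf 642)) (.node (.leaf 1121) (.leaf 745)))) (.node (.node (.node (.leaf 1110) (.leaf 2216)) (.node (.leaf 459) (.leaf 2194))) (.node (.node (.leaf 356) (.leaf 1643)) (.node (.leaf 1209) (.leaf 1975)))))))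

def threeRank4 : Janko.Tree (ℕ) :=
  (.node (.node (.node (.node (.node (.node (.node (.leaf 4) (.leaf 2027)) (.leaf 590)) (.node (.leaf 1108) (.leaf 694))) (.node (.node (.leaf 206) (.leaf 1549)) (.node (.leaf 480) (.leaf 1298)))) (.node (.node (.node (.node (.leaf 116) (.leaf 2098)) (.leaf 2012)) (.node (.leaf 2091) (.leaf 2038))) (.node (.node (.leaf 297) (.leaf 1727)) (.node (.leaf 549) (.leaf 1982))))) (.node (.node (.node (.node (.node (.leaf 62) (.leaf 1544)) (.leaf 1247)) (.node (.leaf 801) (.leaf 1443))) (.node (.node (.leaf 926) (.leaf 629)) (.node (.leaf 1203) (.leaf 1126)))) (.node (.node (.node (.leaf 815) (.leaf 955)) (.node (.leaf 439) (.leaf 1406))) (.node (.node (.leaf 336) (.leaf 682)) (.node (.leaf 1656) (.leaf 2234)))))) (.node (.node (.node (.node (.node (.node (.leaf 35) (.leaf 2092)) (.leaf 2188)) (.node (.leaf 388) (.leaf 701))) (.node (.node (.leaf 226) (.leaf 1208)) (.node (.leaf 2131) (.leaf 2033)))) (.node (.node (.node (.node (.leaf 847) (.leaf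 928)) (.leaf 1119)) (.node (.leaf 796) (.leaf 909))) (.node (.node (.leaf 320) (.leaf 666)) (.node (.leaf 2003) (.leaf 1182))))) (.node (.node (.node (.node (.node (.leaf 89) (.leaf 1647)) (.leaf 1113)) (.node (.leaf 408) (.leaf 755))) (.node (.node (.leaf 274) (.leaf 1575)) (.node (.leaf 2227) (.leaf 1235)))) (.node (.node (.node (.leaf 1106) (.leaf 1408)) (.node (.leaf 1107) (.leaf 2011))) (.node (.node (.leaf 805) (.leaf 686)) (.node (.leaf 578) (.leaf 1977)))))))

def threeRank5 : Janko.Tree (ℕ) :=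
  (.node (.node (.node (.node (.node (.node (.node (.leaf 5) (.leaf 2025)) (.leaf 1008)) (.node (.leaf 1538) (.leaf 980))) (.node (.node (.leaf 207) (.leaf 1700)) (.node (.leaf 1225) (.leaf 1679)))) (.node (.node (.node (.node (.leaf 117) (.leaf 2023)) (.leaf 2019)) (.node (.leaf 1086) (.leaf 2061))) (.node (.node (.leaf 298) (.leaf 656)) (.node (.leaf 852) (.leaf 1859))))) (.node (.node (.node (.node (.node (.leaf 63) (.leaf 1559)) (.leaf 1865)) (.node (.leaf 400) (.leaf 1376))) (.node (.node (.leaf 249) (.leaf 1482)) (.node (.leaf 516) (.leaf 715)))) (.node (.node (.node (.leaf 166) (.leaf 1476)) (.node (.leaf 1135) (.leaf 1088))) (.node (.node (.leaf 2218) (.leaf 867)) (.node (.leaf 571) (.leaf 1662)))))) (.node (.node (.node (.node (.node (.node (.leaf 36) (.leaf 1782)) (.leaf 876)) (.node (.leaf 389) (.leaf 1586))) (.node (.node (.leaf 924) (.leaf 1039)) (.node (.leaf 792) (.leaf 2028)))) (.node (.node (.node (.node (.leaf 143) (.leaf 1092)) (.leaf 1888)) (.node (.leaf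 428) (.leaf 1794))) (.node (.node (.leaf 988) (.leaf 667)) (.node (.leaf 1573) (.leaf 1696))))) (.node (.node (.node (.node (.node (.leaf 90) (.leaf 1131)) (.leaf 2122)) (.node (.leaf 409) (.leaf 708))) (.node (.node (.leaf 275) (.leaf 643)) (.node (.leaf 956) (.leaf 1995)))) (.node (.node (.node (.leaf 1484) (.leaf 873)) (.node (.leaf 460) (.leaf 2063))) (.node (.node (.leaf 1587) (.leaf 1645)) (.node (.leaf 1353) (.leaf 1979)))))))

def threeRank6 : Janko.Tree (ℕ) :=
  (.node (.node (.node (.node (.node (.node (.node (.leaf 6) (.leaf 726)) (.leaf 591)) (.node (.leaf 945) (.leaf 1990))) (.node (.node (.leaf 208) (.leaf 1547)) (.node (.leaf 1206) (.leaf 2000)))) (.node (.node (.node (.node (.leaf 118) (.leaf 1634)) (.leaf 2145)) (.node (.leaf 1915) (.leaf 2040))) (.node (.node (.leaf 299) (.leaf 1534)) (.node (.leaf 550) (.leaf 1343))))) (.node (.node (.node (.node (.node (.leaf 64) (.leaf 1925)) (.leaf 602)) (.node (.leaf 1922) (.leaf 1003))) (.node (.node (.leaf 890) (.leaf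 630)) (.node (.leaf 882) (.leaf 1129)))) (.node (.node (.node (.leaf 167) (.leaf 774)) (.node (.leaf 440) (.leaf 2101))) (.node (.node (.leaf 337) (.leaf 1718)) (.node (.leaf 1658) (.leaf 740)))))) (.node (.node (.node (.node (.node (.node (.leaf 916) (.leaf 1762)) (.leaf 597)) (.node (.leaf 390) (.leaf 1260))) (.node (.node (.leaf 227) (.leaf 616)) (.node (.leaf 500) (.leaf 1636)))) (.node (.node (.node (.node (.leaf 144) (.leaf 1231)) (.leaf 954)) (.node (.leaf 1301) (.leaf 2148))) (.node (.node (.leaf 1629) (.leaf 668)) (.node (.leaf 564) (.leaf 1076))))) (.node (.node (.node (.node (.node (.leaf 1569) (.leaf 2121)) (.leaf 1946)) (.node (.leaf 1205) (.leaf 2210))) (.node (.node (.leaf 276) (.leaf 1950)) (.node (.leaf 532) (.leaf 2041)))) (.node (.node (.node (.leaf 831) (.leaf 1444)) (.node (.leaf 461) (.leaf 1813))) (.node (.node (.leaf 357) (.leaf 687)) (.node (.leaf 2176) (.leaf 2045)))))))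

def threeRank7 : Janko.Tree (ℕ) :=
  (.node (.node (.node (.node (.node (.node (.node (.leaf 7) (.leaf 1427)) (.leaf 1332)) (.node (.leaf 1453) (.leaf 759))) (.node (.node (.leaf 209) (.leaf 2174)) (.node (.leaf 481) (.leaf 2171)))) (.node (.node (.node (.node (.leaf 119) (.leaf 2128)) (.leaf 2193)) (.node (.leaf 419) (.leaf 2026))) (.node (.node (.leaf 300) (.leaf 1128)) (.node (.leaf 551) (.leaf 1366))))) (.node (.node (.node (.node (.node (.leaf 65) (.leaf 1895)) (.leaf 1747)) (.node (.leaf 1919) (.leaf 1447))) (.node (.node (.leaf 1216) (.leaf 768)) (.node (.leaf 517) (.leaf 1239)))) (.node (.node (.node (.leaf 168) (.leaf 610)) (.node (.leaf 441) (.leaf 751))) (.node (.node (.leaf 338) (.leaf 1632)) (.node (.leaf 572) (.leaf 2139)))))) (.node (.node (.node (.node (.node (.node (.leaf 37) (.leaf 1855)) (.leaf 2133)) (.node (.leaf 1166) (.leaf 1542))) (.node (.node (.leaf 228) (.leaf 617)) (.node (.leaf 501) (.leaf 1978)))) (.node (.node (.node (.node (.leaf 145) (.leaf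 1500)) (.leaf 1583)) (.node (.leaf 1156) (.leaf 1510))) (.node (.node (.leaf 1000) (.leaf 1324)) (.node (.leaf 565) (.leaf 2146))))) (.node (.node (.node (.node (.node (.leaf 818) (.leaf 1987)) (.leaf 2082)) (.node (.leaf 410) (.leaf 1619))) (.node (.node (.leaf 277) (.leaf 1272)) (.node (.leaf 533) (.leaf 2236)))) (.node (.node (.node (.leaf 191) (.leaf 2225)) (.node (.leaf 462) (.leaf 1646))) (.node (.node (.leaf 358) (.leaf 2159)) (.node (.leaf 579) (.leaf 1614)))))))

def threeRank8 : Janko.Tree (ℕ) :=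
  (.node (.node (.node (.node (.node (.node (.node (.leaf 8) (.leaf 2127)) (.leaf 1748)) (.node (.leaf 804) (.leaf 695))) (.node (.node (.leaf 210) (.leaf 1861)) (.node (.leaf 482) (.leaf 1185)))) (.node (.node (.node (.node (.leaf 120) (.leaf 2071)) (.leaf 2230)) (.node (.leaf 420) (.leaf 2015))) (.node (.node (.leaf 301) (.leaf 657)) (.node (.leaf 788) (.leaf 1756))))) (.node (.node (.node (.node (.node (.leaf 66) (.leaf 1001)) (.leaf 1392)) (.node (.leaf 401) (.leaf 1719))) (.node (.node (.leaf 250) (.leaf 1390)) (.node (.leaf 518) (.leaf 1449)))) (.node (.node (.node (.leaf 1529) (.leaf 2237)) (.node (.leaf 795) (.leaf 1520))) (.node (.node (.leaf 339) (.leaf 683)) (.node (.leaf 573) (.leaf 1829)))))) (.node (.node (.node (.node (.node (.node (.leaf 38) (.leaf 1648)) (.leaf 1295)) (.node (.leaf 1083) (.leaf 702))) (.node (.node (.leaf 229) (.leaf 1137)) (.node (.leaf 966) (.leaf 1981)))) (.node (.node (.node (.node (.leaf 927) (.leaf 1236)) (.leaf 1372)) (.node (.leaf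 429) (.leaf 2190))) (.node (.node (.leaf 321) (.leaf 1988)) (.node (.leaf 1624) (.leaf 1591))))) (.node (.node (.node (.node (.node (.leaf 91) (.leaf 1743)) (.leaf 829)) (.node (.leaf 799) (.leaf 1610))) (.node (.node (.leaf 958) (.leaf 1385)) (.node (.leaf 534) (.leaf 2170)))) (.node (.node (.node (.leaf 192) (.leaf 1302)) (.node (.leaf 1694) (.leaf 1304))) (.node (.node (.leaf 1677) (.leaf 824)) (.node (.leaf 580) (.leaf 1837)))))))

def threeRank9 : Janko.Tree (ℕ) :=
  (.node (.node (.node (.node (.node (.node (.node (.leaf 9) (.leaf 1348)) (.leaf 1369)) (.node (.leaf 1733) (.leaf 983))) (.node (.node (.leaf 991) (.leaf 1141)) (.node (.leaf 483) (.leaf 1415)))) (.node (.node (.node (.node (.leaf 892) (.leaf 1682)) (.leaf 1461)) (.node (.leaf 2172) (.leaf 709))) (.node (.node (.leaf 1011) (.leaf 1515)) (.node (.leaf 552) (.leaf 2001))))) (.node (.node (.node (.node (.node (.leaf 67) (.leaf 1903)) (.leaf 1073)) (.node (.leaf 1768) (.leaf 1391))) (.node (.node (.leaf 251)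 (.leaf 1072)) (.node (.leaf 519) (.leaf 1439)))) (.node (.node (.node (.leaf 169) (.leaf 2178)) (.node (.leaf 442) (.leaf 1048))) (.node (.node (.leaf 1468) (.leaf 1326)) (.node (.leaf 827) (.leaf 1541)))))) (.node (.node (.node (.node (.node (.node (.leaf 39) (.leaf 1386)) (.leaf 1249)) (.node (.leaf 2200) (.leaf 1435))) (.node (.node (.leaf 1055) (.leaf 1455)) (.node (.leaf 1483) (.leaf 2115)))) (.node (.node (.node (.node (.leaf 146) (.leaf 1192)) (.leaf 2108)) (.node (.leaf 1031) (.leaf 2215))) (.node (.node (.leaf 322) (.leaf 905)) (.node (.leaf 1230) (.leaf 1174))))) (.node (.node (.node (.node (.node (.leaf 92) (.leaf 1745)) (.leaf 2222)) (.node (.leaf 1514) (.leaf 1828))) (.node (.node (.leaf 278) (.leaf 1283)) (.node (.leaf 1160) (.leaf 1601)))) (.node (.node (.node (.leaf 193) (.leaf 1286)) (.node (.leaf 794) (.leaf 1605))) (.node (.node (.leaf 359) (.leaf 1127)) (.node (.leaf 581) (.leaf 1908)))))))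

def threeRank10 : Janko.Tree (ℕ) :=
  (.node (.node (.node (.node (.node (.node (.node (.leaf 10) (.leaf 1045)) (.leaf 1750)) (.node (.leaf 1474) (.leaf 696))) (.node (.node (.leaf 211) (.leaf 1958)) (.node (.leaf 484) (.leaf 1589)))) (.node (.node (.node (.node (.leaf 1134) (.leaf 1215)) (.leaf 1932)) (.node (.leaf 1273) (.leaf 1792))) (.node (.node (.leaf 302) (.leaf 1637)) (.node (.leaf 553) (.leaf 1499))))) (.node (.node (.node (.node (.node (.leaf 68) (.leaf 1901)) (.leaf 2089)) (.node (.leaf 950) (.leaf 1139))) (.node (.node (.leaf 860) (.leaf 631)) (.node (.leaf 520) (.leaf 1228)))) (.node (.node (.node (.leaf 170) (.leaf 1801)) (.node (.leaf 1133) (.leaf 2009))) (.node (.node (.leaf 340) (.leaf 1874)) (.node (.leaf 1251) (.leaf 868)))))) (.node (.node (.node (.node (.node (.node (.leaf 40) (.leaf 2164)) (.leaf 598)) (.node (.leaf 865) (.leaf 853))) (.node (.node (.leaf 812) (.leaf 1256)) (.node (.leaf 929) (.leaf 1693)))) (.node (.node (.node (.node (.leaf 921) (.leaf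 1125)) (.leaf 2149)) (.node (.leaf 1009) (.leaf 1138))) (.node (.node (.leaf 1528) (.leaf 669)) (.node (.leaf 1786) (.leaf 1984))))) (.node (.node (.node (.node (.node (.leaf 93) (.leaf 1458)) (.leaf 944)) (.node (.leaf 1317) (.leaf 1826))) (.node (.node (.leaf 845) (.leaf 984)) (.node (.leaf 535) (.leaf 1222)))) (.node (.node (.node (.leaf 843) (.leaf 2081)) (.node (.leaf 463) (.leaf 1580))) (.node (.node (.leaf 1815) (.leaf 906)) (.node (.leaf 1006) (.leaf 2152)))))))

def threeRank11 : Janko.Tree (ℕ) :=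
  (.node (.node (.node (.node (.node (.node (.node (.leaf 11) (.leaf 2168)) (.leaf 2058)) (.node (.leaf 372) (.leaf 1316))) (.node (.node (.leaf 1269) (.leaf 1524)) (.node (.leaf 485) (.leaf 1545)))) (.node (.node (.node (.node (.leaf 121) (.leaf 728)) (.leaf 952)) (.node (.leaf 1657) (.leaf 1713))) (.node (.node (.leaf 303) (.leaf 1229)) (.node (.leaf 1825) (.leaf 1944))))) (.node (.node (.node (.node (.node (.leaf 69) (.leaf 1820)) (.leaf 2199)) (.node (.leaf 1749) (.leaf 2224))) (.node (.node (.leaf 252) (.leaf 1597)) (.node (.leaf 1346) (.leaf 716)))) (.node (.node (.node (.leaf 171) (.leaf 1309)) (.node (.leaf 443) (.leaf 1266))) (.node (.node (.leaf 1238) (.leaf 1224)) (.node (.leaf 996) (.leaf 1494)))))) (.node (.node (.node (.node (.node (.node (.leaf 41) (.leaf 2140)) (.leaf 2173)) (.node (.leaf 391) (.leaf 1809))) (.node (.node (.leaf 230) (.leaf 1159)) (.node (.leaf 502) (.leaf 1349)))) (.node (.node (.node (.node (.leaf 147) (.leaf 1374)) (.leaf 1501)) (.node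 (.leaf 1095) (.leaf 1351))) (.node (.node (.leaf 323) (.leaf 670)) (.node (.leaf 2065) (.leaf 722))))) (.node (.node (.node (.node (.node (.leaf 94) (.leaf 732)) (.leaf 1497)) (.node (.leaf 1193) (.leaf 2187))) (.node (.node (.leaf 279) (.leaf 644)) (.node (.leaf 841) (.leaf 1695)))) (.node (.node (.node (.leaf 194) (.leaf 1284)) (.node (.leaf 1087) (.leaf 1464))) (.node (.node (.leaf 1234) (.leaf 1487)) (.node (.leaf 1633) (.leaf 2150)))))))

def threeRank12 : Janko.Tree (ℕ) :=
  (.node (.node (.node (.node (.node (.node (.node (.leaf 12) (.leaf 1602)) (.leaf 1294)) (.node (.leaf 373) (.leaf 1592))) (.node (.node (.leaf 1383) (.leaf 1303)) (.node (.leaf 1218) (.leaf 1847)))) (.node (.node (.node (.node (.leaf 122) (.leaf 729)) (.leaf 2043)) (.node (.leaf 421) (.leaf 2051))) (.node (.node (.leaf 304) (.leaf 2233)) (.node (.leaf 1450) (.leaf 1355))))) (.node (.node (.node (.node (.node (.leaf 70) (.leaf 896)) (.leaf 1531)) (.node (.leaf 1075) (.leaf 2074))) (.node (.node (.leaf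 253) (.leaf 2103)) (.node (.leaf 791) (.leaf 1241)))) (.node (.node (.node (.leaf 1731) (.leaf 1557)) (.node (.leaf 444) (.leaf 1261))) (.node (.node (.leaf 341) (.leaf 1516)) (.node (.leaf 1776) (.leaf 723)))))) (.node (.node (.node (.node (.node (.node (.leaf 42) (.leaf 1894)) (.leaf 856)) (.node (.leaf 392) (.leaf 1846))) (.node (.node (.leaf 1885) (.leaf 618)) (.node (.leaf 503) (.leaf 1175)))) (.node (.node (.node (.node (.leaf 148) (.leaf 1056)) (.leaf 1889)) (.node (.leaf 1091) (.leaf 2175))) (.node (.node (.leaf 1659) (.leaf 671)) (.node (.leaf 1791) (.leaf 1986))))) (.node (.node (.node (.node (.node (.leaf 971) (.leaf 1590)) (.leaf 606)) (.node (.leaf 411) (.leaf 1600))) (.node (.node (.leaf 280) (.leaf 1767)) (.node (.leaf 536) (.leaf 744)))) (.node (.node (.node (.leaf 947) (.leaf 1124)) (.node (.leaf 1270) (.leaf 1705))) (.node (.node (.leaf 1223) (.leaf 761)) (.node (.leaf 582) (.leaf 2130)))))))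

def threeRank13 : Janko.Tree (ℕ) :=
  (.node (.node (.node (.node (.node (.node (.node (.leaf 13) (.leaf 2053)) (.leaf 1262)) (.node (.leaf 943) (.leaf 1507))) (.node (.node (.leaf 212) (.leaf 1017)) (.node (.leaf 486) (.leaf 2126)))) (.node (.node (.node (.node (.leaf 862) (.leaf 821)) (.leaf 776)) (.node (.leaf 422) (.leaf 2144))) (.node (.node (.leaf 305) (.leaf 1012)) (.node (.leaf 1403) (.leaf 743))))) (.node (.node (.node (.node (.node (.leaf 71) (.leaf 1437)) (.leaf 2060)) (.node (.leaf 1434) (.leaf 2229))) (.node (.node (.leaf 254) (.leaf 632)) (.node (.leaf 521) (.leaf 1744)))) (.node (.node (.node (.leaf 172) (.leaf 1320)) (.node (.leaf 445) (.leaf 1967))) (.node (.node (.leaf 883) (.leaf 2137)) (.node (.leaf 785) (.leaf 1561)))))) (.node (.node (.node (.node (.node (.node (.leaf 922) (.leaf 1926)) (.leaf 1666)) (.node (.leaf 393) (.leaf 703))) (.node (.node (.leaf 231) (.leaf 1161)) (.node (.leaf 1375) (.leaf 1564)))) (.node (.node (.node (.node (.leaf 149) (.leaf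 1032)) (.leaf 1960)) (.node (.leaf 1742) (.leaf 2087))) (.node (.node (.leaf 324) (.leaf 849)) (.node (.leaf 2049) (.leaf 850))))) (.node (.node (.node (.node (.node (.leaf 95) (.leaf 2104)) (.leaf 1752)) (.node (.leaf 2123) (.leaf 2088))) (.node (.node (.leaf 281) (.leaf 1287)) (.node (.leaf 537) (.leaf 1968)))) (.node (.node (.node (.leaf 195) (.leaf 1518)) (.node (.leaf 464) (.leaf 1807))) (.node (.node (.leaf 360) (.leaf 1378)) (.node (.leaf 1732) (.leaf 738)))))))

def threeRank14 : Janko.Tree (ℕ) :=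
  (.node (.node (.node (.node (.node (.node (.node (.leaf 14) (.leaf 1997)) (.leaf 1698)) (.node (.leaf 374) (.leaf 1991))) (.node (.node (.leaf 959) (.leaf 1819)) (.node (.leaf 487) (.leaf 1897)))) (.node (.node (.node (.node (.leaf 123) (.leaf 822)) (.leaf 1640)) (.node (.leaf 423) (.leaf 753))) (.node (.node (.leaf 306) (.leaf 1530)) (.node (.leaf 554) (.leaf 1761))))) (.node (.node (.node (.node (.node (.leaf 72) (.leaf 1563)) (.leaf 779)) (.node (.leaf 994) (.leaf 2076))) (.node (.node (.leaf 255) (.leaf 633)) (.node (.leaf 1974) (.leaf 746)))) (.node (.node (.node (.leaf 173) (.leaf 854)) (.node (.leaf 446) (.leaf 1268))) (.node (.node (.leaf 342) (.leaf 762)) (.node (.leaf 2183) (.leaf 823)))))) (.node (.node (.node (.node (.node (.node (.leaf 43) (.leaf 1875)) (.leaf 1400)) (.node (.leaf 888) (.leaf 1368))) (.node (.node (.leaf 232) (.leaf 619)) (.node (.leaf 504) (.leaf 1359)))) (.node (.node (.node (.node (.leaf 1870) (.leaf 1030)) (.leaf 1962)) (.node (.leaf 430)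 (.leaf 1781))) (.node (.node (.leaf 325) (.leaf 1862)) (.node (.leaf 2153) (.leaf 1517))))) (.node (.node (.node (.node (.node (.leaf 96) (.leaf 731)) (.leaf 1599)) (.node (.leaf 2243) (.leaf 1227))) (.node (.node (.leaf 282) (.leaf 1364)) (.node (.leaf 538) (.leaf 1533)))) (.node (.node (.node (.leaf 196) (.leaf 962)) (.node (.leaf 465) (.leaf 2066))) (.node (.node (.leaf 1325) (.leaf 981)) (.node (.leaf 783) (.leaf 1650)))))))

def threeRank15 : Janko.Tree (ℕ) :=
  (.node (.node (.node (.node (.node (.node (.node (.leaf 15) (.leaf 969)) (.leaf 781)) (.node (.leaf 375) (.leaf 1710))) (.node (.node (.leaf 213) (.leaf 1787)) (.node (.leaf 1210) (.leaf 1217)))) (.node (.node (.node (.node (.leaf 124) (.leaf 848)) (.leaf 2002)) (.node (.leaf 424) (.leaf 1711))) (.node (.node (.leaf 307) (.leaf 658)) (.node (.leaf 555) (.leaf 1765))))) (.node (.node (.node (.node (.node (.leaf 73) (.leaf 2117)) (.leaf 1680)) (.node (.leaf 941) (.leaf 756))) (.node (.node (.leaf 256) (.leaf 1165))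 (.node (.leaf 522) (.leaf 1738)))) (.node (.node (.node (.leaf 174) (.leaf 2047)) (.node (.leaf 447) (.leaf 1751))) (.node (.node (.leaf 343) (.leaf 1688)) (.node (.leaf 574) (.leaf 1660)))))) (.node (.node (.node (.node (.node (.node (.leaf 44) (.leaf 2143)) (.leaf 599)) (.node (.leaf 394) (.leaf 1734))) (.node (.node (.leaf 233) (.leaf 620)) (.node (.leaf 2204) (.leaf 1035)))) (.node (.node (.node (.node (.leaf 816) (.leaf 1028)) (.leaf 609)) (.node (.leaf 976) (.leaf 2163))) (.node (.node (.leaf 326) (.leaf 672)) (.node (.leaf 786) (.leaf 2105))))) (.node (.node (.node (.node (.node (.leaf 97) (.leaf 2102)) (.leaf 777)) (.node (.leaf 1148) (.leaf 884))) (.node (.node (.leaf 283) (.leaf 1289)) (.node (.leaf 1142) (.leaf 1361)))) (.node (.node (.node (.leaf 197) (.leaf 1275)) (.node (.leaf 466) (.leaf 2113))) (.node (.node (.leaf 361) (.leaf 1522)) (.node (.leaf 1880) (.leaf 2084)))))))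

def threeRank16 : Janko.Tree (ℕ) :=
  (.node (.node (.node (.node (.node (.node (.node (.leaf 16) (.leaf 1945)) (.leaf 1678)) (.node (.leaf 376) (.leaf 1046))) (.node (.node (.leaf 1800) (.leaf 1873)) (.node (.leaf 488) (.leaf 1382)))) (.node (.node (.node (.node (.leaf 125) (.leaf 866)) (.leaf 1606)) (.node (.leaf 1089) (.leaf 2156))) (.node (.node (.leaf 308) (.leaf 659)) (.node (.leaf 1914) (.leaf 742))))) (.node (.node (.node (.node (.node (.leaf 74) (.leaf 1701)) (.leaf 1527)) (.node (.leaf 2109) (.leaf 1906))) (.node (.node (.leaf 257) (.leaf 634)) (.node (.leaf 523) (.leaf 1598)))) (.node (.node (.node (.leaf 175) (.leaf 1898)) (.node (.leaf 1019) (.leaf 2235))) (.node (.node (.leaf 1099) (.leaf 1425)) (.node (.leaf 575) (.leaf 902)))))) (.node (.node (.node (.node (.node (.node (.leaf 45) (.leaf 1172)) (.leaf 1672)) (.node (.leaf 939) (.leaf 2132))) (.node (.node (.leaf 234) (.leaf 621)) (.node (.leaf 1194) (.leaf 747)))) (.node (.node (.node (.node (.leaf 150) (.leaf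 1026)) (.leaf 863)) (.node (.leaf 431) (.leaf 1779))) (.node (.node (.leaf 1617) (.leaf 763)) (.node (.leaf 566) (.leaf 1797))))) (.node (.node (.node (.node (.node (.leaf 98) (.leaf 1410)) (.leaf 607)) (.node (.leaf 1100) (.leaf 1773))) (.node (.node (.leaf 1949) (.leaf 2007)) (.node (.leaf 1426) (.leaf 2036)))) (.node (.node (.node (.leaf 1607) (.leaf 1780)) (.node (.leaf 467) (.leaf 1665))) (.node (.node (.leaf 362) (.leaf 688)) (.node (.leaf 1153) (.leaf 2086)))))))

def threeRank17 : Janko.Tree (ℕ) :=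
  (.node (.node (.node (.node (.node (.node (.node (.leaf 17) (.leaf 736)) (.leaf 1264)) (.node (.leaf 377) (.leaf 1416))) (.node (.node (.leaf 214) (.leaf 771)) (.node (.leaf 489) (.leaf 1250)))) (.node (.node (.node (.node (.leaf 126) (.leaf 889)) (.leaf 2167)) (.node (.leaf 1281) (.leaf 1930))) (.node (.node (.leaf 309) (.leaf 1213)) (.node (.leaf 556) (.leaf 2238))))) (.node (.node (.node (.node (.node (.leaf 75) (.leaf 2203)) (.leaf 949)) (.node (.leaf 1963) (.leaf 1697))) (.node (.node (.leaf 258) (.leaf 1252)) (.node (.leaf 524) (.leaf 717)))) (.node (.node (.node (.leaf 1036) (.leaf 1196)) (.node (.leaf 448) (.leaf 869))) (.node (.node (.leaf 344) (.leaf 1943)) (.node (.leaf 1280) (.leaf 1816)))))) (.node (.node (.node (.node (.node (.node (.leaf 46) (.leaf 1015)) (.leaf 1689)) (.node (.leaf 395) (.leaf 1867))) (.node (.node (.leaf 891) (.leaf 1067)) (.node (.leaf 1774) (.leaf 1109)))) (.node (.node (.node (.node (.leaf 151) (.leaf 1024)) (.leaf 1186)) (.node (.leaf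 1830) (.leaf 1293))) (.node (.node (.leaf 2050) (.leaf 673)) (.node (.leaf 1480) (.leaf 1509))))) (.node (.node (.node (.node (.node (.leaf 99) (.leaf 1486)) (.leaf 1493)) (.node (.leaf 1939) (.leaf 1130))) (.node (.node (.leaf 933) (.leaf 645)) (.node (.leaf 999) (.leaf 1808)))) (.node (.node (.node (.leaf 814) (.leaf 1278)) (.node (.leaf 468) (.leaf 2202))) (.node (.node (.leaf 1202) (.leaf 1504)) (.node (.leaf 1937) (.leaf 2240)))))))

def threeRank18 : Janko.Tree (ℕ) :=
  (.node (.node (.node (.node (.node (.node (.node (.leaf 18) (.leaf 727)) (.leaf 1311)) (.node (.leaf 378) (.leaf 1357))) (.node (.node (.leaf 1964) (.leaf 1827)) (.node (.leaf 490) (.leaf 1934)))) (.node (.node (.node (.node (.leaf 127) (.leaf 935)) (.leaf 911)) (.node (.leaf 1824) (.leaf 2046))) (.node (.node (.leaf 310) (.leaf 660)) (.node (.leaf 1237) (.leaf 1456))))) (.node (.node (.node (.node (.node (.leaf 76) (.leaf 2095)) (.leaf 1999)) (.node (.leaf 402) (.leaf 705))) (.node (.node (.leaf 259)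 (.leaf 1190)) (.node (.leaf 525) (.leaf 1631)))) (.node (.node (.node (.leaf 1116) (.leaf 1683)) (.node (.leaf 1184) (.leaf 2042))) (.node (.node (.leaf 345) (.leaf 684)) (.node (.leaf 1877) (.leaf 739)))))) (.node (.node (.node (.node (.node (.node (.leaf 47) (.leaf 2034)) (.leaf 2182)) (.node (.leaf 1868) (.leaf 2134))) (.node (.node (.leaf 235) (.leaf 1460)) (.node (.leaf 505) (.leaf 1029)))) (.node (.node (.node (.node (.leaf 152) (.leaf 1020)) (.leaf 910)) (.node (.leaf 432) (.leaf 1676))) (.node (.node (.leaf 1197) (.leaf 674)) (.node (.leaf 2219) (.leaf 1511))))) (.node (.node (.node (.node (.node (.leaf 100) (.leaf 2008)) (.leaf 1735)) (.node (.leaf 1333) (.leaf 1240))) (.node (.node (.leaf 284) (.leaf 646)) (.node (.leaf 1869) (.leaf 1254)))) (.node (.node (.node (.leaf 198) (.leaf 1653)) (.node (.leaf 469) (.leaf 1663))) (.node (.node (.leaf 363) (.leaf 760)) (.node (.leaf 583) (.leaf 2068)))))))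

def threeRank19 : Janko.Tree (ℕ) :=
  (.node (.node (.node (.node (.node (.node (.node (.leaf 19) (.leaf 1323)) (.leaf 592)) (.node (.leaf 379) (.leaf 1169))) (.node (.node (.leaf 215) (.leaf 1170)) (.node (.leaf 1380) (.leaf 2158)))) (.node (.node (.node (.node (.leaf 128) (.leaf 900)) (.leaf 1717)) (.node (.leaf 1279) (.leaf 2119))) (.node (.node (.leaf 311) (.leaf 838)) (.node (.leaf 1094) (.leaf 1430))))) (.node (.node (.node (.node (.node (.leaf 77) (.leaf 2013)) (.leaf 1394)) (.node (.leaf 1582) (.leaf 1896))) (.node (.node (.leaf 260) (.leaf 1831)) (.node (.leaf 1843) (.leaf 1027)))) (.node (.node (.node (.leaf 176) (.leaf 1951)) (.node (.leaf 857) (.leaf 2044))) (.node (.node (.leaf 346) (.leaf 1409)) (.node (.leaf 784) (.leaf 724)))))) (.node (.node (.node (.node (.node (.node (.leaf 48) (.leaf 1639)) (.leaf 1566)) (.node (.leaf 396) (.leaf 1661))) (.node (.node (.leaf 236) (.leaf 1093)) (.node (.leaf 979) (.leaf 1720)))) (.node (.node (.node (.node (.leaf 153)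 (.leaf 1040)) (.leaf 1924)) (.node (.leaf 2135) (.leaf 2198))) (.node (.node (.leaf 1753) (.leaf 2154)) (.node (.leaf 567) (.leaf 899))))) (.node (.node (.node (.node (.node (.leaf 101) (.leaf 1835)) (.leaf 1965)) (.node (.leaf 1152) (.leaf 1370))) (.node (.node (.leaf 285) (.leaf 1282)) (.node (.leaf 789) (.leaf 1535)))) (.node (.node (.node (.leaf 199) (.leaf 772)) (.node (.leaf 1630) (.leaf 1737))) (.node (.node (.leaf 1491) (.leaf 1401)) (.node (.leaf 584) (.leaf 1935)))))))

def threeRank20 : Janko.Tree (ℕ) :=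
  (.node (.node (.node (.node (.node (.node (.node (.leaf 20) (.leaf 1857)) (.leaf 1023)) (.node (.leaf 1163) (.leaf 697))) (.node (.node (.leaf 2195) (.leaf 2191)) (.node (.leaf 491) (.leaf 1418)))) (.node (.node (.node (.node (.leaf 129) (.leaf 915)) (.leaf 864)) (.node (.leaf 1285) (.leaf 1823))) (.node (.node (.leaf 1132) (.leaf 661)) (.node (.leaf 1612) (.leaf 2005))))) (.node (.node (.node (.node (.node (.leaf 78) (.leaf 2064)) (.leaf 603)) (.node (.leaf 403) (.leaf 2085))) (.node (.node (.leaf 261) (.leaf 635)) (.node (.leaf 526) (.leaf 1998)))) (.node (.node (.node (.leaf 177) (.leaf 1319)) (.node (.leaf 449) (.leaf 1265))) (.node (.node (.leaf 832) (.leaf 1013)) (.node (.leaf 1562) (.leaf 1407)))))) (.node (.node (.node (.node (.node (.node (.leaf 819) (.leaf 1552)) (.leaf 1472)) (.node (.leaf 1910) (.leaf 758))) (.node (.node (.leaf 237) (.leaf 1469)) (.node (.leaf 506) (.leaf 1245)))) (.node (.node (.node (.node (.leaf 972) (.leaf 1034)) (.leaf 1973)) (.node (.leaf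 1832) (.leaf 2141))) (.node (.node (.leaf 807) (.leaf 2228)) (.node (.leaf 1923) (.leaf 1462))))) (.node (.node (.node (.node (.node (.leaf 102) (.leaf 730)) (.leaf 2239)) (.node (.leaf 412) (.leaf 1423))) (.node (.node (.leaf 286) (.leaf 647)) (.node (.leaf 1505) (.leaf 2138)))) (.node (.node (.node (.leaf 881) (.leaf 1687)) (.node (.leaf 901) (.leaf 1584))) (.node (.node (.leaf 1503) (.leaf 1318)) (.node (.leaf 1466) (.leaf 725)))))))

def threeRank21 : Janko.Tree (ℕ) :=
  (.node (.node (.node (.node (.node (.node (.node (.leaf 21) (.leaf 1321)) (.leaf 859)) (.node (.leaf 2241) (.leaf 1258))) (.node (.node (.leaf 216) (.leaf 611)) (.node (.leaf 492) (.leaf 748)))) (.node (.node (.node (.node (.leaf 130) (.leaf 898)) (.leaf 2079)) (.node (.leaf 425) (.leaf 1821))) (.node (.node (.leaf 1097) (.leaf 662)) (.node (.leaf 1616) (.leaf 2209))))) (.node (.node (.node (.node (.node (.leaf 79) (.leaf 1635)) (.leaf 1079)) (.node (.leaf 1706) (.leaf 1537))) (.node (.node (.leaf 262)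 (.leaf 1120)) (.node (.leaf 790) (.leaf 1338)))) (.node (.node (.node (.leaf 178) (.leaf 1618)) (.node (.leaf 450) (.leaf 1335))) (.node (.node (.leaf 347) (.leaf 1691)) (.node (.leaf 1288) (.leaf 1671)))))) (.node (.node (.node (.node (.node (.node (.leaf 49) (.leaf 734)) (.leaf 1928)) (.node (.leaf 802) (.leaf 1936))) (.node (.node (.leaf 975) (.leaf 622)) (.node (.leaf 1404) (.leaf 1051)))) (.node (.node (.node (.node (.leaf 154) (.leaf 1059)) (.leaf 2242)) (.node (.leaf 1178) (.leaf 1721))) (.node (.node (.leaf 327) (.leaf 1766)) (.node (.leaf 1004) (.leaf 836))))) (.node (.node (.node (.node (.node (.leaf 103) (.leaf 1638)) (.leaf 1625)) (.node (.leaf 413) (.leaf 1567))) (.node (.node (.leaf 809) (.leaf 1123)) (.node (.leaf 1817) (.leaf 2136)))) (.node (.node (.node (.leaf 1788) (.leaf 2010)) (.node (.leaf 1628) (.leaf 1259))) (.node (.node (.leaf 1714) (.leaf 1555)) (.node (.leaf 1339) (.leaf 2226)))))))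

def threeRank22 : Janko.Tree (ℕ) :=
  (.node (.node (.node (.node (.node (.node (.node (.leaf 22) (.leaf 1201)) (.leaf 1211)) (.node (.leaf 938) (.leaf 2185))) (.node (.node (.leaf 217) (.leaf 1803)) (.node (.leaf 493) (.leaf 1540)))) (.node (.node (.node (.node (.leaf 131) (.leaf 908)) (.leaf 1845)) (.node (.leaf 960) (.leaf 1883))) (.node (.node (.leaf 1806) (.leaf 1860)) (.node (.leaf 557) (.leaf 2211))))) (.node (.node (.node (.node (.node (.leaf 80) (.leaf 2192)) (.leaf 1927)) (.node (.leaf 1420) (.leaf 871))) (.node (.node (.leaf 263) (.leaf 636)) (.node (.leaf 1917) (.leaf 973)))) (.node (.node (.node (.leaf 179) (.leaf 1199)) (.node (.leaf 1074) (.leaf 2054))) (.node (.node (.leaf 920) (.leaf 1050)) (.node (.leaf 1085) (.leaf 1405)))))) (.node (.node (.node (.node (.node (.node (.leaf 50) (.leaf 1916)) (.leaf 780)) (.node (.leaf 1938) (.leaf 897))) (.node (.node (.leaf 238) (.leaf 986)) (.node (.leaf 507) (.leaf 1684)))) (.node (.node (.node (.node (.leaf 155) (.leaf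 1044)) (.leaf 2208)) (.node (.leaf 433) (.leaf 934))) (.node (.node (.leaf 328) (.leaf 675)) (.node (.leaf 1621) (.leaf 1243))))) (.node (.node (.node (.node (.node (.leaf 104) (.leaf 1354)) (.leaf 2022)) (.node (.leaf 1340) (.leaf 1565))) (.node (.node (.leaf 287) (.leaf 648)) (.node (.leaf 539) (.leaf 2232)))) (.node (.node (.node (.leaf 946) (.leaf 1290)) (.node (.leaf 470) (.leaf 1016))) (.node (.node (.leaf 1770) (.leaf 689)) (.node (.leaf 1644) (.leaf 737)))))))

def threeRank23 : Janko.Tree (ℕ) :=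
  (.node (.node (.node (.node (.node (.node (.node (.leaf 23) (.leaf 2118)) (.leaf 1157)) (.node (.leaf 380) (.leaf 698))) (.node (.node (.leaf 218) (.leaf 1805)) (.node (.leaf 1070) (.leaf 1470)))) (.node (.node (.node (.node (.leaf 132) (.leaf 895)) (.leaf 608)) (.node (.leaf 2157) (.leaf 1588))) (.node (.node (.leaf 828) (.leaf 1244)) (.node (.leaf 558) (.leaf 1168))))) (.node (.node (.node (.node (.node (.leaf 81) (.leaf 2217)) (.leaf 1740)) (.node (.leaf 1953) (.leaf 1814))) (.node (.node (.leaf 264) (.leaf 1187)) (.node (.leaf 527) (.leaf 718)))) (.node (.node (.node (.leaf 180) (.leaf 2213)) (.node (.leaf 451) (.leaf 1337))) (.node (.node (.leaf 348) (.leaf 1571)) (.node (.leaf 576) (.leaf 1232)))))) (.node (.node (.node (.node (.node (.node (.leaf 51) (.leaf 1263)) (.leaf 2014)) (.node (.leaf 397) (.leaf 1475))) (.node (.node (.leaf 978) (.leaf 1143)) (.node (.leaf 1668) (.leaf 1214)))) (.node (.node (.node (.node (.leaf 156) (.leaf 1042)) (.leaf 1980)) (.node (.leaf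 1078) (.leaf 1532))) (.node (.node (.leaf 329) (.leaf 676)) (.node (.leaf 1158) (.leaf 1519))))) (.node (.node (.node (.node (.node (.leaf 105) (.leaf 1811)) (.leaf 1577)) (.node (.leaf 1802) (.leaf 1854))) (.node (.node (.leaf 288) (.leaf 649)) (.node (.leaf 540) (.leaf 2166)))) (.node (.node (.node (.leaf 200) (.leaf 1670)) (.node (.leaf 471) (.leaf 1495))) (.node (.node (.leaf 364) (.leaf 690)) (.node (.leaf 585) (.leaf 1652)))))))

def threeRank24 : Janko.Tree (ℕ) :=
  (.node (.node (.node (.node (.node (.node (.node (.leaf 24) (.leaf 982)) (.leaf 1848)) (.node (.leaf 381) (.leaf 989))) (.node (.node (.leaf 1581) (.leaf 1454)) (.node (.leaf 1064) (.leaf 1459)))) (.node (.node (.node (.node (.leaf 133) (.leaf 893)) (.leaf 1419)) (.node (.leaf 797) (.leaf 1014))) (.node (.node (.leaf 312) (.leaf 1393)) (.node (.leaf 559) (.leaf 1812))))) (.node (.node (.node (.node (.node (.leaf 82) (.leaf 1681)) (.leaf 2142)) (.node (.leaf 404) (.leaf 706))) (.node (.node (.leaf 265) (.leaf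 637)) (.node (.leaf 528) (.leaf 2106)))) (.node (.node (.node (.leaf 957) (.leaf 773)) (.node (.leaf 1112) (.leaf 1147))) (.node (.node (.leaf 349) (.leaf 968)) (.node (.leaf 2112) (.leaf 1398)))))) (.node (.node (.node (.node (.node (.node (.leaf 52) (.leaf 1593)) (.leaf 942)) (.node (.leaf 874) (.leaf 839))) (.node (.node (.leaf 239) (.leaf 623)) (.node (.leaf 508) (.leaf 1041)))) (.node (.node (.node (.node (.leaf 157) (.leaf 931)) (.leaf 1114)) (.node (.leaf 1852) (.leaf 752))) (.node (.node (.leaf 330) (.leaf 2162)) (.node (.leaf 1485) (.leaf 1722))))) (.node (.node (.node (.node (.node (.leaf 917) (.leaf 1726)) (.leaf 1445)) (.node (.leaf 1145) (.leaf 1686))) (.node (.node (.leaf 289) (.leaf 650)) (.node (.leaf 997) (.leaf 720)))) (.node (.node (.node (.leaf 201) (.leaf 2035)) (.node (.leaf 793) (.leaf 1651))) (.node (.node (.leaf 1219) (.leaf 1985)) (.node (.leaf 586) (.leaf 1675)))))))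

def threeRank25 : Janko.Tree (ℕ) :=
  (.node (.node (.node (.node (.node (.node (.node (.leaf 820) (.leaf 1314)) (.leaf 593)) (.node (.leaf 382) (.leaf 699))) (.node (.node (.leaf 219) (.leaf 1176)) (.node (.leaf 1724) (.leaf 951)))) (.node (.node (.node (.node (.leaf 134) (.leaf 903)) (.leaf 1879)) (.node (.leaf 426) (.leaf 1433))) (.node (.node (.leaf 313) (.leaf 894)) (.node (.leaf 885) (.leaf 1690))))) (.node (.node (.node (.node (.node (.leaf 1077) (.leaf 1578)) (.leaf 1955)) (.node (.leaf 1890) (.leaf 1900))) (.node (.node (.leaf 266) (.leaf 1863)) (.node (.leaf 1789) (.leaf 1818)))) (.node (.node (.node (.leaf 181) (.leaf 1553)) (.node (.leaf 452) (.leaf 1699))) (.node (.node (.leaf 350) (.leaf 2110)) (.node (.leaf 1798) (.leaf 1712)))))) (.node (.node (.node (.node (.node (.node (.leaf 53) (.leaf 1970)) (.leaf 1424)) (.node (.leaf 1772) (.leaf 1188))) (.node (.node (.leaf 240) (.leaf 1096)) (.node (.leaf 1942) (.leaf 713)))) (.node (.node (.node (.node (.leaf 158)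 (.leaf 1052)) (.leaf 1053)) (.node (.leaf 2021) (.leaf 711))) (.node (.node (.leaf 331) (.leaf 677)) (.node (.leaf 990) (.leaf 1834))))) (.node (.node (.node (.node (.node (.leaf 106) (.leaf 1729)) (.leaf 1257)) (.node (.leaf 414) (.leaf 2093))) (.node (.node (.leaf 1463) (.leaf 1344)) (.node (.leaf 541) (.leaf 1833)))) (.node (.node (.node (.leaf 1736) (.leaf 2029)) (.node (.leaf 1539) (.leaf 1746))) (.node (.node (.leaf 1451) (.leaf 1312)) (.node (.leaf 587) (.leaf 2057)))))))

def threeRank26 : Janko.Tree (ℕ) :=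
  (.node (.node (.node (.node (.node (.node (.node (.leaf 25) (.leaf 1844)) (.leaf 993)) (.node (.leaf 855) (.leaf 2125))) (.node (.node (.leaf 912) (.leaf 1414)) (.node (.leaf 825) (.leaf 1902)))) (.node (.node (.node (.node (.leaf 135) (.leaf 1018)) (.leaf 1723)) (.node (.leaf 963) (.leaf 1467))) (.node (.node (.leaf 314) (.leaf 1839)) (.node (.leaf 560) (.leaf 2052))))) (.node (.node (.node (.node (.node (.leaf 925) (.leaf 1162)) (.leaf 778)) (.node (.leaf 405) (.leaf 1769))) (.node (.node (.leaf 267) (.leaf 1118)) (.node (.leaf 529) (.leaf 719)))) (.node (.node (.node (.leaf 182) (.leaf 1043)) (.node (.leaf 453) (.leaf 1007))) (.node (.node (.leaf 1352) (.leaf 1954)) (.node (.leaf 1200) (.leaf 1525)))))) (.node (.node (.node (.node (.node (.node (.leaf 54) (.leaf 1972)) (.leaf 842)) (.node (.leaf 1377) (.leaf 1554))) (.node (.node (.leaf 241) (.leaf 624)) (.node (.leaf 509) (.leaf 1328)))) (.node (.node (.node (.node (.leaf 159) (.leaf 1371)) (.leaf 2039)) (.node (.leaf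 880) (.leaf 1851))) (.node (.node (.leaf 992) (.leaf 1057)) (.node (.leaf 932) (.leaf 741))))) (.node (.node (.node (.node (.node (.leaf 107) (.leaf 1754)) (.leaf 887)) (.node (.leaf 1054) (.leaf 2129))) (.node (.node (.leaf 290) (.leaf 766)) (.node (.leaf 542) (.leaf 1795)))) (.node (.node (.node (.leaf 202) (.leaf 1989)) (.node (.leaf 472) (.leaf 749))) (.node (.node (.leaf 919) (.leaf 1512)) (.node (.leaf 588) (.leaf 1784)))))))

def threeRank27 : Janko.Tree (ℕ) :=
  (.node (.node (.node (.node (.node (.node (.node (.leaf 26) (.leaf 1810)) (.leaf 594)) (.node (.leaf 383) (.leaf 700))) (.node (.node (.leaf 220) (.leaf 1347)) (.node (.leaf 1760) (.leaf 1969)))) (.node (.node (.node (.node (.leaf 136) (.leaf 1246)) (.leaf 1971)) (.node (.leaf 427) (.leaf 1777))) (.node (.node (.leaf 840) (.leaf 764)) (.node (.leaf 937) (.leaf 1025))))) (.node (.node (.node (.node (.node (.leaf 83) (.leaf 1305)) (.leaf 1822)) (.node (.leaf 1799) (.leaf 1952))) (.node (.node (.leaf 268) (.leaf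 1084)) (.node (.leaf 1478) (.leaf 1101)))) (.node (.node (.node (.leaf 183) (.leaf 923)) (.node (.leaf 454) (.leaf 1341))) (.node (.node (.leaf 806) (.leaf 2024)) (.node (.leaf 1204) (.leaf 2231)))))) (.node (.node (.node (.node (.node (.node (.leaf 55) (.leaf 1838)) (.leaf 1771)) (.node (.leaf 398) (.leaf 704))) (.node (.node (.leaf 242) (.leaf 625)) (.node (.leaf 510) (.leaf 2075)))) (.node (.node (.node (.node (.leaf 160) (.leaf 1062)) (.leaf 1436)) (.node (.leaf 434) (.leaf 2207))) (.node (.node (.leaf 332) (.leaf 1758)) (.node (.leaf 1947) (.leaf 2059))))) (.node (.node (.node (.node (.node (.leaf 108) (.leaf 1941)) (.leaf 1523)) (.node (.leaf 2062) (.leaf 2100))) (.node (.node (.leaf 291) (.leaf 651)) (.node (.leaf 543) (.leaf 1728)))) (.node (.node (.node (.leaf 1422) (.leaf 1622)) (.node (.leaf 473) (.leaf 1397))) (.node (.node (.leaf 365) (.leaf 691)) (.node (.leaf 1155) (.leaf 1961)))))))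

def threeRank28 : Janko.Tree (ℕ) :=
  (.node (.node (.node (.node (.node (.node (.node (.leaf 27) (.leaf 2180)) (.leaf 2201)) (.node (.leaf 384) (.leaf 1836))) (.node (.node (.leaf 886) (.leaf 1021)) (.node (.leaf 494) (.leaf 1594)))) (.node (.node (.node (.node (.leaf 137) (.leaf 1102)) (.leaf 775)) (.node (.leaf 1276) (.leaf 1655))) (.node (.node (.leaf 315) (.leaf 1431)) (.node (.leaf 561) (.leaf 1881))))) (.node (.node (.node (.node (.node (.leaf 835) (.leaf 1649)) (.leaf 1551)) (.node (.leaf 406) (.leaf 2111))) (.node (.node (.leaf 269) (.leaf 638)) (.node (.leaf 1255) (.leaf 1150)))) (.node (.node (.node (.leaf 184) (.leaf 1098)) (.node (.leaf 1189) (.leaf 2072))) (.node (.node (.leaf 351) (.leaf 1345)) (.node (.leaf 1707) (.leaf 1104)))))) (.node (.node (.node (.node (.node (.node (.leaf 56) (.leaf 1267)) (.leaf 1966)) (.node (.leaf 399) (.leaf 1623))) (.node (.node (.leaf 811) (.leaf 1334)) (.node (.leaf 511) (.leaf 714)))) (.node (.node (.node (.node (.leaf 2055)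 (.leaf 1022)) (.leaf 1856)) (.node (.leaf 2020) (.leaf 1849))) (.node (.node (.leaf 1329) (.leaf 678)) (.node (.leaf 2077) (.leaf 1479))))) (.node (.node (.node (.node (.node (.leaf 109) (.leaf 2031)) (.leaf 1253)) (.node (.leaf 415) (.leaf 1959))) (.node (.node (.leaf 292) (.leaf 1171)) (.node (.leaf 544) (.leaf 721)))) (.node (.node (.node (.leaf 203) (.leaf 1360)) (.node (.leaf 1576) (.leaf 1300))) (.node (.node (.leaf 366) (.leaf 692)) (.node (.leaf 1149) (.leaf 1907)))))))

def threeRank29 : Janko.Tree (ℕ) :=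
  (.node (.node (.node (.node (.node (.node (.node (.leaf 28) (.leaf 735)) (.leaf 595)) (.node (.leaf 803) (.leaf 1892))) (.node (.node (.leaf 221) (.leaf 612)) (.node (.leaf 495) (.leaf 953)))) (.node (.node (.node (.node (.leaf 138) (.leaf 1115)) (.leaf 2186)) (.node (.leaf 2189) (.leaf 1704))) (.node (.node (.leaf 995) (.leaf 1477)) (.node (.leaf 1585) (.leaf 2147))))) (.node (.node (.node (.node (.node (.leaf 84) (.leaf 1307)) (.leaf 604)) (.node (.leaf 407) (.leaf 826))) (.node (.node (.leaf 270) (.leaf 1082)) (.node (.leaf 530) (.leaf 1703)))) (.node (.node (.node (.leaf 185) (.leaf 1291)) (.node (.leaf 455) (.leaf 1667))) (.node (.node (.leaf 1685) (.leaf 1412)) (.node (.leaf 1195) (.leaf 878)))))) (.node (.node (.node (.node (.node (.node (.leaf 57) (.leaf 1755)) (.leaf 1796)) (.node (.leaf 2037) (.leaf 2083))) (.node (.node (.leaf 243) (.leaf 1887)) (.node (.leaf 1489) (.leaf 985)))) (.node (.node (.node (.node (.leaf 940) (.leaf 1069)) (.leaf 2114)) (.node (.leaf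 1173) (.leaf 1167))) (.node (.node (.leaf 1864) (.leaf 679)) (.node (.leaf 568) (.leaf 1010))))) (.node (.node (.node (.node (.node (.leaf 110) (.leaf 1904)) (.leaf 1191)) (.node (.leaf 416) (.leaf 1957))) (.node (.node (.leaf 1871) (.leaf 1090)) (.node (.leaf 545) (.leaf 1402)))) (.node (.node (.node (.leaf 204) (.leaf 1654)) (.node (.leaf 474) (.leaf 1428))) (.node (.node (.leaf 367) (.leaf 693)) (.node (.leaf 1674) (.leaf 1905)))))))

def threeRank30 : Janko.Tree (ℕ) :=
  (.node (.node (.node (.node (.node (.node (.node (.leaf 29) (.leaf 1709)) (.leaf 1438)) (.node (.leaf 385) (.leaf 1049))) (.node (.node (.leaf 222) (.leaf 1080)) (.node (.leaf 837) (.leaf 1572)))) (.node (.node (.node (.node (.leaf 139) (.leaf 965)) (.leaf 1521)) (.node (.leaf 2160) (.leaf 1473))) (.node (.node (.leaf 316) (.leaf 663)) (.node (.leaf 562) (.leaf 967))))) (.node (.node (.node (.node (.node (.leaf 85) (.leaf 1220)) (.leaf 1940)) (.node (.leaf 830) (.leaf 1421))) (.node (.node (.leaf 1212)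 (.leaf 639)) (.node (.leaf 1785) (.leaf 1146)))) (.node (.node (.node (.leaf 186) (.leaf 2006)) (.node (.leaf 456) (.leaf 1641))) (.node (.node (.leaf 352) (.leaf 1490)) (.node (.leaf 1207) (.leaf 1673)))))) (.node (.node (.node (.node (.node (.node (.leaf 58) (.leaf 1465)) (.leaf 1071)) (.node (.leaf 1122) (.leaf 1164))) (.node (.node (.leaf 1037) (.leaf 769)) (.node (.leaf 512) (.leaf 1063)))) (.node (.node (.node (.node (.leaf 161) (.leaf 1367)) (.leaf 1181)) (.node (.leaf 834) (.leaf 1381))) (.node (.node (.leaf 333) (.leaf 879)) (.node (.leaf 1457) (.leaf 1730))))) (.node (.node (.node (.node (.node (.leaf 111) (.leaf 1496)) (.leaf 2004)) (.node (.leaf 417) (.leaf 1452))) (.node (.node (.leaf 293) (.leaf 652)) (.node (.leaf 546) (.leaf 1117)))) (.node (.node (.node (.leaf 205) (.leaf 2016)) (.node (.leaf 475) (.leaf 712))) (.node (.node (.leaf 1081) (.leaf 1492)) (.node (.leaf 1342) (.leaf 1411)))))))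

def threeRank31 : Janko.Tree (ℕ) :=
  (.node (.node (.node (.node (.node (.node (.node (.leaf 30) (.leaf 1388)) (.leaf 1448)) (.node (.leaf 386) (.leaf 1550))) (.node (.node (.leaf 1271) (.leaf 613)) (.node (.leaf 496) (.leaf 1513)))) (.node (.node (.node (.node (.leaf 140) (.leaf 1363)) (.leaf 1417)) (.node (.leaf 2048) (.leaf 2080))) (.node (.node (.leaf 317) (.leaf 664)) (.node (.leaf 1715) (.leaf 1603))))) (.node (.node (.node (.node (.node (.leaf 86) (.leaf 1891)) (.leaf 2107)) (.node (.leaf 1233) (.leaf 998))) (.node (.node (.leaf 271) (.leaf 640)) (.node (.leaf 2212) (.leaf 1548)))) (.node (.node (.node (.leaf 187) (.leaf 1308)) (.node (.leaf 457) (.leaf 750))) (.node (.node (.leaf 353) (.leaf 2056)) (.node (.leaf 577) (.leaf 1033)))))) (.node (.node (.node (.node (.node (.node (.leaf 59) (.leaf 1446)) (.leaf 600)) (.node (.leaf 1911) (.leaf 1611))) (.node (.node (.leaf 244) (.leaf 626)) (.node (.leaf 1058) (.leaf 1481)))) (.node (.node (.node (.node (.leaf 162) (.leaf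 1038)) (.leaf 1177)) (.node (.leaf 435) (.leaf 1277))) (.node (.node (.leaf 930) (.leaf 680)) (.node (.leaf 569) (.leaf 2223))))) (.node (.node (.node (.node (.node (.leaf 817) (.leaf 2116)) (.leaf 2161)) (.node (.leaf 961) (.leaf 1741))) (.node (.node (.leaf 294) (.leaf 653)) (.node (.leaf 1242) (.leaf 2069)))) (.node (.node (.node (.leaf 2120) (.leaf 2090)) (.node (.leaf 476) (.leaf 1983))) (.node (.node (.leaf 368) (.leaf 1310)) (.node (.leaf 1336) (.leaf 1488)))))))

def threeRank : Janko.Tree (ℕ) := (.node (.node (.node (.node (.node threeRank0 threeRank16) (.node threeRank8 threeRank24)) (.node (.node threeRank4 threeRank20) (.node threeRank12 threeRank28))) (.node (.node (.node threeRank2 threeRank18) (.node threeRank10 threeRank26)) (.node (.node threeRank6 threeRank22) (.node threeRank14 threeRank30)))) (.node (.node (.node (.node threeRank1 threeRank17) (.node threeRank9 threeRank25)) (.node (.node threeRank5 threeRank21) (.node threeRank13 threeRank29))) (.node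 (.node (.node threeRank3 threeRank19) (.node threeRank11 threeRank27)) (.node (.node threeRank7 threeRank23) (.node threeRank15 threeRank31)))))

def threeVia0 : Janko.Tree (ℕ × ℕ) :=
  (.node (.node (.node (.node (.node (.node (.node (.leaf (0, 0)) (.leaf (56, 135))) (.leaf (0, 0))) (.node (.leaf (3, 24)) (.leaf (46, 101)))) (.node (.node (.leaf (55, 192)) (.leaf (56, 398))) (.node (.leaf (54, 256)) (.leaf (56, 642))))) (.node (.node (.node (.node (.leaf (0, 0)) (.leaf (50, 660))) (.leaf (56, 384))) (.node (.leaf (56, 327)) (.leaf (12, 543)))) (.node (.node (.leaf (0, 0)) (.leaf (0, 0))) (.node (.leaf (47, 253)) (.leaf (3, 458)))))) (.node (.node (.node (.node (.node (.leaf (0, 0)) (.leaf (56, 704))) (.leaf (13, 490))) (.node (.leaf (56, 192)) (.leaf (29, 305)))) (.node (.node (.leaf (0, 0)) (.leaf (52, 448))) (.node (.leaf (0, 0)) (.leaf (52, 43))))) (.node (.node (.node (.node (.leaf (0, 0)) (.leaf (53, 19))) (.leaf (56, 213))) (.node (.leaf (23, 4)) (.leaf (4, 576))))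 (.node (.node (.leaf (0, 0)) (.leaf (14, 671))) (.node (.leaf (56, 322)) (.leaf (53, 532))))))) (.node (.node (.node (.node (.node (.node (.leaf (0, 0)) (.leaf (5, 693))) (.leaf (41, 88))) (.node (.leaf (56, 462)) (.leaf (52, 156)))) (.node (.node (.leaf (0, 0)) (.leaf (53, 114))) (.node (.leaf (13, 41)) (.leaf (56, 449))))) (.node (.node (.node (.node (.leaf (0, 0)) (.leaf (21, 250))) (.leaf (56, 36))) (.node (.leaf (56, 639)) (.leaf (56, 262)))) (.node (.node (.leaf (0, 0)) (.leaf (23, 657))) (.node (.leaf (1, 309)) (.leaf (56, 426)))))) (.node (.node (.node (.node (.node (.leaf (3, 32)) (.leaf (56, 356))) (.leaf (56, 109))) (.node (.leaf (13, 7)) (.leaf (56, 544)))) (.node (.node (.leaf (0, 0)) (.leaf (0, 0))) (.node (.leaf (54, 422)) (.leaf (45, 242))))) (.node (.node (.node (.leaf (0, 0)) (.leaf (53, 212))) (.node (.leaf (0, 0)) (.leaf (56, 673)))) (.node (.node (.leaf (0, 0)) (.leaf (56, 700))) (.node (.leaf (23, 156)) (.leaf (22, 259))))))))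

def threeVia1 : Janko.Tree (ℕ × ℕ) :=
  (.node (.node (.node (.node (.node (.node (.node (.leaf (0, 0)) (.leaf (56, 492))) (.leaf (12, 149))) (.node (.leaf (0, 0)) (.leaf (49, 183)))) (.node (.node (.leaf (46, 38)) (.leaf (56, 427))) (.node (.leaf (0, 0)) (.leaf (55, 542))))) (.node (.node (.node (.node (.leaf (0, 0)) (.leaf (53, 660))) (.leaf (55, 520))) (.node (.leaf (0, 0)) (.leaf (54, 426)))) (.node (.node (.leaf (0, 0)) (.leaf (53, 570))) (.node (.leaf (7, 566)) (.leaf (56, 605)))))) (.node (.node (.node (.node (.node (.leaf (45, 32)) (.leaf (53, 132))) (.leaf (55, 363))) (.node (.leaf (56, 326)) (.leaf (53, 460)))) (.node (.node (.leaf (0, 0)) (.leaf (50, 20))) (.node (.leaf (5, 119)) (.leaf (55, 57))))) (.node (.node (.node (.node (.leaf (4, 156)) (.leaf (54, 439))) (.leaf (52, 196))) (.node (.leaf (0, 0)) (.leaf (56, 6)))) (.node (.node (.leaf (56, 184)) (.leaf (56, 491))) (.node (.leaf (56, 666)) (.leaf (42, 439))))))) (.node (.node (.node (.node (.node (.node (.leaf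 (0, 0)) (.leaf (52, 567))) (.leaf (0, 0))) (.node (.leaf (56, 102)) (.leaf (56, 523)))) (.node (.node (.leaf (0, 0)) (.leaf (0, 0))) (.node (.leaf (0, 0)) (.leaf (56, 325))))) (.node (.node (.node (.node (.leaf (52, 443)) (.leaf (22, 40))) (.leaf (56, 395))) (.node (.leaf (31, 157)) (.leaf (0, 0)))) (.node (.node (.leaf (55, 99)) (.leaf (56, 407))) (.node (.leaf (56, 400)) (.leaf (30, 12)))))) (.node (.node (.node (.node (.node (.leaf (0, 0)) (.leaf (56, 715))) (.leaf (5, 174))) (.node (.leaf (55, 91)) (.leaf (0, 0)))) (.node (.node (.leaf (0, 0)) (.leaf (56, 335))) (.node (.leaf (56, 205)) (.leaf (56, 665))))) (.node (.node (.node (.leaf (0, 0)) (.leaf (56, 596))) (.node (.leaf (23, 12)) (.leaf (56, 434)))) (.node (.node (.leaf (0, 0)) (.leaf (56, 635))) (.node (.leaf (22, 10)) (.leaf (50, 510))))))))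

def threeVia2 : Janko.Tree (ℕ × ℕ) :=
  (.node (.node (.node (.node (.node (.node (.node (.leaf (0, 0)) (.leaf (54, 513))) (.leaf (49, 690))) (.node (.leaf (0, 0)) (.leaf (35, 205)))) (.node (.node (.leaf (56, 86)) (.leaf (56, 625))) (.node (.leaf (0, 0)) (.leaf (48, 354))))) (.node (.node (.node (.node (.leaf (0, 0)) (.leaf (56, 710))) (.leaf (56, 564))) (.node (.leaf (56, 489)) (.leaf (1, 555)))) (.node (.node (.leaf (52, 178)) (.leaf (0, 0))) (.node (.leaf (0, 0)) (.leaf (7, 79)))))) (.node (.node (.node (.node (.node (.leaf (17, 436)) (.leaf (53, 621))) (.leaf (48, 438))) (.node (.leaf (54, 297)) (.leaf (56, 418)))) (.node (.node (.leaf (0, 0)) (.leaf (0, 0))) (.node (.leaf (0, 0)) (.leaf (56, 431))))) (.node (.node (.node (.node (.leaf (0, 0)) (.leaf (55, 642))) (.leaf (55, 102))) (.node (.leaf (0, 0)) (.leaf (55, 607)))) (.node (.node (.leaf (0, 0)) (.leaf (55, 686))) (.node (.leaf (56, 482)) (.leaf (50, 369))))))) (.node (.node (.node (.node (.node (.node (.leaf (0,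 0)) (.leaf (54, 485))) (.leaf (52, 97))) (.node (.leaf (54, 80)) (.leaf (52, 205)))) (.node (.node (.leaf (0, 0)) (.leaf (0, 0))) (.node (.leaf (0, 0)) (.leaf (52, 202))))) (.node (.node (.node (.node (.leaf (4, 626)) (.leaf (23, 94))) (.leaf (56, 458))) (.node (.leaf (46, 6)) (.leaf (3, 566)))) (.node (.node (.leaf (1, 139)) (.leaf (0, 0))) (.node (.leaf (0, 0)) (.leaf (56, 508)))))) (.node (.node (.node (.node (.node (.leaf (10, 56)) (.leaf (1, 715))) (.leaf (55, 672))) (.node (.leaf (1, 203)) (.leaf (54, 663)))) (.node (.node (.leaf (56, 144)) (.leaf (1, 459))) (.node (.leaf (0, 0)) (.leaf (56, 160))))) (.node (.node (.node (.leaf (0, 0)) (.leaf (33, 21))) (.node (.leaf (50, 246)) (.leaf (5, 587)))) (.node (.node (.leaf (56, 685)) (.leaf (0, 0))) (.node (.leaf (55, 54)) (.leaf (50, 693))))))))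

def threeVia3 : Janko.Tree (ℕ × ℕ) :=
  (.node (.node (.node (.node (.node (.node (.node (.leaf (0, 0)) (.leaf (56, 284))) (.leaf (1, 342))) (.node (.leaf (0, 0)) (.leaf (41, 19)))) (.node (.node (.leaf (1, 86)) (.leaf (54, 64))) (.node (.leaf (0, 0)) (.leaf (56, 236))))) (.node (.node (.node (.node (.leaf (0, 0)) (.leaf (56, 217))) (.leaf (56, 724))) (.node (.leaf (1, 214)) (.leaf (56, 511)))) (.node (.node (.leaf (39, 17)) (.leaf (1, 470))) (.node (.leaf (0, 0)) (.leaf (56, 196)))))) (.node (.node (.node (.node (.node (.leaf (0, 0)) (.leaf (55, 451))) (.leaf (0, 0))) (.node (.leaf (56, 193)) (.leaf (1, 534)))) (.node (.node (.leaf (0, 0)) (.leaf (0, 0))) (.node (.leaf (0, 0)) (.leaf (56, 375))))) (.node (.node (.node (.node (.leaf (0, 0)) (.leaf (56, 575))) (.leaf (56, 525))) (.node (.leaf (0, 0)) (.leaf (45, 249)))) (.node (.node (.leaf (56, 76)) (.leaf (0, 0))) (.node (.leaf (0, 0)) (.leaf (56, 369))))))) (.node (.node (.node (.node (.node (.node (.leaf (0, 0)) (.leaf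 (56, 379))) (.leaf (55, 126))) (.node (.leaf (0, 0)) (.leaf (5, 282)))) (.node (.node (.leaf (3, 97)) (.leaf (1, 438))) (.node (.leaf (0, 0)) (.leaf (56, 516))))) (.node (.node (.node (.node (.leaf (0, 0)) (.leaf (24, 255))) (.leaf (28, 657))) (.node (.leaf (55, 605)) (.leaf (50, 211)))) (.node (.node (.leaf (0, 0)) (.leaf (55, 481))) (.node (.leaf (5, 310)) (.leaf (37, 686)))))) (.node (.node (.node (.node (.node (.leaf (0, 0)) (.leaf (53, 125))) (.leaf (0, 0))) (.node (.leaf (53, 259)) (.leaf (54, 504)))) (.node (.node (.leaf (1, 118)) (.leaf (0, 0))) (.node (.leaf (53, 289)) (.leaf (1, 630))))) (.node (.node (.node (.leaf (50, 94)) (.leaf (56, 668))) (.node (.leaf (0, 0)) (.leaf (56, 633)))) (.node (.node (.leaf (0, 0)) (.leaf (56, 650))) (.node (.leaf (52, 42)) (.leaf (53, 282))))))))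

def threeVia4 : Janko.Tree (ℕ × ℕ) :=
  (.node (.node (.node (.node (.node (.node (.node (.leaf (0, 0)) (.leaf (56, 557))) (.leaf (0, 0))) (.node (.leaf (53, 29)) (.leaf (0, 0)))) (.node (.node (.leaf (0, 0)) (.leaf (53, 449))) (.node (.leaf (0, 0)) (.leaf (45, 212))))) (.node (.node (.node (.node (.leaf (0, 0)) (.leaf (56, 296))) (.leaf (56, 100))) (.node (.leaf (56, 628)) (.leaf (56, 556)))) (.node (.node (.leaf (0, 0)) (.leaf (52, 264))) (.node (.leaf (0, 0)) (.leaf (56, 480)))))) (.node (.node (.node (.node (.node (.leaf (0, 0)) (.leaf (49, 642))) (.leaf (16, 482))) (.node (.leaf (1, 193)) (.leaf (52, 382)))) (.node (.node (.leaf (23, 15)) (.leaf (0, 0))) (.node (.leaf (52, 438)) (.leaf (31, 237))))) (.node (.node (.node (.leaf (1, 65)) (.leaf (12, 197))) (.node (.leaf (0, 0)) (.leaf (55, 103)))) (.node (.node (.leaf (0, 0)) (.leaf (0, 0))) (.node (.leaf (56, 520)) (.leaf (56, 131))))))) (.node (.node (.node (.node (.node (.node (.leaf (0, 0)) (.leaf (54, 312))) (.leaf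 (56, 606))) (.node (.leaf (0, 0)) (.leaf (0, 0)))) (.node (.node (.leaf (0, 0)) (.leaf (50, 330))) (.node (.leaf (55, 214)) (.leaf (56, 180))))) (.node (.node (.node (.node (.leaf (3, 6)) (.leaf (25, 56))) (.leaf (46, 74))) (.node (.leaf (1, 225)) (.leaf (11, 307)))) (.node (.node (.leaf (0, 0)) (.leaf (0, 0))) (.node (.leaf (56, 389)) (.leaf (41, 37)))))) (.node (.node (.node (.node (.node (.leaf (0, 0)) (.leaf (51, 716))) (.leaf (53, 82))) (.node (.leaf (0, 0)) (.leaf (1, 545)))) (.node (.node (.leaf (0, 0)) (.leaf (54, 327))) (.node (.leaf (56, 679)) (.leaf (52, 67))))) (.node (.node (.node (.leaf (48, 27)) (.leaf (55, 472))) (.node (.leaf (52, 9)) (.leaf (56, 339)))) (.node (.node (.leaf (1, 161)) (.leaf (0, 0))) (.node (.leaf (0, 0)) (.leaf (56, 68))))))))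

def threeVia5 : Janko.Tree (ℕ × ℕ) :=
  (.node (.node (.node (.node (.node (.node (.node (.leaf (0, 0)) (.leaf (56, 583))) (.leaf (3, 154))) (.node (.leaf (53, 240)) (.leaf (12, 273)))) (.node (.node (.leaf (0, 0)) (.leaf (56, 154))) (.node (.leaf (49, 64)) (.leaf (56, 62))))) (.node (.node (.node (.node (.leaf (0, 0)) (.leaf (56, 727))) (.leaf (56, 555))) (.node (.leaf (49, 457)) (.leaf (56, 381)))) (.node (.node (.leaf (0, 0)) (.leaf (0, 0))) (.node (.leaf (4, 543)) (.leaf (56, 181)))))) (.node (.node (.node (.node (.node (.leaf (0, 0)) (.leaf (55, 613))) (.leaf (56, 39))) (.node (.leaf (0, 0)) (.leaf (55, 257)))) (.node (.node (.leaf (0, 0)) (.leaf (56, 453))) (.node (.leaf (0, 0)) (.leaf (0, 0))))) (.node (.node (.node (.leaf (0, 0)) (.leaf (55, 137))) (.node (.leaf (43, 16)) (.leaf (52, 249)))) (.node (.node (.leaf (50, 375)) (.leaf (5, 492))) (.node (.leaf (0, 0)) (.leaf (56, 529))))))) (.node (.node (.node (.node (.node (.node (.leaf (0, 0)) (.leaf (56, 570))) (.leaf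 (5, 159))) (.node (.leaf (0, 0)) (.leaf (56, 622)))) (.node (.node (.leaf (5, 414)) (.leaf (52, 439))) (.node (.leaf (1, 268)) (.leaf (55, 549))))) (.node (.node (.node (.node (.leaf (0, 0)) (.leaf (26, 120))) (.leaf (56, 57))) (.node (.leaf (0, 0)) (.leaf (55, 29)))) (.node (.node (.leaf (10, 5)) (.leaf (0, 0))) (.node (.leaf (55, 644)) (.leaf (56, 551)))))) (.node (.node (.node (.node (.node (.leaf (0, 0)) (.leaf (31, 504))) (.leaf (56, 360))) (.node (.leaf (0, 0)) (.leaf (0, 0)))) (.node (.node (.leaf (0, 0)) (.leaf (0, 0))) (.node (.leaf (7, 94)) (.leaf (55, 450))))) (.node (.node (.node (.leaf (56, 319)) (.leaf (5, 212))) (.node (.leaf (0, 0)) (.leaf (56, 301)))) (.node (.node (.leaf (56, 669)) (.leaf (55, 338))) (.node (.leaf (45, 333)) (.leaf (56, 721))))))))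

def threeVia6 : Janko.Tree (ℕ × ℕ) :=
  (.node (.node (.node (.node (.node (.node (.node (.leaf (0, 0)) (.leaf (0, 0))) (.leaf (0, 0))) (.node (.leaf (13, 63)) (.leaf (54, 514)))) (.node (.node (.leaf (0, 0)) (.leaf (55, 715))) (.node (.leaf (42, 42)) (.leaf (56, 247))))) (.node (.node (.node (.node (.leaf (0, 0)) (.leaf (56, 646))) (.leaf (56, 386))) (.node (.leaf (56, 249)) (.leaf (55, 583)))) (.node (.node (.leaf (0, 0)) (.leaf (45, 41))) (.node (.leaf (0, 0)) (.leaf (29, 157)))))) (.node (.node (.node (.node (.node (.leaf (0, 0)) (.leaf (55, 706))) (.leaf (0, 0))) (.node (.leaf (56, 657)) (.leaf (10, 47)))) (.node (.node (.leaf (6, 234)) (.leaf (0, 0))) (.node (.leaf (1, 279)) (.leaf (42, 305))))) (.node (.node (.node (.leaf (0, 0)) (.leaf (1, 407))) (.node (.leaf (0, 0)) (.leaf (54, 430)))) (.node (.node (.leaf (0, 0)) (.leaf (55, 543))) (.node (.leaf (45, 102)) (.leaf (1, 663))))))) (.node (.node (.node (.node (.node (.node (.leaf (9, 234)) (.leaf (56, 714))) (.leaf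 (0, 0))) (.node (.leaf (0, 0)) (.leaf (44, 56)))) (.node (.node (.leaf (0, 0)) (.leaf (0, 0))) (.node (.leaf (0, 0)) (.leaf (54, 610))))) (.node (.node (.node (.node (.leaf (0, 0)) (.leaf (27, 448))) (.leaf (10, 74))) (.node (.leaf (42, 226)) (.leaf (56, 385)))) (.node (.node (.leaf (56, 198)) (.leaf (0, 0))) (.node (.leaf (0, 0)) (.leaf (50, 28)))))) (.node (.node (.node (.node (.node (.leaf (55, 173)) (.leaf (56, 604))) (.leaf (56, 545))) (.node (.leaf (46, 4)) (.leaf (56, 546)))) (.node (.node (.leaf (0, 0)) (.leaf (56, 129))) (.node (.leaf (0, 0)) (.leaf (56, 56))))) (.node (.node (.node (.leaf (3, 9)) (.leaf (45, 226))) (.node (.leaf (0, 0)) (.leaf (55, 222)))) (.node (.node (.leaf (0, 0)) (.leaf (0, 0))) (.node (.leaf (56, 340)) (.leaf (56, 674))))))))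

def threeVia7 : Janko.Tree (ℕ × ℕ) :=
  (.node (.node (.node (.node (.node (.node (.node (.leaf (0, 0)) (.leaf (55, 550))) (.leaf (13, 57))) (.node (.leaf (52, 302)) (.leaf (1, 514)))) (.node (.node (.leaf (0, 0)) (.leaf (56, 429))) (.node (.leaf (0, 0)) (.leaf (56, 632))))) (.node (.node (.node (.node (.leaf (0, 0)) (.leaf (56, 538))) (.leaf (56, 612))) (.node (.leaf (0, 0)) (.leaf (56, 549)))) (.node (.node (.leaf (0, 0)) (.leaf (49, 620))) (.node (.leaf (0, 0)) (.leaf (55, 722)))))) (.node (.node (.node (.node (.node (.leaf (0, 0)) (.leaf (56, 280))) (.leaf (56, 365))) (.node (.leaf (56, 52)) (.leaf (53, 382)))) (.node (.node (.leaf (52, 41)) (.leaf (1, 450))) (.node (.leaf (0, 0)) (.leaf (45, 443))))) (.node (.node (.node (.leaf (0, 0)) (.leaf (0, 0))) (.node (.leaf (0, 0)) (.leaf (1, 578)))) (.node (.node (.leaf (0, 0)) (.leaf (53, 142))) (.node (.leaf (0, 0)) (.leaf (56, 636))))))) (.node (.node (.node (.node (.node (.node (.leaf (0, 0)) (.leaf (56, 683))) (.leaf (55,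 528))) (.node (.leaf (49, 234)) (.leaf (49, 122)))) (.node (.node (.leaf (0, 0)) (.leaf (0, 0))) (.node (.leaf (0, 0)) (.leaf (56, 338))))) (.node (.node (.node (.node (.leaf (0, 0)) (.leaf (28, 227))) (.leaf (55, 397))) (.node (.leaf (23, 103)) (.leaf (48, 146)))) (.node (.node (.leaf (25, 128)) (.leaf (16, 23))) (.node (.leaf (0, 0)) (.leaf (56, 653)))))) (.node (.node (.node (.node (.node (.leaf (1, 34)) (.leaf (55, 623))) (.leaf (56, 588))) (.node (.leaf (0, 0)) (.leaf (56, 128)))) (.node (.node (.leaf (0, 0)) (.leaf (50, 107))) (.node (.leaf (0, 0)) (.leaf (56, 717))))) (.node (.node (.node (.leaf (0, 0)) (.leaf (54, 300))) (.node (.leaf (0, 0)) (.leaf (51, 41)))) (.node (.node (.leaf (0, 0)) (.leaf (53, 481))) (.node (.leaf (0, 0)) (.leaf (56, 504))))))))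

def threeVia8 : Janko.Tree (ℕ × ℕ) :=
  (.node (.node (.node (.node (.node (.node (.node (.leaf (0, 0)) (.leaf (56, 521))) (.leaf (55, 685))) (.node (.leaf (1, 173)) (.leaf (0, 0)))) (.node (.node (.leaf (0, 0)) (.leaf (56, 200))) (.node (.leaf (0, 0)) (.leaf (44, 161))))) (.node (.node (.node (.node (.leaf (0, 0)) (.leaf (54, 247))) (.leaf (52, 428))) (.node (.leaf (0, 0)) (.leaf (56, 363)))) (.node (.node (.leaf (0, 0)) (.leaf (0, 0))) (.node (.leaf (1, 301)) (.leaf (55, 703)))))) (.node (.node (.node (.node (.node (.leaf (0, 0)) (.leaf (5, 539))) (.leaf (56, 614))) (.node (.leaf (0, 0)) (.leaf (55, 536)))) (.node (.node (.leaf (0, 0)) (.leaf (51, 65))) (.node (.leaf (0, 0)) (.leaf (56, 16))))) (.node (.node (.node (.leaf (55, 41)) (.leaf (55, 204))) (.node (.leaf (1, 237)) (.leaf (56, 461)))) (.node (.node (.leaf (0, 0)) (.leaf (0, 0))) (.node (.leaf (0, 0)) (.leaf (54, 575))))))) (.node (.node (.node (.node (.node (.node (.leaf (0, 0)) (.leaf (56, 696))) (.leaf (27,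 36))) (.node (.leaf (53, 26)) (.leaf (0, 0)))) (.node (.node (.leaf (0, 0)) (.leaf (49, 414))) (.node (.leaf (19, 234)) (.leaf (56, 641))))) (.node (.node (.node (.node (.leaf (23, 10)) (.leaf (29, 234))) (.leaf (47, 613))) (.node (.leaf (0, 0)) (.leaf (56, 568)))) (.node (.node (.leaf (0, 0)) (.leaf (54, 623))) (.node (.leaf (46, 312)) (.leaf (56, 435)))))) (.node (.node (.node (.node (.node (.leaf (0, 0)) (.leaf (56, 84))) (.leaf (3, 376))) (.node (.leaf (1, 205)) (.leaf (53, 323)))) (.node (.node (.leaf (7, 32)) (.leaf (53, 215))) (.node (.leaf (0, 0)) (.leaf (56, 548))))) (.node (.node (.node (.leaf (0, 0)) (.leaf (53, 226))) (.node (.leaf (56, 33)) (.leaf (50, 88)))) (.node (.node (.leaf (55, 680)) (.leaf (3, 504))) (.node (.leaf (0, 0)) (.leaf (52, 362))))))))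

def threeVia9 : Janko.Tree (ℕ × ℕ) :=
  (.node (.node (.node (.node (.node (.node (.node (.leaf (0, 0)) (.leaf (50, 437))) (.leaf (44, 550))) (.node (.leaf (56, 182)) (.leaf (3, 278)))) (.node (.node (.leaf (1, 140)) (.leaf (44, 18))) (.node (.leaf (0, 0)) (.leaf (56, 104))))) (.node (.node (.node (.node (.leaf (6, 101)) (.leaf (54, 117))) (.leaf (55, 181))) (.node (.leaf (56, 600)) (.leaf (0, 0)))) (.node (.node (.leaf (10, 110)) (.leaf (55, 212))) (.node (.leaf (0, 0)) (.leaf (56, 195)))))) (.node (.node (.node (.node (.node (.leaf (0, 0)) (.leaf (54, 574))) (.leaf (53, 451))) (.node (.leaf (54, 693)) (.leaf (53, 140)))) (.node (.node (.leaf (0, 0)) (.leaf (52, 451))) (.node (.leaf (0, 0)) (.leaf (56, 215))))) (.node (.node (.node (.leaf (0, 0)) (.leaf (56, 159))) (.node (.leaf (0, 0)) (.leaf (21, 147)))) (.node (.node (.leaf (53, 337)) (.leaf (33, 119))) (.node (.leaf (3, 323)) (.leaf (56, 440))))))) (.node (.node (.node (.node (.node (.node (.leaf (0, 0)) (.leaf (49,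 168))) (.leaf (21, 62))) (.node (.leaf (56, 524)) (.leaf (54, 5)))) (.node (.node (.leaf (44, 99)) (.leaf (52, 126))) (.node (.leaf (53, 618)) (.leaf (56, 611))))) (.node (.node (.node (.node (.leaf (0, 0)) (.leaf (30, 179))) (.leaf (56, 373))) (.node (.leaf (35, 227)) (.leaf (56, 311)))) (.node (.node (.leaf (0, 0)) (.leaf (3, 483))) (.node (.leaf (48, 473)) (.leaf (44, 120)))))) (.node (.node (.node (.node (.node (.leaf (0, 0)) (.leaf (53, 303))) (.leaf (56, 532))) (.node (.leaf (56, 672)) (.leaf (55, 421)))) (.node (.node (.leaf (0, 0)) (.leaf (13, 247))) (.node (.leaf (53, 291)) (.leaf (56, 473))))) (.node (.node (.node (.leaf (0, 0)) (.leaf (53, 465))) (.node (.leaf (1, 248)) (.leaf (53, 183)))) (.node (.node (.leaf (0, 0)) (.leaf (45, 10))) (.node (.leaf (0, 0)) (.leaf (56, 486))))))))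

def threeVia10 : Janko.Tree (ℕ × ℕ) :=
  (.node (.node (.node (.node (.node (.node (.node (.leaf (0, 0)) (.leaf (43, 269))) (.leaf (53, 104))) (.node (.leaf (54, 174)) (.leaf (0, 0)))) (.node (.node (.leaf (0, 0)) (.leaf (55, 645))) (.node (.leaf (0, 0)) (.leaf (54, 133))))) (.node (.node (.node (.node (.leaf (45, 5)) (.leaf (48, 111))) (.leaf (56, 132))) (.node (.leaf (33, 54)) (.leaf (45, 53)))) (.node (.node (.leaf (0, 0)) (.leaf (56, 610))) (.node (.leaf (0, 0)) (.leaf (53, 253)))))) (.node (.node (.node (.node (.node (.leaf (0, 0)) (.leaf (56, 607))) (.leaf (55, 169))) (.node (.leaf (1, 368)) (.leaf (49, 102)))) (.node (.node (.leaf (4, 110)) (.leaf (0, 0))) (.node (.leaf (0, 0)) (.leaf (10, 129))))) (.node (.node (.node (.leaf (0, 0)) (.leaf (53, 463))) (.node (.leaf (53, 238)) (.leaf (56, 239)))) (.node (.node (.leaf (0, 0)) (.leaf (55, 432))) (.node (.leaf (16, 453)) (.leaf (5, 479))))))) (.node (.node (.node (.node (.node (.node (.leaf (0, 0)) (.leaf (56, 712)))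 (.leaf (0, 0))) (.node (.leaf (3, 26)) (.leaf (4, 526)))) (.node (.node (.leaf (1, 99)) (.leaf (14, 227))) (.node (.leaf (25, 257)) (.leaf (54, 544))))) (.node (.node (.node (.node (.leaf (13, 4)) (.leaf (31, 54))) (.leaf (56, 350))) (.node (.leaf (1, 414)) (.leaf (50, 236)))) (.node (.node (.leaf (55, 128)) (.leaf (0, 0))) (.node (.leaf (56, 526)) (.leaf (56, 469)))))) (.node (.node (.node (.node (.node (.leaf (0, 0)) (.leaf (47, 563))) (.leaf (7, 360))) (.node (.leaf (9, 276)) (.leaf (56, 658)))) (.node (.node (.leaf (3, 0)) (.leaf (45, 60))) (.node (.leaf (0, 0)) (.leaf (42, 66))))) (.node (.node (.node (.leaf (3, 78)) (.leaf (56, 565))) (.node (.leaf (0, 0)) (.leaf (56, 590)))) (.node (.node (.leaf (56, 541)) (.leaf (14, 666))) (.node (.leaf (3, 334)) (.leaf (56, 352))))))))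

def threeVia11 : Janko.Tree (ℕ × ℕ) :=
  (.node (.node (.node (.node (.node (.node (.node (.leaf (0, 0)) (.leaf (56, 32))) (.leaf (54, 205))) (.node (.leaf (0, 0)) (.leaf (13, 276)))) (.node (.node (.leaf (16, 143)) (.leaf (56, 598))) (.node (.leaf (0, 0)) (.leaf (56, 451))))) (.node (.node (.node (.node (.leaf (0, 0)) (.leaf (0, 0))) (.leaf (12, 376))) (.node (.leaf (55, 564)) (.leaf (54, 276)))) (.node (.node (.leaf (0, 0)) (.leaf (53, 473))) (.node (.leaf (56, 49)) (.leaf (56, 716)))))) (.node (.node (.node (.node (.node (.leaf (0, 0)) (.leaf (56, 163))) (.leaf (56, 474))) (.node (.leaf (55, 669)) (.leaf (56, 537)))) (.node (.node (.leaf (0, 0)) (.leaf (24, 718))) (.node (.leaf (44, 281)) (.leaf (0, 0))))) (.node (.node (.node (.leaf (0, 0)) (.leaf (16, 44))) (.node (.leaf (0, 0)) (.leaf (10, 147)))) (.node (.node (.leaf (49, 97)) (.leaf (52, 64))) (.node (.leaf (13, 16)) (.leaf (54, 665))))))) (.node (.node (.node (.node (.node (.node (.leaf (0, 0)) (.leaf (56, 691)))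 (.leaf (56, 528))) (.node (.leaf (0, 0)) (.leaf (55, 635)))) (.node (.node (.leaf (0, 0)) (.leaf (49, 52))) (.node (.leaf (0, 0)) (.leaf (44, 66))))) (.node (.node (.node (.node (.leaf (0, 0)) (.leaf (32, 289))) (.leaf (28, 722))) (.node (.leaf (52, 50)) (.leaf (30, 291)))) (.node (.node (.leaf (0, 0)) (.leaf (0, 0))) (.node (.leaf (55, 123)) (.leaf (0, 0)))))) (.node (.node (.node (.node (.node (.leaf (0, 0)) (.leaf (1, 718))) (.leaf (49, 496))) (.node (.leaf (30, 438)) (.leaf (53, 389)))) (.node (.node (.leaf (0, 0)) (.leaf (0, 0))) (.node (.leaf (3, 48)) (.leaf (56, 149))))) (.node (.node (.node (.leaf (0, 0)) (.leaf (13, 219))) (.node (.leaf (42, 249)) (.leaf (56, 621)))) (.node (.node (.leaf (49, 258)) (.leaf (56, 505))) (.node (.leaf (56, 87)) (.leaf (55, 649))))))))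

def threeVia12 : Janko.Tree (ℕ × ℕ) :=
  (.node (.node (.node (.node (.node (.node (.node (.leaf (0, 0)) (.leaf (56, 355))) (.leaf (45, 38))) (.node (.leaf (0, 0)) (.leaf (56, 509)))) (.node (.node (.leaf (50, 438)) (.leaf (44, 21))) (.node (.leaf (46, 618)) (.leaf (56, 645))))) (.node (.node (.node (.node (.leaf (0, 0)) (.leaf (1, 0))) (.leaf (55, 388))) (.node (.leaf (0, 0)) (.leaf (56, 40)))) (.node (.node (.leaf (0, 0)) (.leaf (56, 718))) (.node (.leaf (53, 622)) (.leaf (44, 644)))))) (.node (.node (.node (.node (.node (.leaf (0, 0)) (.leaf (12, 297))) (.leaf (54, 443))) (.node (.leaf (49, 28)) (.leaf (55, 675)))) (.node (.node (.leaf (0, 0)) (.leaf (55, 293))) (.node (.leaf (1, 281)) (.leaf (13, 566))))) (.node (.node (.node (.leaf (54, 325)) (.leaf (53, 508))) (.node (.leaf (0, 0)) (.leaf (52, 333)))) (.node (.node (.leaf (0, 0)) (.leaf (56, 655))) (.node (.leaf (56, 324)) (.leaf (0, 0))))))) (.node (.node (.node (.node (.node (.node (.leaf (0, 0)) (.leaf (53, 533)))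 (.leaf (4, 356))) (.node (.leaf (0, 0)) (.leaf (56, 463)))) (.node (.node (.leaf (56, 531)) (.leaf (0, 0))) (.node (.leaf (0, 0)) (.leaf (31, 120))))) (.node (.node (.node (.node (.leaf (0, 0)) (.leaf (33, 99))) (.leaf (55, 496))) (.node (.leaf (49, 37)) (.leaf (51, 697)))) (.node (.node (.leaf (56, 634)) (.leaf (0, 0))) (.node (.leaf (56, 123)) (.leaf (56, 682)))))) (.node (.node (.node (.node (.node (.leaf (25, 12)) (.leaf (55, 571))) (.leaf (0, 0))) (.node (.leaf (0, 0)) (.leaf (54, 323)))) (.node (.node (.leaf (0, 0)) (.leaf (56, 66))) (.node (.leaf (0, 0)) (.leaf (1, 633))))) (.node (.node (.node (.leaf (11, 63)) (.leaf (53, 95))) (.node (.leaf (50, 11)) (.leaf (56, 662)))) (.node (.node (.leaf (49, 23)) (.leaf (1, 505))) (.node (.leaf (0, 0)) (.leaf (56, 676))))))))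

def threeVia13 : Janko.Tree (ℕ × ℕ) :=
  (.node (.node (.node (.node (.node (.node (.node (.leaf (0, 0)) (.leaf (56, 687))) (.leaf (46, 15))) (.node (.leaf (23, 360)) (.leaf (56, 137)))) (.node (.node (.leaf (0, 0)) (.leaf (10, 37))) (.node (.leaf (0, 0)) (.leaf (56, 533))))) (.node (.node (.node (.node (.leaf (4, 47)) (.leaf (2, 0))) (.leaf (1, 388))) (.node (.leaf (0, 0)) (.leaf (56, 603)))) (.node (.node (.leaf (0, 0)) (.leaf (11, 131))) (.node (.leaf (54, 666)) (.leaf (1, 644)))))) (.node (.node (.node (.node (.node (.leaf (0, 0)) (.leaf (51, 405))) (.leaf (56, 698))) (.node (.leaf (55, 415)) (.leaf (56, 72)))) (.node (.node (.leaf (0, 0)) (.leaf (0, 0))) (.node (.leaf (0, 0)) (.leaf (56, 507))))) (.node (.node (.node (.leaf (0, 0)) (.leaf (13, 204))) (.node (.leaf (0, 0)) (.leaf (56, 680)))) (.node (.node (.leaf (5, 59)) (.leaf (56, 576))) (.node (.leaf (1, 324)) (.leaf (55, 163))))))) (.node (.node (.node (.node (.node (.node (.leaf (13, 15)) (.leaf (56, 706))) (.leaf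 (55, 585))) (.node (.leaf (0, 0)) (.leaf (0, 0)))) (.node (.node (.leaf (0, 0)) (.leaf (45, 48))) (.node (.leaf (32, 657)) (.leaf (55, 622))))) (.node (.node (.node (.node (.leaf (0, 0)) (.leaf (34, 227))) (.leaf (56, 390))) (.node (.leaf (56, 37)) (.leaf (56, 497)))) (.node (.node (.leaf (0, 0)) (.leaf (4, 666))) (.node (.leaf (53, 410)) (.leaf (4, 655)))))) (.node (.node (.node (.node (.node (.leaf (0, 0)) (.leaf (56, 248))) (.leaf (56, 581))) (.node (.leaf (56, 207)) (.leaf (56, 654)))) (.node (.node (.leaf (0, 0)) (.leaf (31, 3))) (.node (.leaf (0, 0)) (.leaf (56, 701))))) (.node (.node (.node (.leaf (0, 0)) (.leaf (1, 655))) (.node (.leaf (0, 0)) (.leaf (55, 267)))) (.node (.node (.leaf (0, 0)) (.leaf (55, 46))) (.node (.leaf (56, 34)) (.leaf (1, 676))))))))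

def threeVia14 : Janko.Tree (ℕ × ℕ) :=
  (.node (.node (.node (.node (.node (.node (.node (.leaf (0, 0)) (.leaf (55, 18))) (.leaf (56, 346))) (.node (.leaf (0, 0)) (.leaf (56, 514)))) (.node (.node (.leaf (45, 45)) (.leaf (55, 518))) (.node (.leaf (0, 0)) (.leaf (56, 457))))) (.node (.node (.node (.node (.leaf (0, 0)) (.leaf (3, 0))) (.leaf (53, 701))) (.node (.leaf (0, 0)) (.leaf (1, 559)))) (.node (.node (.leaf (0, 0)) (.leaf (56, 443))) (.node (.leaf (0, 0)) (.leaf (54, 252)))))) (.node (.node (.node (.node (.node (.leaf (0, 0)) (.leaf (56, 357))) (.leaf (1, 367))) (.node (.leaf (10, 28)) (.leaf (56, 498)))) (.node (.node (.leaf (0, 0)) (.leaf (0, 0))) (.node (.leaf (56, 699)) (.leaf (1, 623))))) (.node (.node (.node (.leaf (0, 0)) (.leaf (4, 410))) (.node (.leaf (0, 0)) (.leaf (33, 45)))) (.node (.node (.leaf (0, 0)) (.leaf (1, 495))) (.node (.leaf (56, 367)) (.leaf (3, 666))))))) (.node (.node (.node (.node (.node (.node (.leaf (0, 0)) (.leaf (55, 494))) (.leaf (51,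 205))) (.node (.leaf (3, 186)) (.leaf (51, 628)))) (.node (.node (.leaf (0, 0)) (.leaf (0, 0))) (.node (.leaf (0, 0)) (.leaf (41, 108))))) (.node (.node (.node (.node (.leaf (55, 294)) (.leaf (35, 235))) (.leaf (56, 624))) (.node (.leaf (0, 0)) (.leaf (56, 577)))) (.node (.node (.leaf (0, 0)) (.leaf (53, 187))) (.node (.leaf (56, 314)) (.leaf (56, 89)))))) (.node (.node (.node (.node (.node (.leaf (0, 0)) (.leaf (1, 719))) (.leaf (55, 141))) (.node (.leaf (56, 527)) (.leaf (23, 257)))) (.node (.node (.leaf (0, 0)) (.leaf (20, 642))) (.node (.leaf (0, 0)) (.leaf (55, 573))))) (.node (.node (.node (.leaf (0, 0)) (.leaf (11, 213))) (.node (.leaf (0, 0)) (.leaf (56, 409)))) (.node (.node (.leaf (29, 202)) (.leaf (3, 506))) (.node (.leaf (1, 335)) (.leaf (52, 493))))))))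

def threeVia15 : Janko.Tree (ℕ × ℕ) :=
  (.node (.node (.node (.node (.node (.node (.node (.leaf (0, 0)) (.leaf (3, 650))) (.leaf (1, 346))) (.node (.leaf (0, 0)) (.leaf (55, 32)))) (.node (.node (.leaf (0, 0)) (.leaf (54, 526))) (.node (.leaf (48, 113)) (.leaf (49, 438))))) (.node (.node (.node (.node (.leaf (0, 0)) (.leaf (4, 0))) (.leaf (56, 643))) (.node (.leaf (0, 0)) (.leaf (53, 649)))) (.node (.node (.leaf (0, 0)) (.leaf (0, 0))) (.node (.leaf (0, 0)) (.leaf (56, 118)))))) (.node (.node (.node (.node (.node (.leaf (0, 0)) (.leaf (56, 709))) (.leaf (46, 650))) (.node (.leaf (4, 197)) (.leaf (1, 538)))) (.node (.node (.leaf (0, 0)) (.leaf (18, 70))) (.node (.leaf (0, 0)) (.leaf (55, 305))))) (.node (.node (.node (.leaf (0, 0)) (.leaf (55, 447))) (.node (.leaf (0, 0)) (.leaf (54, 521)))) (.node (.node (.leaf (0, 0)) (.leaf (56, 552))) (.node (.leaf (0, 0)) (.leaf (56, 241))))))) (.node (.node (.node (.node (.node (.node (.leaf (0, 0)) (.leaf (56, 287))) (.leaf (0, 0)))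 (.node (.leaf (0, 0)) (.leaf (55, 129)))) (.node (.node (.leaf (0, 0)) (.leaf (0, 0))) (.node (.leaf (53, 390)) (.leaf (41, 613))))) (.node (.node (.node (.node (.leaf (1, 58)) (.leaf (36, 239))) (.leaf (0, 0))) (.node (.leaf (25, 19)) (.leaf (56, 277)))) (.node (.node (.leaf (0, 0)) (.leaf (0, 0))) (.node (.leaf (1, 314)) (.leaf (56, 719)))))) (.node (.node (.node (.node (.node (.leaf (0, 0)) (.leaf (56, 578))) (.leaf (1, 378))) (.node (.leaf (50, 154)) (.leaf (3, 17)))) (.node (.node (.leaf (0, 0)) (.leaf (41, 40))) (.node (.leaf (53, 53)) (.leaf (19, 76))))) (.node (.node (.node (.leaf (0, 0)) (.leaf (53, 577))) (.node (.leaf (0, 0)) (.leaf (53, 201)))) (.node (.node (.leaf (0, 0)) (.leaf (55, 146))) (.node (.leaf (53, 494)) (.leaf (56, 677))))))))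

def threeVia16 : Janko.Tree (ℕ × ℕ) :=
  (.node (.node (.node (.node (.node (.node (.node (.leaf (0, 0)) (.leaf (56, 688))) (.leaf (56, 321))) (.node (.leaf (0, 0)) (.leaf (45, 101)))) (.node (.node (.leaf (55, 567)) (.leaf (56, 664))) (.node (.leaf (0, 0)) (.leaf (52, 213))))) (.node (.node (.node (.node (.leaf (0, 0)) (.leaf (5, 0))) (.leaf (53, 355))) (.node (.leaf (53, 249)) (.leaf (55, 428)))) (.node (.node (.leaf (0, 0)) (.leaf (0, 0))) (.node (.leaf (55, 666)) (.leaf (1, 645)))))) (.node (.node (.node (.node (.node (.leaf (0, 0)) (.leaf (45, 670))) (.leaf (56, 368))) (.node (.leaf (56, 470)) (.leaf (52, 286)))) (.node (.node (.leaf (0, 0)) (.leaf (0, 0))) (.node (.leaf (0, 0)) (.leaf (55, 437))))) (.node (.node (.node (.leaf (0, 0)) (.leaf (55, 720))) (.node (.leaf (15, 234)) (.leaf (56, 403)))) (.node (.node (.leaf (50, 239)) (.leaf (56, 496))) (.node (.leaf (0, 0)) (.leaf (13, 252))))))) (.node (.node (.node (.node (.node (.node (.leaf (0, 0)) (.leaf (53, 468)))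 (.leaf (50, 646))) (.node (.leaf (13, 25)) (.leaf (56, 285)))) (.node (.node (.leaf (0, 0)) (.leaf (0, 0))) (.node (.leaf (49, 44)) (.leaf (1, 613))))) (.node (.node (.node (.node (.leaf (0, 0)) (.leaf (37, 250))) (.leaf (3, 400))) (.node (.leaf (0, 0)) (.leaf (53, 343)))) (.node (.node (.leaf (55, 55)) (.leaf (1, 485))) (.node (.leaf (0, 0)) (.leaf (55, 570)))))) (.node (.node (.node (.node (.node (.leaf (0, 0)) (.leaf (45, 348))) (.leaf (0, 0))) (.node (.leaf (52, 87)) (.leaf (55, 614)))) (.node (.node (.leaf (55, 641)) (.leaf (56, 88))) (.node (.leaf (56, 53)) (.leaf (55, 656))))) (.node (.node (.node (.leaf (49, 185)) (.leaf (55, 554))) (.node (.leaf (0, 0)) (.leaf (53, 231)))) (.node (.node (.leaf (0, 0)) (.leaf (0, 0))) (.node (.leaf (49, 209)) (.leaf (56, 342))))))))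

def threeVia17 : Janko.Tree (ℕ × ℕ) :=
  (.node (.node (.node (.node (.node (.node (.node (.leaf (0, 0)) (.leaf (1, 688))) (.leaf (42, 347))) (.node (.leaf (0, 0)) (.leaf (52, 72)))) (.node (.node (.leaf (0, 0)) (.leaf (1, 432))) (.node (.leaf (0, 0)) (.leaf (12, 104))))) (.node (.node (.node (.node (.leaf (0, 0)) (.leaf (6, 0))) (.leaf (55, 493))) (.node (.leaf (46, 13)) (.leaf (56, 416)))) (.node (.node (.leaf (0, 0)) (.leaf (53, 475))) (.node (.leaf (0, 0)) (.leaf (49, 214)))))) (.node (.node (.node (.node (.node (.leaf (0, 0)) (.leaf (56, 366))) (.leaf (5, 368))) (.node (.leaf (56, 690)) (.leaf (56, 539)))) (.node (.node (.leaf (0, 0)) (.leaf (53, 48))) (.node (.leaf (0, 0)) (.leaf (0, 0))))) (.node (.node (.node (.leaf (49, 613)) (.leaf (38, 205))) (.node (.leaf (0, 0)) (.leaf (5, 333)))) (.node (.node (.leaf (0, 0)) (.leaf (56, 279))) (.node (.leaf (31, 40)) (.leaf (56, 535))))))) (.node (.node (.node (.node (.node (.node (.leaf (0, 0)) (.leaf (10, 121))) (.leaf (55,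 70))) (.node (.leaf (0, 0)) (.leaf (55, 187)))) (.node (.node (.leaf (6, 156)) (.leaf (53, 443))) (.node (.leaf (56, 209)) (.leaf (50, 29))))) (.node (.node (.node (.node (.leaf (0, 0)) (.leaf (38, 348))) (.leaf (45, 289))) (.node (.leaf (56, 176)) (.leaf (45, 140)))) (.node (.node (.leaf (56, 299)) (.leaf (0, 0))) (.node (.leaf (55, 660)) (.leaf (44, 672)))))) (.node (.node (.node (.node (.node (.leaf (0, 0)) (.leaf (55, 579))) (.leaf (55, 166))) (.node (.leaf (56, 336)) (.leaf (14, 414)))) (.node (.node (.leaf (4, 318)) (.leaf (0, 0))) (.node (.leaf (13, 123)) (.leaf (54, 591))))) (.node (.node (.node (.leaf (1, 80)) (.leaf (14, 216))) (.node (.leaf (0, 0)) (.leaf (56, 297)))) (.node (.node (.leaf (53, 278)) (.leaf (54, 303))) (.node (.leaf (56, 74)) (.leaf (56, 380))))))))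

def threeVia18 : Janko.Tree (ℕ × ℕ) :=
  (.node (.node (.node (.node (.node (.node (.node (.leaf (0, 0)) (.leaf (0, 0))) (.leaf (49, 121))) (.node (.leaf (0, 0)) (.leaf (53, 518)))) (.node (.node (.leaf (55, 219)) (.leaf (56, 21))) (.node (.leaf (0, 0)) (.leaf (56, 723))))) (.node (.node (.node (.node (.leaf (0, 0)) (.leaf (7, 323))) (.leaf (3, 390))) (.node (.leaf (56, 302)) (.leaf (56, 593)))) (.node (.node (.leaf (0, 0)) (.leaf (0, 0))) (.node (.leaf (29, 504)) (.leaf (54, 563)))))) (.node (.node (.node (.node (.node (.leaf (0, 0)) (.leaf (56, 648))) (.leaf (55, 289))) (.node (.leaf (0, 0)) (.leaf (0, 0)))) (.node (.node (.leaf (0, 0)) (.leaf (45, 244))) (.node (.leaf (0, 0)) (.leaf (56, 258))))) (.node (.node (.node (.leaf (18, 613)) (.leaf (56, 117))) (.node (.leaf (38, 245)) (.leaf (56, 582)))) (.node (.node (.leaf (0, 0)) (.leaf (0, 0))) (.node (.leaf (56, 626)) (.leaf (1, 667))))))) (.node (.node (.node (.node (.node (.node (.leaf (0, 0)) (.leaf (56, 401))) (.leaf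 (56, 162))) (.node (.leaf (56, 291)) (.leaf (56, 547)))) (.node (.node (.leaf (0, 0)) (.leaf (47, 17))) (.node (.leaf (0, 0)) (.leaf (36, 235))))) (.node (.node (.node (.node (.leaf (0, 0)) (.leaf (39, 39))) (.leaf (11, 186))) (.node (.leaf (0, 0)) (.leaf (56, 140)))) (.node (.node (.leaf (36, 205)) (.leaf (0, 0))) (.node (.leaf (56, 503)) (.leaf (52, 128)))))) (.node (.node (.node (.node (.node (.leaf (0, 0)) (.leaf (53, 194))) (.leaf (56, 173))) (.node (.leaf (11, 152)) (.leaf (30, 300)))) (.node (.node (.leaf (0, 0)) (.leaf (0, 0))) (.node (.leaf (56, 294)) (.leaf (53, 51))))) (.node (.node (.node (.leaf (0, 0)) (.leaf (55, 655))) (.node (.leaf (0, 0)) (.leaf (56, 640)))) (.node (.node (.leaf (0, 0)) (.leaf (1, 507))) (.node (.leaf (0, 0)) (.leaf (55, 678))))))))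

def threeVia19 : Janko.Tree (ℕ × ℕ) :=
  (.node (.node (.node (.node (.node (.node (.node (.leaf (0, 0)) (.leaf (53, 412))) (.leaf (0, 0))) (.node (.leaf (0, 0)) (.leaf (49, 250)))) (.node (.node (.leaf (0, 0)) (.leaf (46, 54))) (.node (.leaf (47, 621)) (.leaf (56, 221))))) (.node (.node (.node (.node (.leaf (0, 0)) (.leaf (8, 471))) (.leaf (56, 119))) (.node (.leaf (34, 457)) (.leaf (56, 399)))) (.node (.node (.leaf (0, 0)) (.leaf (3, 111))) (.node (.leaf (53, 50)) (.leaf (56, 256)))))) (.node (.node (.node (.node (.node (.leaf (0, 0)) (.leaf (56, 567))) (.leaf (56, 24))) (.node (.leaf (53, 216)) (.leaf (53, 629)))) (.node (.node (.leaf (0, 0)) (.leaf (55, 179))) (.node (.leaf (55, 422)) (.leaf (37, 239))))) (.node (.node (.node (.leaf (0, 0)) (.leaf (56, 542))) (.node (.leaf (4, 241)) (.leaf (56, 392)))) (.node (.node (.leaf (0, 0)) (.leaf (51, 437))) (.node (.leaf (1, 326)) (.leaf (0, 0))))))) (.node (.node (.node (.node (.node (.node (.leaf (0, 0)) (.leaf (53, 579)))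 (.leaf (56, 170))) (.node (.leaf (0, 0)) (.leaf (55, 318)))) (.node (.node (.leaf (0, 0)) (.leaf (26, 414))) (.node (.leaf (45, 36)) (.leaf (56, 536))))) (.node (.node (.node (.node (.leaf (0, 0)) (.leaf (40, 4))) (.leaf (55, 657))) (.node (.leaf (56, 455)) (.leaf (55, 224)))) (.node (.node (.leaf (55, 53)) (.leaf (56, 638))) (.node (.leaf (0, 0)) (.leaf (10, 657)))))) (.node (.node (.node (.node (.node (.leaf (0, 0)) (.leaf (55, 659))) (.leaf (56, 404))) (.node (.leaf (22, 543)) (.leaf (1, 550)))) (.node (.node (.leaf (0, 0)) (.leaf (45, 35))) (.node (.leaf (1, 294)) (.leaf (56, 618))))) (.node (.node (.node (.leaf (0, 0)) (.leaf (1, 422))) (.node (.leaf (53, 445)) (.leaf (55, 312)))) (.node (.node (.leaf (51, 347)) (.leaf (12, 327))) (.node (.leaf (0, 0)) (.leaf (56, 329))))))))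

def threeVia20 : Janko.Tree (ℕ × ℕ) :=
  (.node (.node (.node (.node (.node (.node (.node (.leaf (0, 0)) (.leaf (55, 404))) (.leaf (49, 348))) (.node (.leaf (39, 47)) (.leaf (0, 0)))) (.node (.node (.leaf (53, 634)) (.leaf (56, 468))) (.node (.leaf (0, 0)) (.leaf (51, 81))))) (.node (.node (.node (.node (.leaf (0, 0)) (.leaf (9, 257))) (.leaf (3, 47))) (.node (.leaf (41, 54)) (.leaf (56, 421)))) (.node (.node (.leaf (33, 504)) (.leaf (0, 0))) (.node (.leaf (55, 533)) (.leaf (52, 107)))))) (.node (.node (.node (.node (.node (.leaf (0, 0)) (.leaf (56, 630))) (.leaf (0, 0))) (.node (.leaf (0, 0)) (.leaf (56, 540)))) (.node (.node (.leaf (0, 0)) (.leaf (0, 0))) (.node (.leaf (0, 0)) (.leaf (56, 94))))) (.node (.node (.node (.leaf (0, 0)) (.leaf (8, 274))) (.node (.leaf (0, 0)) (.leaf (53, 347)))) (.node (.node (.leaf (3, 156)) (.leaf (1, 660))) (.node (.leaf (56, 411)) (.leaf (51, 107))))))) (.node (.node (.node (.node (.node (.node (.leaf (1, 17)) (.leaf (56, 225))) (.leaf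 (46, 376))) (.node (.leaf (56, 675)) (.leaf (1, 529)))) (.node (.node (.leaf (0, 0)) (.leaf (48, 138))) (.node (.leaf (0, 0)) (.leaf (9, 477))))) (.node (.node (.node (.node (.leaf (25, 21)) (.leaf (41, 348))) (.leaf (55, 602))) (.node (.leaf (56, 7)) (.leaf (56, 572)))) (.node (.node (.leaf (1, 145)) (.leaf (56, 644))) (.node (.leaf (56, 194)) (.leaf (54, 266)))))) (.node (.node (.node (.node (.node (.leaf (0, 0)) (.leaf (1, 721))) (.leaf (50, 531))) (.node (.leaf (0, 0)) (.leaf (54, 110)))) (.node (.node (.leaf (0, 0)) (.leaf (0, 0))) (.node (.leaf (56, 303)) (.leaf (55, 576))))) (.node (.node (.node (.leaf (5, 81)) (.leaf (50, 552))) (.node (.leaf (8, 666)) (.leaf (56, 405)))) (.node (.node (.leaf (55, 117)) (.leaf (53, 206))) (.node (.leaf (56, 563)) (.leaf (0, 0))))))))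

def threeVia21 : Janko.Tree (ℕ × ℕ) :=
  (.node (.node (.node (.node (.node (.node (.node (.leaf (0, 0)) (.leaf (13, 691))) (.leaf (1, 348))) (.node (.leaf (45, 268)) (.leaf (16, 147)))) (.node (.node (.leaf (0, 0)) (.leaf (0, 0))) (.node (.leaf (0, 0)) (.leaf (1, 604))))) (.node (.node (.node (.node (.leaf (0, 0)) (.leaf (10, 530))) (.leaf (56, 684))) (.node (.leaf (0, 0)) (.leaf (28, 29)))) (.node (.node (.leaf (52, 18)) (.leaf (0, 0))) (.node (.leaf (56, 244)) (.leaf (56, 647)))))) (.node (.node (.node (.node (.node (.leaf (0, 0)) (.leaf (55, 596))) (.leaf (52, 234))) (.node (.leaf (55, 466)) (.leaf (56, 240)))) (.node (.node (.leaf (0, 0)) (.leaf (49, 74))) (.node (.leaf (1, 284)) (.leaf (14, 341))))) (.node (.node (.node (.leaf (0, 0)) (.leaf (55, 40))) (.node (.leaf (0, 0)) (.leaf (31, 6)))) (.node (.node (.leaf (0, 0)) (.leaf (51, 240))) (.node (.leaf (53, 327)) (.leaf (56, 257))))))) (.node (.node (.node (.node (.node (.node (.leaf (0, 0)) (.leaf (1, 700))) (.leaf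 (56, 370))) (.node (.leaf (1, 188)) (.leaf (56, 584)))) (.node (.node (.leaf (45, 19)) (.leaf (0, 0))) (.node (.leaf (56, 305)) (.leaf (49, 115))))) (.node (.node (.node (.node (.leaf (0, 0)) (.leaf (42, 19))) (.leaf (44, 408))) (.node (.leaf (45, 81)) (.leaf (56, 235)))) (.node (.node (.leaf (0, 0)) (.leaf (55, 487))) (.node (.leaf (1, 535)) (.leaf (3, 14)))))) (.node (.node (.node (.node (.node (.leaf (0, 0)) (.leaf (56, 579))) (.leaf (54, 233))) (.node (.leaf (0, 0)) (.leaf (45, 82)))) (.node (.node (.leaf (1, 124)) (.leaf (52, 613))) (.node (.leaf (55, 667)) (.leaf (56, 591))))) (.node (.node (.node (.leaf (55, 526)) (.leaf (54, 147))) (.node (.leaf (55, 475)) (.leaf (27, 56)))) (.node (.node (.leaf (56, 167)) (.leaf (55, 124))) (.node (.leaf (13, 446)) (.leaf (56, 705))))))))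

def threeVia22 : Janko.Tree (ℕ × ℕ) :=
  (.node (.node (.node (.node (.node (.node (.node (.leaf (0, 0)) (.leaf (50, 278))) (.leaf (52, 113))) (.node (.leaf (7, 400)) (.leaf (54, 121)))) (.node (.node (.leaf (0, 0)) (.leaf (56, 283))) (.node (.leaf (0, 0)) (.leaf (53, 81))))) (.node (.node (.node (.node (.leaf (0, 0)) (.leaf (11, 252))) (.leaf (56, 476))) (.node (.leaf (12, 90)) (.leaf (54, 337)))) (.node (.node (.leaf (56, 500)) (.leaf (53, 200))) (.node (.leaf (0, 0)) (.leaf (56, 515)))))) (.node (.node (.node (.node (.node (.leaf (0, 0)) (.leaf (56, 510))) (.leaf (55, 167))) (.node (.leaf (54, 178)) (.leaf (5, 295)))) (.node (.node (.leaf (0, 0)) (.leaf (0, 0))) (.node (.leaf (56, 425)) (.leaf (45, 120))))) (.node (.node (.node (.leaf (0, 0)) (.leaf (52, 119))) (.node (.leaf (52, 242)) (.leaf (55, 687)))) (.node (.node (.leaf (5, 146)) (.leaf (3, 267))) (.node (.leaf (46, 457)) (.leaf (53, 504))))))) (.node (.node (.node (.node (.node (.node (.leaf (0, 0)) (.leaf (55,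 304))) (.leaf (1, 359))) (.node (.leaf (56, 616)) (.leaf (4, 708)))) (.node (.node (.leaf (0, 0)) (.leaf (23, 21))) (.node (.leaf (0, 0)) (.leaf (53, 708))))) (.node (.node (.node (.node (.leaf (0, 0)) (.leaf (43, 414))) (.leaf (56, 282))) (.node (.leaf (0, 0)) (.leaf (12, 318)))) (.node (.node (.leaf (0, 0)) (.leaf (0, 0))) (.node (.leaf (56, 377)) (.leaf (44, 253)))))) (.node (.node (.node (.node (.node (.leaf (0, 0)) (.leaf (30, 26))) (.leaf (56, 601))) (.node (.leaf (45, 448)) (.leaf (51, 622)))) (.node (.node (.leaf (0, 0)) (.leaf (0, 0))) (.node (.leaf (0, 0)) (.leaf (52, 435))))) (.node (.node (.node (.leaf (25, 69)) (.leaf (10, 577))) (.node (.leaf (0, 0)) (.leaf (10, 61)))) (.node (.node (.leaf (56, 530)) (.leaf (0, 0))) (.node (.leaf (55, 683)) (.leaf (1, 679))))))))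

def threeVia23 : Janko.Tree (ℕ × ℕ) :=
  (.node (.node (.node (.node (.node (.node (.node (.leaf (0, 0)) (.leaf (56, 608))) (.leaf (49, 61))) (.node (.leaf (0, 0)) (.leaf (0, 0)))) (.node (.node (.leaf (0, 0)) (.leaf (56, 620))) (.node (.leaf (50, 618)) (.leaf (51, 530))))) (.node (.node (.node (.node (.leaf (0, 0)) (.leaf (12, 251))) (.leaf (0, 0))) (.node (.leaf (56, 560)) (.leaf (55, 174)))) (.node (.node (.leaf (3, 18)) (.leaf (43, 253))) (.node (.leaf (0, 0)) (.leaf (44, 143)))))) (.node (.node (.node (.node (.node (.leaf (0, 0)) (.leaf (55, 135))) (.leaf (56, 444))) (.node (.leaf (56, 667)) (.leaf (50, 541)))) (.node (.node (.leaf (0, 0)) (.leaf (12, 600))) (.node (.leaf (0, 0)) (.leaf (0, 0))))) (.node (.node (.node (.leaf (0, 0)) (.leaf (55, 311))) (.node (.leaf (0, 0)) (.leaf (41, 10)))) (.node (.node (.leaf (0, 0)) (.leaf (56, 722))) (.node (.leaf (0, 0)) (.leaf (27, 241))))))) (.node (.node (.node (.node (.node (.node (.leaf (0, 0)) (.leaf (19, 521))) (.leaf (50,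 315))) (.node (.leaf (0, 0)) (.leaf (56, 174)))) (.node (.node (.leaf (14, 97)) (.leaf (25, 293))) (.node (.leaf (56, 75)) (.leaf (45, 111))))) (.node (.node (.node (.node (.leaf (0, 0)) (.leaf (44, 438))) (.leaf (56, 190))) (.node (.leaf (53, 360)) (.leaf (54, 41)))) (.node (.node (.leaf (0, 0)) (.leaf (0, 0))) (.node (.leaf (43, 61)) (.leaf (44, 655)))))) (.node (.node (.node (.node (.node (.leaf (0, 0)) (.leaf (56, 134))) (.leaf (56, 289))) (.node (.leaf (55, 30)) (.leaf (52, 513)))) (.node (.node (.leaf (0, 0)) (.leaf (0, 0))) (.node (.leaf (0, 0)) (.leaf (55, 459))))) (.node (.node (.node (.leaf (0, 0)) (.leaf (55, 453))) (.node (.leaf (0, 0)) (.leaf (54, 212)))) (.node (.node (.leaf (0, 0)) (.leaf (0, 0))) (.node (.leaf (0, 0)) (.leaf (53, 596))))))))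

def threeVia24 : Janko.Tree (ℕ × ℕ) :=
  (.node (.node (.node (.node (.node (.node (.node (.leaf (0, 0)) (.leaf (11, 506))) (.leaf (56, 143))) (.node (.leaf (0, 0)) (.leaf (45, 1)))) (.node (.node (.leaf (49, 526)) (.leaf (56, 554))) (.node (.leaf (45, 43)) (.leaf (51, 208))))) (.node (.node (.node (.node (.leaf (0, 0)) (.leaf (13, 156))) (.leaf (44, 604))) (.node (.leaf (1, 221)) (.leaf (10, 133)))) (.node (.node (.leaf (0, 0)) (.leaf (53, 614))) (.node (.leaf (0, 0)) (.leaf (56, 222)))))) (.node (.node (.node (.node (.node (.leaf (0, 0)) (.leaf (54, 466))) (.leaf (55, 235))) (.node (.leaf (0, 0)) (.leaf (0, 0)))) (.node (.node (.leaf (0, 0)) (.leaf (0, 0))) (.node (.leaf (0, 0)) (.leaf (56, 703))))) (.node (.node (.node (.leaf (11, 72)) (.leaf (1, 413))) (.node (.leaf (48, 82)) (.leaf (53, 154)))) (.node (.node (.leaf (0, 0)) (.leaf (10, 115))) (.node (.leaf (55, 175)) (.leaf (56, 45))))))) (.node (.node (.node (.node (.node (.node (.leaf (0, 0)) (.leaf (54, 347))) (.leaf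 (45, 163))) (.node (.leaf (5, 189)) (.leaf (3, 5)))) (.node (.node (.leaf (0, 0)) (.leaf (0, 0))) (.node (.leaf (0, 0)) (.leaf (40, 438))))) (.node (.node (.node (.node (.leaf (0, 0)) (.leaf (45, 108))) (.leaf (44, 242))) (.node (.leaf (55, 513)) (.leaf (1, 573)))) (.node (.node (.leaf (0, 0)) (.leaf (55, 277))) (.node (.leaf (56, 9)) (.leaf (55, 9)))))) (.node (.node (.node (.node (.node (.leaf (13, 40)) (.leaf (56, 264))) (.leaf (38, 125))) (.node (.leaf (52, 17)) (.leaf (53, 159)))) (.node (.node (.leaf (0, 0)) (.leaf (0, 0))) (.node (.leaf (9, 128)) (.leaf (0, 0))))) (.node (.node (.node (.leaf (0, 0)) (.leaf (56, 333))) (.node (.leaf (1, 253)) (.leaf (53, 415)))) (.node (.node (.leaf (53, 168)) (.leaf (56, 689))) (.node (.leaf (0, 0)) (.leaf (55, 59))))))))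

def threeVia25 : Janko.Tree (ℕ × ℕ) :=
  (.node (.node (.node (.node (.node (.node (.node (.leaf (1, 8)) (.leaf (53, 331))) (.leaf (0, 0))) (.node (.leaf (0, 0)) (.leaf (0, 0)))) (.node (.node (.leaf (0, 0)) (.leaf (48, 233))) (.node (.leaf (55, 458)) (.leaf (5, 372))))) (.node (.node (.node (.node (.leaf (0, 0)) (.leaf (14, 257))) (.leaf (56, 63))) (.node (.leaf (0, 0)) (.leaf (54, 596)))) (.node (.node (.leaf (0, 0)) (.leaf (13, 471))) (.node (.leaf (3, 307)) (.leaf (56, 266)))))) (.node (.node (.node (.node (.node (.leaf (52, 99)) (.leaf (53, 381))) (.leaf (56, 663))) (.node (.leaf (56, 255)) (.leaf (56, 619)))) (.node (.node (.leaf (0, 0)) (.leaf (56, 187))) (.node (.leaf (56, 502)) (.leaf (56, 627))))) (.node (.node (.node (.leaf (0, 0)) (.leaf (54, 441))) (.node (.leaf (0, 0)) (.leaf (55, 154)))) (.node (.node (.leaf (0, 0)) (.leaf (55, 371))) (.node (.leaf (56, 656)) (.leaf (56, 649))))))) (.node (.node (.node (.node (.node (.node (.leaf (0, 0)) (.leaf (56, 651)))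 (.leaf (56, 78))) (.node (.leaf (54, 264)) (.leaf (34, 124)))) (.node (.node (.leaf (0, 0)) (.leaf (44, 1))) (.node (.leaf (55, 275)) (.leaf (0, 0))))) (.node (.node (.node (.node (.leaf (0, 0)) (.leaf (46, 56))) (.leaf (46, 436))) (.node (.leaf (56, 569)) (.leaf (0, 0)))) (.node (.node (.leaf (0, 0)) (.leaf (0, 0))) (.node (.leaf (10, 52)) (.leaf (56, 670)))))) (.node (.node (.node (.node (.node (.leaf (0, 0)) (.leaf (56, 251))) (.leaf (46, 128))) (.node (.leaf (0, 0)) (.leaf (56, 265)))) (.node (.node (.leaf (53, 235)) (.leaf (44, 467))) (.node (.leaf (0, 0)) (.leaf (53, 589))))) (.node (.node (.node (.leaf (56, 69)) (.leaf (55, 63))) (.node (.leaf (56, 29)) (.leaf (56, 595)))) (.node (.node (.leaf (52, 215)) (.leaf (33, 19))) (.node (.leaf (0, 0)) (.leaf (54, 580))))))))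

def threeVia26 : Janko.Tree (ℕ × ℕ) :=
  (.node (.node (.node (.node (.node (.node (.node (.leaf (0, 0)) (.leaf (56, 374))) (.leaf (4, 350))) (.node (.leaf (4, 376)) (.leaf (56, 481)))) (.node (.node (.leaf (6, 186)) (.leaf (21, 451))) (.node (.leaf (3, 43)) (.leaf (56, 574))))) (.node (.node (.node (.node (.leaf (0, 0)) (.leaf (7, 0))) (.leaf (53, 655))) (.node (.leaf (3, 95)) (.leaf (56, 211)))) (.node (.node (.leaf (0, 0)) (.leaf (56, 478))) (.node (.leaf (0, 0)) (.leaf (56, 191)))))) (.node (.node (.node (.node (.node (.leaf (14, 234)) (.leaf (52, 16))) (.leaf (1, 371))) (.node (.leaf (0, 0)) (.leaf (55, 530)))) (.node (.node (.leaf (0, 0)) (.leaf (49, 8))) (.node (.leaf (0, 0)) (.leaf (0, 0))))) (.node (.node (.node (.leaf (0, 0)) (.leaf (44, 414))) (.node (.leaf (0, 0)) (.leaf (11, 334)))) (.node (.node (.leaf (52, 158)) (.leaf (56, 615))) (.node (.leaf (53, 119)) (.leaf (56, 165))))))) (.node (.node (.node (.node (.node (.node (.leaf (0, 0)) (.leaf (56, 702))) (.leaf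 (3, 2))) (.node (.leaf (50, 75)) (.leaf (56, 272)))) (.node (.node (.leaf (0, 0)) (.leaf (0, 0))) (.node (.leaf (0, 0)) (.leaf (36, 4))))) (.node (.node (.node (.node (.leaf (0, 0)) (.leaf (47, 239))) (.leaf (56, 99))) (.node (.leaf (5, 100)) (.leaf (54, 338)))) (.node (.node (.leaf (1, 269)) (.leaf (33, 348))) (.node (.leaf (45, 286)) (.leaf (1, 659)))))) (.node (.node (.node (.node (.node (.leaf (0, 0)) (.leaf (56, 204))) (.leaf (3, 8))) (.node (.leaf (45, 234)) (.leaf (53, 538)))) (.node (.node (.leaf (0, 0)) (.leaf (1, 467))) (.node (.leaf (0, 0)) (.leaf (54, 39))))) (.node (.node (.node (.leaf (0, 0)) (.leaf (53, 374))) (.node (.leaf (0, 0)) (.leaf (1, 595)))) (.node (.node (.leaf (12, 156)) (.leaf (55, 258))) (.node (.leaf (0, 0)) (.leaf (55, 690))))))))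

def threeVia27 : Janko.Tree (ℕ × ℕ) :=
  (.node (.node (.node (.node (.node (.node (.node (.leaf (0, 0)) (.leaf (56, 309))) (.leaf (0, 0))) (.node (.leaf (0, 0)) (.leaf (0, 0)))) (.node (.node (.leaf (0, 0)) (.leaf (35, 686))) (.node (.leaf (56, 145)) (.leaf (56, 720))))) (.node (.node (.node (.node (.leaf (0, 0)) (.leaf (16, 437))) (.leaf (56, 393))) (.node (.leaf (0, 0)) (.leaf (55, 634)))) (.node (.node (.leaf (3, 137)) (.leaf (1, 478))) (.node (.leaf (13, 49)) (.leaf (38, 250)))))) (.node (.node (.node (.node (.node (.leaf (0, 0)) (.leaf (35, 140))) (.leaf (53, 321))) (.node (.leaf (56, 479)) (.leaf (56, 28)))) (.node (.node (.leaf (0, 0)) (.leaf (45, 26))) (.node (.leaf (45, 16)) (.leaf (53, 87))))) (.node (.node (.node (.leaf (0, 0)) (.leaf (23, 97))) (.node (.leaf (0, 0)) (.leaf (53, 210)))) (.node (.node (.leaf (1, 158)) (.leaf (55, 640))) (.node (.leaf (52, 146)) (.leaf (56, 428))))))) (.node (.node (.node (.node (.node (.node (.leaf (0, 0)) (.leaf (53, 280))) (.leaf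 (56, 23))) (.node (.leaf (0, 0)) (.leaf (0, 0)))) (.node (.node (.leaf (0, 0)) (.leaf (0, 0))) (.node (.leaf (0, 0)) (.leaf (56, 617))))) (.node (.node (.node (.node (.leaf (0, 0)) (.leaf (48, 19))) (.leaf (53, 351))) (.node (.leaf (0, 0)) (.leaf (56, 396)))) (.node (.node (.leaf (0, 0)) (.leaf (56, 288))) (.node (.leaf (56, 441)) (.leaf (56, 345)))))) (.node (.node (.node (.node (.node (.leaf (0, 0)) (.leaf (55, 435))) (.leaf (56, 146))) (.node (.leaf (56, 219)) (.leaf (55, 261)))) (.node (.node (.leaf (0, 0)) (.leaf (0, 0))) (.node (.leaf (0, 0)) (.leaf (56, 589))))) (.node (.node (.node (.leaf (56, 110)) (.leaf (55, 425))) (.node (.leaf (0, 0)) (.leaf (54, 669)))) (.node (.node (.leaf (0, 0)) (.leaf (0, 0))) (.node (.leaf (53, 448)) (.leaf (55, 681))))))))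

def threeVia28 : Janko.Tree (ℕ × ℕ) :=
  (.node (.node (.node (.node (.node (.node (.node (.leaf (0, 0)) (.leaf (56, 692))) (.leaf (56, 592))) (.node (.leaf (0, 0)) (.leaf (55, 670)))) (.node (.node (.leaf (5, 35)) (.leaf (39, 436))) (.node (.leaf (0, 0)) (.leaf (56, 477))))) (.node (.node (.node (.node (.leaf (0, 0)) (.leaf (17, 10))) (.leaf (1, 393))) (.node (.leaf (25, 577)) (.leaf (56, 310)))) (.node (.node (.leaf (0, 0)) (.leaf (23, 415))) (.node (.leaf (0, 0)) (.leaf (56, 494)))))) (.node (.node (.node (.node (.node (.leaf (3, 3)) (.leaf (54, 696))) (.leaf (56, 372))) (.node (.leaf (0, 0)) (.leaf (56, 499)))) (.node (.node (.leaf (0, 0)) (.leaf (0, 0))) (.node (.leaf (42, 184)) (.leaf (45, 59))))) (.node (.node (.node (.leaf (0, 0)) (.leaf (53, 18))) (.node (.leaf (35, 124)) (.leaf (56, 728)))) (.node (.node (.leaf (0, 0)) (.leaf (29, 98))) (.node (.leaf (56, 199)) (.leaf (49, 241))))))) (.node (.node (.node (.node (.node (.node (.leaf (0, 0)) (.leaf (13, 524))) (.leaf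 (55, 580))) (.node (.leaf (0, 0)) (.leaf (55, 374)))) (.node (.node (.leaf (1, 105)) (.leaf (14, 343))) (.node (.leaf (0, 0)) (.leaf (0, 0))))) (.node (.node (.node (.node (.leaf (55, 628)) (.leaf (49, 436))) (.leaf (56, 652))) (.node (.leaf (54, 569)) (.leaf (55, 61)))) (.node (.node (.leaf (16, 20)) (.leaf (0, 0))) (.node (.leaf (55, 498)) (.leaf (56, 660)))))) (.node (.node (.node (.node (.node (.leaf (0, 0)) (.leaf (47, 555))) (.leaf (44, 16))) (.node (.leaf (0, 0)) (.leaf (56, 713)))) (.node (.node (.leaf (0, 0)) (.leaf (42, 468))) (.node (.leaf (0, 0)) (.leaf (0, 0))))) (.node (.node (.node (.leaf (0, 0)) (.leaf (18, 468))) (.node (.leaf (55, 236)) (.leaf (8, 211)))) (.node (.node (.leaf (0, 0)) (.leaf (0, 0))) (.node (.leaf (53, 59)) (.leaf (56, 585))))))))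

def threeVia29 : Janko.Tree (ℕ × ℕ) :=
  (.node (.node (.node (.node (.node (.node (.node (.leaf (0, 0)) (.leaf (1, 692))) (.leaf (0, 0))) (.node (.leaf (1, 180)) (.leaf (56, 659)))) (.node (.node (.leaf (0, 0)) (.leaf (0, 0))) (.node (.leaf (0, 0)) (.leaf (4, 607))))) (.node (.node (.node (.node (.leaf (0, 0)) (.leaf (18, 24))) (.leaf (56, 353))) (.node (.leaf (56, 216)) (.leaf (54, 708)))) (.node (.node (.leaf (3, 123)) (.leaf (55, 407))) (.node (.leaf (52, 405)) (.leaf (55, 633)))))) (.node (.node (.node (.node (.node (.leaf (0, 0)) (.leaf (41, 36))) (.leaf (0, 0))) (.node (.leaf (0, 0)) (.leaf (3, 543)))) (.node (.node (.leaf (0, 0)) (.leaf (53, 170))) (.node (.leaf (0, 0)) (.leaf (56, 343))))) (.node (.node (.node (.leaf (0, 0)) (.leaf (16, 88))) (.node (.leaf (0, 0)) (.leaf (56, 2)))) (.node (.node (.leaf (56, 594)) (.leaf (55, 682))) (.node (.leaf (41, 30)) (.leaf (3, 42))))))) (.node (.node (.node (.node (.node (.node (.leaf (0, 0)) (.leaf (55, 599))) (.leaf (54,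 456))) (.node (.leaf (56, 183)) (.leaf (56, 304)))) (.node (.node (.leaf (0, 0)) (.leaf (56, 273))) (.node (.leaf (53, 509)) (.leaf (23, 45))))) (.node (.node (.node (.node (.leaf (7, 202)) (.leaf (50, 36))) (.leaf (56, 91))) (.node (.leaf (44, 108)) (.leaf (46, 143)))) (.node (.node (.leaf (53, 457)) (.leaf (0, 0))) (.node (.leaf (0, 0)) (.leaf (23, 266)))))) (.node (.node (.node (.node (.node (.leaf (0, 0)) (.leaf (55, 594))) (.leaf (22, 71))) (.node (.leaf (0, 0)) (.leaf (55, 606)))) (.node (.node (.leaf (56, 58)) (.leaf (23, 40))) (.node (.leaf (0, 0)) (.leaf (55, 42))))) (.node (.node (.node (.leaf (0, 0)) (.leaf (56, 422))) (.node (.leaf (0, 0)) (.leaf (56, 226)))) (.node (.node (.leaf (0, 0)) (.leaf (0, 0))) (.node (.leaf (56, 59)) (.leaf (56, 708))))))))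

def threeVia30 : Janko.Tree (ℕ × ℕ) :=
  (.node (.node (.node (.node (.node (.node (.node (.leaf (0, 0)) (.leaf (56, 433))) (.leaf (54, 622))) (.node (.leaf (0, 0)) (.leaf (41, 147)))) (.node (.node (.leaf (0, 0)) (.leaf (50, 39))) (.node (.leaf (3, 266)) (.leaf (55, 228))))) (.node (.node (.node (.node (.leaf (0, 0)) (.leaf (19, 38))) (.leaf (35, 106))) (.node (.leaf (56, 464)) (.leaf (49, 605)))) (.node (.node (.leaf (0, 0)) (.leaf (0, 0))) (.node (.leaf (0, 0)) (.leaf (45, 4)))))) (.node (.node (.node (.node (.node (.leaf (0, 0)) (.leaf (45, 168))) (.leaf (56, 263))) (.node (.leaf (3, 202)) (.leaf (49, 604)))) (.node (.node (.leaf (50, 657)) (.leaf (0, 0))) (.node (.leaf (56, 120)) (.leaf (44, 6))))) (.node (.node (.node (.leaf (0, 0)) (.leaf (56, 107))) (.node (.leaf (0, 0)) (.leaf (56, 586)))) (.node (.node (.leaf (0, 0)) (.leaf (49, 502))) (.node (.leaf (49, 101)) (.leaf (54, 143))))))) (.node (.node (.node (.node (.node (.node (.leaf (0, 0)) (.leaf (52, 446))) (.leaf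 (53, 165))) (.node (.leaf (43, 249)) (.leaf (53, 178)))) (.node (.node (.leaf (45, 106)) (.leaf (1, 447))) (.node (.leaf (0, 0)) (.leaf (48, 618))))) (.node (.node (.node (.node (.leaf (0, 0)) (.leaf (51, 360))) (.leaf (13, 458))) (.node (.leaf (0, 234)) (.leaf (53, 213)))) (.node (.node (.leaf (0, 0)) (.leaf (3, 490))) (.node (.leaf (55, 563)) (.leaf (55, 165)))))) (.node (.node (.node (.node (.node (.leaf (0, 0)) (.leaf (56, 286))) (.leaf (54, 71))) (.node (.leaf (0, 0)) (.leaf (55, 302)))) (.node (.node (.leaf (0, 0)) (.leaf (0, 0))) (.node (.leaf (0, 0)) (.leaf (52, 8))))) (.node (.node (.node (.leaf (0, 0)) (.leaf (56, 420))) (.node (.leaf (0, 0)) (.leaf (0, 0)))) (.node (.node (.leaf (52, 170)) (.leaf (50, 147))) (.node (.leaf (31, 103)) (.leaf (49, 618))))))))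

def threeVia31 : Janko.Tree (ℕ × ℕ) :=
  (.node (.node (.node (.node (.node (.node (.node (.leaf (0, 0)) (.leaf (56, 693))) (.leaf (52, 211))) (.node (.leaf (0, 0)) (.leaf (39, 449)))) (.node (.node (.leaf (52, 105)) (.leaf (0, 0))) (.node (.leaf (0, 0)) (.leaf (53, 510))))) (.node (.node (.node (.node (.leaf (0, 0)) (.leaf (8, 0))) (.leaf (46, 466))) (.node (.leaf (56, 629)) (.leaf (55, 391)))) (.node (.node (.leaf (0, 0)) (.leaf (0, 0))) (.node (.leaf (54, 167)) (.leaf (52, 355)))))) (.node (.node (.node (.node (.node (.leaf (0, 0)) (.leaf (56, 484))) (.leaf (56, 316))) (.node (.leaf (44, 482)) (.leaf (7, 530)))) (.node (.node (.leaf (0, 0)) (.leaf (0, 0))) (.node (.leaf (56, 726)) (.leaf (55, 39))))) (.node (.node (.node (.leaf (0, 0)) (.leaf (29, 36))) (.node (.leaf (0, 0)) (.leaf (1, 586)))) (.node (.node (.leaf (0, 0)) (.leaf (56, 501))) (.node (.leaf (0, 0)) (.leaf (34, 156))))))) (.node (.node (.node (.node (.node (.node (.leaf (0, 0)) (.leaf (49, 405))) (.leaf (0,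 0))) (.node (.leaf (56, 188)) (.leaf (48, 290)))) (.node (.node (.leaf (0, 0)) (.leaf (0, 0))) (.node (.leaf (49, 156)) (.leaf (56, 315))))) (.node (.node (.node (.node (.leaf (0, 0)) (.leaf (52, 106))) (.leaf (39, 81))) (.node (.leaf (0, 0)) (.leaf (38, 457)))) (.node (.node (.leaf (25, 234)) (.leaf (0, 0))) (.node (.leaf (0, 0)) (.leaf (56, 661)))))) (.node (.node (.node (.node (.node (.leaf (1, 42)) (.leaf (56, 725))) (.leaf (56, 562))) (.node (.leaf (3, 213)) (.leaf (56, 106)))) (.node (.node (.leaf (0, 0)) (.leaf (0, 0))) (.node (.leaf (29, 437)) (.leaf (56, 678))))) (.node (.node (.node (.leaf (55, 399)) (.leaf (56, 169))) (.node (.leaf (0, 0)) (.leaf (56, 597)))) (.node (.node (.leaf (0, 0)) (.leaf (44, 84))) (.node (.leaf (53, 628)) (.leaf (55, 274))))))))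

def threeVia : Janko.Tree (ℕ × ℕ) := (.node (.node (.node (.node (.node threeVia0 threeVia16) (.node threeVia8 threeVia24)) (.node (.node threeVia4 threeVia20) (.node threeVia12 threeVia28))) (.node (.node (.node threeVia2 threeVia18) (.node threeVia10 threeVia26)) (.node (.node threeVia6 threeVia22) (.node threeVia14 threeVia30)))) (.node (.node (.node (.node threeVia1 threeVia17) (.node threeVia9 threeVia25)) (.node (.node threeVia5 threeVia21) (.node threeVia13 threeVia29))) (.node (.node (.node threeVia3 threeVia19) (.node threeVia11 threeVia27)) (.node (.node threeVia7 threeVia23) (.node threeVia15 threeVia31)))))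

def threeOrd0 : Janko.Tree (ℕ) :=
  (.node (.node (.node (.node (.node (.node (.node (.leaf 0) (.leaf 581)) (.leaf 5)) (.node (.node (.leaf 397) (.leaf 419)) (.leaf 599))) (.node (.node (.node (.leaf 78) (.leaf 457)) (.leaf 297)) (.node (.node (.leaf 579) (.leaf 309)) (.leaf 34)))) (.node (.node (.node (.node (.leaf 171) (.leaf 187)) (.leaf 40)) (.node (.node (.leaf 695) (.leaf 217)) (.leaf 256))) (.node (.node (.node (.leaf 423) (.leaf 90)) (.leaf 150)) (.node (.leaf 186) (.leaf 535))))) (.node (.node (.node (.node (.node (.leaf 727) (.leaf 291)) (.leaf 482)) (.node (.node (.leaf 127) (.leaf 197)) (.leaf 494))) (.node (.node (.node (.leaf 69) (.leaf 525)) (.leaf 180)) (.node (.node (.leaf 584) (.leaf 332)) (.leaf 45)))) (.node (.node (.node (.node (.leaf 151) (.leaf 710)) (.leaf 410)) (.node (.node (.leaf 51) (.leaf 656)) (.leaf 275))) (.node (.node (.node (.leaf 19) (.leaf 246)) (.leaf 691)) (.node (.leaf 652) (.leaf 447)))))) (.node (.node (.node (.node (.node (.node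 (.leaf 389) (.leaf 301)) (.leaf 157)) (.node (.node (.leaf 168) (.leaf 166)) (.leaf 610))) (.node (.node (.node (.leaf 521) (.leaf 537)) (.leaf 651)) (.node (.node (.leaf 534) (.leaf 348)) (.leaf 283)))) (.node (.node (.node (.node (.leaf 198) (.leaf 677)) (.leaf 567)) (.node (.node (.leaf 596) (.leaf 214)) (.leaf 414))) (.node (.node (.node (.leaf 32) (.leaf 449)) (.leaf 126)) (.node (.leaf 122) (.leaf 523))))) (.node (.node (.node (.node (.node (.leaf 13) (.leaf 336)) (.leaf 591)) (.node (.node (.leaf 640) (.leaf 177)) (.leaf 317))) (.node (.node (.node (.leaf 717) (.leaf 72)) (.leaf 679)) (.node (.node (.leaf 164) (.leaf 430)) (.leaf 527)))) (.node (.node (.node (.node (.leaf 543) (.leaf 498)) (.leaf 400)) (.node (.node (.leaf 524) (.leaf 12)) (.leaf 372))) (.node (.node (.node (.leaf 298) (.leaf 252)) (.leaf 107)) (.node (.leaf 146) (.leaf 539)))))))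

def threeOrd1 : Janko.Tree (ℕ) :=
  (.node (.node (.node (.node (.node (.node (.node (.leaf 396) (.leaf 238)) (.leaf 211)) (.node (.node (.leaf 324) (.leaf 236)) (.leaf 478))) (.node (.node (.node (.leaf 512) (.leaf 571)) (.leaf 362)) (.node (.node (.leaf 84) (.leaf 337)) (.leaf 328)))) (.node (.node (.node (.node (.leaf 671) (.leaf 700)) (.leaf 526)) (.node (.node (.leaf 134) (.leaf 203)) (.leaf 426))) (.node (.node (.node (.leaf 300) (.leaf 566)) (.leaf 123)) (.node (.leaf 617) (.leaf 561))))) (.node (.node (.node (.node (.node (.leaf 262) (.leaf 393)) (.leaf 538)) (.node (.node (.leaf 650) (.leaf 631)) (.leaf 560))) (.node (.node (.node (.leaf 714) (.leaf 64)) (.leaf 9)) (.node (.node (.leaf 586) (.leaf 35)) (.leaf 601)))) (.node (.node (.node (.node (.leaf 162) (.leaf 181)) (.leaf 25)) (.node (.node (.leaf 552) (.leaf 630)) (.leaf 267))) (.node (.node (.node (.leaf 318) (.leaf 422)) (.leaf 674)) (.node (.leaf 115) (.leaf 500)))))) (.node (.node (.node (.node (.node (.node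 (.leaf 387) (.leaf 37)) (.leaf 175)) (.node (.node (.leaf 153) (.leaf 103)) (.leaf 608))) (.node (.node (.node (.leaf 577) (.leaf 588)) (.leaf 106)) (.node (.node (.leaf 100) (.leaf 296)) (.leaf 241)))) (.node (.node (.node (.node (.leaf 125) (.leaf 707)) (.leaf 307)) (.node (.node (.leaf 509) (.leaf 623)) (.leaf 26))) (.node (.node (.node (.leaf 434) (.leaf 497)) (.leaf 7)) (.node (.leaf 661) (.leaf 86))))) (.node (.node (.node (.node (.node (.leaf 726) (.leaf 270)) (.leaf 54)) (.node (.node (.leaf 174) (.leaf 189)) (.leaf 428))) (.node (.node (.node (.leaf 407) (.leaf 444)) (.leaf 147)) (.node (.leaf 149) (.leaf 573)))) (.node (.node (.node (.node (.leaf 88) (.leaf 50)) (.leaf 260)) (.node (.node (.leaf 461) (.leaf 667)) (.leaf 254))) (.node (.node (.node (.leaf 338) (.leaf 16)) (.leaf 228)) (.node (.leaf 625) (.leaf 511)))))))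

def threeOrd2 : Janko.Tree (ℕ) :=
  (.node (.node (.node (.node (.node (.node (.node (.leaf 413) (.leaf 266)) (.leaf 222)) (.node (.node (.leaf 371) (.leaf 276)) (.leaf 611))) (.node (.node (.node (.leaf 85) (.leaf 68)) (.leaf 273)) (.node (.node (.leaf 63) (.leaf 431)) (.leaf 258)))) (.node (.node (.node (.node (.leaf 647) (.leaf 711)) (.leaf 533)) (.node (.node (.leaf 515) (.leaf 632)) (.leaf 370))) (.node (.node (.node (.leaf 392) (.leaf 49)) (.leaf 11)) (.node (.leaf 225) (.leaf 603))))) (.node (.node (.node (.node (.node (.leaf 320) (.leaf 257)) (.leaf 472)) (.node (.node (.leaf 634) (.leaf 669)) (.leaf 486))) (.node (.node (.node (.leaf 303) (.leaf 546)) (.leaf 121)) (.node (.node (.leaf 91) (.leaf 27)) (.leaf 454)))) (.node (.node (.node (.node (.leaf 145) (.leaf 173)) (.leaf 369)) (.node (.node (.leaf 436) (.leaf 681)) (.leaf 353))) (.node (.node (.node (.leaf 398) (.leaf 20)) (.leaf 690)) (.node (.leaf 140) (.leaf 460)))))) (.node (.node (.node (.node (.node (.node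 (.leaf 432) (.leaf 721)) (.leaf 111)) (.node (.node (.leaf 209) (.leaf 10)) (.leaf 456))) (.node (.node (.node (.leaf 446) (.leaf 541)) (.leaf 109)) (.node (.node (.leaf 53) (.leaf 286)) (.leaf 305)))) (.node (.node (.node (.node (.leaf 218) (.leaf 709)) (.leaf 304)) (.node (.node (.leaf 466) (.leaf 182)) (.leaf 263))) (.node (.node (.node (.leaf 335) (.leaf 503)) (.leaf 208)) (.node (.leaf 112) (.leaf 66))))) (.node (.node (.node (.node (.node (.leaf 342) (.leaf 351)) (.leaf 547)) (.node (.node (.leaf 686) (.leaf 644)) (.leaf 358))) (.node (.node (.node (.leaf 719) (.leaf 52)) (.leaf 137)) (.node (.leaf 231) (.leaf 600)))) (.node (.node (.node (.node (.leaf 57) (.leaf 569)) (.leaf 344)) (.node (.node (.leaf 513) (.leaf 645)) (.leaf 23))) (.node (.node (.node (.leaf 366) (.leaf 347)) (.leaf 532)) (.node (.leaf 216) (.leaf 570)))))))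

def threeOrd3 : Janko.Tree (ℕ) :=
  (.node (.node (.node (.node (.node (.node (.node (.leaf 312) (.leaf 278)) (.leaf 615)) (.node (.node (.leaf 30) (.leaf 349)) (.leaf 491))) (.node (.node (.node (.leaf 95) (.leaf 592)) (.leaf 281)) (.node (.node (.leaf 519) (.leaf 418)) (.leaf 285)))) (.node (.node (.node (.node (.leaf 138) (.leaf 712)) (.leaf 510)) (.node (.node (.leaf 582) (.leaf 120)) (.leaf 330))) (.node (.node (.node (.leaf 361) (.leaf 490)) (.leaf 689)) (.node (.leaf 195) (.leaf 550))))) (.node (.node (.node (.node (.node (.leaf 394) (.leaf 279)) (.leaf 499)) (.node (.node (.leaf 8) (.leaf 683)) (.leaf 495))) (.node (.node (.node (.leaf 284) (.leaf 462)) (.leaf 666)) (.node (.node (.leaf 76) (.leaf 385)) (.leaf 565)))) (.node (.node (.node (.node (.leaf 627) (.leaf 680)) (.leaf 429)) (.node (.node (.leaf 48) (.leaf 108)) (.leaf 292))) (.node (.node (.node (.leaf 364) (.leaf 264)) (.leaf 649)) (.node (.leaf 206) (.leaf 572)))))) (.node (.node (.node (.node (.node (.node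 (.leaf 373) (.leaf 247)) (.leaf 227)) (.node (.node (.leaf 662) (.leaf 635)) (.leaf 97))) (.node (.node (.node (.leaf 506) (.leaf 590)) (.leaf 713)) (.node (.node (.leaf 598) (.leaf 293)) (.leaf 56)))) (.node (.node (.node (.node (.leaf 129) (.leaf 193)) (.leaf 28)) (.node (.node (.leaf 89) (.leaf 167)) (.leaf 350))) (.node (.node (.node (.leaf 399) (.leaf 488)) (.leaf 202)) (.node (.leaf 648) (.leaf 549))))) (.node (.node (.node (.node (.node (.leaf 629) (.leaf 331)) (.leaf 529)) (.node (.node (.leaf 136) (.leaf 708)) (.leaf 402))) (.node (.node (.node (.leaf 391) (.leaf 574)) (.leaf 213)) (.node (.leaf 190) (.leaf 558)))) (.node (.node (.node (.node (.leaf 82) (.leaf 75)) (.leaf 261)) (.node (.node (.leaf 39) (.leaf 693)) (.leaf 319))) (.node (.node (.node (.leaf 356) (.leaf 420)) (.leaf 501)) (.node (.leaf 163) (.leaf 58)))))))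

def threeOrd4 : Janko.Tree (ℕ) :=
  (.node (.node (.node (.node (.node (.node (.node (.leaf 302) (.leaf 325)) (.leaf 119)) (.node (.node (.leaf 718) (.leaf 239)) (.leaf 609))) (.node (.node (.node (.leaf 96) (.leaf 42)) (.leaf 219)) (.node (.node (.leaf 41) (.leaf 354)) (.leaf 390)))) (.node (.node (.node (.node (.leaf 178) (.leaf 199)) (.leaf 602)) (.node (.node (.leaf 448) (.leaf 637)) (.leaf 424))) (.node (.node (.node (.leaf 383) (.leaf 493)) (.leaf 116)) (.node (.leaf 132) (.leaf 470))))) (.node (.node (.node (.node (.node (.leaf 308) (.leaf 412)) (.leaf 450)) (.node (.node (.leaf 697) (.leaf 706)) (.leaf 578))) (.node (.node (.node (.leaf 378) (.leaf 576)) (.leaf 144)) (.node (.node (.leaf 44) (.leaf 433)) (.leaf 487)))) (.node (.node (.node (.node (.leaf 620) (.leaf 191)) (.leaf 311)) (.node (.node (.leaf 471) (.leaf 185)) (.leaf 404))) (.node (.node (.node (.leaf 359) (.leaf 367)) (.leaf 618)) (.node (.leaf 233) (.leaf 47)))))) (.node (.node (.node (.node (.node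 (.node (.leaf 725) (.leaf 250)) (.leaf 673)) (.node (.node (.leaf 113) (.leaf 658)) (.leaf 74))) (.node (.node (.node (.leaf 475) (.leaf 542)) (.leaf 215)) (.node (.node (.leaf 504) (.leaf 272)) (.leaf 459)))) (.node (.node (.node (.node (.leaf 207) (.leaf 675)) (.leaf 313)) (.node (.node (.leaf 517) (.leaf 660)) (.leaf 295))) (.node (.node (.node (.leaf 253) (.leaf 455)) (.leaf 135)) (.node (.leaf 622) (.leaf 469))))) (.node (.node (.node (.node (.node (.leaf 642) (.leaf 633)) (.leaf 607)) (.node (.node (.leaf 194) (.leaf 663)) (.leaf 289))) (.node (.node (.node (.leaf 36) (.leaf 516)) (.leaf 628)) (.node (.leaf 131) (.leaf 60)))) (.node (.node (.node (.node (.leaf 580) (.leaf 443)) (.leaf 379)) (.node (.node (.leaf 87) (.leaf 621)) (.leaf 248))) (.node (.node (.node (.leaf 380) (.leaf 360)) (.leaf 554)) (.node (.leaf 148) (.leaf 79)))))))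

def threeOrd5 : Janko.Tree (ℕ) :=
  (.node (.node (.node (.node (.node (.node (.node (.leaf 294) (.leaf 388)) (.leaf 701)) (.node (.node (.leaf 425) (.leaf 333)) (.leaf 540))) (.node (.node (.node (.leaf 465) (.leaf 568)) (.leaf 141)) (.node (.node (.leaf 67) (.leaf 242)) (.leaf 382)))) (.node (.node (.node (.node (.leaf 200) (.leaf 638)) (.leaf 605)) (.node (.node (.leaf 59) (.leaf 705)) (.leaf 411))) (.node (.node (.node (.leaf 715) (.leaf 481)) (.leaf 226)) (.node (.leaf 668) (.leaf 489))))) (.node (.node (.node (.node (.node (.leaf 365) (.leaf 22)) (.leaf 548)) (.node (.node (.leaf 196) (.leaf 682)) (.leaf 375))) (.node (.node (.node (.leaf 268) (.leaf 442)) (.leaf 128)) (.node (.node (.leaf 463) (.leaf 327)) (.leaf 484)))) (.node (.node (.node (.node (.leaf 205) (.leaf 703)) (.leaf 352)) (.node (.node (.leaf 98) (.leaf 161)) (.leaf 377))) (.node (.node (.node (.leaf 290) (.leaf 255)) (.leaf 692)) (.node (.leaf 220) (.leaf 476)))))) (.node (.node (.node (.node (.node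 (.node (.leaf 724) (.leaf 334)) (.leaf 188)) (.node (.node (.leaf 613) (.leaf 670)) (.leaf 1))) (.node (.node (.node (.leaf 508) (.leaf 94)) (.leaf 676)) (.node (.node (.leaf 583) (.leaf 343)) (.leaf 71)))) (.node (.node (.node (.node (.leaf 232) (.leaf 221)) (.leaf 408)) (.node (.node (.leaf 480) (.leaf 678)) (.leaf 17))) (.node (.node (.node (.leaf 720) (.leaf 329)) (.leaf 104)) (.node (.leaf 201) (.leaf 70))))) (.node (.node (.node (.node (.node (.leaf 160) (.leaf 639)) (.leaf 65)) (.node (.node (.leaf 165) (.leaf 696)) (.leaf 315))) (.node (.node (.node (.leaf 288) (.leaf 99)) (.leaf 230)) (.node (.leaf 158) (.leaf 597)))) (.node (.node (.node (.node (.leaf 439) (.leaf 452)) (.leaf 346)) (.node (.node (.leaf 518) (.leaf 672)) (.leaf 406))) (.node (.node (.node (.leaf 310) (.leaf 274)) (.leaf 562)) (.node (.leaf 699) (.leaf 83)))))))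

def threeOrd6 : Janko.Tree (ℕ) :=
  (.node (.node (.node (.node (.node (.node (.node (.leaf 723) (.leaf 340)) (.leaf 698)) (.node (.node (.leaf 15) (.leaf 323)) (.leaf 606))) (.node (.node (.node (.leaf 440) (.leaf 520)) (.leaf 614)) (.node (.node (.leaf 553) (.leaf 24)) (.leaf 321)))) (.node (.node (.node (.node (.leaf 184) (.leaf 636)) (.leaf 531)) (.node (.node (.leaf 441) (.leaf 684)) (.leaf 405))) (.node (.node (.node (.leaf 21) (.leaf 536)) (.leaf 143)) (.node (.leaf 183) (.leaf 458))))) (.node (.node (.node (.node (.node (.leaf 314) (.leaf 33)) (.leaf 563)) (.node (.node (.leaf 105) (.leaf 6)) (.leaf 403))) (.node (.node (.node (.leaf 395) (.leaf 522)) (.leaf 117)) (.node (.node (.leaf 585) (.leaf 249)) (.leaf 557)))) (.node (.node (.node (.node (.leaf 485) (.leaf 101)) (.leaf 245)) (.node (.node (.leaf 575) (.leaf 179)) (.leaf 299))) (.node (.node (.node (.leaf 401) (.leaf 415)) (.leaf 657)) (.node (.leaf 653) (.leaf 483)))))) (.node (.node (.node (.node (.node (.node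 (.leaf 363) (.leaf 376)) (.leaf 564)) (.node (.node (.leaf 685) (.leaf 169)) (.leaf 514))) (.node (.node (.node (.leaf 46) (.leaf 473)) (.leaf 210)) (.node (.node (.leaf 93) (.leaf 341)) (.leaf 604)))) (.node (.node (.node (.node (.leaf 110) (.leaf 664)) (.leaf 322)) (.node (.node (.leaf 594) (.leaf 139)) (.leaf 355))) (.node (.node (.node (.leaf 716) (.leaf 435)) (.leaf 212)) (.node (.leaf 192) (.leaf 502))))) (.node (.node (.node (.node (.node (.leaf 624) (.leaf 156)) (.leaf 3)) (.node (.node (.leaf 619) (.leaf 655)) (.leaf 244))) (.node (.node (.node (.leaf 357) (.leaf 81)) (.leaf 155)) (.node (.leaf 616) (.leaf 80)))) (.node (.node (.node (.node (.leaf 61) (.leaf 528)) (.leaf 316)) (.node (.node (.leaf 445) (.leaf 14)) (.leaf 271))) (.node (.node (.node (.leaf 427) (.leaf 386)) (.leaf 38)) (.node (.leaf 172) (.leaf 92)))))))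

def threeOrd7 : Janko.Tree (ℕ) :=
  (.node (.node (.node (.node (.node (.node (.node (.leaf 234) (.leaf 240)) (.leaf 224)) (.node (.node (.leaf 665) (.leaf 282)) (.leaf 551))) (.node (.node (.node (.leaf 559) (.leaf 496)) (.leaf 170)) (.node (.node (.leaf 530) (.leaf 235)) (.leaf 326)))) (.node (.node (.node (.node (.leaf 687) (.leaf 643)) (.leaf 589)) (.node (.node (.leaf 593) (.leaf 688)) (.leaf 265))) (.node (.node (.node (.leaf 306) (.leaf 62)) (.leaf 159)) (.node (.leaf 223) (.leaf 464))))) (.node (.node (.node (.node (.node (.leaf 384) (.leaf 18)) (.leaf 474)) (.node (.node (.leaf 654) (.leaf 124)) (.leaf 374))) (.node (.node (.node (.leaf 259) (.leaf 73)) (.leaf 154)) (.node (.node (.leaf 55) (.leaf 345)) (.leaf 507)))) (.node (.node (.node (.node (.leaf 43) (.leaf 479)) (.leaf 251)) (.node (.node (.leaf 477) (.leaf 130)) (.leaf 339))) (.node (.node (.node (.leaf 381) (.leaf 29)) (.leaf 702)) (.node (.leaf 102) (.leaf 544)))))) (.node (.node (.node (.node (.node (.node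 (.leaf 728) (.leaf 416)) (.leaf 505)) (.node (.node (.leaf 229) (.leaf 641)) (.leaf 595))) (.node (.node (.node (.leaf 555) (.leaf 438)) (.leaf 204)) (.node (.node (.leaf 437) (.leaf 280)) (.leaf 587)))) (.node (.node (.node (.node (.leaf 142) (.leaf 4)) (.leaf 243)) (.node (.node (.leaf 2) (.leaf 704)) (.leaf 277))) (.node (.node (.node (.leaf 722) (.leaf 31)) (.leaf 659)) (.node (.leaf 176) (.leaf 451))))) (.node (.node (.node (.node (.node (.leaf 118) (.leaf 133)) (.leaf 492)) (.node (.node (.leaf 694) (.leaf 646)) (.leaf 237))) (.node (.node (.node (.leaf 368) (.leaf 467)) (.leaf 152)) (.node (.leaf 626) (.leaf 545)))) (.node (.node (.node (.node (.leaf 612) (.leaf 77)) (.leaf 269)) (.node (.node (.leaf 468) (.leaf 409)) (.leaf 417))) (.node (.node (.node (.leaf 287) (.leaf 421)) (.leaf 556)) (.node (.leaf 114) (.leaf 453)))))))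

def threeOrd : Janko.Tree (ℕ) := (.node (.node (.node threeOrd0 threeOrd4) (.node threeOrd2 threeOrd6)) (.node (.node threeOrd1 threeOrd5) (.node threeOrd3 threeOrd7)))

def threeRels : List (List ℕ) := [[0, 0, 0, 0, 0, 0, 0, 0, 0],
  [1, 1, 1],
  [2, 2, 2, 2, 2, 2, 2, 2, 2],
  [0, 0, 2, 2, 0, 2],
  [0, 1, 0, 1, 0, 1],
  [1, 2, 1, 2, 1, 2],
  [0, 0, 0, 0, 0, 0, 2, 2, 2],
  [0, 0, 0, 0, 2, 0, 2, 0, 2],
  [0, 0, 0, 2, 0, 0, 0, 2, 2],
  [0, 0, 0, 2, 2, 2, 2, 2, 2],
  [0, 0, 2, 0, 1, 2, 1, 2, 1],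
  [0, 0, 2, 2, 2, 0, 2, 2, 2],
  [0, 1, 0, 1, 2, 0, 2, 2, 1],
  [0, 2, 0, 2, 0, 2, 2, 2, 2],
  [0, 2, 2, 0, 2, 2, 0, 2, 2],
  [0, 0, 0, 0, 0, 0, 1, 0, 0, 0, 1, 1],
  [0, 0, 0, 0, 0, 0, 1, 1, 0, 0, 0, 1],
  [0, 0, 0, 0, 0, 0, 1, 1, 2, 2, 2, 1],
  [0, 0, 0, 0, 0, 0, 1, 2, 2, 2, 1, 1],
  [0, 0, 0, 0, 0, 1, 2, 1, 2, 1, 0, 2],
  [0, 0, 0, 0, 0, 1, 2, 2, 1, 0, 2, 1],
  [0, 0, 0, 0, 1, 0, 1, 2, 2, 0, 2, 1],
  [0, 0, 0, 0, 1, 2, 2, 0, 2, 1, 0, 1],
  [0, 0, 0, 0, 2, 0, 0, 1, 2, 1, 2, 1],
  [0, 0, 0, 0, 2, 1, 0, 0, 1, 2, 2, 1],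
  [0, 0, 0, 0, 2, 1, 0, 1, 0, 1, 2, 2],
  [0, 0, 0, 1, 0, 0, 0, 1, 1, 2, 2, 2],
  [0, 0, 0, 1, 0, 0, 0, 2, 2, 2, 1, 1],
  [0, 0, 0, 1, 0, 0, 1, 2, 2, 1, 0, 2],
  [0, 0, 0, 1, 0, 0, 2, 2, 2, 0, 1, 1],
  [0, 0, 0, 1, 0, 2, 0, 0, 1, 2, 1, 2],
  [0, 0, 0, 1, 0, 2, 0, 2, 0, 2, 1, 1],
  [0, 0, 0, 1, 0, 2, 1, 0, 0, 1, 2, 2],
  [0, 0, 0, 1, 0, 2, 2, 2, 0, 0, 1, 1],
  [0, 0, 0, 1, 1, 0, 0, 2, 2, 2, 0, 1],
  [0, 0, 0, 1, 1, 0, 2, 0, 2, 0, 2, 1],
  [0, 0, 0, 1, 1, 0, 2, 2, 2, 0, 0, 1],
  [0, 0, 0, 1, 1, 2, 0, 0, 0, 2, 2, 1],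
  [0, 0, 0, 1, 1, 2, 0, 2, 0, 2, 0, 1],
  [0, 0, 0, 1, 1, 2, 2, 0, 0, 0, 2, 1],
  [0, 0, 0, 1, 2, 0, 0, 0, 2, 2, 1, 1],
  [0, 0, 0, 1, 2, 0, 2, 0, 2, 0, 1, 1],
  [0, 0, 0, 1, 2, 1, 0, 2, 0, 0, 1, 2],
  [0, 0, 0, 1, 2, 2, 0, 0, 0, 2, 1, 1],
  [0, 0, 0, 1, 2, 2, 2, 2, 2, 2, 1, 1],
  [0, 0, 0, 2, 0, 2, 1, 0, 1, 0, 1, 2],
  [0, 0, 0, 2, 1, 0, 2, 0, 0, 1, 2, 1],
  [0, 0, 0, 2, 1, 0, 2, 1, 0, 0, 1, 2],
  [0, 0, 0, 2, 1, 1, 2, 2, 2, 1, 2, 2],
  [0, 0, 0, 2, 1, 2, 1, 0, 2, 0, 0, 1],
  [0, 0, 0, 2, 1, 2, 2, 2, 1, 1, 2, 2],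
  [0, 0, 0, 2, 2, 1, 0, 2, 1, 0, 0, 1],
  [0, 0, 0, 2, 2, 1, 1, 2, 2, 2, 1, 2],
  [0, 0, 0, 2, 2, 1, 2, 2, 2, 1, 1, 2],
  [0, 0, 1, 0, 0, 2, 1, 0, 2, 0, 1, 2],
  [0, 0, 1, 0, 0, 2, 2, 0, 1, 2, 0, 1],
  [0, 0, 1, 0, 1, 1, 2, 1, 1, 2, 1, 2]]

/-- the certificate -/
def threeCert : CentralLocal.Cert :=
  { act := actB baseB threeGens, one := oneB, N := 729, k := 3, q := 0, rels := threeRels, P := 9,
    elt := threeElt, next := threeNext, word := threeWord, par := threePar, L := threeL, kind := threeKind, rank := threeRank,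
    via := threeVia, pv := [2187, 2188, 2189, 2190, 2191, 2192, 2193, 2202, 2207] }

theorem three_edges0 : ((List.range 512).all fun i => threeCert.edgeCheck (Nat.add 0 i)) = true := by decide +kernel

theorem three_edges1 : ((List.range 217).all fun i => threeCert.edgeCheck (Nat.add 512 i)) = true := by decide +kernel

theorem three_edges : ∀ i < 729, threeCert.edgeCheck i = true := by
  intro i hi
  by_cases h0 : i < 512
  · have := List.all_eq_true.1 three_edges0 (i - 0) (List.mem_range.2 (by omega)); rwa [show Nat.add 0 (i - 0) = i from Nat.add_sub_cancel' (by omega)] at this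
  have := List.all_eq_true.1 three_edges1 (i - 512) (List.mem_range.2 (by omega)); rwa [show Nat.add 512 (i - 512) = i from Nat.add_sub_cancel' (by omega)] at this


theorem three_tree0 : ((List.range 512).all fun i => threeCert.treeCheck (Nat.add 0 i)) = true := by decide +kernel

theorem three_tree1 : ((List.range 217).all fun i => threeCert.treeCheck (Nat.add 512 i)) = true := by decide +kernel

theorem three_tree : ∀ i < 729, threeCert.treeCheck i = true := by
  intro i hi
  by_cases h0 : i < 512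
  · have := List.all_eq_true.1 three_tree0 (i - 0) (List.mem_range.2 (by omega)); rwa [show Nat.add 0 (i - 0) = i from Nat.add_sub_cancel' (by omega)] at this
  have := List.all_eq_true.1 three_tree1 (i - 512) (List.mem_range.2 (by omega)); rwa [show Nat.add 512 (i - 512) = i from Nat.add_sub_cancel' (by omega)] at this


theorem three_vars0 : ((List.range 512).all fun i => threeCert.varCheck (Nat.add 0 i)) = true := by decide +kernel

theorem three_vars1 : ((List.range 512).all fun i => threeCert.varCheck (Nat.add 512 i)) = true := by decide +kernel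

theorem three_vars2 : ((List.range 512).all fun i => threeCert.varCheck (Nat.add 1024 i)) = true := by decide +kernel

theorem three_vars3 : ((List.range 512).all fun i => threeCert.varCheck (Nat.add 1536 i)) = true := by decide +kernel

theorem three_vars4 : ((List.range 196).all fun i => threeCert.varCheck (Nat.add 2048 i)) = true := by decide +kernel

theorem three_vars : ∀ i < 2244, threeCert.varCheck i = true := by
  intro i hi
  by_cases h0 : i < 512
  · have := List.all_eq_true.1 three_vars0 (i - 0) (List.mem_range.2 (by omega)); rwa [show Nat.add 0 (i - 0) = i from Nat.add_sub_cancel' (by omega)] at this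
  by_cases h1 : i < 1024
  · have := List.all_eq_true.1 three_vars1 (i - 512) (List.mem_range.2 (by omega)); rwa [show Nat.add 512 (i - 512) = i from Nat.add_sub_cancel' (by omega)] at this
  by_cases h2 : i < 1536
  · have := List.all_eq_true.1 three_vars2 (i - 1024) (List.mem_range.2 (by omega)); rwa [show Nat.add 1024 (i - 1024) = i from Nat.add_sub_cancel' (by omega)] at this
  by_cases h3 : i < 2048
  · have := List.all_eq_true.1 three_vars3 (i - 1536) (List.mem_range.2 (by omega)); rwa [show Nat.add 1536 (i - 1536) = i from Nat.add_sub_cancel' (by omega)] at this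
  have := List.all_eq_true.1 three_vars4 (i - 2048) (List.mem_range.2 (by omega)); rwa [show Nat.add 2048 (i - 2048) = i from Nat.add_sub_cancel' (by omega)] at this


theorem three_ord0 : ((List.range 512).all fun i => threeCert.ordCheck threeOrd (Nat.add 0 i)) = true := by decide +kernel

theorem three_ord1 : ((List.range 217).all fun i => threeCert.ordCheck threeOrd (Nat.add 512 i)) = true := by decide +kernel

theorem three_ord : ∀ i < 729, threeCert.ordCheck threeOrd i = true := by
  intro i hi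
  by_cases h0 : i < 512
  · have := List.all_eq_true.1 three_ord0 (i - 0) (List.mem_range.2 (by omega)); rwa [show Nat.add 0 (i - 0) = i from Nat.add_sub_cancel' (by omega)] at this
  have := List.all_eq_true.1 three_ord1 (i - 512) (List.mem_range.2 (by omega)); rwa [show Nat.add 512 (i - 512) = i from Nat.add_sub_cancel' (by omega)] at this


theorem three_rels : (threeCert.rels.all fun w => threeCert.relCheck w) = true := by decide +kernel

theorem three_valid : threeCert.Valid where
  npos := Nat.succ_pos _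
  kpos := Nat.succ_pos _
  edges := three_edges
  tree := three_tree
  rels := List.all_eq_true.1 three_rels
  vars := three_vars

/-- the lattice -/
def threeLat : CentralBound.Lat :=
  { basis := [[1, 3, 0, 0, -3, 0, 0, 0, 0],
      [0, -3, 1, -3, 3, 0, 0, 0, 0],
      [0, -2, 0, -1, 1, 1, 0, 0, 0],
      [0, 1, 0, -1, -1, 0, 1, 0, 0],
      [0, 2, 0, 0, -3, 0, 0, 1, 0],
      [0, 0, 0, -1, -1, 0, 0, 0, 1]],
    compl := [[0, 0, 0, 1, 0, 0, 0, 0, 0], [0, 1, 0, 0, 0, 0, 0, 0, 0], [0, -1, 0, -1, 1, 0, 0, 0, 0]],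
    counts := [[3, 0, 3], [0, 3, 0], [0, 0, -3]],
    piv := [0, 1, 2],
    coord := [([1, 0, 0, 0, 0, 0], [3, 0, 3]),
      ([0, 0, 0, 0, 0, 0], [0, 1, 0]),
      ([0, 1, 0, 0, 0, 0], [0, 0, -3]),
      ([0, 0, 0, 0, 0, 0], [1, 0, 0]),
      ([0, 0, 0, 0, 0, 0], [1, 1, 1]),
      ([0, 0, 1, 0, 0, 0], [0, 1, -1]),
      ([0, 0, 0, 1, 0, 0], [2, 0, 1]),
      ([0, 0, 0, 0, 1, 0], [3, 1, 3]),
      ([0, 0, 0, 0, 0, 1], [2, 1, 1])],
    gens := [[0, 2, 0, 0, -3, 0, 0, 1, 0]],
    ord := [3],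
    red := [([-306], ([(-18, 1), (204, 0), (-249, 2)], [(25, (0, 3))]), [1014, 0, -283, -9282, 2258, -390]),
      ([306], ([(18, 1), (-204, 0), (249, 2)], [(-1, (2, 0)), (-26, (0, 3))]), [-1014, 0, 283, 9282, -2258, 390]),
      ([-300], ([(-297, 0), (241, 1), (-84, 2)], [(-344, (0, 3))]), [1512, 0, -152, -7251, 1019, -214]),
      ([-345], ([(-249, 1), (68, 0), (-83, 2)], [(-235, (0, 3))]), [-2518, 0, 58, 14773, -2384, -5]),
      ([1], ([], []), [0, 0, 0, 0, 0, 0]),
      ([18], ([(-218, 2), (-35, 0), (349, 1)], [(296, (0, 3))]), [4162, 0, -419, -26743, 4973, -503])],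
    kill := [(([(-297, 1), (-36, 0), (-342, 2)], [(224, (0, 8)), (191, (0, 3))]), [-3308, 0, -133, 19415, -2948, -357])] }

/-- conjugate commuting pairs -/
def threeSpecs : List Spec := [(([0, 0, 1, 2, 0], [2, 0, 2, 1, 0], [0, 0, 2, 2, 0, 1, 0], [0, 0, 0, 1, 1, 2, 1, 0, 2]), (0x9b57e6938af4ce6f5d9ad8e4146b2c7e8b648f51e4b4bacc929b5893532ae47370ec8c6d1d120de3c3a8c09c7417934e62e260d4b85f1a16cbc362e98166a8442c94e8a5a29912a13db1d407a64a88f2c8472e538905c26d1eba4d476856a8e512d31ba1dae955495d26ad2aa4556595a98cfab9309ed6e653c1694ce02c291c8565438960cc322d1946259320ccd841219ac804535108887e6128cfac1529f186a45ea5522bc4a24d7696492a904b754a116cab41ad6a528a7d464f4ea9ca6a12e9d5865b39b04be7762a0da24740b3c8a7f66909847057318dcac621c9547c4b338f494691f924d04f3b8a8a27614940f0284ba2d7c9946b01308c5fa155eac43ac55c86582b58c9f40b153c8062274fef57a3da251489b3d9ccd71b89c8e573b9a1d0d86351a6d57d3f1f70883c19e6f179462331a65b31950581c11b2da6dbe1f2f785c2614df70385d8ed7582c0c07028241408060104e1f118844426120944015068441e100a048260e8040604d66bb61fafe7fb71bade743a5d50f88445def07745a2f1568b49a0180c8742c1e0d00006010e06c2e02,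 0x894622ab659ac2bf5cb12e17cbbb559ec90581422af54a8c36151061b258cc163b12ab52ac4461d0bad582bb1689c656eb458c1a07005cafd7968b2daec769b34060f045d3017b0987c3184c862d4eb3565aac95f61af56e35178a160b25a088482074399d42c170c1a4d0672592494602f978a852298944c270f88042623098c9a4e261d8f0772e96cb8140a84c884521864341b359a8d86d379b88c47240703a1e27940a22211890c866328381e0d391c4e0562b9564f2495204fc7b6eb8dc08e45a45b6d86ac72451f68335952f9acc90c8344a150488663499f3498cb9bedc7149a5929401f4f5218f46d208d49b51b4d76b34db3208ec8d1e8c494c25b3343a1114ce65b44fe7c3cb91c2de95ca24a954da628f44a0be9eefda4d3e98ed7539d409d51bd5e4ef55aa15d369e4e66f3d9d3cde0f6562a54cf87f3ed32964e516853f522853d4aa8535d0e575b99d8e94fa954548a752d4ead554e27d3b773d1e346a1d01fefc7ca692e941c8d064331b8d46c311c02014030101c160c00824602b148a85c2c168a05e3b210f47c3c201047e3a028000806, [1, 1, 3, 2, 1, 3, 2, 0, 0, 2])),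
  (([2, 1, 2, 0], [0, 1, 2, 2, 1], [1, 1, 0, 1, 1], [0, 0, 0, 1, 2]), (0x6d5197f425db5974d5a0b7a94c3a7b21c6c46fd2da33d5b4e564cd58b32706a0d104364035908d81930034540e14978505f079d04837110e4ea383988d2f1e81c76049683a6e44a897c52691956c5553305049e192685a7e20a4959a0303d0b0fcd23e3385cc814178545c651819826720f8d84035380d0e2214ac820d1c82a6a029990ab25d1799c4d571853cc93d2987c961ca38528a54d3a3af286b86db01af3f70521935062b7182e4a632a7cb39d2bda4b7674d9391f8046e10988225246aa96c6a6b16534495d3152ca2132488a861a9d963628ab9a22f9a8bd6cd01c5496353984e163b769acf9e2c276b565ad1a13737870781d1d9b4746e0f188242b080b4c62c30844ec261909c6277199e04a4c279489c512a134a0532c970ac582d954b45d2b81014010302c04050600ec55ead2091486793b9ed55a8d65027d3cb95dae947a2d26ff7dbdec76bb3badcceaa955aae7e3f9e9def37a57ec15b4420d0e8c48245f8fd7c5a6c968a9d52b07c401edd8e774576c35c44a110af078bd51a8e493e9fcf9b5596cc080480092432311094472292c9007, 0x2203c5428218341c29229743a351b1703c1c1a16ca4251e8f8a826138fca6d8afa893ad3ad58548da71da95aa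b70da2c6a66e346b09b4cb3ead514a3297b2979bb9712495bd57eaf8db95d8b691481d4b460cb5eefe644d264fc632fa50f07a2f24d2a792e9671d75ba563218fb9d6ac597bf5f6c399cc5f2c724044582d23848202b231542c371c15c2e181c9589a2121100981f101049cd4aea9540dbadd893cd66fdad4eae6ed9ac8a972336b2954e32ea9524bb49b35e4fa8daf5cb0285aadeb4aa950e2b3d9558e06655d309668556a69a672e64ef678b024b2c77aed6f1c7439965238f3b560c9973e9f0c49acc1fec22484c5c2f258502a3025164363318960321a19168a2231d8f0a024110e89e7a3e206733e9bc22030349a311d49a5d422b1a89c2a191142a290747a0508d06e359a4de6c339b4d473381d8e8713b9d4e4780101412010201c06060452a9d4c8b452309147a3675389e41a09023d9fcfb0b87c350c844451687413f200f33d9b4ee010583a2d2092a6d3e91198945e1d1084a2504879fd128c5f31194160c0018cc0662f184c80a, [2, 2, 0, 0, 1, 3, 2, 2, 3, 1, 0])),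
  (([0, 0, 1, 2], [2, 1, 2, 0], [1, 1, 2, 1, 0, 2], [0, 0, 1, 0, 2, 0, 0, 1]), (0x9030ced5a4311a9e9a189aa5ab32ad61222ea227dc30210401c0247abd004d98804cdcb199250714c0cb3a252238b1e82a2161fed44d28594fcee03bc919542db343b131b5252e434558a22db07294554792aecc727322e416ef78af83e7955005567b112fcd6d1ae0bdef4e2b43a3f573bb4e8632754bc8f19b2185c80c5729ed6dd3311661157d52c508e07b12145d918d1db405ba0c3d05264a150ad049460d240da116d4816bf6aad8383182a8f73d18726db0329f09ca13490b2e8630ab2001e8fc4e5230098bc544f541d0938f351655b8d2667efe3385c96d790a34843a02aea096983af6c74d72a90225a39cc510cca2bed2d6157c5c20742c904083b3ec99c4dc94a01d6a1a53221356341282cff1aa82bb350e171acc9054e67c8132c0cf90831255cc2906d4a38b02232d46fc1b9be2c89a88523b3b044f178e327939bcb815a61d88b3942e675f0d0cd3af9681216892869e26d380188ed12ab388656e91826d82d52b9b10f1867ad49334af061051434c3cea9062961b5530946e74069ebc078a656101e7012f9e980536fd984b2c7b2a47d37, 0x7ccf540351981a74ff4eca920cb2208ceb0f585a1835e841f1ab340c188aeb6b2c313948791fe5cd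892339275b82b1e82e8569b426522a054dc38000e4e82422d2d2cf581312c204188d106e29021a46dc75d114f6b84accaa610b2be002847165e82098516534f0f42876c3233b4fa684fb75c8a13556019563c2b1ac5c493cc80c98680ea75206cda36128e4e1d24940c0c60b56799536fd28216b35503935f08494066a0d4541c458b28331a203f13d1a64942f328e07ea134836eeb53085a09894693c519128a3c4c73b644c3db02c6986047bedc00f8ac5c04e17d0424c9a2ed010076ad2dc82c8175915c4a96a44cd4a5a0f2ba1c683c14d35244acb09514d9d8ada73084d8829f4e50e698a02a303a83da43a8c4b91e86d32d535982a88d883e7b55bdcd71f9099dfcbb05ae5d87299a61161a15c2ebeb8042f1bd3b2793a78e3549e84a3e80d99ec5f96295140e5f0057e11442919b492dcbceeea21412c62f87571af3f25c94c8f15eae80b541b44c65578cb9662736d90e8e22551e5a256a705d328d77c9cc6fc8e9bdbe539b85146891bd462cc0, [3, 2, 0, 2, 2, 1, 0, 1, 3, 0, 0, 1, 0]))]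

theorem three_gens : threeGens.all (elemOK 364 baseP) = true ∧ threeSpecs.all (specOK 364 baseP baseB threeCert threeGens) = true := by decide +kernel

theorem three_lat : CentralBound.latOK threeCert (threeSpecs.map extOf) (3 ^ 6) threeLat = true := by decide +kernel

end Cfsg.Agent.Lie.GTwoThreeMult
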