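import Cfsg.Agent.Lib.Lie.PermCover
import Cfsg.Agent.Lib.Lie.GTwoThreeMult.Gens

/-!
A central table on a Sylow 2-subgroup of the group of type G2 over three elements (generated).
-/

set_option autoImplicit false
set_option maxRecDepth 100000
set_option maxHeartbeats 0
set_option Elab.async false

namespace Cfsg.Agent.Lie.GTwoThreeMult

open Cfsg.Agent.Lie PermCover

/-- generators of the subgroup -/
def twoGens : List Elem := [(0x92ceed30a67bf53cb448a1d34c2afc8692f383374e6431b8e48a751200046682e0b212ff6752abb221287c02c0551e552bf3dbc9b908b549a72501d995ceda8a808422672c59b69b42b0c565b33cead72491d22bcb24fa48c83a2792d4f1804cba664689ab0bcfc630a920e107da29b3c0dd6d6a6a77b408483a604ecd104a14cdcb17b3dcc4c8ae4f82c5681a85ac7d190d500d39a8125ee4468c2184c4c076b53d96cd016ba3c3b4e0bc741614b02b3d2c22891fb2946f41443d1060955801d44a00217ad424b617248461b20b640d481f0404c9f0ef120550e82818c9c5a24d648bddca08fd943810965855edf2ca587cfb0c47ac70d31a11c6b72a94998c5b1056568e801bd50e91b0c5d8ae9f81a84d7569daa80cac9c94cd5413e49cb6174103d509384a6d1d47bd4b4c41ec442f4f941852ed22bbc116547d22829388d9b548e08d0d176b819c52aa05ac40452b065a54be0d9bc72ac07ab9fdd44a23bacfce2511ac334e94c3882c713cc28f53a880e6220a31a5bc9d83acc5a932ebc50c517f1999a9c85b0478746caae2ebe1c1e888e6114ca8b52,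 0x92ceed30a67bf53cb448a1d34c2afc8692f383374e6431b8e48a751200046682e0b212ff6752abb221287c02c0551e552bf3dbc9b908b549a72501d995ceda8a808422672c59b69b42b0c565b33cead72491d22bcb24fa48c83a2792d4f1804cba664689ab0bcfc630a920e107da29b3c0dd6d6a6a77b408483a604ecd104a14cdcb17b3dcc4c8ae4f82c5681a85ac7d190d500d39a8125ee4468c2184c4c076b53d96cd016ba3c3b4e0bc741614b02b3d2c22891fb2946f41443d1060955801d44a00217ad424b617248461b20b640d481f0404c9f0ef120550e82818c9c5a24d648bddca08fd943810965855edf2ca587cfb0c47ac70d31a11c6b72a94998c5b1056568e801bd50e91b0c5d8ae9f81a84d7569daa80cac9c94cd5413e49cb6174103d509384a6d1d47bd4b4c41ec442f4f941852ed22bbc116547d22829388d9b548e08d0d176b819c52aa05ac40452b065a54be0d9bc72ac07ab9fdd44a23bacfce2511ac334e94c3882c713cc28f53a880e6220a31a5bc9d83acc5a932ebc50c517f1999a9c85b0478746caae2ebe1c1e888e6114ca8b52, [3, 1, 0, 0, 1, 0, 2, 3, 1]),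
  (0x27cc135681b2d9e0d4089563aa7b00c176fe67898f468a51f29c6e054421c8e3b4f0b8ab913bdaa1544986884d4acbdfacd10d59903ea98e9840587c32b4b81420a7e5e7734c1b6b598dd273a39bfd9c22254b1424852ca01311869317b39b4aa0c4f510404b6b5a0d6d36777d0522e7e938f0f63f95011bae3494b85e56a12d1e825812124235284f572fc08456a46d52551446906379c5623aa5114388dbd84900b3981548f14cc5f60f8b11d835025d2192086e390a47116d928b2078c659858328cebf3799be606da3fb193c804fb1002170ea357e972c8c4ccf38c32d0ab15694c56727c415b35792d36b14b9300c3818af4d66c86572bde51a6558e3f4745a6180f78236c886c20114826a0006c324e48d84c71c5907db1142ea0ecc78992e826d0838ed474f1ed2540067539c5c969d95ed48813b5a263454d00a35c48049a30637b0e526795b1c16e8731d1792d1cd0d4c236bc48beb7918aa7c9c0734a10463ed4493553c81dd2e5a32b0651e58192ca872d4e1322c9a2f8e15d46151bf0a0f42dc216763ac054c4e90a48c535d65024384b8034ed, 0x961662f686d9b442c645390ed5f5ea4c3050874d40c994e4f858ea9dbb45cd032555340c4c55cc4ce4409d8b451f3ee1e52988d5e54e2dca2301e5e2452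41b5d9adad6aa13f8812223c0c931e83a5d36091bd2deac444892c2746fa3184a784b4ddc702a8ea39529bd463736090500631339313c835cbde24dc9357282f06ac2d749f4237a28f9542358765a54bc000f0717c52442f10c50ca8039422020ab9a02cb412e13a711d95a9364970c89a68adc9680c15322d9b3d232d810b2254e5a2855686a3241ae9a9e3341c59a20fa959cd48234723d4626a6364a716b00f63eeb32ba6426159ad4163486da43a865617286e294bfcee4f6c5415c1743b868e58102414af6374c80ab45bc205f5682d64566c8653dc64293a81901925d51d880039f1d158242a57e223ac568cda1ccc0df4d8887d56c02d3f2c41651324a2f3b59e2891a67c8c5b20690c0fc8102028fa7f824f0c706334e87ee09559de8545f095555e7e9758e1c508d9af332bd69f0dd1e4927f133904d5e953d004f29458042910a3493ac6ef6a0ce5ae722d4e3acc1518271024b035627b, [2, 1, 0, 0, 1, 1, 3, 2, 0, 0, 2, 1, 3, 3, 1]),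
  (0x27a9a55681e2f1033732b91de270fbb9c50501410e684a7c788a976457070f70b365723db5c74929b19d7d8a4d554a41ecd744041508469aa8d3f36a46a8b2144180b00182d6a32223a58c53e3d3a99c10a6a18e0da0d3e4a8ae9281cae5a78d4926f545d5a7ad3631002a7754c2a461c300da2d264d341754c41bb6cd3863b5e252b4c9a056240016cb869110b5510f8fd6900fc65d417687b53955b0e8d8746a5e8d49d2a423c04ebcfd3dace8ade5bb7e80082c954a51c8a9f5821bb49c9a2be08a24c2d4aeca2124817505e6a24f81a8e2a7b54dc26e6e554d89e500301cc04513a4319193fa792486929cd4b1fb0cfc187d8e66d2c8890ce9676528d480110241628e132c1ac66add39d83a28482285386271ce715c5827619702485e294637662049a04ac74a5591a30c47f98cfe376c2f4eaeb5391226647d324a3104c0ed98829680e5f5912d0a8621ac3c96c6f9a82e606b5a3d1584b8b85e756142b487d49b2035aa313c93216946117df07c6d8d03d629c95a049d839614333990269014b2ba57e7620a219ee31623eaf441199de0af819754b2e, 0xa5b8d8768463f4262f328806872a335577523fba8904304c4955355745a5ae6ab9fa47004c190601558ce5a208229196ccd9c4a2229d388d43efcb22447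e670c05cd23d2480096907c5a684ba6d412369c84cb1427a75d5a94c86fb6d40611bc158e792abe51e5076381367714c29733c0dccab95a018767d302fa79a8e84994e3c25a82be283a5a90a2e05b0d79fc7d2c498253f3aa65c562065755a6f67340d4ab11c829c5b7d2045abc880c9830206c96804d73a2ca5537dc3e8a604b09d8aa408b00b56672c069a73679065c3b694d10a8202471c23931d0e16ed2bda80289452d032a759aa03876a440dee4faa4a9b2288a9ba6c8605212766b89a8d7c0e7248867587f932cae92ea558c2469c9c56d786040b28dacb08e921202b26ea91e4e9e0f603202c6542f4a57b071337004f179461961a8c879951d3c324a27bb5a8a882a1c26a92b89598aaa56473601f0e4b8c69967271f125512e419ba22a3a7c592f36adddc0b7aac0d933b020c8ef403bbc8887af885bd086247ce0941b53e1a146b1997f24a0a945ca61f4f42ccc8d2ca62682556d10f3, [1, 0, 1, 0, 2, 3, 3, 2, 1, 0, 1, 3, 0, 1, 1])]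

def twoElt : Janko.Tree (ℕ) :=
  (.node (.node (.node (.node (.node (.node (.leaf 721033475327525376) (.leaf 6314964399409436795)) (.node (.leaf 3844784388465531603) (.leaf 2902303894602874168))) (.node (.node (.leaf 434987587060697811) (.leaf 2904247517782883873)) (.node (.leaf 2668113911101286160) (.leaf 5208818562197689151)))) (.node (.node (.node (.leaf 1270233571466775277) (.leaf 4083470716072771326)) (.node (.leaf 1321258604402612917) (.leaf 5214042641122735134))) (.node (.node (.leaf 4984186149466607830) (.leaf 1263134042650177566)) (.node (.leaf 4125383037910004973) (.leaf 5804420464111933014))))) (.node (.node (.node (.node (.leaf 5541011773706560123) (.leaf 4413598918161465875)) (.node (.leaf 4292018850773417777) (.leaf 3838546247275095280))) (.node (.node (.leaf 3371983250948927656) (.leaf 6307734543115314793)) (.node (.leaf 1315863249795523713) (.leaf 873918388715470355)))) (.node (.node (.node (.leaf 4997697898574639423) (.leaf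 5931313515431102766)) (.node (.leaf 4134802197613450076) (.leaf 781061724291753477))) (.node (.node (.leaf 1776181642910141182) (.leaf 5928649194468828517)) (.node (.leaf 2184223242394016897) (.leaf 2181365895303858928)))))) (.node (.node (.node (.node (.node (.leaf 3586997403059391314) (.leaf 5459859911856986355)) (.node (.leaf 2653046107929412357) (.leaf 816844093267141637))) (.node (.node (.leaf 4993771123960286044) (.leaf 5469134411551303382)) (.node (.leaf 4287678401411551312) (.leaf 4972452094374666857)))) (.node (.node (.node (.leaf 4534246807590773526) (.leaf 2028207563672733928)) (.node (.leaf 6291497895695865502) (.leaf 5802545925685609128))) (.node (.node (.leaf 867365622442364928) (.leaf 4521869965538922236)) (.node (.leaf 2027118841789984854) (.leaf 1778044695486679585))))) (.node (.node (.node (.node (.leaf 5532062710149222643) (.leaf 5351110270751187614)) (.node (.leaf 3586121443278605112) (.leaf 462224752320545020))) (.node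 (.node (.leaf 438793045850725557) (.leaf 732447341575048784)) (.node (.leaf 6290953715157664022) (.leaf 452620535350285892)))) (.node (.node (.node (.leaf 3370965009740679429) (.leaf 811888350678649104)) (.node (.leaf 2658045963372484328) (.leaf 777905541572283237))) (.node (.node (.leaf 2673420567595273006) (.leaf 5355202695870844484)) (.node (.leaf 4079139219968720210) (.leaf 4420833990951472945)))))))

def twoNext0 : Janko.Tree (ℕ) :=
  (.node (.node (.node (.node (.node (.node (.node (.leaf 1) (.leaf 50)) (.leaf 11)) (.node (.node (.leaf 28) (.leaf 5)) (.leaf 56))) (.node (.node (.node (.leaf 16) (.leaf 25)) (.leaf 46)) (.node (.node (.leaf 37) (.leaf 41)) (.leaf 59)))) (.node (.node (.node (.node (.leaf 8) (.leaf 50)) (.leaf 45)) (.node (.node (.leaf 32) (.leaf 32)) (.leaf 12))) (.node (.node (.node (.leaf 23) (.leaf 49)) (.leaf 51)) (.node (.node (.leaf 42) (.leaf 6)) (.leaf 18))))) (.node (.node (.node (.node (.node (.leaf 4) (.leaf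 57)) (.leaf 31)) (.node (.node (.leaf 4) (.leaf 63)) (.leaf 53))) (.node (.node (.node (.leaf 19) (.leaf 19)) (.leaf 41)) (.node (.node (.leaf 35) (.leaf 62)) (.leaf 13)))) (.node (.node (.node (.node (.leaf 12) (.leaf 58)) (.leaf 33)) (.node (.node (.leaf 35) (.leaf 37)) (.leaf 58))) (.node (.node (.node (.leaf 25) (.leaf 42)) (.leaf 55)) (.node (.node (.leaf 7) (.leaf 54)) (.leaf 60)))))) (.node (.node (.node (.node (.node (.node (.leaf 3) (.leaf 3)) (.leaf 33)) (.node (.node (.leaf 24) (.leaf 47)) (.leaf 16))) (.node (.node (.node (.leaf 2) (.leaf 51)) (.leaf 8)) (.node (.node (.leaf 39) (.leaf 30)) (.leaf 27)))) (.node (.node (.node (.node (.leaf 10) (.leaf 21)) (.leaf 43)) (.node (.node (.leaf 34) (.leaf 48)) (.leaf 20))) (.node (.node (.node (.leaf 24) (.leaf 62)) (.leaf 53)) (.node (.node (.leaf 44) (.leaf 60)) (.leaf 59))))) (.node (.node (.node (.node (.node (.leaf 6) (.leaf 61)) (.leaf 47)) (.node (.node (.leaf 30) (.leaf 40)) (.leaf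 14))) (.node (.node (.node (.leaf 21) (.leaf 29)) (.leaf 36)) (.node (.node (.leaf 40) (.leaf 44)) (.leaf 1)))) (.node (.node (.node (.node (.leaf 14) (.leaf 26)) (.leaf 10)) (.node (.node (.leaf 36) (.leaf 36)) (.leaf 21))) (.node (.node (.node (.leaf 26) (.leaf 40)) (.leaf 28)) (.node (.node (.leaf 38) (.leaf 12)) (.leaf 52)))))))

def twoNext1 : Janko.Tree (ℕ) :=
  (.node (.node (.node (.node (.node (.node (.node (.leaf 2) (.leaf 19)) (.leaf 10)) (.node (.node (.leaf 17) (.leaf 4)) (.leaf 17))) (.node (.node (.node (.leaf 17) (.leaf 52)) (.leaf 38)) (.node (.node (.leaf 38) (.leaf 49)) (.leaf 56)))) (.node (.node (.node (.node (.leaf 9) (.leaf 23)) (.leaf 31)) (.node (.node (.leaf 33) (.leaf 63)) (.leaf 55))) (.node (.node (.node (.leaf 15) (.leaf 39)) (.leaf 52)) (.node (.node (.leaf 43) (.leaf 47)) (.leaf 56))))) (.node (.node (.node (.node (.node (.leaf 5) (.leaf 58)) (.leaf 8)) (.node (.node (.leaf 29) (.leaf 35)) (.leaf 20))) (.node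 (.node (.node (.leaf 20) (.leaf 18)) (.leaf 0)) (.node (.node (.leaf 9) (.leaf 45)) (.leaf 51)))) (.node (.node (.node (.node (.leaf 13) (.leaf 54)) (.leaf 32)) (.node (.node (.leaf 5) (.leaf 62)) (.leaf 22))) (.node (.node (.node (.leaf 1) (.leaf 34)) (.leaf 13)) (.node (.node (.leaf 39) (.leaf 61)) (.leaf 26)))))) (.node (.node (.node (.node (.node (.node (.leaf 0) (.leaf 2)) (.leaf 43)) (.node (.node (.leaf 15) (.leaf 48)) (.leaf 22))) (.node (.node (.node (.leaf 18) (.leaf 59)) (.leaf 7)) (.node (.node (.leaf 11) (.leaf 29)) (.leaf 14)))) (.node (.node (.node (.node (.leaf 11) (.leaf 61)) (.leaf 48)) (.node (.node (.leaf 9) (.leaf 44)) (.leaf 53))) (.node (.node (.node (.leaf 3) (.leaf 37)) (.leaf 54)) (.node (.node (.leaf 45) (.leaf 55)) (.leaf 28))))) (.node (.node (.node (.node (.node (.leaf 7) (.leaf 24)) (.leaf 6)) (.node (.node (.leaf 31) (.leaf 34)) (.leaf 57))) (.node (.node (.node (.leaf 22) (.leaf 46)) (.leaf 50)) (.node (.node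 (.leaf 41) (.leaf 63)) (.leaf 25)))) (.node (.node (.node (.node (.leaf 15) (.leaf 60)) (.leaf 49)) (.node (.node (.leaf 0) (.leaf 42)) (.leaf 16))) (.node (.node (.node (.leaf 27) (.leaf 30)) (.leaf 27)) (.node (.node (.leaf 46) (.leaf 57)) (.leaf 23)))))))

def twoNext : Janko.Tree (ℕ) := (.node twoNext0 twoNext1)

def twoWord : Janko.Tree (ℕ) :=
  (.node (.node (.node (.node (.node (.node (.leaf 1) (.leaf 65809)) (.node (.leaf 4129) (.leaf 73744))) (.node (.node (.leaf 274) (.leaf 69648)) (.node (.leaf 4386) (.leaf 1052944)))) (.node (.node (.node (.leaf 257) (.leaf 66049)) (.node (.leaf 4368) (.leaf 1052690))) (.node (.node (.leaf 4112) (.leaf 69665)) (.node (.leaf 4626) (.leaf 1114385))))) (.node (.node (.node (.node (.leaf 17) (.leaf 65824)) (.node (.leaf 4353) (.leaf 1052688))) (.node (.node (.leaf 289) (.leaf 69650)) (.node (.leaf 4624) (.leaf 1056784)))) (.node (.node (.node (.leaf 272) (.leaf 66065)) (.node (.leaf 4370) (.leaf 1052705)))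 (.node (.node (.leaf 4114) (.leaf 69904)) (.node (.leaf 65794) (.leaf 16843025)))))) (.node (.node (.node (.node (.node (.leaf 16) (.leaf 65810)) (.node (.leaf 4130) (.leaf 73985))) (.node (.node (.leaf 288) (.leaf 69649)) (.node (.leaf 4609) (.leaf 1053185)))) (.node (.node (.node (.leaf 258) (.leaf 66064)) (.node (.leaf 4369) (.leaf 1052704))) (.node (.node (.leaf 4113) (.leaf 69666)) (.node (.leaf 65793) (.leaf 1114642))))) (.node (.node (.node (.node (.leaf 18) (.leaf 65826)) (.node (.leaf 4354) (.leaf 1052689))) (.node (.node (.leaf 290) (.leaf 69664)) (.node (.leaf 4625) (.leaf 1057025)))) (.node (.node (.node (.leaf 273) (.leaf 66066)) (.node (.leaf 4384) (.leaf 1052706))) (.node (.node (.leaf 4128) (.leaf 70145)) (.node (.leaf 65808) (.leaf 16843282)))))))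

def twoPar : Janko.Tree (ℕ) :=
  (.node (.node (.node (.node (.node (.node (.leaf 0) (.leaf 209)) (.node (.leaf 81) (.leaf 400))) (.node (.node (.leaf 34) (.leaf 288)) (.node (.leaf 130) (.leaf 512)))) (.node (.node (.node (.leaf 17) (.leaf 241)) (.node (.leaf 112) (.leaf 466))) (.node (.node (.leaf 64) (.leaf 305)) (.node (.leaf 162) (.leaf 657))))) (.node (.node (.node (.node (.leaf 1) (.leaf 224)) (.node (.leaf 97) (.leaf 464))) (.node (.node (.leaf 49) (.leaf 290)) (.node (.leaf 160) (.leaf 576)))) (.node (.node (.node (.leaf 32) (.leaf 257)) (.node (.leaf 114) (.leaf 481))) (.node (.node (.leaf 66) (.leaf 336)) (.node (.leaf 194) (.leaf 817)))))) (.node (.node (.node (.node (.node (.leaf 0) (.leaf 210)) (.node (.leaf 82) (.leaf 417))) (.node (.node (.leaf 48) (.leaf 289)) (.node (.leaf 145) (.leaf 545)))) (.node (.node (.node (.leaf 18) (.leaf 256)) (.node (.leaf 113) (.leaf 480))) (.node (.node (.leaf 65) (.leaf 306)) (.node (.leaf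 193) (.leaf 706))))) (.node (.node (.node (.node (.leaf 2) (.leaf 226)) (.node (.leaf 98) (.leaf 465))) (.node (.node (.leaf 50) (.leaf 304)) (.node (.leaf 161) (.leaf 593)))) (.node (.node (.node (.leaf 33) (.leaf 258)) (.node (.leaf 128) (.leaf 482))) (.node (.node (.leaf 80) (.leaf 369)) (.node (.leaf 208) (.leaf 866)))))))

def twoL0 : Janko.Tree (List ℤ) :=
  (.node (.node (.node (.node (.node (.node (.node (.leaf []) (.leaf [-144, 0, -58, 124, 12, 13, -22, 3])) (.node (.leaf [-36, 0, -13, 30, 0, 6, -5]) (.leaf [1, 0, 0, 0, 0, 0, 0, 0]))) (.node (.node (.leaf []) (.leaf [8, 0, 3, -7, 1])) (.leaf []))) (.node (.node (.node (.leaf []) (.leaf [1])) (.node (.leaf [23, 0, 8, -19, 1, -4, 3]) (.leaf [-6, 0, -2, 6, 1]))) (.node (.node (.leaf []) (.leaf [-10, 0, -3, 10, -3, 1])) (.leaf [])))) (.node (.node (.node (.node (.leaf []) (.leaf [-86, 0, -33, 74, 4, 9, -12, 1])) (.node (.leaf [-2, 0, -1, 2]) (.leaf [-34, 0, -12, 30, 1, 6, -6]))) (.node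 (.node (.leaf []) (.leaf [1])) (.leaf [-1, 0, 0, 1]))) (.node (.node (.node (.leaf []) (.leaf [-86, 0, -34, 75, 6, 10, -14, 1])) (.node (.leaf []) (.leaf [0, 0, 0, 0, 2, 0, -1, 1]))) (.node (.node (.leaf []) (.leaf [4, 0, 2, -4, 1])) (.leaf [1]))))) (.node (.node (.node (.node (.node (.leaf []) (.leaf [120, 0, 46, -104, -4, -14, 17, -1])) (.node (.leaf [16, 0, 5, -14, 4, -3, 1]) (.leaf [0, 0, 0, 0, 1, 0, 0, 0]))) (.node (.node (.leaf [1]) (.leaf [])) (.leaf [4, 0, 2, -5, 1]))) (.node (.node (.node (.leaf []) (.leaf [-4, 0, -1, 3, -1, 1])) (.node (.leaf [5, 0, 2, -4, 1, -1]) (.leaf [115, 0, 43, -98, -2, -13, 16, -1]))) (.node (.node (.leaf [38, 0, 12, -32, 4, -6, 4]) (.leaf [-12, 0, -1, 8, -8, 2, 1, 1])) (.leaf [24, 0, 7, -20, 6, -4, 1])))) (.node (.node (.node (.node (.leaf []) (.leaf [17, 0, 6, -16, 3, -2, 1])) (.node (.leaf [25, 0, 7, -21, 6, -4, 1]) (.leaf [-12, 0, -6, 11, 6, 2, -4]))) (.node (.node (.leaf []) (.leaf [-31, 0, -10, 26,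 -3, 5, -3])) (.leaf []))) (.node (.node (.node (.leaf []) (.leaf [119, 0, 46, -103, -4, -13, 16, -1])) (.leaf [])) (.node (.node (.leaf [1]) (.leaf [0, 0, 0, 0, -1, 0, 1])) (.leaf [])))))) (.node (.node (.node (.node (.node (.node (.leaf []) (.leaf [2, 0, 0, -1, 1])) (.node (.leaf [-22, 0, -10, 19, 8, 3, -7]) (.leaf [0, 0, 1, 0, 0, 0, 0, 0]))) (.node (.node (.leaf [2, 0, 1, -2]) (.leaf [105, 0, 40, -90, -4, -12, 15, -1])) (.leaf [16, 0, 5, -14, 3, -2, 1]))) (.node (.node (.node (.leaf [1]) (.leaf [-21, 0, -9, 20, 1, 1, -2])) (.node (.leaf [-10, 0, -4, 8, 3, 2, -3]) (.leaf [-46, 0, -24, 42, 12, 0, -8, 3]))) (.node (.node (.leaf []) (.leaf [-6, 0, -4, 5, 7, 1, -4])) (.leaf [51, 0, 18, -43, 0, -7, 7])))) (.node (.node (.node (.node (.leaf []) (.leaf [1])) (.node (.leaf [-4, 0, -1, 3]) (.leaf [-55, 0, -19, 48, -4, 8, -5]))) (.node (.node (.leaf []) (.leaf [26, 0, 10, -24, 3, -2, 1])) (.leaf [9, 0, 4, -8, 0, -1, 1]))) (.node (.node (.node (.leaf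 []) (.leaf [])) (.leaf [])) (.node (.node (.leaf []) (.leaf [-57, 0, -18, 48, -8, 8, -5, 1])) (.leaf [5, 0, 7, -7, -14, 0, 6, 1]))))) (.node (.node (.node (.node (.node (.leaf []) (.leaf [])) (.node (.leaf []) (.leaf [-1, 0, 0, 2]))) (.node (.node (.leaf []) (.leaf [-23, 0, -9, 20, 0, 1, -2, 1])) (.leaf [1]))) (.node (.node (.node (.leaf []) (.leaf [1])) (.node (.leaf [64, 0, 22, -55, 4, -10, 8]) (.leaf [11, 0, 4, -9, 2, -1, 1]))) (.node (.node (.leaf []) (.leaf [-4, 0, -2, 4, -1, 0, 1])) (.leaf [4, 0, 2, -4, 1])))) (.node (.node (.node (.node (.leaf []) (.leaf [9, 0, 3, -8, 1, -1, 1])) (.node (.leaf [1]) (.leaf [2, 0, 1, -1, 1]))) (.node (.node (.leaf []) (.leaf [1])) (.leaf [40, 0, 14, -33, 1, -6, 5]))) (.node (.node (.node (.leaf []) (.leaf [-43, 0, -12, 36, -12, 5, 0, 1])) (.leaf [0, 0, 0, 0, -1, 1])) (.node (.node (.leaf [-43, 0, -15, 38, -6, 5, -2]) (.leaf [0, 0, 0, 0, 1])) (.leaf [-112, 0, -43, 97, 4, 13, -16, 1])))))))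

def twoL1 : Janko.Tree (List ℤ) :=
  (.node (.node (.node (.node (.node (.node (.node (.leaf []) (.leaf [1])) (.node (.leaf [-40, 0, -14, 34, -1, 6, -5]) (.leaf [0, 1, 0, 0, 0, 0, 0, 0]))) (.node (.node (.leaf [-2, 0, -1, 2]) (.leaf [0, 0, 0, 1])) (.leaf [-10, 0, -4, 8, 0, 2, -1]))) (.node (.node (.node (.leaf []) (.leaf [-7, 0, -2, 6, -2, 1])) (.node (.leaf [-2, 0, 1, 1, -4, 1, 1]) (.leaf [0, 0, 0, 0, 0, 0, 0, 1]))) (.node (.node (.leaf []) (.leaf [39, 0, 11, -31, 8, -5, 2, -1])) (.leaf [7, 0, 2, -5, 1, -2, 1])))) (.node (.node (.node (.node (.leaf []) (.leaf [1, 0, 1, -1])) (.node (.leaf [-2, 0, -1, 2, 0, -1, 1]) (.leaf [-10, 0, -5, 8, 10, 3, -7]))) (.node (.node (.leaf []) (.leaf [-1, 0, 0, 0, -1, 1])) (.leaf [2, 0, 1, -2]))) (.node (.node (.node (.leaf [0, 0, 0, -1, 1]) (.leaf [-4, 0, -2, 4, -1, 1])) (.leaf [])) (.node (.node (.leaf []) (.leaf [1, 0, 1, -1])) (.leaf [14, 0, 5, -12, 4, 0, -1, -1]))))) (.node (.node (.node (.node (.node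 (.leaf []) (.leaf [42, 0, 15, -38, 5, -5, 3])) (.node (.leaf [1]) (.leaf [0, 0, 0, 0, 0, 1, 0, 0]))) (.node (.node (.leaf []) (.leaf [-1, 0, -1, 2])) (.leaf [23, 0, 10, -20, -4, -3, 5]))) (.node (.node (.node (.leaf []) (.leaf [6, 0, 2, -5, 2, -1])) (.node (.leaf [0, 0, 0, 0, 1]) (.leaf [-8, 0, -3, 7, 1, 2, -1]))) (.node (.node (.leaf [1, 0, 1, -1]) (.leaf [24, 0, 8, -22, 4, -2, 1])) (.leaf [5, 0, 2, -4, 1, -1])))) (.node (.node (.node (.node (.leaf []) (.leaf [-94, 0, -43, 84, 12, 4, -13, 3])) (.node (.leaf [-19, 0, -6, 17, -3, 2, -1]) (.leaf [6, 0, 2, -5, 2]))) (.node (.node (.leaf [1]) (.leaf [-3, 0, -1, 3, 1, 0, -1])) (.leaf [-54, 0, -18, 47, -6, 8, -5]))) (.node (.node (.node (.leaf [-1, 0, 0, 1]) (.leaf [1, 0, 0, -1, 1])) (.leaf [1])) (.node (.node (.leaf [-5, 0, -2, 4, -1, 1]) (.leaf [-5, 0, -2, 4, 0, 0, -1, 1])) (.leaf [-6, 0, -2, 5, -1, 1])))))) (.node (.node (.node (.node (.node (.node (.leaf [1]) (.leaf [0, 0, 0, 1])) (.node (.leaf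 [0, 0, 0, -1, 1]) (.leaf [0, 0, 0, 1, 0, 0, 0, 0]))) (.node (.node (.leaf [-4, 0, -1, 3]) (.leaf [5, 0, 3, -6, 1, 1, -1])) (.leaf [15, 0, 8, -13, -8, -1, 5]))) (.node (.node (.node (.leaf []) (.leaf [162, 0, 63, -141, -8, -19, 24, -1])) (.node (.leaf [0, 0, 0, 0, 2, 0, -1]) (.leaf [125, 0, 48, -108, -2, -13, 16, -1]))) (.node (.node (.leaf [3, 0, 1, -2]) (.leaf [6, 0, 2, -5, 2, -1])) (.leaf [24, 0, 6, -20, 7, -4, 1])))) (.node (.node (.node (.node (.leaf []) (.leaf [-5, 0, -2, 4, -1, 1])) (.node (.leaf []) (.leaf [-1, 0, 0, 1, 0, 1]))) (.node (.node (.leaf [5, 0, 2, -5, 1]) (.leaf [11, 0, 0, -6, 8, -2, -1, -1])) (.leaf [0, 0, 1, -1]))) (.node (.node (.node (.leaf [1]) (.leaf [-6, 0, -2, 5, -1, 1])) (.leaf [])) (.node (.node (.leaf []) (.leaf [-12, 0, -5, 10, 0, 2, -1])) (.leaf [0, 0, 0, 0, -1, 1]))))) (.node (.node (.node (.node (.node (.leaf []) (.leaf [3, 0, 1, -2])) (.node (.leaf [-1, 0, 0, 1]) (.leaf [0, 0, 0, 0, 0, 0, 1, 0]))) (.node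 (.node (.leaf []) (.leaf [-3, 0, -1, 3])) (.leaf []))) (.node (.node (.node (.leaf []) (.leaf [117, 0, 44, -100, -4, -14, 17, -1])) (.node (.leaf []) (.leaf [-35, 0, -11, 29, -3, 6, -4, 1]))) (.node (.node (.leaf []) (.leaf [-28, 0, -8, 22, -4, 4, -3, 1])) (.leaf [-45, 0, -16, 39, 0, 6, -6])))) (.node (.node (.node (.node (.leaf []) (.leaf [-33, 0, -11, 29, -3, 4, -3])) (.node (.leaf []) (.leaf [-2, 0, -1, 3, 1]))) (.node (.node (.leaf [0, 0, 0, 1]) (.leaf [-6, 0, -2, 6, -2, 1])) (.leaf [1]))) (.node (.node (.node (.leaf []) (.leaf [1])) (.leaf [-4, 0, -1, 4, -2, 1])) (.node (.node (.leaf []) (.leaf [13, 0, 5, -11, 0, -2, 2])) (.leaf [5, 0, 2, -5, 1])))))))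

def twoL : Janko.Tree (List ℤ) := (.node twoL0 twoL1)

def twoKind0 : Janko.Tree (ℕ) :=
  (.node (.node (.node (.node (.node (.node (.node (.leaf 0) (.leaf 3)) (.node (.leaf 3) (.leaf 2))) (.node (.node (.leaf 0) (.leaf 3)) (.leaf 0))) (.node (.node (.node (.leaf 0) (.leaf 3)) (.node (.leaf 3) (.leaf 3))) (.node (.node (.leaf 0) (.leaf 3)) (.leaf 0)))) (.node (.node (.node (.node (.leaf 0) (.leaf 3)) (.node (.leaf 3) (.leaf 3))) (.node (.node (.leaf 0) (.leaf 3)) (.leaf 3))) (.node (.node (.node (.leaf 0) (.leaf 3)) (.node (.leaf 0) (.leaf 3))) (.node (.node (.leaf 0) (.leaf 3)) (.leaf 3))))) (.node (.node (.node (.node (.node (.leaf 0) (.leaf 3)) (.node (.leaf 3) (.leaf 2))) (.node (.node (.leaf 3) (.leaf 0)) (.leaf 3))) (.node (.node (.node (.leaf 0) (.leaf 3)) (.node (.leaf 3) (.leaf 3))) (.node (.node (.leaf 3) (.leaf 3)) (.leaf 3)))) (.node (.node (.node (.node (.leaf 0) (.leaf 3)) (.node (.leaf 3) (.leaf 3))) (.node (.node (.leaf 0)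 (.leaf 3)) (.leaf 0))) (.node (.node (.node (.leaf 0) (.leaf 3)) (.leaf 0)) (.node (.node (.leaf 3) (.leaf 3)) (.leaf 0)))))) (.node (.node (.node (.node (.node (.node (.leaf 0) (.leaf 3)) (.node (.leaf 3) (.leaf 2))) (.node (.node (.leaf 3) (.leaf 3)) (.leaf 3))) (.node (.node (.node (.leaf 3) (.leaf 3)) (.node (.leaf 3) (.leaf 3))) (.node (.node (.leaf 0) (.leaf 3)) (.leaf 3)))) (.node (.node (.node (.node (.leaf 0) (.leaf 3)) (.node (.leaf 3) (.leaf 3))) (.node (.node (.leaf 0) (.leaf 3)) (.leaf 3))) (.node (.node (.node (.leaf 0) (.leaf 0)) (.leaf 0)) (.node (.node (.leaf 0) (.leaf 3)) (.leaf 3))))) (.node (.node (.node (.node (.node (.leaf 0) (.leaf 0)) (.node (.leaf 0) (.leaf 3))) (.node (.node (.leaf 0) (.leaf 3)) (.leaf 3))) (.node (.node (.node (.leaf 0) (.leaf 3)) (.node (.leaf 3) (.leaf 3))) (.node (.node (.leaf 0) (.leaf 3)) (.leaf 3)))) (.node (.node (.node (.node (.leaf 0) (.leaf 3)) (.node (.leaf 3) (.leaf 3))) (.node (.node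 (.leaf 0) (.leaf 3)) (.leaf 3))) (.node (.node (.node (.leaf 0) (.leaf 3)) (.leaf 3)) (.node (.node (.leaf 3) (.leaf 3)) (.leaf 3)))))))

def twoKind1 : Janko.Tree (ℕ) :=
  (.node (.node (.node (.node (.node (.node (.node (.leaf 0) (.leaf 3)) (.node (.leaf 3) (.leaf 2))) (.node (.node (.leaf 3) (.leaf 3)) (.leaf 3))) (.node (.node (.node (.leaf 0) (.leaf 3)) (.node (.leaf 3) (.leaf 2))) (.node (.node (.leaf 0) (.leaf 3)) (.leaf 3)))) (.node (.node (.node (.node (.leaf 0) (.leaf 3)) (.node (.leaf 3) (.leaf 3))) (.node (.node (.leaf 0) (.leaf 3)) (.leaf 3))) (.node (.node (.node (.leaf 3) (.leaf 3)) (.leaf 0)) (.node (.node (.leaf 0) (.leaf 3)) (.leaf 3))))) (.node (.node (.node (.node (.node (.leaf 0) (.leaf 3)) (.node (.leaf 3) (.leaf 2))) (.node (.node (.leaf 0) (.leaf 3)) (.leaf 3))) (.node (.node (.node (.leaf 0) (.leaf 3)) (.node (.leaf 3) (.leaf 3))) (.node (.node (.leaf 3) (.leaf 3)) (.leaf 3)))) (.node (.node (.node (.node (.leaf 0)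 (.leaf 3)) (.node (.leaf 3) (.leaf 3))) (.node (.node (.leaf 3) (.leaf 3)) (.leaf 3))) (.node (.node (.node (.leaf 3) (.leaf 3)) (.leaf 3)) (.node (.node (.leaf 3) (.leaf 3)) (.leaf 3)))))) (.node (.node (.node (.node (.node (.node (.leaf 3) (.leaf 3)) (.node (.leaf 3) (.leaf 2))) (.node (.node (.leaf 3) (.leaf 3)) (.leaf 3))) (.node (.node (.node (.leaf 0) (.leaf 3)) (.node (.leaf 3) (.leaf 3))) (.node (.node (.leaf 3) (.leaf 3)) (.leaf 3)))) (.node (.node (.node (.node (.leaf 0) (.leaf 3)) (.node (.leaf 0) (.leaf 3))) (.node (.node (.leaf 3) (.leaf 3)) (.leaf 3))) (.node (.node (.node (.leaf 3) (.leaf 3)) (.leaf 0)) (.node (.node (.leaf 0) (.leaf 3)) (.leaf 3))))) (.node (.node (.node (.node (.node (.leaf 0) (.leaf 3)) (.node (.leaf 3) (.leaf 2))) (.node (.node (.leaf 0) (.leaf 3)) (.leaf 0))) (.node (.node (.node (.leaf 0) (.leaf 3)) (.node (.leaf 0) (.leaf 3))) (.node (.node (.leaf 0) (.leaf 3)) (.leaf 3)))) (.node (.node (.node (.node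 (.leaf 0) (.leaf 3)) (.node (.leaf 0) (.leaf 3))) (.node (.node (.leaf 3) (.leaf 3)) (.leaf 3))) (.node (.node (.node (.leaf 0) (.leaf 3)) (.leaf 3)) (.node (.node (.leaf 0) (.leaf 3)) (.leaf 3)))))))

def twoKind : Janko.Tree (ℕ) := (.node twoKind0 twoKind1)

def twoRank0 : Janko.Tree (ℕ) :=
  (.node (.node (.node (.node (.node (.node (.node (.leaf 0) (.leaf 214)) (.node (.leaf 160) (.leaf 63))) (.node (.node (.leaf 27) (.leaf 148)) (.leaf 55))) (.node (.node (.node (.leaf 15) (.leaf 68)) (.node (.leaf 159) (.leaf 141))) (.node (.node (.leaf 36) (.leaf 156)) (.leaf 58)))) (.node (.node (.node (.node (.leaf 7) (.leaf 206)) (.node (.leaf 98) (.leaf 190))) (.node (.node (.leaf 31) (.leaf 65)) (.leaf 92))) (.node (.node (.node (.leaf 22) (.leaf 210)) (.node (.leaf 50) (.leaf 193))) (.node (.node (.leaf 41) (.leaf 108)) (.leaf 71))))) (.node (.node (.node (.node (.node (.leaf 3) (.leaf 209)) (.node (.leaf 183) (.leaf 105))) (.node (.node (.leaf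 79) (.leaf 62)) (.leaf 113))) (.node (.node (.node (.leaf 18) (.leaf 184)) (.node (.leaf 126) (.leaf 208))) (.node (.node (.leaf 164) (.leaf 198)) (.leaf 166)))) (.node (.node (.node (.node (.leaf 11) (.leaf 155)) (.node (.leaf 181) (.leaf 180))) (.node (.node (.leaf 34) (.leaf 165)) (.leaf 57))) (.node (.node (.node (.leaf 24) (.leaf 213)) (.leaf 54)) (.node (.node (.leaf 77) (.leaf 135)) (.leaf 59)))))) (.node (.node (.node (.node (.node (.node (.leaf 2) (.leaf 140)) (.node (.leaf 187) (.leaf 84))) (.node (.node (.leaf 150) (.leaf 207)) (.leaf 176))) (.node (.node (.node (.leaf 81) (.leaf 169)) (.node (.leaf 185) (.leaf 215))) (.node (.node (.leaf 38) (.leaf 179)) (.leaf 175)))) (.node (.node (.node (.node (.leaf 9) (.leaf 69)) (.node (.leaf 96) (.leaf 188))) (.node (.node (.leaf 33) (.leaf 168)) (.leaf 139))) (.node (.node (.node (.leaf 23) (.leaf 61)) (.leaf 52)) (.node (.node (.leaf 43) (.leaf 194)) (.leaf 200))))) (.node (.node (.node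 (.node (.node (.leaf 5) (.leaf 60)) (.node (.leaf 46) (.leaf 89))) (.node (.node (.leaf 29) (.leaf 201)) (.leaf 73))) (.node (.node (.node (.leaf 20) (.leaf 67)) (.node (.leaf 186) (.leaf 138))) (.node (.node (.leaf 39) (.leaf 136)) (.leaf 111)))) (.node (.node (.node (.node (.leaf 13) (.leaf 151)) (.node (.leaf 75) (.leaf 107))) (.node (.node (.leaf 35) (.leaf 64)) (.leaf 161))) (.node (.node (.node (.leaf 25) (.leaf 203)) (.leaf 131)) (.node (.node (.leaf 167) (.leaf 106)) (.leaf 204)))))))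

def twoRank1 : Janko.Tree (ℕ) :=
  (.node (.node (.node (.node (.node (.node (.node (.leaf 1) (.leaf 70)) (.node (.leaf 174) (.leaf 83))) (.node (.node (.leaf 104) (.leaf 86)) (.leaf 144))) (.node (.node (.node (.leaf 16) (.leaf 129)) (.node (.leaf 173) (.leaf 191))) (.node (.node (.leaf 37) (.leaf 197)) (.leaf 137)))) (.node (.node (.node (.node (.leaf 8) (.leaf 95)) (.node (.leaf 149) (.leaf 189))) (.node (.node (.leaf 32) (.leaf 128)) (.leaf 91))) (.node (.node (.node (.leaf 110) (.leaf 119)) (.leaf 51)) (.node (.node (.leaf 42) (.leaf 152)) (.leaf 202))))) (.node (.node (.node (.node (.node (.leaf 4) (.leaf 162)) (.node (.leaf 76) (.leaf 118))) (.node (.node (.leaf 28) (.leaf 88)) (.leaf 178))) (.node (.node (.node (.leaf 19) (.leaf 124)) (.node (.leaf 117) (.leaf 145))) (.node (.node (.leaf 101) (.leaf 157)) (.leaf 133)))) (.node (.node (.node (.node (.leaf 12) (.leaf 216)) (.node (.leaf 171) (.leaf 112))) (.node (.node (.leaf 78) (.leaf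 142)) (.leaf 163))) (.node (.node (.node (.leaf 100) (.leaf 115)) (.leaf 74)) (.node (.node (.leaf 132) (.leaf 192)) (.leaf 125)))))) (.node (.node (.node (.node (.node (.node (.leaf 82) (.leaf 93)) (.node (.leaf 114) (.leaf 85))) (.node (.node (.leaf 102) (.leaf 170)) (.leaf 182))) (.node (.node (.node (.leaf 17) (.leaf 211)) (.node (.leaf 153) (.leaf 212))) (.node (.node (.leaf 103) (.leaf 120)) (.leaf 172)))) (.node (.node (.node (.node (.leaf 10) (.leaf 130)) (.node (.leaf 47) (.leaf 122))) (.node (.node (.leaf 109) (.leaf 199)) (.leaf 87))) (.node (.node (.node (.leaf 80) (.leaf 121)) (.leaf 53)) (.node (.node (.leaf 44) (.leaf 146)) (.leaf 123))))) (.node (.node (.node (.node (.node (.leaf 6) (.leaf 97)) (.node (.leaf 94) (.leaf 134))) (.node (.node (.leaf 30) (.leaf 90)) (.leaf 56))) (.node (.node (.node (.leaf 21) (.leaf 205)) (.node (.leaf 49) (.leaf 195))) (.node (.node (.leaf 40) (.leaf 196)) (.leaf 177)))) (.node (.node (.node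 (.node (.leaf 14) (.leaf 158)) (.node (.leaf 48) (.leaf 143))) (.node (.node (.leaf 99) (.leaf 127)) (.leaf 72))) (.node (.node (.node (.leaf 26) (.leaf 66)) (.leaf 154)) (.node (.node (.leaf 45) (.leaf 147)) (.leaf 116)))))))

def twoRank : Janko.Tree (ℕ) := (.node twoRank0 twoRank1)

def twoVia0 : Janko.Tree (ℕ × ℕ) :=
  (.node (.node (.node (.node (.node (.node (.node (.leaf (0, 0)) (.leaf (24, 58))) (.node (.leaf (21, 36)) (.leaf (0, 0)))) (.node (.node (.leaf (0, 0)) (.leaf (22, 55))) (.leaf (0, 0)))) (.node (.node (.node (.leaf (0, 0)) (.leaf (0, 48))) (.node (.leaf (22, 45)) (.leaf (16, 43)))) (.node (.node (.leaf (0, 0)) (.leaf (14, 26))) (.leaf (0, 0))))) (.node (.node (.node (.node (.leaf (0, 0)) (.leaf (23, 39))) (.node (.leaf (0, 45)) (.leaf (8, 58)))) (.node (.node (.leaf (0, 0)) (.leaf (0, 56))) (.leaf (6, 35)))) (.node (.node (.node (.leaf (0, 0)) (.leaf (22, 29))) (.node (.leaf (0, 0)) (.leaf (24, 63)))) (.node (.node (.leaf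 (0, 0)) (.leaf (14, 43))) (.leaf (0, 40)))))) (.node (.node (.node (.node (.node (.leaf (0, 0)) (.leaf (20, 55))) (.node (.leaf (22, 33)) (.leaf (4, 0)))) (.node (.node (.leaf (0, 12)) (.leaf (0, 0))) (.leaf (13, 53)))) (.node (.node (.node (.leaf (0, 0)) (.leaf (22, 28))) (.node (.leaf (3, 28)) (.leaf (20, 54)))) (.node (.node (.leaf (21, 5)) (.leaf (22, 59))) (.leaf (13, 37))))) (.node (.node (.node (.node (.leaf (0, 0)) (.leaf (22, 21))) (.node (.leaf (12, 55)) (.leaf (12, 4)))) (.node (.node (.leaf (0, 0)) (.leaf (22, 35))) (.leaf (0, 0)))) (.node (.node (.node (.leaf (0, 0)) (.leaf (19, 52))) (.leaf (0, 0))) (.node (.node (.leaf (0, 20)) (.leaf (7, 63))) (.leaf (0, 0))))))) (.node (.node (.node (.node (.node (.node (.leaf (0, 0)) (.leaf (22, 20))) (.node (.leaf (22, 22)) (.leaf (2, 0)))) (.node (.node (.leaf (22, 9)) (.leaf (22, 54))) (.leaf (22, 38)))) (.node (.node (.node (.leaf (0, 6)) (.leaf (16, 57))) (.node (.leaf (21, 8)) (.leaf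 (18, 46)))) (.node (.node (.leaf (0, 0)) (.leaf (22, 39))) (.leaf (22, 0))))) (.node (.node (.node (.node (.leaf (0, 0)) (.leaf (0, 46))) (.node (.leaf (6, 43)) (.leaf (10, 38)))) (.node (.node (.leaf (0, 0)) (.leaf (22, 32))) (.leaf (22, 34)))) (.node (.node (.node (.leaf (0, 0)) (.leaf (0, 0))) (.leaf (0, 0))) (.node (.node (.leaf (0, 0)) (.leaf (24, 62))) (.leaf (22, 57)))))) (.node (.node (.node (.node (.node (.leaf (0, 0)) (.leaf (0, 0))) (.node (.leaf (0, 0)) (.leaf (6, 55)))) (.node (.node (.leaf (0, 0)) (.leaf (24, 59))) (.leaf (0, 34)))) (.node (.node (.node (.leaf (0, 0)) (.leaf (0, 50))) (.node (.leaf (22, 8)) (.leaf (22, 16)))) (.node (.node (.leaf (0, 0)) (.leaf (7, 61))) (.leaf (14, 15))))) (.node (.node (.node (.node (.leaf (0, 0)) (.leaf (22, 24))) (.node (.leaf (0, 26)) (.leaf (14, 53)))) (.node (.node (.leaf (0, 0)) (.leaf (0, 58))) (.leaf (14, 5)))) (.node (.node (.node (.leaf (0, 0)) (.leaf (22, 56))) (.leaf (11, 13)))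 (.node (.node (.leaf (16, 35)) (.leaf (4, 63))) (.leaf (24, 48))))))))

def twoVia1 : Janko.Tree (ℕ × ℕ) :=
  (.node (.node (.node (.node (.node (.node (.node (.leaf (0, 0)) (.leaf (0, 43))) (.node (.leaf (22, 27)) (.leaf (1, 0)))) (.node (.node (.leaf (0, 17)) (.leaf (3, 30))) (.leaf (15, 56)))) (.node (.node (.node (.leaf (0, 0)) (.leaf (11, 25))) (.node (.leaf (21, 20)) (.leaf (7, 0)))) (.node (.node (.leaf (0, 0)) (.leaf (22, 61))) (.leaf (7, 56))))) (.node (.node (.node (.node (.leaf (0, 0)) (.leaf (2, 45))) (.node (.leaf (22, 31)) (.leaf (9, 22)))) (.node (.node (.leaf (0, 0)) (.leaf (11, 32))) (.leaf (3, 35)))) (.node (.node (.node (.leaf (14, 23)) (.leaf (5, 51))) (.leaf (0, 0))) (.node (.node (.leaf (0, 0)) (.leaf (22, 26))) (.leaf (23, 28)))))) (.node (.node (.node (.node (.node (.leaf (0, 0)) (.leaf (22, 58))) (.node (.leaf (0, 23)) (.leaf (5, 0)))) (.node (.node (.leaf (0, 0)) (.leaf (3, 55))) (.leaf (16, 20)))) (.node (.node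 (.node (.leaf (0, 0)) (.leaf (13, 41))) (.node (.leaf (13, 9)) (.leaf (21, 0)))) (.node (.node (.leaf (2, 17)) (.leaf (22, 36))) (.leaf (3, 39))))) (.node (.node (.node (.node (.leaf (0, 0)) (.leaf (18, 47))) (.node (.leaf (22, 48)) (.leaf (13, 15)))) (.node (.node (.leaf (0, 15)) (.leaf (16, 63))) (.leaf (21, 58)))) (.node (.node (.node (.leaf (6, 5)) (.leaf (13, 34))) (.leaf (0, 31))) (.node (.node (.leaf (11, 7)) (.leaf (17, 63))) (.leaf (4, 26))))))) (.node (.node (.node (.node (.node (.node (.leaf (0, 1)) (.leaf (3, 19))) (.node (.leaf (13, 43)) (.leaf (3, 0)))) (.node (.node (.leaf (6, 15)) (.leaf (16, 56))) (.leaf (21, 33)))) (.node (.node (.node (.leaf (0, 0)) (.leaf (24, 49))) (.node (.leaf (13, 26)) (.leaf (19, 55)))) (.node (.node (.leaf (6, 17)) (.leaf (13, 51))) (.leaf (21, 37))))) (.node (.node (.node (.node (.leaf (0, 0)) (.leaf (11, 21))) (.node (.leaf (0, 0)) (.leaf (11, 4)))) (.node (.node (.leaf (14, 34)) (.leaf (21, 57)))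 (.leaf (2, 53)))) (.node (.node (.node (.leaf (0, 9)) (.leaf (4, 37))) (.leaf (0, 0))) (.node (.node (.leaf (0, 0)) (.leaf (21, 55))) (.leaf (11, 41)))))) (.node (.node (.node (.node (.node (.leaf (0, 0)) (.leaf (6, 45))) (.node (.leaf (6, 19)) (.leaf (6, 0)))) (.node (.node (.leaf (0, 0)) (.leaf (6, 53))) (.leaf (0, 0)))) (.node (.node (.node (.leaf (0, 0)) (.leaf (21, 42))) (.node (.leaf (0, 0)) (.leaf (23, 62)))) (.node (.node (.leaf (0, 0)) (.leaf (23, 61))) (.leaf (15, 7))))) (.node (.node (.node (.node (.leaf (0, 0)) (.leaf (21, 45))) (.node (.leaf (0, 0)) (.leaf (15, 14)))) (.node (.node (.leaf (3, 5)) (.leaf (11, 36))) (.leaf (0, 37)))) (.node (.node (.node (.leaf (0, 0)) (.leaf (0, 53))) (.leaf (16, 24))) (.node (.node (.leaf (0, 0)) (.leaf (16, 62))) (.leaf (13, 23))))))))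

def twoVia : Janko.Tree (ℕ × ℕ) := (.node twoVia0 twoVia1)

def twoOrd : Janko.Tree (ℕ) :=
  (.node (.node (.node (.node (.node (.node (.leaf 8) (.leaf 50)) (.node (.leaf 14) (.leaf 56))) (.node (.node (.leaf 39) (.leaf 34)) (.node (.leaf 24) (.leaf 53)))) (.node (.node (.node (.leaf 0) (.leaf 28)) (.node (.leaf 62) (.leaf 33))) (.node (.node (.leaf 44) (.leaf 57)) (.node (.leaf 7) (.leaf 27))))) (.node (.node (.node (.node (.leaf 59) (.leaf 31)) (.node (.leaf 29) (.leaf 35))) (.node (.node (.leaf 13) (.leaf 45)) (.node (.leaf 48) (.leaf 46)))) (.node (.node (.node (.leaf 55) (.leaf 25)) (.node (.leaf 17) (.leaf 3))) (.node (.node (.leaf 26) (.leaf 9)) (.node (.leaf 19) (.leaf 42)))))) (.node (.node (.node (.node (.node (.leaf 11) (.leaf 16)) (.node (.leaf 61) (.leaf 52))) (.node (.node (.leaf 49) (.leaf 63)) (.node (.leaf 15) (.leaf 60)))) (.node (.node (.node (.leaf 43) (.leaf 22)) (.node (.leaf 30) (.leaf 41))) (.node (.node (.leaf 4)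 (.leaf 12)) (.node (.leaf 10) (.leaf 21))))) (.node (.node (.node (.node (.leaf 51) (.leaf 36)) (.node (.leaf 37) (.leaf 47))) (.node (.node (.leaf 58) (.leaf 5)) (.node (.leaf 40) (.leaf 38)))) (.node (.node (.node (.leaf 54) (.leaf 18)) (.node (.leaf 23) (.leaf 2))) (.node (.node (.leaf 20) (.leaf 6)) (.node (.leaf 1) (.leaf 32)))))))

def twoRels : List (List ℕ) := [[0, 0],
  [1, 1, 1, 1, 1, 1, 1, 1],
  [2, 2, 2, 2],
  [0, 2, 0, 2],
  [1, 2, 1, 2],
  [0, 1, 1, 0, 1, 1],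
  [0, 2, 2, 0, 2, 2],
  [1, 1, 1, 1, 2, 2],
  [0, 1, 0, 2, 0, 1, 0, 2],
  [0, 1, 1, 0, 2, 1, 1, 2],
  [0, 1, 1, 1, 1, 0, 2, 2],
  [0, 1, 1, 2, 0, 2, 1, 1],
  [0, 1, 1, 2, 1, 1, 0, 2],
  [0, 1, 2, 1, 0, 1, 2, 1],
  [0, 1, 2, 1, 0, 2, 2, 2],
  [0, 1, 2, 2, 2, 1, 0, 2],
  [1, 2, 2, 2, 1, 2, 2, 2],
  [0, 1, 0, 1, 0, 1, 0, 1, 2, 2],
  [0, 1, 0, 1, 0, 1, 0, 2, 2, 1],
  [0, 1, 0, 1, 2, 0, 1, 0, 1, 2],
  [0, 1, 0, 2, 1, 0, 1, 0, 2, 1],
  [0, 1, 1, 1, 1, 2, 0, 1, 2, 1],
  [0, 2, 1, 1, 0, 2, 1, 2, 2, 1],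
  [0, 1, 0, 1, 1, 1, 0, 1, 2, 0, 1, 2],
  [0, 1, 0, 2, 1, 2, 0, 1, 0, 2, 1, 2]]

/-- the certificate -/
def twoCert : CentralLocal.Cert :=
  { act := actB baseB twoGens, one := oneB, N := 64, k := 3, q := 0, rels := twoRels, P := 8,
    elt := twoElt, next := twoNext, word := twoWord, par := twoPar, L := twoL, kind := twoKind, rank := twoRank,
    via := twoVia, pv := [192, 193, 194, 195, 196, 197, 199, 209] }

theorem two_edges0 : ((List.range 64).all fun i => twoCert.edgeCheck (Nat.add 0 i)) = true := by decide +kernel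

theorem two_edges : ∀ i < 64, twoCert.edgeCheck i = true := by
  intro i hi
  have := List.all_eq_true.1 two_edges0 (i - 0) (List.mem_range.2 (by omega)); rwa [show Nat.add 0 (i - 0) = i from Nat.add_sub_cancel' (by omega)] at this


theorem two_tree0 : ((List.range 64).all fun i => twoCert.treeCheck (Nat.add 0 i)) = true := by decide +kernel

theorem two_tree : ∀ i < 64, twoCert.treeCheck i = true := by
  intro i hi
  have := List.all_eq_true.1 two_tree0 (i - 0) (List.mem_range.2 (by omega)); rwa [show Nat.add 0 (i - 0) = i from Nat.add_sub_cancel' (by omega)] at this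


theorem two_vars0 : ((List.range 217).all fun i => twoCert.varCheck (Nat.add 0 i)) = true := by decide +kernel

theorem two_vars : ∀ i < 217, twoCert.varCheck i = true := by
  intro i hi
  have := List.all_eq_true.1 two_vars0 (i - 0) (List.mem_range.2 (by omega)); rwa [show Nat.add 0 (i - 0) = i from Nat.add_sub_cancel' (by omega)] at this


theorem two_ord0 : ((List.range 64).all fun i => twoCert.ordCheck twoOrd (Nat.add 0 i)) = true := by decide +kernel

theorem two_ord : ∀ i < 64, twoCert.ordCheck twoOrd i = true := by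
  intro i hi
  have := List.all_eq_true.1 two_ord0 (i - 0) (List.mem_range.2 (by omega)); rwa [show Nat.add 0 (i - 0) = i from Nat.add_sub_cancel' (by omega)] at this


theorem two_rels : (twoCert.rels.all fun w => twoCert.relCheck w) = true := by decide +kernel

theorem two_valid : twoCert.Valid where
  npos := Nat.succ_pos _
  kpos := Nat.succ_pos _
  edges := two_edges
  tree := two_tree
  rels := List.all_eq_true.1 two_rels
  vars := two_vars

/-- the lattice -/
def twoLat : CentralBound.Lat :=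
  { basis := [[2, 0, 1, -2, 0, 0, 0, 0],
      [-4, 1, 0, 4, -4, 0, 0, 0],
      [-3, 0, 0, 2, -2, 1, 0, 0],
      [-1, 0, 0, 1, -2, 0, 1, 0],
      [-3, 0, 0, 1, -2, 0, 0, 1]],
    compl := [[1, 0, 0, 0, 0, 0, 0, 0], [0, 0, 0, 0, 1, 0, 0, 0], [-1, 0, 0, 1, 0, 0, 0, 0]],
    counts := [[2, 0, 0], [0, 2, 2], [0, 0, 2]],
    piv := [0, 1, 2],
    coord := [([0, 0, 0, 0, 0], [1, 0, 0]),
      ([0, 1, 0, 0, 0], [0, 4, -4]),
      ([1, 0, 0, 0, 0], [0, 0, 2]),
      ([0, 0, 0, 0, 0], [1, 0, 1]),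
      ([0, 0, 0, 0, 0], [0, 1, 0]),
      ([0, 0, 1, 0, 0], [1, 2, -2]),
      ([0, 0, 0, 1, 0], [0, 2, -1]),
      ([0, 0, 0, 0, 1], [2, 2, -1])],
    gens := [],
    ord := [],
    red := [([], ([(6, 0), (-18, 2)], [(21, (0, 27))]), [13, 0, -3, 6, 0]),
      ([], ([(20, 0), (8, 2)], [(-1, (1, 0)), (-15, (0, 27))]), [12, 0, -3, 4, 0]),
      ([], ([(3, 0), (-29, 2)], [(-23, (0, 27))]), [33, 0, -9, 15, 0]),
      ([], ([(12, 0), (-19, 2)], [(-19, (0, 27))]), [30, 0, -8, 13, 0]),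
      ([], ([(-9, 2), (11, 0), (1, 1)], [(-12, (0, 27))]), [19, 0, -5, 8, 0])],
    kill := [] }

/-- conjugate commuting pairs -/
def twoSpecs : List Spec := [(([0, 1, 2, 0], [1, 0, 2, 0], [0, 1, 0, 1, 2], [0]), (0x57a9120201180546b147c1de6dc361585d41aaccec51ca5b99b715290fcbf549ad0100a65eb9e2cd984375e31ba6d8530c7420cc8c773c11c62250009c605535a9d02bba65823a0211085fecd853f616ce6426505349fd58bc3e2a546a0197a195745989a6e0aa92650c1f5e34b11d43845b4998911acac092516225a861782f8235da2026492c21a861a4a88a75846e765383d53708e8f8b238bf24d2a059d56ef7809455ad7430a42f52a7d7e84132da5a30792039050eb4d37c9eb8985682c0a9d4e12670882321c7362b54b81591565564277ad5a0449dcdc10cb5a126087b31a51d02d91d60215c0ecc50a6d893d476aeab83a424e71b01151933c08cc7d0dccab6d66096068fb4fa89f0399b01a720da54bc9aee3d1a12ad3322b1c01aa3478b4ed43acc6d0f860dd6d6802dad862a8a1f9ec500c51e4167065a5949e391d140d1443a4ba14a44b97e4181a35f245b301ed44b7d249c4aa3146856c6095265a1ca2c7db09c37c0078b9b258c07290fcf849279eb262e2f6d1a92e5741b95bc605414cfef25e4187ab0848c99e76529211cfe134a27965,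 0x2f0f4a4602a0fc002713566852e69431f09c42b09649e49c7ab75074352351969baa872fab9dc64472b1ac5ef787346b94e8f8883e0155afcf2be551ee9f20ad21934c33b11862f48138048021038600f54facd2255171aa5b58a20d918cd0ed26a85b89a5ddebb322e5e26392c9c1747b103a22a521a29b62a948124ce2400ec827d6e1652d17b08428afb579d0d0eb6442494a1a55582cca478e5ce6d630568d60aa86e902d6c2116cfd3841898ad04c925105541443d23a00d16f0a2ebb5068e22bea960f9845450c46e9855ca733392c80cb5a51b26e588e22013995300f6ab29f9e44d3f941dc2c8931e45410cb38e2a25e8ea0969b181484ba83a35fc4b33b5d333f0bc86634d0896910e5521cd993b9e021bc4e5c13dc6bc15bb1315f9986a167245a262c6f518ddf814a8c7492b5679a628820c57a691b0954db45862a40eb0f1e3c14c069d4f480ac79ac088cba94701a294ab98f9083119606819f02a73350e57540ff1a971acc99b00e7021b3cae556811ba53630439b230576ab056848680cdf29d86a48f0536fb01eca91f1e8bf0112cb2cd37, [2, 3, 1, 0, 2, 2, 3, 2, 3, 1, 3, 3, 0, 1])),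
  (([2, 2], [0, 1, 1], [0, 2], [1, 0, 2, 1, 2]), (0x1f0f47e602f978a4542995cac55170c05e6b351b0f0773b1189047190c46667349a0b65d2e0ac5a2c1c0dc7274399d48843229409e511d8e8786532198964a248d46836381c8e261319889c4d261048042140a8526f371b4b2582d235188b5aadd6ca1502895cad561f0fc7d5cae174c4633152a944b2291288602fd7caa54aacf27b3d21d0c8561305869a4e26d3a9f4f24d249159ac968994c25d08834132590c758ac15ea55228d208f471fd02805daf578a65429daed66c3addaec8a44e251087c4594cc65bf1f6fa773c1df058240dc6e2723f9faff85c2a12cd67b39badc6f3cde4f1834220f158bc59b4d96db9dcce580c0204e06fb85eaf47b3a5d0ea8cc6234d469b55a0d268bddf2f88643a1b3d9e4facb64b1c9e53288e46e3b4da652ec162b0d5aab5499cd669409fd06b55cadc823f1ea7d3aa142a250eb358abcba5b2f95caa59369c4ded167b34ca6330a3d1a8b53a9546d76ab4c9a4b249dcea7348a5526bb5faf48647220302014070601416040483424140884c1e15070402c1b0e86838180f05c32260f8904223128884e20000040403, 0x1c8e06e452210cea74399a0ce69160ac5a5c2d974a25027998ca641e0ec74552b958d86b350b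c5c301f8f87a5329150bc602f9d8f077198c8624723120c461319088240261389a4925928e270390d86a34148a0545a2c960da6f372150e864da6938c3613057cc05f9e8f27b55aa9529e4ea7d68b3592452692562b95aba5cae0fa7c3f22d1a8c5128540b65aadd8ac46322114894b25528af58ac11c9047a8d4aa44ba6530c764b21048441a00fe8153a9950bc5daf5bcdd6e41e0d0878bcde4ff7f3f59ccd67c26170a8b4562ee573b99b6da6cc46210f7d3f1f6cb65331b0d76b44a2913763addaef773c1c8e37140e0b04753a5d0d56a34e35198c40a03007b3d5e8e17037da2d069436190e7c3ddf359ac55e8544a1cba5b2f9047e3d5aae56e9f4ea84da713795caa5968b3d9a994ba6c6e3b1cb1586c164b1d96793e9eca651279acd26755aa55a7f41a04924d25b4daed5399dcea8b47a34c26531a8d4ea55eaed7e9348a548a4323028300e0a0401812040583c26110a0481a1007054301c0d07436160c85c3c23108943e261209c4420000040403, [2, 1, 1, 3, 3, 0, 2, 2, 3, 2, 0, 0])),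
  (([0], [1, 1, 2], [1, 0, 1, 2], [0, 1, 1, 0]), (0x98d301f68b300e973208a54deda578e6227b2a3d232c2173fd1649712a0c860702aa83210f42c6ab544b98b0852aba80f63b58b591136c25cd12c11cd9f64347c8e7e193534d382195cdd58626f1f1e64eb2016d5025f0fc76bb82b0ded204644274a66cd5084152e1e000772e85082e4afa59fd2858462847963c6de2986ed844c322456556d52806054fc5bc9a9103444069e86381cc140b3a9c57ee9972f66ae784a3a78280b13eb49a6f91c66276bd495b478a1f8ca94ab1296339179ea3f44293064e3746d78daa709419da02693401cec83ccd143a1ea1e5ace0232c9b4564d44c6997c43440a9ae1ac36f08aad88b3d7c892186957582387d163359808a7159805aa4af12034920722eee4dd60bc2248ad056f2a319ea6dc7d4f86d5b6a17d02c40e82546a22cc12685797c02943c7281942a4a83a07c6cabb861525221fc34c68e932241f59a4ac4d630d75b6661850deb0f25ca57410412e5060d00a7d3b1e8d14cdd5571bf4713b5924c4a469543a70317bd94e4ca502941874b4b3e2c51913be80290bb1501308416c80eba6a1026b8b39d9a29e, 0x9fc842f6801d9c3d23a0115f48e83ae8849b36355ec7a29b1c591238b39445774a1c0f6ab297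506ed661cd48c01f4069a11989b928d9144558821954d9ba6157592d60c2fb7d53389588c75045ebb8a07f9904e9918608c0968d7f0beb3023e8552ecb9e126bb161e0893c91a5145b60b57ada366276481d45eab41454f09a9bd269f0fc647b5a929d1fa98091f16ab004509c0566e518b70815d4ca54f69c9df67020d82273b67911e86b972cc02b20b2a1148953071473d7f9301c688d5617c8570c7dbc828e0e46c0477a5a90762389d8b03afa3d9b297ad3939525c450345832990b21b19000632d3db5140fc9d41ac4c813118ee8199b697717aaab68eeb553a288061a8dcd20d273291926ae30a010e86009c61873075c4e7b08b572544d4bd213939101935150ca08750351e6170f05210c7453021a875b172fc28f36b4914a4a1db1aa8f7690912a4f9a44612098f155565c8eab2bc295e1b6928068be0403f61d5e7c8b3abc420d8683e44a929b9e2589d2452cce7e4c93660f207b5e210a02adec638b4ac4681972394cc88a096a44a7b32d0670d, [2, 2, 0, 1, 1, 3, 0, 2, 1, 1, 0, 1, 0, 0]))]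

theorem two_gens : twoGens.all (elemOK 364 baseP) = true ∧ twoSpecs.all (specOK 364 baseP baseB twoCert twoGens) = true := by decide +kernel

theorem two_lat : CentralBound.latOK twoCert (twoSpecs.map extOf) (2 ^ 6) twoLat = true := by decide +kernel

end Cfsg.Agent.Lie.GTwoThreeMult
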