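import Cfsg.Agent.Lib.Lie.CoverAssemble
import Cfsg.Agent.Lib.Lie.GTwoThreeMult.BigValues
import Cfsg.Agent.Lib.Lie.GTwoThreeMult.Three
import Cfsg.Agent.Lib.Lie.GTwoThreeMult.Two

/-!
The Schur multiplier of the group of type G2 over three elements.
-/

set_option autoImplicit false
set_option maxRecDepth 100000

noncomputable section

namespace Cfsg.Agent.Lie.GTwoThreeMult

open Cfsg Cfsg.Agent.Lie PermCover CoverCocycle
open Cfsg.Agent.Lie.PermNine (Rep pg)

universe u

theorem exists_word {G : Type u} [Group G] {φ : G →* Equiv.Perm (Fin 364)} (hb : ∀ p ∈ baseP, ∃ g, Rep φ g p) :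
    ∀ w : List ℕ, (∀ s ∈ w, s < baseP.length) → ∃ g, ∀ k : Fin 364, (φ g k : ℕ) = imgP baseP w k
  | [], _ => ⟨1, fun k => by rw [map_one]; rfl⟩
  | s :: w, h => by
    simp only [List.mem_cons, forall_eq_or_imp] at h
    obtain ⟨g, hg⟩ := exists_word hb w h.2
    obtain ⟨u, hu⟩ := hb (baseP.getD s 0) (by rw [List.getD_eq_getElem _ _ h.1]; exact List.getElem_mem _)
    exact ⟨u * g, fun k => by rw [map_mul, Equiv.Perm.mul_apply, hu, hg]; rfl⟩

theorem chain_reps {G : Type u} [Group G] {φ : G →* Equiv.Perm (Fin 364)} (hb : ∀ p ∈ baseP, ∃ g, Rep φ g p) :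
    PermNine.Reps (φ := φ) (Set.univ : Set G) chainX := by
  intro l hl
  obtain ⟨l, hl', rfl⟩ := List.mem_map.1 hl
  refine ⟨?_, fun p hp => ?_⟩
  · have : l.1 ∈ baseB := chainX_base ▸ List.mem_map.2 ⟨_, List.mem_map.2 ⟨l, hl', rfl⟩, rfl⟩
    revert this
    generalize l.1 = b
    decide +revert +kernel
  obtain ⟨e, he, rfl⟩ := List.mem_map.1 hp
  have h := List.all_eq_true.1 (List.all_eq_true.1 chainE_ok l hl') e he
  simp only [elemOK, Bool.and_eq_true, List.all_eq_true, Nat.blt_eq, List.mem_range, Nat.beq_eq] at h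
  obtain ⟨g, hg⟩ := exists_word hb e.2.2 h.1
  exact ⟨g, Set.mem_univ _, fun k => (hg k).trans (h.2 k k.2).1.symm⟩

/-- The base points. -/
def baseF : List (Fin 364) := [0, 1, 4, 5, 2, 13, 40]

theorem baseF_val : baseF.map Fin.val = baseB := by decide +kernel

theorem fix_base {G : Type u} [Group G] [Finite G] {φ : G →* Equiv.Perm (Fin 364)}
    (hb : ∀ p ∈ baseP, ∃ g, Rep φ g p) (hcard : Nat.card G = 4245696) (g : G)
    (hg : ∀ b ∈ baseF, φ g b = b) : g = 1 := by
  refine fix_one_of_chain chainX_ok (chain_reps hb) (by rw [chainX_size, hcard]) (by rw [chainX_size]; norm_num)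
    fun k hk => hg k ?_
  rw [chainX_base, ← baseF_val, List.mem_map] at hk
  obtain ⟨b, hb', e⟩ := hk
  exact Fin.ext e ▸ hb'

/-- The group read on the singular points. -/
def model {G : Type u} [Group G] [Finite G] (φ : G →* Equiv.Perm (Fin 364)) (hb : ∀ p ∈ baseP, ∃ g, Rep φ g p)
    (hcard : Nat.card G = 4245696) : Model G 364 where
  n_le := by norm_num
  φ := φ
  inj := (injective_iff_map_eq_one φ).2 fun g hg => fix_base hb hcard g fun b _ => by rw [hg]; rfl
  base := baseP
  base_rep := hb
  B := baseF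
  B_fix := fix_base hb hcard

section

variable {G : Type u} [Group G] [Finite G] (φ : G →* Equiv.Perm (Fin 364))
  (hb : ∀ p ∈ baseP, ∃ g, Rep φ g p) (hcard : Nat.card G = 4245696)

local notation "M" => model φ hb hcard

include hb hcard

theorem closure_top : Subgroup.closure {g | ∃ e ∈ gensX, g = (M).elem e.1} = ⊤ := by
  obtain ⟨K, hK⟩ : ∃ K, K = Subgroup.closure {g | ∃ e ∈ gensX, g = (M).elem e.1} := ⟨_, rfl⟩
  rw [← hK]
  have hw : ∀ w : List ℕ, (∀ s ∈ w, s < baseP.length) → ∃ g ∈ K, ∀ k : Fin 364, (φ g k : ℕ) = imgP baseP w k := by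
    intro w
    induction w with
    | nil => exact fun _ => ⟨1, one_mem _, fun k => by rw [map_one]; rfl⟩
    | cons s w ih =>
      intro h
      simp only [List.mem_cons, forall_eq_or_imp] at h
      obtain ⟨g, hgK, hg⟩ := ih h.2
      have hmem : baseP.getD s 0 ∈ gensX.map Prod.fst := by
        rw [gens_ok.2.2, List.getD_eq_getElem _ _ h.1]; exact List.getElem_mem _
      obtain ⟨e, he, hes⟩ := List.mem_map.1 hmem
      refine ⟨(M).elem e.1 * g, mul_mem (hK ▸ Subgroup.subset_closure ⟨e, he, rfl⟩) hgK, fun k => ?_⟩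
      rw [map_mul, Equiv.Perm.mul_apply]
      refine (((M).elem_spec (List.all_eq_true.1 gens_ok.1 e he)).1 _).trans ?_
      rw [hes, hg]
      rfl
  refine (Subgroup.eq_top_iff' K).2 (PermNine.chain_mem (M).inj chainX_ok (fun l hl => ⟨(chain_reps hb l hl).1, ?_⟩)
    (by rw [chainX_size, hcard]))
  obtain ⟨l, hl', rfl⟩ := List.mem_map.1 hl
  intro p hp
  obtain ⟨e, he, rfl⟩ := List.mem_map.1 hp
  have h := List.all_eq_true.1 (List.all_eq_true.1 chainE_ok l hl') e he
  simp only [elemOK, Bool.and_eq_true, List.all_eq_true, Nat.blt_eq, List.mem_range, Nat.beq_eq] at h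
  obtain ⟨g, hgK, hg⟩ := hw e.2.2 h.1
  exact ⟨g, hgK, fun k => (hg k).trans (h.2 k k.2).1.symm⟩

theorem perfect : commutator G = ⊤ := by
  refine top_le_iff.1 (closure_top φ hb hcard ▸ (Subgroup.closure_le _).2 ?_)
  rintro g ⟨e, he, rfl⟩
  obtain ⟨s, hs, rfl⟩ := List.getElem_of_mem he
  have hs3 : s < 4 := hs
  have hw := List.all_eq_true.1 words_ok s (List.mem_range.2 hs3)
  simp only [Bool.and_eq_true, List.all_eq_true, Nat.blt_eq, Nat.beq_eq] at hw
  have hC : (gensC.map Prod.fst).all (elemOK 364 (M).base) = true := by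
    rw [List.all_map, List.all_eq_true]
    intro c hc
    have h := List.all_eq_true.1 gens_ok.2.1 c hc
    simp only [commOK, Bool.and_eq_true] at h
    exact h.1.1
  have he' : (gensX[s]).1 = baseP.getD s 0 := by
    rw [List.getD_eq_getElem _ _ (show s < baseP.length from hs3)]
    exact (List.getElem_map Prod.fst).symm.trans (List.getElem_of_eq gens_ok.2.2 (by simpa using hs))
  have e1 : (M).elem (gensX[s]).1 = CentralLocal.ev (fun j => (M).elem ((gensC.map Prod.fst).getD j (0, 0, [])).1)
      (wordsC.getD s []) := (M).ext fun b hb' => by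
    rw [(M).word_apply hC _ (fun j hj => hw.1 j hj) b, hw.2 b (baseF_val ▸ List.mem_map_of_mem (f := Fin.val) hb'),
      ← he']
    exact ((M).elem_spec (List.all_eq_true.1 gens_ok.1 _ he)).1 b
  rw [SetLike.mem_coe]
  refine Eq.subst (motive := fun g => g ∈ commutator G) e1.symm ?_
  refine Subgroup.list_prod_mem _ fun y hy => ?_
  obtain ⟨j, hj, rfl⟩ := List.mem_map.1 hy
  have hj' : j < gensC.length := hw.1 j hj
  rw [List.getD_eq_getElem _ _ (by simpa using hj'), List.getElem_map]
  exact (M).comm_mem (by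
    rw [show (M).B.map Fin.val = baseB from baseF_val]
    exact List.all_eq_true.1 gens_ok.2.1 _ (List.getElem_mem hj'))

/-- The table on the larger subgroup. -/
def dataBig : CentralBound.Data bigCert G :=
  (M).data bigCert bigGens big_gens rfl (by rw [show (M).B.map Fin.val = baseB from baseF_val]; rfl)
    (by rw [show (M).B.map Fin.val = baseB from baseF_val]; decide +kernel) big_valid bigOrd big_ord

theorem mvs_big : ∀ i < gensX.length, ∀ j < 2912, movesOK ((M).B.map Fin.val) bigCert bigGens bigT 2912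
    (gensX.getD i (0, 0, [])).1 ([bigMvXa, bigMvXb, bigMvXc, bigMvXd].getD i (.leaf 0)) j = true := by
  intro i hi j hj
  rw [show (M).B.map Fin.val = baseB from baseF_val,
    show (gensX.getD i (0, 0, [])).1 = baseP.getD i 0 by
      rw [← gens_ok.2.2, List.getD_eq_getElem _ _ hi, List.getD_eq_getElem _ _ (by simpa using hi), List.getElem_map]]
  match i, hi with
  | 0, _ => exact big_mvXa j hj
  | 1, _ => exact big_mvXb j hj
  | 2, _ => exact big_mvXc j hj
  | 3, _ => exact big_mvXd j hj
  | k + 4, h => exact absurd (show k + 4 < 4 from h) (by omega)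

/-- The cosets of the larger subgroup. -/
def cosBig : CoverTable.Cos (dataBig φ hb hcard) :=
  (M).cos big_gens rfl (dataBig φ hb hcard) (fun _ => rfl) gens_ok.1 (closure_top φ hb hcard) (Nat.succ_pos _)
    (by rw [hcard]; rfl) big_T [bigMvXa, bigMvXb, bigMvXc, bigMvXd] (mvs_big φ hb hcard)

theorem moves_big {i : ℕ} {v : ℕ} (hi : i < 1458)
    (hv : ((List.range 364).all fun k => Nat.beq (pg v k) (imgW bigGens (bigCert.wd i) k)) = true)
    {mv : Janko.Tree ℕ} (h : ∀ j < 2912, movesOK baseB bigCert bigGens bigT 2912 v mv j = true) :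
    CoverTable.Moves (dataBig φ hb hcard) 2912 (fun j => (M).elem (bigT.get j))
      (CoverTable.el (dataBig φ hb hcard) i) (fun j => mv.get j / 4096) (fun j => mv.get j % 4096) :=
  (M).moves (v := v) big_gens rfl (dataBig φ hb hcard) (fun _ => rfl) ((M).exists_T gens_ok.1 big_T)
    (fun k => by
      rw [Nat.eq_of_beq_eq_true (List.all_eq_true.1 hv k (List.mem_range.2 k.2))]
      exact (M).word_apply big_gens _ (fun s hs => Nat.blt_eq.mp (List.all_eq_true.1
        (CoverTable.wd_letters (dataBig φ hb hcard) (i := i) hi) s hs)) k)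
    (by rwa [show (M).B.map Fin.val = baseB from baseF_val])

theorem comm_big {i j : ℕ} (hi : i < 1458) (hj : j < 1458) (h : mI bigCert i j = mI bigCert j i) :
    CoverTable.el (dataBig φ hb hcard) i * CoverTable.el (dataBig φ hb hcard) j =
      CoverTable.el (dataBig φ hb hcard) j * CoverTable.el (dataBig φ hb hcard) i := by
  rw [(CoverTable.el_mul (dataBig φ hb hcard) hi hj).2, (CoverTable.el_mul (dataBig φ hb hcard) hj hi).2, h]

/-- The cocycle. -/
def cover : Cocycle G (ZMod 3) := (cosBig φ hb hcard).cocycle bigVala.get 3 big_lefta big_wda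

theorem value_big : (cover φ hb hcard).f
      (CoverTable.el (dataBig φ hb hcard) 644) (CoverTable.el (dataBig φ hb hcard) 137) -
    (cover φ hb hcard).f
      (CoverTable.el (dataBig φ hb hcard) 137) (CoverTable.el (dataBig φ hb hcard) 644) = 2 := by
  have m1 := moves_big φ hb hcard (i := 644) (by norm_num) big_vq big_mvq
  have m2 := moves_big φ hb hcard (i := 137) (by norm_num) big_vp big_mvp
  rw [cover, (cosBig φ hb hcard).cocycle_eval bigVala.get 3 big_lefta big_wda m1 m2,
    (cosBig φ hb hcard).cocycle_eval bigVala.get 3 big_lefta big_wda m2 m1]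
  exact big_value0a

theorem cover_stem : Cfsg.IsStemExtension (proj (cover φ hb hcard)) := by
  refine CoverCocycle.stem (cover φ hb hcard) ![CoverTable.el (dataBig φ hb hcard) 644]
    ![CoverTable.el (dataBig φ hb hcard) 137] (fun i => ?_) ?_
  · fin_cases i
    exact comm_big φ hb hcard (by norm_num) (by norm_num) big_comm
  refine (AddSubgroup.eq_top_iff' _).2 fun b => ?_
  have h : ∀ b : ZMod 3, ∃ p : Fin 3, (p : ℕ) • (2 : ZMod 3) = b := by decide
  obtain ⟨p, rfl⟩ := h b
  refine nsmul_mem ?_ _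
  rw [← value_big φ hb hcard]
  exact AddSubgroup.subset_closure (Set.mem_range_self (0 : Fin 1))

end

/-- The multiplier. -/
theorem multiplier {G : Type u} [Group G] [Finite G] (φ : G →* Equiv.Perm (Fin 364))
    (hb : ∀ p ∈ baseP, ∃ g, Rep φ g p) (hcard : Nat.card G = 4245696) :
    Cfsg.HasSchurMultiplier G (Multiplicative (ZMod 3)) := by
  have hB : (model φ hb hcard).B.map Fin.val = baseB := baseF_val
  refine CoverAssemble.hasSchur (perfect φ hb hcard) (cover φ hb hcard) (cover_stem φ hb hcard) (fun q hq h => ?_)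
    (B2 := 1) (B3 := 3) ?_ ?_ ?_
  · rw [hcard, show (4245696 : ℕ) = 2 ^ 6 * 3 ^ 6 * 7 * 13 by norm_num] at h
    have hdvd : q ∣ 2 ^ 6 * 3 ^ 6 * 7 * 13 := (dvd_pow_self q two_ne_zero).trans h
    simp only [hq.dvd_mul] at hdvd
    have key : ∀ p : ℕ, p.Prime → q ∣ p → q = p := fun p hp e => (Nat.prime_dvd_prime_iff_eq hq hp).1 e
    rcases hdvd with ((e | e) | e) | e
    · exact Or.inl (key 2 Nat.prime_two (hq.dvd_of_dvd_pow e))
    · exact Or.inr (key 3 Nat.prime_three (hq.dvd_of_dvd_pow e))
    all_goals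
      obtain rfl := key _ (by norm_num) e
      norm_num at h
  · intro Γ _ _ σ hσ
    exact ((model φ hb hcard).part_le twoCert twoGens two_gens.1 rfl (by rw [hB]; rfl)
      (by rw [hB]; decide +kernel) two_valid twoOrd two_ord twoSpecs (by rw [hB]; exact two_gens.2)
      (e := 6) twoLat two_lat Nat.prime_two (m := 66339) (by rw [hcard]; norm_num) (by decide)
      (by rw [hcard]; decide +kernel) hσ).trans (by decide +kernel)
  · intro Γ _ _ σ hσ
    exact ((model φ hb hcard).part_le threeCert threeGens three_gens.1 rfl (by rw [hB]; rfl)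
      (by rw [hB]; decide +kernel) three_valid threeOrd three_ord threeSpecs (by rw [hB]; exact three_gens.2)
      (e := 6) threeLat three_lat Nat.prime_three (m := 5824) (by rw [hcard]; norm_num) (by decide)
      (by rw [hcard]; decide +kernel) hσ).trans (by decide +kernel)
  · simp

end Cfsg.Agent.Lie.GTwoThreeMult
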