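import Cfsg.Agent.Lib.Lie.GTwoThreeMult.Gens
import Cfsg.Agent.Lib.Lie.G2Embed
import Cfsg.Agent.Lib.Local.FS.McLUnitaryField

/-!
The group of type G2 over three elements permutes the 364 singular points of its seven-dimensional module.
-/

set_option autoImplicit false
set_option maxRecDepth 100000
set_option Elab.async false

noncomputable section

namespace Cfsg.Agent.Lie.GTwoThreeMult

open Cfsg.Lie Cfsg.Agent.Lie Cfsg.Agent.Lie.G2Seven PermNine Matrix
open scoped MatrixGroups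

/-- A vector from its digits. -/
def ptV (v : ℕ) : Fin 7 → ZMod 3 := fun i => ((v / 3 ^ (i : ℕ) % 3 : ℕ) : ZMod 3)

/-- The negative of an encoded vector. -/
def negN (v : ℕ) : ℕ := (List.range 7).foldr (fun i a => (3 - v / 3 ^ i % 3) % 3 * 3 ^ i + a) 0

/-- A matrix of the list. -/
def matZ (s : ℕ) : Matrix (Fin 7) (Fin 7) (ZMod 3) :=
  fun i j => (((((matsN.getD s []).getD (i : ℕ) []).getD (j : ℕ) 0) : ℕ) : ZMod 3)

/-- The quadratic form. -/
def formQ (w : Fin 7 → ZMod 3) : ZMod 3 :=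
  w 0 * w 6 + w 6 * w 0 + (w 2 * w 4 + w 4 * w 2) - (w 1 * w 5 + w 5 * w 1) - 2 * (w 3 * w 3)

theorem form_eq (w : Fin 7 → ZMod 3) : w ⬝ᵥ (G2Seven.J (ZMod 3) *ᵥ w) = formQ w := by
  have hJ : G2Seven.J (ZMod 3) = !![0, 0, 0, 0, 0, 0, 1; 0, 0, 0, 0, 0, -1, 0; 0, 0, 0, 0, 1, 0, 0; 0, 0, 0, -2, 0, 0, 0;
      0, 0, 1, 0, 0, 0, 0; 0, -1, 0, 0, 0, 0, 0; 1, 0, 0, 0, 0, 0, 0] := by decide +kernel
  rw [hJ, formQ]
  simp [dotProduct, Matrix.mulVec, Fin.sum_univ_seven]
  ring

/-- The roots of the generators. -/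
def rootOf (s : ℕ) : ℕ := ([6, 7, 5, 4] : List ℕ).getD s 0

theorem mats_eq : ∀ s : Fin 4, g2Rep.mat (Equiv.refl (Fin 7)) (ZMod 3) (rootOf s) 1 = matZ s := by decide +kernel

theorem pts_cover : ((List.range 2187).all fun v => Nat.beq v 0 || (!decide (formQ (ptV v) = 0) ||
    (ptsN.elem v || ptsN.elem (negN v)))) = true := by decide +kernel

theorem pts_ok : (ptsN.all fun v => Nat.blt 0 v && (Nat.blt v 2187 && (decide (formQ (ptV v) = 0) &&
    !ptsN.elem (negN v)))) = true ∧ ptsN.length = 364 := by decide +kernel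

theorem pts_nodup : ptsN.Nodup := by decide +kernel

theorem neg_ok : ((List.range 2187).all fun v =>
    (Nat.blt (negN v) 2187 && decide (ptV (negN v) = -ptV v))) = true := by decide +kernel

theorem moves_ok : ((List.range 4).all fun s => (List.range 364).all fun j =>
    decide (matZ s *ᵥ ptV (ptsN.getD j 0) = ptV (ptsN.getD (pg (baseP.getD s 0) j) 0) ∨
      matZ s *ᵥ ptV (ptsN.getD j 0) = -ptV (ptsN.getD (pg (baseP.getD s 0) j) 0)) &&
      Nat.blt (pg (baseP.getD s 0) j) 364) = true := by decide +kernel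

theorem ptV_eq (v : Fin (3 ^ 7)) : ptV v = fun i => ((finFunctionFinEquiv.symm v i : ℕ) : ZMod 3) := rfl

theorem ptV_surj (w : Fin 7 → ZMod 3) : ∃ v : ℕ, v < 2187 ∧ ptV v = w := by
  refine ⟨(finFunctionFinEquiv (fun i => (⟨(w i).val, ZMod.val_lt (w i)⟩ : Fin 3)) : Fin (3 ^ 7)),
    Fin.isLt _, ?_⟩
  rw [ptV_eq, Equiv.symm_apply_apply]
  funext i
  exact ZMod.natCast_rightInverse (w i)

theorem ptV_inj {u v : ℕ} (hu : u < 2187) (hv : v < 2187) (h : ptV u = ptV v) : u = v := by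
  have h' : finFunctionFinEquiv.symm (⟨u, hu⟩ : Fin (3 ^ 7)) = finFunctionFinEquiv.symm (⟨v, hv⟩ : Fin (3 ^ 7)) := by
    funext i
    refine Fin.ext ?_
    have e := congrArg ZMod.val (congrFun h i)
    rw [ptV, ptV, ZMod.val_natCast, ZMod.val_natCast, Nat.mod_mod, Nat.mod_mod] at e
    exact e
  exact congrArg Fin.val (finFunctionFinEquiv.symm.injective h')

/-- A point. -/
def pt (a : Fin 364) : Fin 7 → ZMod 3 := ptV (ptsN.getD (a : ℕ) 0)

theorem pt_facts (a : Fin 364) : 0 < ptsN.getD (a : ℕ) 0 ∧ ptsN.getD (a : ℕ) 0 < 2187 ∧ formQ (pt a) = 0 ∧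
    negN (ptsN.getD (a : ℕ) 0) ∉ ptsN := by
  have h := List.all_eq_true.1 pts_ok.1 (ptsN.getD (a : ℕ) 0) (by
    rw [List.getD_eq_getElem _ _ (pts_ok.2.symm ▸ a.2)]; exact List.getElem_mem _)
  simp only [Bool.and_eq_true, Nat.blt_eq, decide_eq_true_eq, Bool.not_eq_true',
    ← Bool.not_eq_true, List.elem_iff] at h
  exact h

theorem pt_ne (a : Fin 364) : pt a ≠ 0 := fun h => by
  have h0 : ptV 0 = 0 := by funext i; simp [ptV]
  exact (pt_facts a).1.ne' (ptV_inj (pt_facts a).2.1 (by norm_num) (h.trans h0.symm))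

theorem pt_uniq (a b : Fin 364) (c : ZMod 3) (h : pt a = c • pt b) : a = b := by
  have key : ∀ c : ZMod 3, c = 0 ∨ c = 1 ∨ c = -1 := by decide
  rcases key c with rfl | rfl | rfl
  · exact absurd (h.trans (zero_smul _ _)) (pt_ne a)
  · rw [one_smul] at h
    have e := ptV_inj (pt_facts a).2.1 (pt_facts b).2.1 h
    rw [List.getD_eq_getElem _ _ (pts_ok.2.symm ▸ a.2), List.getD_eq_getElem _ _ (pts_ok.2.symm ▸ b.2)] at e
    exact Fin.ext (pts_nodup.getElem_inj_iff.1 e)
  · have hn := List.all_eq_true.1 neg_ok _ (List.mem_range.2 (pt_facts b).2.1)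
    simp only [Bool.and_eq_true, Nat.blt_eq, decide_eq_true_eq] at hn
    rw [neg_one_smul, show -pt b = ptV (negN (ptsN.getD (b : ℕ) 0)) from hn.2.symm] at h
    have e := ptV_inj (pt_facts a).2.1 hn.1 h
    refine absurd ?_ (pt_facts b).2.2.2
    rw [← e, List.getD_eq_getElem _ _ (pts_ok.2.symm ▸ a.2)]
    exact List.getElem_mem _

theorem pt_cover {w : Fin 7 → ZMod 3} (hw : formQ w = 0) (hne : w ≠ 0) :
    ∃ b : Fin 364, ∃ c : ZMod 3, w = c • pt b := by
  obtain ⟨v, hv, rfl⟩ := ptV_surj w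
  have h := List.all_eq_true.1 pts_cover v (List.mem_range.2 hv)
  simp only [Bool.or_eq_true, Nat.beq_eq, Bool.not_eq_true', decide_eq_false_iff_not, List.elem_iff] at h
  rcases h with rfl | h | h | h
  · exact absurd (by funext i; simp [ptV]) hne
  · exact absurd hw h
  · obtain ⟨j, hj, e⟩ := List.getElem_of_mem h
    refine ⟨⟨j, pts_ok.2 ▸ hj⟩, 1, ?_⟩
    rw [one_smul, pt, List.getD_eq_getElem _ _ hj, e]
  · obtain ⟨j, hj, e⟩ := List.getElem_of_mem h
    refine ⟨⟨j, pts_ok.2 ▸ hj⟩, -1, ?_⟩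
    have hn := List.all_eq_true.1 neg_ok v (List.mem_range.2 hv)
    simp only [Bool.and_eq_true, decide_eq_true_eq] at hn
    rw [neg_one_smul, pt, List.getD_eq_getElem _ _ hj, e, hn.2, neg_neg]

variable {F : Type*} [Field F]

theorem mat_map (f : F →+* ZMod 3) (r : ℕ) (t : F) :
    (g2Rep.mat (Equiv.refl (Fin 7)) F r t).map f = g2Rep.mat (Equiv.refl (Fin 7)) (ZMod 3) r (f t) := by
  unfold SRep.mat
  rw [Matrix.map_add f (map_add f), Matrix.map_one f (map_zero f) (map_one f)]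
  exact congrArg _ (evL_map (Equiv.refl (Fin 7)) f t t _)

/-- The action on the points with the listed generators. -/
theorem exists_action [Fintype F] (hF : Fintype.card F = 3) :
    ∃ φ : ↥(chevG2.group F) →* Equiv.Perm (Fin 364), ∀ p ∈ baseP, ∃ g, Rep φ g p := by
  obtain ⟨χ, hχ, -⟩ := SRep.exists_hom (S := g2Rep) (e := Equiv.refl (Fin 7)) (F := F) g2Rep_ok
    (fun r hr => (by decide +kernel : ∀ x < chevG2.nroots, chevG2.neg x < chevG2.nroots) r hr) g2Rep_out
  have hG := factsG2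
  have hH : StHyp chevG2 := stHyp_of_mem (by simp)
  have hpr : (hG.proj F).range = chevG2.group F := by
    rw [MonoidHom.range_eq_map, ← stGen_closure hG, MonoidHom.map_closure, hG.group_eq, ← Set.range_comp]
    refine le_antisymm ((Subgroup.closure_le _).2 ?_) ((Subgroup.closure_le _).2 ?_)
    · rintro _ ⟨⟨r, t⟩, rfl⟩
      simp only [Function.comp_apply, hG.proj_x]
      exact Subgroup.subset_closure ⟨(r.val, t), rfl⟩
    · rintro _ ⟨⟨r, t⟩, rfl⟩
      by_cases hr : r < chevG2.nroots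
      · exact Subgroup.subset_closure ⟨(⟨r, hr⟩, t), hG.proj_x r t⟩
      · show hG.xg r t ∈ _
        rw [hG.xg_out (not_lt.1 hr)]; exact one_mem _
  have hker : Function.Injective (hG.proj F) := by
    rw [injective_iff_map_eq_one]
    intro g hg
    exact hG.H0_torus hH (hG.H_le_H0 hH (hG.ker_le_H hH (MonoidHom.mem_ker.2 hg)))
      (Cfsg.Agent.Lie.torus_injective hG kerCertG2) hg
  let P : chevG2.SteinbergGroup F →* ↥(chevG2.group F) :=
    (MulEquiv.subgroupCongr hpr).toMonoidHom.comp (hG.proj F).rangeRestrict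
  have hP : Function.Bijective P :=
    ⟨(MulEquiv.subgroupCongr hpr).injective.comp (by
        intro x y h
        exact hker (congrArg Subtype.val h)),
      (MulEquiv.subgroupCongr hpr).surjective.comp (hG.proj F).rangeRestrict_surjective⟩
  let f : F ≃+* ZMod 3 := (ZMod.ringEquivOfPrime F (by norm_num) hF).symm
  let Φ : chevG2.SteinbergGroup F →* Matrix (Fin 7) (Fin 7) (ZMod 3) :=
    ((f : F →+* ZMod 3).mapMatrix.toMonoidHom.comp (Units.coeHom _)).comp χ
  have hΦ : ∀ r t, Φ (chevG2.stGen F r t) = g2Rep.mat (Equiv.refl (Fin 7)) (ZMod 3) r (f t) := fun r t => by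
    show ((χ (chevG2.stGen F r t) : Matrix (Fin 7) (Fin 7) F)).map (f : F →+* ZMod 3) = _
    rw [hχ, mat_map]
    rfl
  have hpres : ∀ x, Pres (Φ x) := by
    intro x
    have hx : x ∈ Subgroup.closure (Set.range PresentedGroup.of) := by
      rw [PresentedGroup.closure_range_of]; trivial
    induction hx using Subgroup.closure_induction'' with
    | one => rw [map_one]; exact pres_one
    | mul x y _ _ hx hy => rw [map_mul]; exact pres_mul hx hy
    | mem x hx =>
      obtain ⟨⟨r, t⟩, rfl⟩ := hx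
      rw [show PresentedGroup.of (rels := chevG2.steinbergRels F) (r, t) = chevG2.stGen F r.val t by
        simp [ChevalleyDatum.stGen, ChevalleyDatum.stX, PresentedGroup.of], hΦ]
      exact pres_mat _ _
    | inv_mem x hx =>
      obtain ⟨⟨r, t⟩, rfl⟩ := hx
      have h0 : chevG2.stGen F r.val t * chevG2.stGen F r.val (-t) = 1 := by
        rw [← Facts.stC_x hG, ← Facts.stC_x hG, ← (hG.stC F).x_add, add_neg_cancel]
        exact (hG.stC F).x_zero r.val
      rw [show PresentedGroup.of (rels := chevG2.steinbergRels F) (r, t) = chevG2.stGen F r.val t by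
        simp [ChevalleyDatum.stGen, ChevalleyDatum.stX, PresentedGroup.of],
        inv_eq_of_mul_eq_one_right h0, hΦ]
      exact pres_mat _ _
  let M : ↥(chevG2.group F) →* Matrix (Fin 7) (Fin 7) (ZMod 3) :=
    Φ.comp (MulEquiv.ofBijective P hP).symm.toMonoidHom
  obtain ⟨ρ, hρ⟩ := Cfsg.Agent.Local.FS.McLSmall.Unitary.exists_line_perm M pt pt_ne pt_uniq fun g a => by
    refine pt_cover ?_ ?_
    · rw [← form_eq, ← (pt_facts a).2.2.1, ← form_eq]
      conv_rhs => rw [← (hpres ((MulEquiv.ofBijective P hP).symm g)).1]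
      show (M g *ᵥ pt a) ⬝ᵥ _ = pt a ⬝ᵥ ((((M g)ᵀ * G2Seven.J (ZMod 3) * M g)) *ᵥ pt a)
      rw [← Matrix.mulVec_mulVec, ← Matrix.mulVec_mulVec, Matrix.dotProduct_mulVec (pt a) (M g)ᵀ,
        Matrix.vecMul_transpose]
    · intro h
      refine pt_ne a ?_
      have h' := congrArg (fun w => M g⁻¹ *ᵥ w) h
      simpa [Matrix.mulVec_mulVec, ← map_mul] using h'
  refine ⟨ρ, fun p hp => ?_⟩
  obtain ⟨s, hs, rfl⟩ := List.getElem_of_mem hp
  have hs4 : s < 4 := hs
  refine ⟨P (chevG2.stGen F (rootOf s) 1), fun k => ?_⟩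
  have h := List.all_eq_true.1 (List.all_eq_true.1 moves_ok s (List.mem_range.2 hs4)) k (List.mem_range.2 k.2)
  simp only [Bool.and_eq_true, decide_eq_true_eq, Nat.blt_eq] at h
  rw [List.getD_eq_getElem _ _ hs] at h
  obtain ⟨hmv, hlt⟩ := h
  have hM : M (P (chevG2.stGen F (rootOf s) 1)) = matZ s := by
    show Φ ((MulEquiv.ofBijective P hP).symm ((MulEquiv.ofBijective P hP) _)) = _
    rw [MulEquiv.symm_apply_apply, hΦ, map_one]
    exact mats_eq ⟨s, hs4⟩
  have e : ρ (P (chevG2.stGen F (rootOf s) 1)) k = ⟨pg (baseP[s]) k, hlt⟩ := by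
    refine (hρ _ _ _).1 ?_
    rw [hM]
    rcases hmv with e | e
    · exact ⟨1, by rw [one_smul]; exact e⟩
    · exact ⟨-1, by rw [neg_one_smul]; exact e⟩
  exact congrArg Fin.val e

end Cfsg.Agent.Lie.GTwoThreeMult
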